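import Mathlib.CategoryTheory.Sites.LocallySurjective
import Mathlib.CategoryTheory.Sites.LeftExact
import Mathlib.AlgebraicGeometry.Morphisms.Etale
import Mathlib.AlgebraicGeometry.Morphisms.UniversallyInjective
import Groth.Prelude.Def_AlgSp

/-!
# Sheaf-theoretic basics on the big fppf site

Coverings from single morphisms, local surjectivity of representable fppf surjections, local tests for
equality of sections.
-/

set_option backward.isDefEq.respectTransparency false
set_option backward.isDefEq.respectTransparency.types false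

universe u

open CategoryTheory CategoryTheory.Limits AlgebraicGeometry Opposite AlgSp

namespace Groth.Agent.AlgSpLib

variable {S : Scheme.{u}}

/-- Surjective, flat, locally of finite presentation. -/
def fppf : MorphismProperty Scheme.{u} := @Surjective ⊓ @Flat ⊓ @LocallyOfFinitePresentation

theorem fppf_of {X Y : Scheme.{u}} (f : X ⟶ Y) [Surjective f] [Flat f]
    [LocallyOfFinitePresentation f] : fppf f :=
  ⟨⟨‹_›, ‹_›⟩, ‹_›⟩

instance : (fppf.{u}).IsStableUnderBaseChange where
  of_isPullback sq h := ⟨⟨MorphismProperty.of_isPullback sq h.1.1, MorphismProperty.of_isPullback sq h.1.2⟩,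
    MorphismProperty.of_isPullback sq h.2⟩

instance : (fppf.{u}).IsMultiplicative where
  id_mem X := fppf_of _
  comp_mem f g hf hg := by
    obtain ⟨⟨_, _⟩, _⟩ := hf
    obtain ⟨⟨_, _⟩, _⟩ := hg
    exact fppf_of _

/-- A sieve containing a surjective, flat, locally finitely presented morphism covers. -/
theorem mem_J_of_fppf {T T' : Over S} (g : T' ⟶ T) (hg : fppf g.left) (R : Sieve T) (h : R g) :
    R ∈ J S T := by
  obtain ⟨⟨_, _⟩, _⟩ := hg
  rw [GrothendieckTopology.mem_over_iff]
  refine GrothendieckTopology.superset_covering _ ?_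
    (Precoverage.generate_mem_toGrothendieck (Scheme.Hom.singleton_mem_fppfPrecoverage g.left))
  rw [Sieve.generate_le_iff]
  rintro _ _ ⟨⟩
  rw [Sieve.overEquiv_iff]
  convert R.downward_closed h (Over.homMk (U := Over.mk (g.left ≫ T.hom)) (V := T') (𝟙 T'.left)
    (by simp)) using 1
  ext
  simp

theorem uliftYonedaEquiv_precomp {T T' : Over S} {F : Sp S} (φ : T' ⟶ T) (g : (yon S).obj T ⟶ F) :
    F.obj.map φ.op ((J S).uliftYonedaEquiv g) = (J S).uliftYonedaEquiv ((yon S).map φ ≫ g) :=
  GrothendieckTopology.uliftYonedaEquiv_naturality _ g φ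

/-- A morphism of sheaves such that every map from a scheme lifts after an fppf surjection is locally
surjective. -/
theorem isLocallySurjective_of_lifts {F G : Sp S} (f : F ⟶ G)
    (h : ∀ ⦃T : Over S⦄ (g : (yon S).obj T ⟶ G), ∃ (T' : Over S) (φ : T' ⟶ T) (l : (yon S).obj T' ⟶ F),
      fppf φ.left ∧ l ≫ f = (yon S).map φ ≫ g) : Sheaf.IsLocallySurjective f := by
  refine ⟨fun {T} s => ?_⟩
  obtain ⟨T', φ, l, hφ, hl⟩ := h ((J S).uliftYonedaEquiv.symm s)
  refine mem_J_of_fppf φ hφ _ ⟨(J S).uliftYonedaEquiv l, ?_⟩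
  have h1 := uliftYonedaEquiv_precomp φ ((J S).uliftYonedaEquiv.symm s)
  rw [Equiv.apply_symm_apply, ← hl, GrothendieckTopology.uliftYonedaEquiv_comp] at h1
  exact h1.symm

/-- Every map from a scheme to the target of a locally surjective morphism lifts locally. -/
theorem exists_covering_lifts {F G : Sp S} (f : F ⟶ G) [Sheaf.IsLocallySurjective f] {T : Over S}
    (g : (yon S).obj T ⟶ G) :
    ∃ R ∈ J S T, ∀ ⦃T' : Over S⦄ (φ : T' ⟶ T), R φ →
      ∃ l : (yon S).obj T' ⟶ F, l ≫ f = (yon S).map φ ≫ g := by
  refine ⟨_, Presheaf.imageSieve_mem (J S) f.hom ((J S).uliftYonedaEquiv g), fun T' φ hφ => ?_⟩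
  obtain ⟨l, hl⟩ := hφ
  refine ⟨(J S).uliftYonedaEquiv.symm l, (J S).uliftYonedaEquiv.injective ?_⟩
  rw [GrothendieckTopology.uliftYonedaEquiv_comp, Equiv.apply_symm_apply,
    ← uliftYonedaEquiv_precomp]
  exact hl

/-- Two maps from a scheme to a sheaf agree if they agree on a covering sieve. -/
theorem hom_ext_of_covering {F : Sp S} {T : Over S} (a b : (yon S).obj T ⟶ F) {R : Sieve T}
    (hR : R ∈ J S T)
    (h : ∀ ⦃T' : Over S⦄ (φ : T' ⟶ T), R φ → (yon S).map φ ≫ a = (yon S).map φ ≫ b) : a = b := by
  apply (J S).uliftYonedaEquiv.injective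
  refine (((isSheaf_iff_isSheaf_of_type _ _).1 F.property).isSeparated R hR).ext fun T' φ hφ => ?_
  rw [uliftYonedaEquiv_precomp, uliftYonedaEquiv_precomp, h φ hφ]

/-- Two maps from a scheme to a sheaf agree if they agree after an fppf surjection. -/
theorem hom_ext_of_fppf {F : Sp S} {T T' : Over S} (φ : T' ⟶ T) (hφ : fppf φ.left)
    (a b : (yon S).obj T ⟶ F) (h : (yon S).map φ ≫ a = (yon S).map φ ≫ b) : a = b := by
  refine hom_ext_of_covering a b (R := Sieve.generate (Presieve.singleton φ))
    (mem_J_of_fppf φ hφ _ ⟨T', 𝟙 T', φ, Presieve.singleton_self φ, Category.id_comp _⟩) ?_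
  rintro T'' _ ⟨_, ψ, _, ⟨⟩, rfl⟩
  rw [Functor.map_comp, Category.assoc, Category.assoc, h]

theorem fppf_of_etale {X Y : Scheme.{u}} (f : X ⟶ Y) [Etale f] [Surjective f] : fppf f := fppf_of f

/-- A representable morphism whose pullbacks are fppf surjections is locally surjective. -/
theorem isLocallySurjective_of_repWith {F G : Sp S} {f : F ⟶ G} (hf : RepWith fppf f) :
    Sheaf.IsLocallySurjective f :=
  isLocallySurjective_of_lifts f fun _ g =>
    ⟨_, hf.rep.snd g, hf.rep.fst g, hf.property_snd g, hf.rep.w g⟩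

/-- An etale surjection is locally surjective. -/
theorem isLocallySurjective_of_etale_surjective {F G : Sp S} {f : F ⟶ G} (he : RepWith @Etale f)
    (hs : RepWith @Surjective f) : Sheaf.IsLocallySurjective f := by
  refine isLocallySurjective_of_repWith ⟨he.1, fun a b g fst snd h => ?_⟩
  have : Etale snd.left := he.2 g fst snd h
  have : Surjective snd.left := hs.2 g fst snd h
  exact fppf_of_etale snd.left

theorem epi_of_etale_surjective {F G : Sp S} {f : F ⟶ G} (he : RepWith @Etale f)
    (hs : RepWith @Surjective f) : Epi f :=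
  have := isLocallySurjective_of_etale_surjective he hs
  Sheaf.epi_of_isLocallySurjective f

/-- A locally surjective monomorphism of sheaves of sets is an isomorphism. -/
theorem isIso_of_mono_of_locallySurjective {F G : Sp S} (f : F ⟶ G) [Mono f]
    [Sheaf.IsLocallySurjective f] : IsIso f :=
  have : Epi f := Sheaf.epi_of_isLocallySurjective f
  isIso_of_mono_of_epi f

end Groth.Agent.AlgSpLib
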