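import Mathlib.CategoryTheory.Limits.Shapes.Diagonal
import Groth.Agent.AlgSpLib.Sheaf

/-!
# Calculus of representable morphisms, fibre products of algebraic spaces
-/

set_option backward.isDefEq.respectTransparency false
set_option backward.isDefEq.respectTransparency.types false

universe u

open CategoryTheory CategoryTheory.Limits AlgebraicGeometry Opposite AlgSp

namespace Groth.Agent.AlgSpLib

variable {S : Scheme.{u}}

section General

variable {C : Type*} [Category C] [HasPullbacks C]

/-- Cancellation through the graph: if `f ≫ g` has `P` and the diagonal of `g` has `P`, then so has `f`, for `P`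
stable under base change and composition. -/
theorem of_comp_of_diagonal (P : MorphismProperty C) [P.IsStableUnderBaseChange]
    [P.IsStableUnderComposition] {X Y Z : C} (f : X ⟶ Y) (g : Y ⟶ Z) (hfg : P (f ≫ g))
    (hg : P (pullback.diagonal g)) : P f := by
  have h1 : P (pullback.lift (𝟙 X) f (by simp) : X ⟶ pullback (f ≫ g) g) :=
    MorphismProperty.of_isPullback (pullback_lift_diagonal_isPullback f g) hg
  have h2 : P (pullback.snd (f ≫ g) g) := MorphismProperty.pullback_snd _ _ hfg
  have h3 := P.comp_mem _ _ h1 h2
  rwa [pullback.lift_snd] at h3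

/-- The relative diagonal is a base change of the absolute one. -/
theorem isPullback_diagonal_diag [HasBinaryProducts C] {X Y : C} (f : X ⟶ Y) :
    IsPullback (𝟙 X) (pullback.diagonal f) (Limits.diag X)
      (prod.lift (pullback.fst f f) (pullback.snd f f)) := by
  have : Mono (prod.lift (pullback.fst f f) (pullback.snd f f)) := ⟨fun a b h => by
    apply pullback.hom_ext
    · have h1 := h =≫ prod.fst
      rwa [Category.assoc, Category.assoc, prod.lift_fst] at h1
    · have h1 := h =≫ prod.snd
      rwa [Category.assoc, Category.assoc, prod.lift_snd] at h1⟩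
  refine ⟨⟨by ext <;> simp⟩, ⟨PullbackCone.IsLimit.mk _ (fun s => s.fst) (fun s => by simp) ?_ ?_⟩⟩
  · intro s
    rw [← cancel_mono (prod.lift (pullback.fst f f) (pullback.snd f f))]
    rw [← s.condition]
    ext <;> simp
  · intro s m h1 _
    simpa using h1

end General

theorem repWith_mono {P Q : MorphismProperty Scheme.{u}} (h : P ≤ Q) :
    (RepWith (S := S) P) ≤ RepWith Q :=
  fun _ _ _ hf => ⟨hf.1, fun _ _ g fst snd hs => h _ (hf.2 g fst snd hs)⟩

theorem repWith_inf_iff {P Q : MorphismProperty Scheme.{u}} {F G : Sp S} (f : F ⟶ G) :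
    RepWith (P ⊓ Q) f ↔ RepWith P f ∧ RepWith Q f :=
  ⟨fun h => ⟨repWith_mono inf_le_left _ h, repWith_mono inf_le_right _ h⟩,
    fun h => ⟨h.1.1, fun _ _ g fst snd hs => ⟨h.1.2 g fst snd hs, h.2.2 g fst snd hs⟩⟩⟩

theorem repWith_comp {P : MorphismProperty Scheme.{u}} [P.IsStableUnderComposition] {F G H : Sp S}
    {f : F ⟶ G} {g : G ⟶ H} (hf : RepWith P f) (hg : RepWith P g) : RepWith P (f ≫ g) :=
  (RepWith (S := S) P).comp_mem f g hf hg

theorem repWith_of_isPullback {P : MorphismProperty Scheme.{u}} {F G F' G' : Sp S} {f : F ⟶ G}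
    {g : G' ⟶ G} {fst : F' ⟶ F} {snd : F' ⟶ G'} (sq : IsPullback fst snd f g) (hf : RepWith P f) :
    RepWith P snd :=
  MorphismProperty.of_isPullback (P := RepWith P) sq hf

theorem repWith_snd {P : MorphismProperty Scheme.{u}} {F G H : Sp S} {f : F ⟶ H} (g : G ⟶ H)
    (hf : RepWith P f) : RepWith P (pullback.snd f g) :=
  repWith_of_isPullback (IsPullback.of_hasPullback f g) hf

theorem repWith_fst {P : MorphismProperty Scheme.{u}} {F G H : Sp S} (f : F ⟶ H) {g : G ⟶ H}
    (hg : RepWith P g) : RepWith P (pullback.fst f g) :=
  repWith_of_isPullback (IsPullback.of_hasPullback f g).flip hg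

theorem repWith_of_isIso (P : MorphismProperty Scheme.{u}) [P.IsStableUnderBaseChange]
    [P.IsMultiplicative] {F G : Sp S} (f : F ⟶ G) [IsIso f] : RepWith P f :=
  MorphismProperty.of_isIso (RepWith P) f

/-- To check a representable morphism has a property it is enough to test one pullback along each map from a
scheme. -/
theorem repWith_of_squares {P : MorphismProperty Scheme.{u}} [P.IsStableUnderBaseChange] {F G : Sp S}
    {f : F ⟶ G} (h : ∀ ⦃U : Over S⦄ (g : (yon S).obj U ⟶ G), ∃ (V : Over S)
      (fst : (yon S).obj V ⟶ F) (snd : V ⟶ U), IsPullback fst ((yon S).map snd) f g ∧ P snd.left) :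
    RepWith P f :=
  MorphismProperty.relative.of_exists fun U g => by
    obtain ⟨V, fst, snd, h1, h2⟩ := h g
    exact ⟨V, fst, snd, h1, h2⟩

section Spaces

variable {F G H : Sp S}

/-- Every map of an algebraic space has representable diagonal. -/
theorem representable_diagonal (hF : IsAlgSpace F) (f : F ⟶ G) : Representable (pullback.diagonal f) :=
  MorphismProperty.of_isPullback (P := Representable) (isPullback_diagonal_diag f) hF.diag

/-- If the composite is representable and the middle object is an algebraic space, so is the first map. -/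
theorem representable_of_comp (hG : IsAlgSpace G) (f : F ⟶ G) (g : G ⟶ H)
    (h : Representable (f ≫ g)) : Representable f :=
  of_comp_of_diagonal Representable f g h (representable_diagonal hG g)

/-- Every map to an algebraic space from a scheme is representable. -/
theorem representable_from_yon' (hF : IsAlgSpace F) {U : Over S} (g : (yon S).obj U ⟶ F) :
    Representable g :=
  hF.representable_from_yon g

/-- The fibre product of algebraic spaces is an algebraic space. -/
theorem isAlgSpace_pullback (hF : IsAlgSpace F) (hG : IsAlgSpace G) (hH : IsAlgSpace H) (f : F ⟶ H)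
    (g : G ⟶ H) : IsAlgSpace (pullback f g) where
  diag := by
    refine Functor.relativelyRepresentable.diag_of_map_from_obj fun U a => ?_
    let p : pullback f g ⟶ G := pullback.snd f g
    have hdiag : Representable (pullback.diagonal p) := by
      have hfst := representable_diagonal hF f
      have hsq := (IsPullback.of_hasPullback f g).flip
      exact MorphismProperty.IsStableUnderBaseChange.diagonal (P := Representable (S := S))
        |>.of_isPullback hsq.flip hfst
    exact of_comp_of_diagonal Representable a p (hG.representable_from_yon _) hdiag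
  atlas := by
    obtain ⟨U, a, ha, ha'⟩ := hF.atlas
    obtain ⟨V, b, hb, hb'⟩ := hG.atlas
    have hr : Representable (a ≫ f) := hH.representable_from_yon _
    let c : (yon S).obj (hr.pullback (b ≫ g)) ⟶ pullback f g :=
      pullback.lift (hr.fst (b ≫ g) ≫ a) ((yon S).map (hr.snd (b ≫ g)) ≫ b)
        (by simpa using hr.w (b ≫ g))
    let e : (yon S).obj (hr.pullback (b ≫ g)) ≅ pullback (a ≫ f) (b ≫ g) :=
      (hr.isPullback (b ≫ g)).isoPullback
    let m₁ : pullback (a ≫ f) (b ≫ g) ⟶ pullback f (b ≫ g) :=
      pullback.map _ _ _ _ a (𝟙 _) (𝟙 _) (by simp) (by simp)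
    let m₂ : pullback f (b ≫ g) ⟶ pullback f g :=
      pullback.map _ _ _ _ (𝟙 _) b (𝟙 _) (by simp) (by simp)
    have hc : c = e.hom ≫ m₁ ≫ m₂ := by
      apply pullback.hom_ext
      · simp only [Category.assoc]
        rw [pullback.lift_fst, pullback.lift_fst, Category.comp_id]
        simp only [m₁, e, pullback.map]
        rw [pullback.lift_fst, ← Category.assoc, IsPullback.isoPullback_hom_fst]
      · simp only [Category.assoc]
        rw [pullback.lift_snd, pullback.lift_snd, ← Category.assoc m₁]
        simp only [m₁, e, pullback.map]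
        rw [pullback.lift_snd, Category.comp_id, ← Category.assoc, IsPullback.isoPullback_hom_snd]
    have sq₁ : IsPullback (pullback.fst (a ≫ f) (b ≫ g)) m₁ a (pullback.fst f (b ≫ g)) :=
      IsPullback.of_bot (by
        have h : m₁ ≫ pullback.snd f (b ≫ g) = pullback.snd (a ≫ f) (b ≫ g) :=
          (pullback.lift_snd _ _ _).trans (Category.comp_id _)
        rw [h]
        exact IsPullback.of_hasPullback (a ≫ f) (b ≫ g))
        (pullback.lift_fst _ _ _).symm (IsPullback.of_hasPullback f (b ≫ g))
    have sq₂ : IsPullback (pullback.snd f (b ≫ g)) m₂ b (pullback.snd f g) :=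
      IsPullback.of_bot (by
        have h : m₂ ≫ pullback.fst f g = pullback.fst f (b ≫ g) :=
          (pullback.lift_fst _ _ _).trans (Category.comp_id _)
        rw [h]
        exact (IsPullback.of_hasPullback f (b ≫ g)).flip)
        (pullback.lift_snd _ _ _).symm (IsPullback.of_hasPullback f g).flip
    have key : ∀ (P : MorphismProperty Scheme.{u}) [P.IsStableUnderBaseChange] [P.IsMultiplicative],
        RepWith P a → RepWith P b → RepWith P c := fun P _ _ hPa hPb => hc ▸
      repWith_comp (repWith_of_isIso P e.hom)
        (repWith_comp (repWith_of_isPullback sq₁ hPa) (repWith_of_isPullback sq₂ hPb))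
    exact ⟨_, c, key _ ha hb, key _ ha' hb'⟩

theorem isAlgSpace_of_isPullback {P : Sp S} {fst : P ⟶ F} {snd : P ⟶ G} {f : F ⟶ H} {g : G ⟶ H}
    (sq : IsPullback fst snd f g) (hF : IsAlgSpace F) (hG : IsAlgSpace G) (hH : IsAlgSpace H) :
    IsAlgSpace P :=
  (isAlgSpace_pullback hF hG hH f g).of_iso sq.isoPullback.symm

/-- A sheaf representable over an algebraic space is an algebraic space. -/
theorem isAlgSpace_of_representable (f : F ⟶ G) (hf : Representable f) (hG : IsAlgSpace G) :
    IsAlgSpace F where
  diag := by
    refine Functor.relativelyRepresentable.diag_of_map_from_obj fun U a => ?_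
    let q := a ≫ f
    have h1 : Representable (hf.fst q) :=
      MorphismProperty.of_isPullback (hf.isPullback q).flip (hG.representable_from_yon q)
    have h2 : (yon S).map (hf.lift a (𝟙 U) (by simp [q])) ≫ hf.fst q = a :=
      Functor.relativelyRepresentable.lift_fst _ _ _ _
    rw [← h2]
    exact MorphismProperty.comp_mem _ _ _ (representable_yon_map _) h1
  atlas := by
    obtain ⟨V, b, hb, hb'⟩ := hG.atlas
    exact ⟨_, hf.fst b, repWith_of_isPullback (hf.isPullback b).flip hb,
      repWith_of_isPullback (hf.isPullback b).flip hb'⟩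

end Spaces

end Groth.Agent.AlgSpLib
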