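import Mathlib.AlgebraicGeometry.PullbackCarrier
import Groth.Prelude.Def_AlgSp4
import Groth.Prelude.Def_AlgSpDec
import Groth.Agent.AlgSpLib.Rep

/-!
# Points of sheaves: fibre products, charts, surjectivity
-/

set_option backward.isDefEq.respectTransparency false
set_option backward.isDefEq.respectTransparency.types false

universe u

open CategoryTheory CategoryTheory.Limits AlgebraicGeometry Opposite AlgSp

namespace Groth.Agent.AlgSpLib

variable {S : Scheme.{u}} {F G H : Sp S}

theorem ofPt_comp {T T' : Over S} (φ : T' ⟶ T) (g : (yon S).obj T ⟶ F) (t : ↥T'.left) :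
    Points.ofPt ((yon S).map φ ≫ g) t = Points.ofPt g (φ.left t) := by
  rw [← Points.map_ofPt, ← Points.toScheme_ofPt φ t, Points.ofPt_eq_map_ofScheme g,
    Points.ofScheme_toScheme]

theorem exists_ofPt_eq (x : Points F) :
    ∃ (T : Over S) (g : (yon S).obj T ⟶ F) (t : ↥T.left), Subsingleton ↥T.left ∧ Points.ofPt g t = x := by
  induction x using Points.ind with
  | h p => exact ⟨p.pt, p.toHom, IsLocalRing.closedPoint p.K, inferInstanceAs (Subsingleton (PrimeSpectrum p.K)),
      Points.ofPt_toHom p _⟩

theorem mk_eq_ofPt (p : FieldPt F) :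
    Points.mk p = Points.ofPt p.toHom (IsLocalRing.closedPoint p.K) :=
  (Points.ofPt_toHom p _).symm

/-- Compatible points lift to a point of the fibre product. -/
theorem exists_point_of_isPullback {P : Sp S} {fst : P ⟶ F} {snd : P ⟶ G} {f : F ⟶ H} {g : G ⟶ H}
    (sq : IsPullback fst snd f g) {x : Points F} {y : Points G} (h : Points.map f x = Points.map g y) :
    ∃ z : Points P, Points.map fst z = x ∧ Points.map snd z = y := by
  induction x using Points.ind with
  | h p =>
  induction y using Points.ind with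
  | h q =>
  obtain ⟨Ω, _, w, a, b, hab⟩ := Points.mk_eq_mk_iff.1 h
  let s : (yon S).obj (Over.mk w) ⟶ F := (J S).uliftYonedaEquiv.symm (F.obj.map a.op p.val)
  let t : (yon S).obj (Over.mk w) ⟶ G := (J S).uliftYonedaEquiv.symm (G.obj.map b.op q.val)
  have hst : s ≫ f = t ≫ g := by
    apply (J S).uliftYonedaEquiv.injective
    rw [GrothendieckTopology.uliftYonedaEquiv_comp, GrothendieckTopology.uliftYonedaEquiv_comp,
      Equiv.apply_symm_apply, Equiv.apply_symm_apply]
    refine (NatTrans.naturality_apply f.hom a.op p.val).trans (Eq.trans hab ?_)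
    exact (NatTrans.naturality_apply g.hom b.op q.val).symm
  let l := sq.lift s t hst
  refine ⟨Points.mk ⟨Ω, w, (J S).uliftYonedaEquiv l⟩, ?_, ?_⟩
  · refine Points.sound ⟨Ω, inferInstance, w, 𝟙 _, a, ?_⟩
    erw [op_id, Functor.map_id_apply]
    change fst.hom.app _ ((J S).uliftYonedaEquiv l) = _
    rw [← GrothendieckTopology.uliftYonedaEquiv_comp, sq.lift_fst, Equiv.apply_symm_apply]
    rfl
  · refine Points.sound ⟨Ω, inferInstance, w, 𝟙 _, b, ?_⟩
    erw [op_id, Functor.map_id_apply]
    change snd.hom.app _ ((J S).uliftYonedaEquiv l) = _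
    rw [← GrothendieckTopology.uliftYonedaEquiv_comp, sq.lift_snd, Equiv.apply_symm_apply]
    rfl

/-- The image of the first projection of a fibre product. -/
theorem range_map_snd_of_isPullback {P : Sp S} {fst : P ⟶ F} {snd : P ⟶ G} {f : F ⟶ H} {g : G ⟶ H}
    (sq : IsPullback fst snd f g) :
    Set.range (Points.map snd) = Points.map g ⁻¹' Set.range (Points.map f) := by
  refine Set.Subset.antisymm ?_ ?_
  · rintro _ ⟨z, rfl⟩
    exact ⟨Points.map fst z, by rw [← Points.map_comp, sq.w, Points.map_comp]⟩
  · rintro y ⟨x, hx⟩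
    obtain ⟨z, -, hz⟩ := exists_point_of_isPullback sq hx
    exact ⟨z, hz⟩

theorem image_map_snd_preimage_fst {P : Sp S} {fst : P ⟶ F} {snd : P ⟶ G} {f : F ⟶ H} {g : G ⟶ H}
    (sq : IsPullback fst snd f g) (A : Set (Points F)) :
    Points.map snd '' (Points.map fst ⁻¹' A) = Points.map g ⁻¹' (Points.map f '' A) := by
  refine Set.Subset.antisymm ?_ ?_
  · rintro _ ⟨z, hz, rfl⟩
    exact ⟨Points.map fst z, hz, by rw [← Points.map_comp, sq.w, Points.map_comp]⟩
  · rintro y ⟨x, hx, hxy⟩
    obtain ⟨z, hz₁, hz₂⟩ := exists_point_of_isPullback sq hxy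
    exact ⟨z, by simp [hz₁, hx], hz₂⟩

theorem surjective_map_of_isPullback {P : Sp S} {fst : P ⟶ F} {snd : P ⟶ G} {f : F ⟶ H} {g : G ⟶ H}
    (sq : IsPullback fst snd f g) (hf : Function.Surjective (Points.map f)) :
    Function.Surjective (Points.map snd) := by
  intro y
  obtain ⟨x, hx⟩ := hf (Points.map g y)
  obtain ⟨z, -, hz⟩ := exists_point_of_isPullback sq hx
  exact ⟨z, hz⟩

/-- A representable surjection is surjective on points. -/
theorem surjective_map_of_repWith {f : F ⟶ G} (hf : RepWith @Surjective f) :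
    Function.Surjective (Points.map f) := by
  intro y
  obtain ⟨T, g, t, -, rfl⟩ := exists_ofPt_eq y
  have : Surjective (hf.rep.snd g).left := hf.property_snd g
  obtain ⟨v, hv⟩ := (hf.rep.snd g).left.surjective t
  exact ⟨Points.ofPt (hf.rep.fst g) v, by rw [Points.map_ofPt, hf.rep.w, ofPt_comp, hv]⟩

/-- A representable morphism that is surjective on points is representable surjective. -/
theorem repWith_surjective_of_surjective {f : F ⟶ G} (hr : Representable f)
    (hs : Function.Surjective (Points.map f)) : RepWith @Surjective f := by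
  refine ⟨hr, fun T V g fst snd sq => ⟨fun (t : ↥T.left) => ?_⟩⟩
  obtain ⟨x, hx⟩ := hs (Points.ofPt g t)
  rw [Points.ofPt_eq_map_ofScheme] at hx
  obtain ⟨z, -, hz⟩ := exists_point_of_isPullback sq hx
  refine ⟨Points.toScheme V z, ?_⟩
  rw [← Points.ofScheme_toScheme V z, Points.map_ofPt, Category.id_comp] at hz
  exact ((Points.toScheme_ofPt snd _).symm.trans (congrArg (Points.toScheme T) hz)).trans
    (Points.toScheme_ofScheme T t)

theorem repWith_surjective_iff {f : F ⟶ G} (hr : Representable f) :
    RepWith @Surjective f ↔ IsSurjectiveMor f :=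
  ⟨surjective_map_of_repWith, repWith_surjective_of_surjective hr⟩

theorem surjective_ofPt {U : Over S} {p : (yon S).obj U ⟶ F} (hp : RepWith @Surjective p) :
    Function.Surjective (Points.ofPt p) := by
  intro x
  obtain ⟨z, rfl⟩ := surjective_map_of_repWith hp x
  exact ⟨Points.toScheme U z, by rw [Points.ofPt_eq_map_ofScheme, Points.ofScheme_toScheme]⟩

/-- Points of a fibre product of schemes over a sheaf. -/
theorem exists_ofPt_of_eq {U V W : Over S} {a : (yon S).obj U ⟶ F} {b : (yon S).obj V ⟶ F}
    {p : W ⟶ U} {q : W ⟶ V} (sq : IsPullback ((yon S).map p) ((yon S).map q) a b) {u : ↥U.left}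
    {v : ↥V.left} (h : Points.ofPt a u = Points.ofPt b v) : ∃ w : ↥W.left, p.left w = u ∧ q.left w = v := by
  rw [Points.ofPt_eq_map_ofScheme a, Points.ofPt_eq_map_ofScheme b] at h
  obtain ⟨z, hz₁, hz₂⟩ := exists_point_of_isPullback sq h
  rw [← Points.ofScheme_toScheme W z, Points.map_ofPt, Category.id_comp] at hz₁ hz₂
  exact ⟨Points.toScheme W z,
    ((Points.toScheme_ofPt p _).symm.trans (congrArg (Points.toScheme U) hz₁)).trans
      (Points.toScheme_ofScheme U u),
    ((Points.toScheme_ofPt q _).symm.trans (congrArg (Points.toScheme V) hz₂)).trans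
      (Points.toScheme_ofScheme V v)⟩

/-- Openness of a set of points can be tested on one etale surjective chart. -/
theorem isOpen_iff_chart {U : Over S} {p : (yon S).obj U ⟶ F} (he : RepWith @Etale p)
    (hs : RepWith @Surjective p) {W : Set (Points F)} : IsOpen W ↔ IsOpen (Points.ofPt p ⁻¹' W) := by
  refine ⟨fun h => Points.isOpen_iff.1 h U p, fun h => Points.isOpen_iff.2 fun T g => ?_⟩
  have : Etale (he.rep.snd g).left := he.property_snd g
  have : Surjective (he.rep.snd g).left := hs.property g _ _ (he.rep.isPullback g)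
  have hq : IsOpen ((he.rep.snd g).left ⁻¹' (Points.ofPt g ⁻¹' W)) := by
    have : (he.rep.snd g).left ⁻¹' (Points.ofPt g ⁻¹' W) =
        (he.rep.fst' g).left ⁻¹' (Points.ofPt p ⁻¹' W) := by
      ext v
      simp only [Set.mem_preimage]
      rw [← ofPt_comp, ← ofPt_comp, ← he.rep.w g, Functor.relativelyRepresentable.map_fst']
    rw [this]
    exact h.preimage (he.rep.fst' g).left.continuous
  have := (he.rep.snd g).left.isOpenMap _ hq
  rwa [Set.image_preimage_eq _ (he.rep.snd g).left.surjective] at this

/-- An etale chart gives an open map on points. -/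
theorem isOpenMap_ofPt {U : Over S} {p : (yon S).obj U ⟶ F} (he : RepWith @Etale p) :
    IsOpenMap (Points.ofPt p) := by
  intro A hA
  refine Points.isOpen_iff.2 fun T g => ?_
  have : Etale (he.rep.snd g).left := he.property_snd g
  have heq : Points.ofPt g ⁻¹' (Points.ofPt p '' A) =
      (he.rep.snd g).left '' ((he.rep.fst' g).left ⁻¹' A) := by
    ext t
    constructor
    · rintro ⟨u, hu, hut⟩
      obtain ⟨w, hw₁, hw₂⟩ := exists_ofPt_of_eq (he.rep.isPullback' g) hut
      exact ⟨w, by simpa [hw₁] using hu, hw₂⟩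
    · rintro ⟨w, hw, rfl⟩
      refine ⟨_, hw, ?_⟩
      rw [← ofPt_comp, ← ofPt_comp, Functor.relativelyRepresentable.map_fst', he.rep.w g]
  rw [heq]
  exact (he.rep.snd g).left.isOpenMap _ (hA.preimage (he.rep.fst' g).left.continuous)

/-- An etale surjective chart is a quotient map on points. -/
theorem isQuotientMap_ofPt {U : Over S} {p : (yon S).obj U ⟶ F} (he : RepWith @Etale p)
    (hs : RepWith @Surjective p) : Topology.IsQuotientMap (Points.ofPt p) :=
  (isOpenMap_ofPt he).isQuotientMap (Points.continuous_ofPt p) (surjective_ofPt hs)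

end Groth.Agent.AlgSpLib
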