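import Mathlib.AlgebraicGeometry.Morphisms.Etale
import Groth.Agent.AlgSpLib.Points

/-!
# Etale local properties of morphisms: independence of charts, base change, composition
-/

set_option backward.isDefEq.respectTransparency false
set_option backward.isDefEq.respectTransparency.types false

universe u

open CategoryTheory CategoryTheory.Limits AlgebraicGeometry Opposite AlgSp

namespace Groth.Agent.AlgSpLib

variable {S : Scheme.{u}}

/-- A property of morphisms of schemes that is stable under base change, stable under composition with etale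
morphisms on either side, and descends along etale surjections on the source. -/
class IsEtLocal (P : MorphismProperty Scheme.{u}) : Prop extends P.IsStableUnderBaseChange where
  precomp : ∀ {X Y Z : Scheme.{u}} (f : X ⟶ Y) (g : Y ⟶ Z), Etale f → P g → P (f ≫ g)
  postcomp : ∀ {X Y Z : Scheme.{u}} (f : X ⟶ Y) (g : Y ⟶ Z), P f → Etale g → P (f ≫ g)
  of_precomp : ∀ {X Y Z : Scheme.{u}} (f : X ⟶ Y) (g : Y ⟶ Z), Etale f → Surjective f → P (f ≫ g) → P g

theorem IsEtLocal.cancel_right {P : MorphismProperty Scheme.{u}} [IsEtLocal P] {X Y Z : Scheme.{u}}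
    (f : X ⟶ Y) (g : Y ⟶ Z) [Etale g] (h : P (f ≫ g)) : P f := by
  have h1 : Etale (pullback.lift (𝟙 X) f (by simp) : X ⟶ pullback (f ≫ g) g) :=
    MorphismProperty.of_isPullback (pullback_lift_diagonal_isPullback f g)
      (inferInstanceAs (Etale (pullback.diagonal g)))
  have h2 : P (pullback.snd (f ≫ g) g) := MorphismProperty.pullback_snd _ _ h
  have h3 := IsEtLocal.precomp _ _ h1 h2
  rwa [pullback.lift_snd] at h3

section Diag

variable {F G : Sp S}

/-- The diagonal of a representable morphism with `P` has `Q`, if this is so for schemes. -/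
theorem repWith_diagonal {P Q : MorphismProperty Scheme.{u}} [Q.IsStableUnderBaseChange] {f : F ⟶ G}
    (hf : RepWith P f) (H : ∀ {X Y : Scheme.{u}} (g : X ⟶ Y), P g → Q (pullback.diagonal g)) :
    RepWith Q (pullback.diagonal f) := by
  refine repWith_of_squares fun T z => ?_
  let q := z ≫ pullback.fst f f ≫ f
  let V := hf.rep.pullback q
  let r : (yon S).obj V ⟶ (yon S).obj T := (yon S).map (hf.rep.snd q)
  have hsq : IsPullback (hf.rep.fst q) r f q := hf.rep.isPullback q
  let m : pullback r r ⟶ pullback f f :=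
    pullback.map r r f f (hf.rep.fst q) (hf.rep.fst q) q hsq.w.symm hsq.w.symm
  have hm₁ : m ≫ pullback.fst f f = pullback.fst r r ≫ hf.rep.fst q := pullback.lift_fst _ _ _
  have hm₂ : m ≫ pullback.snd f f = pullback.snd r r ≫ hf.rep.fst q := pullback.lift_snd _ _ _
  have hcart : IsPullback (hf.rep.fst q) (pullback.diagonal r) (pullback.diagonal f) m := by
    refine ⟨⟨?_⟩, ⟨PullbackCone.IsLimit.mk _ (fun s => s.snd ≫ pullback.fst r r) ?_ ?_ ?_⟩⟩
    · apply pullback.hom_ext
      · simp only [Category.assoc, hm₁, pullback.diagonal_fst, pullback.diagonal_fst_assoc,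
          Category.comp_id]
      · simp only [Category.assoc, hm₂, pullback.diagonal_snd, pullback.diagonal_snd_assoc,
          Category.comp_id]
    · intro s
      have h := s.condition =≫ pullback.fst f f
      simp only [Category.assoc, hm₁, pullback.diagonal_fst, Category.comp_id] at h
      rw [Category.assoc]
      exact h.symm
    · intro s
      apply pullback.hom_ext
      · simp
      · rw [Category.assoc, pullback.diagonal_snd, Category.comp_id]
        apply hsq.hom_ext
        · have h₁ := s.condition =≫ pullback.fst f f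
          have h₂ := s.condition =≫ pullback.snd f f
          simp only [Category.assoc, hm₁, pullback.diagonal_fst, Category.comp_id] at h₁
          simp only [Category.assoc, hm₂, pullback.diagonal_snd, Category.comp_id] at h₂
          rw [Category.assoc, Category.assoc, ← h₁, ← h₂]
        · simp [pullback.condition]
    · intro s l _ h2
      rw [← h2]
      simp
  -- the section of `X ×_T X` defined by `z`
  let y₁ : (yon S).obj T ⟶ (yon S).obj V :=
    hsq.lift (z ≫ pullback.fst f f) (𝟙 _) (by simp [q])
  let y₂ : (yon S).obj T ⟶ (yon S).obj V :=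
    hsq.lift (z ≫ pullback.snd f f) (𝟙 _) (by simp [q, pullback.condition])
  let y : (yon S).obj T ⟶ pullback r r := pullback.lift y₁ y₂ (by simp [y₁, y₂])
  have hy : y ≫ m = z := by
    apply pullback.hom_ext
    · rw [Category.assoc, hm₁, ← Category.assoc, pullback.lift_fst, hsq.lift_fst]
    · rw [Category.assoc, hm₂, ← Category.assoc, pullback.lift_snd, hsq.lift_fst]
  have hd : RepWith Q (pullback.diagonal r) :=
    (repWith_diagonal_yon_map_iff Q _).2 (H _ (hf.property_snd q))
  refine ⟨_, hd.rep.fst y ≫ hf.rep.fst q, hd.rep.snd y, ?_, hd.property_snd y⟩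
  rw [← hy]
  exact (hd.rep.isPullback y).paste_horiz hcart

/-- An etale representable morphism has etale diagonal. -/
theorem repWith_etale_diagonal {f : F ⟶ G} (hf : RepWith @Etale f) :
    RepWith @Etale (pullback.diagonal f) :=
  repWith_diagonal hf fun g _ => inferInstanceAs (Etale (pullback.diagonal g))

/-- Cancellation: a map into an etale space over `G` whose composite is etale is etale. -/
theorem repWith_etale_of_comp {E : Sp S} (f : E ⟶ F) (g : F ⟶ G) (hfg : RepWith @Etale (f ≫ g))
    (hg : RepWith @Etale g) : RepWith @Etale f :=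
  of_comp_of_diagonal (RepWith @Etale) f g hfg (repWith_etale_diagonal hg)

end Diag

section Charts

variable {F G : Sp S} {P : MorphismProperty Scheme.{u}}

/-- For an algebraic target, over every map from a scheme to the target there is a chart of the source. -/
theorem exists_chart_over (hF : IsAlgSpace F) (hG : IsAlgSpace G) (f : F ⟶ G) {V : Over S}
    (b : (yon S).obj V ⟶ G) :
    ∃ (U : Over S) (a₀ : (yon S).obj U ⟶ pullback f b) (h : U ⟶ V),
      RepWith @Etale a₀ ∧ RepWith @Surjective a₀ ∧ a₀ ≫ pullback.snd f b = (yon S).map h := by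
  obtain ⟨U, a₀, h1, h2⟩ := (isAlgSpace_pullback hF (IsAlgSpace.yon_obj V) hG f b).atlas
  exact ⟨U, a₀, (yon S).preimage (a₀ ≫ pullback.snd f b), h1, h2, ((yon S).map_preimage _).symm⟩

/-- Chart diagrams for a morphism of algebraic spaces exist. -/
theorem exists_chart (hF : IsAlgSpace F) (hG : IsAlgSpace G) (f : F ⟶ G) :
    ∃ (U V : Over S) (a : (yon S).obj U ⟶ F) (b : (yon S).obj V ⟶ G) (h : U ⟶ V),
      RepWith @Etale a ∧ RepWith @Surjective a ∧ RepWith @Etale b ∧ RepWith @Surjective b ∧
        a ≫ f = (yon S).map h ≫ b := by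
  obtain ⟨V, b, hb, hb'⟩ := hG.atlas
  obtain ⟨U, a₀, h, h1, h2, h3⟩ := exists_chart_over hF hG f b
  refine ⟨U, V, a₀ ≫ pullback.fst f b, b, h, repWith_comp h1 (repWith_fst f hb),
    repWith_comp h2 (repWith_fst f hb'), hb, hb', ?_⟩
  rw [Category.assoc, pullback.condition, ← Category.assoc, h3]

/-- One chart diagram with surjective source chart determines an etale local property. -/
theorem locP_of_chart [IsEtLocal P] {f : F ⟶ G} {U V : Over S} {a : (yon S).obj U ⟶ F}
    {b : (yon S).obj V ⟶ G} {h : U ⟶ V} (ha : RepWith @Etale a) (ha' : RepWith @Surjective a)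
    (hb : RepWith @Etale b) (w : a ≫ f = (yon S).map h ≫ b) (hP : P h.left) : LocP P f := by
  intro U' V' a' b' h' ha₁ hb₁ w'
  let p : ha.rep.pullback a' ⟶ U' := ha.rep.snd a'
  let q : ha.rep.pullback a' ⟶ U := ha.rep.fst' a'
  have hp : Etale p.left := ha.property_snd a'
  have hp' : Surjective p.left := ha'.2 a' _ _ (ha.rep.isPullback a')
  have hq : Etale q.left := ha₁.property a _ _ (ha.rep.isPullback' a').flip
  have hw : (yon S).map (p ≫ h') ≫ b' = (yon S).map (q ≫ h) ≫ b := by
    simp only [Functor.map_comp, Category.assoc, ← w, ← w']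
    rw [← Category.assoc, ← Category.assoc]
    congr 1
    exact (ha.rep.w a').symm.trans (by rw [Functor.relativelyRepresentable.map_fst'])
  let k : ha.rep.pullback a' ⟶ hb.rep.pullback b' :=
    hb.rep.lift' (q ≫ h) (p ≫ h') hw.symm
  have hk : P k.left := by
    have he : Etale (hb.rep.fst' b').left := hb₁.property b _ _ (hb.rep.isPullback' b').flip
    apply IsEtLocal.cancel_right _ (hb.rep.fst' b').left
    rw [← Over.comp_left, Functor.relativelyRepresentable.lift'_fst, Over.comp_left]
    exact IsEtLocal.precomp _ _ hq hP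
  refine IsEtLocal.of_precomp p.left h'.left hp hp' ?_
  rw [← Over.comp_left, ← hb.rep.lift'_snd (q ≫ h) (p ≫ h') hw.symm, Over.comp_left]
  exact IsEtLocal.postcomp _ _ hk (hb.property_snd b')

/-- A representable morphism with `P` has `P` etale locally. -/
theorem locP_of_repWith [IsEtLocal P] {f : F ⟶ G} (hf : RepWith P f) : LocP P f := by
  intro U V a b h ha hb w
  let l : U ⟶ hf.rep.pullback b := hf.rep.lift a h w
  have h1 : RepWith @Etale (hf.rep.fst b) := repWith_of_isPullback (hf.rep.isPullback b).flip hb
  have h2 : RepWith @Etale ((yon S).map l) :=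
    repWith_etale_of_comp _ _ (by rwa [Functor.relativelyRepresentable.lift_fst]) h1
  rw [← hf.rep.lift_snd a h w, Over.comp_left]
  exact IsEtLocal.precomp _ _ ((repWith_yon_map_iff _ _).1 h2) (hf.property_snd b)

/-- A representable morphism having an etale local property etale locally has it on every pullback. -/
theorem repWith_of_locP [IsEtLocal P] (hG : IsAlgSpace G) {f : F ⟶ G} (hr : Representable f)
    (hf : LocP P f) : RepWith P f := by
  refine ⟨hr, fun T W g fst snd sq => ?_⟩
  obtain ⟨V, b, hb, hb'⟩ := hG.atlas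
  -- pull the chart of the target back to `T`
  let T' := hb.rep.pullback g
  let U := hr.pullback b
  have hU : P (hr.snd b).left :=
    hf (hr.fst b) b (hr.snd b) (repWith_of_isPullback (hr.isPullback b).flip hb) hb (hr.w b)
  let q : (yon S).obj (hr.pullback ((yon S).map (hb.rep.snd g) ≫ g)) ⟶ F := hr.fst _
  let W' := hr.pullback ((yon S).map (hb.rep.snd g) ≫ g)
  let w : W' ⟶ T' := hr.snd _
  let l : W' ⟶ U := hr.lift (hr.fst _) (w ≫ hb.rep.fst' g) (by
    rw [hr.w, Functor.map_comp, Category.assoc, Functor.relativelyRepresentable.map_fst', hb.rep.w g])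
  have hsq₁ : IsPullback l w (hr.snd b) (hb.rep.fst' g) := by
    refine IsPullback.of_map (yon S) (Functor.relativelyRepresentable.lift_snd _ _ _ _) ?_
    refine IsPullback.of_right ?_ (by rw [← Functor.map_comp, ← Functor.map_comp,
      Functor.relativelyRepresentable.lift_snd]) (hr.isPullback b)
    rw [Functor.relativelyRepresentable.lift_fst, Functor.relativelyRepresentable.map_fst', hb.rep.w g]
    exact hr.isPullback _
  have hw : P w.left := MorphismProperty.of_isPullback (hsq₁.map (Over.forget S)) hU
  let m : W' ⟶ W := (yon S).preimage (sq.lift (hr.fst _) ((yon S).map (w ≫ hb.rep.snd g)) (by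
    rw [hr.w, Functor.map_comp, Category.assoc]))
  have hm : (yon S).map m ≫ fst = hr.fst _ ∧ m ≫ snd = w ≫ hb.rep.snd g :=
    ⟨by rw [Functor.map_preimage, sq.lift_fst],
      (yon S).map_injective (by rw [Functor.map_comp, Functor.map_preimage, sq.lift_snd])⟩
  have hsq₂ : IsPullback m w snd (hb.rep.snd g) := by
    refine IsPullback.of_map (yon S) hm.2 ?_
    refine IsPullback.of_right ?_ (by rw [← Functor.map_comp, ← Functor.map_comp, hm.2]) sq
    rw [hm.1]
    exact hr.isPullback _
  have he : Etale m.left :=
    MorphismProperty.of_isPullback (hsq₂.flip.map (Over.forget S)) (hb.property_snd g)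
  have hs : Surjective m.left :=
    MorphismProperty.of_isPullback (hsq₂.flip.map (Over.forget S))
      (hb'.2 g _ _ (hb.rep.isPullback g) : Surjective (hb.rep.snd g).left)
  refine IsEtLocal.of_precomp m.left snd.left he hs ?_
  rw [← Over.comp_left, hm.2, Over.comp_left]
  exact IsEtLocal.postcomp _ _ hw (hb.property_snd g)

theorem locP_comp [IsEtLocal P] [P.IsStableUnderComposition] {H : Sp S} (hF : IsAlgSpace F)
    (hG : IsAlgSpace G) (hH : IsAlgSpace H) {f : F ⟶ G} {g : G ⟶ H} (hf : LocP P f) (hg : LocP P g) :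
    LocP P (f ≫ g) := by
  obtain ⟨V, W, b, c, k, hb, hb', hc, hc', hk⟩ := exists_chart hG hH g
  obtain ⟨U, a₀, h, h1, h2, h3⟩ := exists_chart_over hF hG f b
  have ha : RepWith @Etale (a₀ ≫ pullback.fst f b) := repWith_comp h1 (repWith_fst f hb)
  have w : (a₀ ≫ pullback.fst f b) ≫ f = (yon S).map h ≫ b := by
    rw [Category.assoc, pullback.condition, ← Category.assoc, h3]
  refine locP_of_chart (h := h ≫ k) ha (repWith_comp h2 (repWith_fst f hb')) hc ?_ ?_
  · rw [← Category.assoc, w, Category.assoc, hk, Functor.map_comp, Category.assoc]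
  · exact P.comp_mem _ _ (hf _ _ _ ha hb w) (hg _ _ _ hb hc hk)

/-- Etale local properties are stable under base change between algebraic spaces. -/
theorem locP_of_isPullback [IsEtLocal P] {F' G' : Sp S} {f : F ⟶ G} {g : G' ⟶ G} {fst : F' ⟶ F}
    {snd : F' ⟶ G'} (sq : IsPullback fst snd f g) (hF : IsAlgSpace F) (hG : IsAlgSpace G)
    (hG' : IsAlgSpace G') (hf : LocP P f) : LocP P snd := by
  obtain ⟨V, b, hb, hb'⟩ := hG.atlas
  obtain ⟨U, a₀, h, h1, h2, h3⟩ := exists_chart_over hF hG f b
  obtain ⟨W, c₀, h₁, hc1, hc2, hc3⟩ := exists_chart_over hG' hG g b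
  let c := c₀ ≫ pullback.fst g b
  have hc : c ≫ g = (yon S).map h₁ ≫ b := by
    rw [Category.assoc, pullback.condition, ← Category.assoc, hc3]
  have hP : P h.left := hf (a₀ ≫ pullback.fst f b) b h (repWith_comp h1 (repWith_fst f hb)) hb
    (by rw [Category.assoc, pullback.condition, ← Category.assoc, h3])
  let Q := pullback f (c ≫ g)
  let n : Q ⟶ pullback f b := pullback.lift (pullback.fst _ _) (pullback.snd _ _ ≫ (yon S).map h₁)
    (pullback.condition.trans ((congrArg (pullback.snd f (c ≫ g) ≫ ·) hc).trans (Category.assoc _ _ _).symm))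
  have sn : IsPullback n (pullback.snd f (c ≫ g)) (pullback.snd f b) ((yon S).map h₁) := by
    refine IsPullback.of_right ?_ (pullback.lift_snd _ _ _) (IsPullback.of_hasPullback f b)
    rw [pullback.lift_fst, ← hc]
    exact IsPullback.of_hasPullback f (c ≫ g)
  let m : Q ⟶ F' := sq.lift (pullback.fst _ _) (pullback.snd _ _ ≫ c)
    (pullback.condition.trans (Category.assoc _ _ _).symm)
  have sm : IsPullback m (pullback.snd f (c ≫ g)) snd c := by
    refine IsPullback.of_right ?_ (sq.lift_snd _ _ _) sq
    rw [IsPullback.lift_fst]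
    exact IsPullback.of_hasPullback f (c ≫ g)
  have st := IsPullback.of_hasPullback a₀ n
  let X := Limits.pullback h h₁
  have sX : IsPullback ((yon S).map (pullback.fst h h₁)) ((yon S).map (pullback.snd h h₁))
      ((yon S).map h) ((yon S).map h₁) := (IsPullback.of_hasPullback h h₁).map (yon S)
  have sY : IsPullback (pullback.fst a₀ n) (pullback.snd a₀ n ≫ pullback.snd f (c ≫ g))
      ((yon S).map h) ((yon S).map h₁) := h3 ▸ st.paste_vert sn
  let e := IsPullback.isoIsPullback _ _ sX sY
  let a' : (yon S).obj X ⟶ F' := (e.hom ≫ pullback.snd a₀ n) ≫ m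
  have ha' : ∀ (R : MorphismProperty Scheme.{u}) [R.IsStableUnderBaseChange] [R.IsMultiplicative],
      RepWith R a₀ → RepWith R c₀ → RepWith R b → RepWith R a' := fun R _ _ h₀ hc₀ hb₀ =>
    repWith_comp (repWith_comp (repWith_of_isIso R e.hom) (repWith_of_isPullback st h₀))
      (repWith_of_isPullback sm.flip (repWith_comp hc₀ (repWith_fst g hb₀)))
  refine locP_of_chart (h := pullback.snd h h₁) (ha' _ h1 hc1 hb) (ha' _ h2 hc2 hb')
    (repWith_comp hc1 (repWith_fst g hb)) ?_ (MorphismProperty.of_isPullback
      ((IsPullback.of_hasPullback h h₁).map (Over.forget S)) hP)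
  calc a' ≫ snd = (e.hom ≫ pullback.snd a₀ n ≫ pullback.snd f (c ≫ g)) ≫ c := by
        simp [a', sm.w]
    _ = (yon S).map (pullback.snd h h₁) ≫ c := by rw [IsPullback.isoIsPullback_hom_snd]

theorem locP_mono {Q : MorphismProperty Scheme.{u}} (hle : P ≤ Q) {f : F ⟶ G} (hf : LocP P f) :
    LocP Q f := fun _ _ a b h ha hb w => hle _ (hf a b h ha hb w)

end Charts

end Groth.Agent.AlgSpLib
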