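import Mathlib.AlgebraicGeometry.Morphisms.QuasiFinite
import Mathlib.AlgebraicGeometry.Morphisms.FormallyUnramified
import Groth.Agent.SrcDescent.SchemeSmooth
import Groth.Agent.AlgSpLib.LocP

/-!
# The basic etale local properties of morphisms of schemes
-/

set_option backward.isDefEq.respectTransparency false
set_option backward.isDefEq.respectTransparency.types false

universe u

open CategoryTheory CategoryTheory.Limits AlgebraicGeometry Opposite AlgSp

namespace Groth.Agent.AlgSpLib

open Groth.Agent.SrcDescent

theorem locallyQuasiFinite_of_formallyUnramified {X Y : Scheme.{u}} (f : X ⟶ Y) [FormallyUnramified f]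
    [LocallyOfFiniteType f] : LocallyQuasiFinite f := by
  rw [HasRingHomProperty.iff_appLE (P := @LocallyQuasiFinite)]
  intro U V e
  have h1 := HasRingHomProperty.appLE @FormallyUnramified f ‹_› U V e
  have h2 := HasRingHomProperty.appLE @LocallyOfFiniteType f ‹_› U V e
  algebraize [(f.appLE U.1 V.1 e).hom]
  have : Algebra.QuasiFinite Γ(Y, U) Γ(X, V) := inferInstance
  exact this

instance {X Y : Scheme.{u}} (f : X ⟶ Y) [Etale f] : LocallyQuasiFinite f :=
  locallyQuasiFinite_of_formallyUnramified f

instance : IsEtLocal (@Flat : MorphismProperty Scheme.{u}) where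
  precomp _ _ _ _ := inferInstance
  postcomp _ _ _ _ := inferInstance
  of_precomp f g _ _ h := flat_of_smooth_comp f g h

instance : IsEtLocal (@LocallyOfFiniteType : MorphismProperty Scheme.{u}) where
  precomp _ _ _ _ := inferInstance
  postcomp _ _ _ _ := inferInstance
  of_precomp f g _ _ h := locallyOfFiniteType_of_smooth_comp f g h

instance : IsEtLocal (@LocallyOfFinitePresentation : MorphismProperty Scheme.{u}) where
  precomp _ _ _ _ := inferInstance
  postcomp _ _ _ _ := inferInstance
  of_precomp f g _ _ h := locallyOfFinitePresentation_of_smooth_comp f g h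

instance : IsEtLocal (@Etale : MorphismProperty Scheme.{u}) where
  precomp _ _ _ _ := inferInstance
  postcomp _ _ _ _ := inferInstance
  of_precomp f g _ _ h := etale_of_etale_comp f g h

instance : IsEtLocal (@Smooth : MorphismProperty Scheme.{u}) where
  precomp _ _ _ _ := inferInstance
  postcomp _ _ _ _ := inferInstance
  of_precomp f g _ _ h := smooth_of_etale_comp f g h

instance : IsEtLocal (@LocallyOfFiniteType ⊓ @FormallyUnramified : MorphismProperty Scheme.{u}) where
  precomp f g hf hg := by
    obtain ⟨_, _⟩ := hg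
    exact ⟨inferInstanceAs (LocallyOfFiniteType (f ≫ g)), MorphismProperty.comp_mem _ f g inferInstance inferInstance⟩
  postcomp f g hf hg := by
    obtain ⟨_, _⟩ := hf
    exact ⟨inferInstanceAs (LocallyOfFiniteType (f ≫ g)), MorphismProperty.comp_mem _ f g inferInstance inferInstance⟩
  of_precomp f g _ _ h :=
    ⟨locallyOfFiniteType_of_smooth_comp f g h.1, formallyUnramified_of_etale_comp f g h.2⟩

instance : IsEtLocal (@LocallyQuasiFinite ⊓ @LocallyOfFiniteType : MorphismProperty Scheme.{u}) where
  precomp f g hf hg := by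
    obtain ⟨_, _⟩ := hg
    exact ⟨inferInstanceAs (LocallyQuasiFinite (f ≫ g)), inferInstanceAs (LocallyOfFiniteType (f ≫ g))⟩
  postcomp f g hf hg := by
    obtain ⟨_, _⟩ := hf
    exact ⟨inferInstanceAs (LocallyQuasiFinite (f ≫ g)), inferInstanceAs (LocallyOfFiniteType (f ≫ g))⟩
  of_precomp f g _ _ h :=
    ⟨locallyQuasiFinite_of_surjective_comp f g h.1 h.2, locallyOfFiniteType_of_smooth_comp f g h.2⟩

variable {S : Scheme.{u}} {F G : Sp S}

/-- For morphisms of algebraic spaces, etale means etale on charts. -/
theorem isEtaleMor_iff_locP (hF : IsAlgSpace F) (hG : IsAlgSpace G) (f : F ⟶ G) :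
    IsEtaleMor f ↔ LocP @Etale f := by
  constructor
  · intro h U V a b k ha hb w
    have h1 := h a ha
    rw [w] at h1
    exact (repWith_yon_map_iff _ k).1 (repWith_etale_of_comp _ b h1 hb)
  · intro h U a ha
    refine repWith_of_locP hG (hG.representable_from_yon _) ?_
    exact locP_comp (IsAlgSpace.yon_obj U) hF hG (locP_of_repWith ha) h

/-- The composite of etale morphisms is etale. -/
theorem isEtaleMor_comp {H : Sp S} {f : F ⟶ G} {g : G ⟶ H} (hF : IsAlgSpace F) (hG : IsAlgSpace G)
    (hH : IsAlgSpace H) (hf : IsEtaleMor f) (hg : IsEtaleMor g) : IsEtaleMor (f ≫ g) :=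
  (isEtaleMor_iff_locP hF hH _).2
    (locP_comp hF hG hH ((isEtaleMor_iff_locP hF hG f).1 hf) ((isEtaleMor_iff_locP hG hH g).1 hg))

/-- A representable etale morphism is etale. -/
theorem isEtaleMor_of_repWith {f : F ⟶ G} (hf : RepWith @Etale f) : IsEtaleMor f :=
  fun _ _ hφ => repWith_comp hφ hf

end Groth.Agent.AlgSpLib
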