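import Mathlib.AlgebraicGeometry.Morphisms.LocalFlatDescent
import Mathlib.AlgebraicGeometry.Morphisms.QuasiFinite
import Mathlib.AlgebraicGeometry.Morphisms.Flat
import Mathlib.RingTheory.Finiteness.Descent
import Mathlib.RingTheory.RingHom.QuasiFinite

/-!
# Flatness and quasi-finiteness descend along fpqc base change
-/

set_option backward.isDefEq.respectTransparency false
set_option backward.isDefEq.respectTransparency.types false

universe u

open CategoryTheory AlgebraicGeometry TensorProduct MorphismProperty

namespace Groth.Agent.AlgSpLib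

theorem flat_codescendsAlong_faithfullyFlat :
    RingHom.CodescendsAlong RingHom.Flat RingHom.FaithfullyFlat := by
  refine .mk _ RingHom.Flat.respectsIso fun R S T _ _ _ _ _ h h' ↦ ?_
  rw [RingHom.flat_algebraMap_iff] at h' ⊢
  rw [RingHom.faithfullyFlat_algebraMap_iff] at h
  exact Module.Flat.of_flat_tensorProduct R T S

theorem quasiFinite_of_tensorProduct (R S T : Type u) [CommRing R] [CommRing S] [CommRing T]
    [Algebra R S] [Algebra R T] [Module.FaithfullyFlat R S] [Algebra.QuasiFinite S (S ⊗[R] T)] :
    Algebra.QuasiFinite R T := by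
  constructor
  intro P hP
  obtain ⟨⟨Q, hQ⟩, hQP⟩ := PrimeSpectrum.comap_surjective_of_faithfullyFlat (A := R) (B := S) ⟨P, hP⟩
  have hQP' : Q.comap (algebraMap R S) = P := congrArg PrimeSpectrum.asIdeal hQP
  have : Q.LiesOver P := ⟨hQP'.symm⟩
  have hfin : Module.Finite Q.ResidueField (Q.Fiber (S ⊗[R] T)) := Algebra.QuasiFinite.finite_fiber Q
  let _ : Algebra P.ResidueField Q.ResidueField :=
    (Ideal.ResidueField.map P Q (algebraMap R S) hQP'.symm).toAlgebra
  have : IsScalarTower R P.ResidueField Q.ResidueField := .of_algebraMap_eq fun r => by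
    rw [RingHom.algebraMap_toAlgebra, Ideal.ResidueField.map_algebraMap]
    rw [← IsScalarTower.algebraMap_apply R S Q.ResidueField]
  have e₁ : Q.ResidueField ⊗[S] (S ⊗[R] T) ≃ₗ[Q.ResidueField] Q.ResidueField ⊗[R] T :=
    TensorProduct.AlgebraTensorModule.cancelBaseChange R S Q.ResidueField Q.ResidueField T
  have e₂ : Q.ResidueField ⊗[P.ResidueField] (P.ResidueField ⊗[R] T) ≃ₗ[Q.ResidueField]
      Q.ResidueField ⊗[R] T :=
    TensorProduct.AlgebraTensorModule.cancelBaseChange R P.ResidueField Q.ResidueField Q.ResidueField T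
  have : Module.Finite Q.ResidueField
      (Q.ResidueField ⊗[P.ResidueField] (P.ResidueField ⊗[R] T)) :=
    Module.Finite.equiv (e₁.trans e₂.symm)
  have hfree : Module.Free P.ResidueField Q.ResidueField := Module.Free.of_divisionRing _ _
  have : Module.FaithfullyFlat P.ResidueField Q.ResidueField :=
    @Module.FaithfullyFlat.instOfNontrivialOfFree _ _ _ _ _ inferInstance hfree
  exact Module.Finite.of_finite_tensorProduct_of_faithfullyFlat (T := Q.ResidueField)

theorem quasiFinite_codescendsAlong_faithfullyFlat :
    RingHom.CodescendsAlong RingHom.QuasiFinite RingHom.FaithfullyFlat := by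
  refine .mk _ RingHom.QuasiFinite.respectsIso fun R S T _ _ _ _ _ h h' ↦ ?_
  rw [RingHom.quasiFinite_algebraMap] at h' ⊢
  rw [RingHom.faithfullyFlat_algebraMap_iff] at h
  exact quasiFinite_of_tensorProduct R S T

instance : DescendsAlong (@Flat : MorphismProperty Scheme.{u}) (@Surjective ⊓ @Flat ⊓ @QuasiCompact) :=
  HasRingHomProperty.descendsAlong_flat flat_codescendsAlong_faithfullyFlat

instance : DescendsAlong (@LocallyQuasiFinite : MorphismProperty Scheme.{u})
    (@Surjective ⊓ @Flat ⊓ @QuasiCompact) :=
  HasRingHomProperty.descendsAlong_flat quasiFinite_codescendsAlong_faithfullyFlat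

end Groth.Agent.AlgSpLib
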