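import Mathlib.AlgebraicGeometry.Morphisms.Affine
import Groth.Prelude.Def_AlgSpCov
import Groth.Agent.AlgSpLib.LocP
import Groth.Agent.AlgSpLib.Descends

/-!
# Etale local properties which descend are local on the base in the fpqc topology
-/

set_option backward.isDefEq.respectTransparency false
set_option backward.isDefEq.respectTransparency.types false

universe u

open CategoryTheory CategoryTheory.Limits AlgebraicGeometry Opposite AlgSp

namespace Groth.Agent.AlgSpLib

variable {S : Scheme.{u}} {P : MorphismProperty Scheme.{u}}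

/-- A chart of a morphism base changed to a scheme through which the target chart lifts has `P` when the
corresponding base change of the morphism has `P` etale locally. -/
theorem property_pullback_snd_of_lift [IsEtLocal P] {X Y Yi Xi : Sp S} {f : X ⟶ Y} {g : Yi ⟶ Y}
    {q : Xi ⟶ X} {p : Xi ⟶ Yi} (sq : IsPullback q p f g) (hYi : IsAlgSpace Yi)
    (hp : LocP P p) (hXi : IsAlgSpace Xi) {U V T : Over S} {a : (yon S).obj U ⟶ X}
    {b : (yon S).obj V ⟶ Y} {h : U ⟶ V} (ha : RepWith @Etale a) (hb : RepWith @Etale b)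
    (w : a ≫ f = (yon S).map h ≫ b) (t : T ⟶ V) (l : (yon S).obj T ⟶ Yi)
    (hl : l ≫ g = (yon S).map t ≫ b) : P (pullback.snd h t).left := by
  let Q := pullback p l
  have hQ : LocP P (pullback.snd p l) :=
    locP_of_isPullback (IsPullback.of_hasPullback p l) hXi hYi (IsAlgSpace.yon_obj T) hp
  have sQ : IsPullback (pullback.fst p l ≫ q) (pullback.snd p l) f (l ≫ g) :=
    (IsPullback.of_hasPullback p l).paste_horiz sq
  rw [hl] at sQ
  let n : Q ⟶ pullback f b :=
    pullback.lift (pullback.fst p l ≫ q) (pullback.snd p l ≫ (yon S).map t)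
      (sQ.w.trans (Category.assoc _ _ _).symm)
  have sn : IsPullback n (pullback.snd p l) (pullback.snd f b) ((yon S).map t) := by
    refine IsPullback.of_right ?_ (pullback.lift_snd _ _ _) (IsPullback.of_hasPullback f b)
    rw [pullback.lift_fst]
    exact sQ
  let a' : (yon S).obj U ⟶ pullback f b := pullback.lift a ((yon S).map h) w
  have ha' : RepWith @Etale a' := by
    refine repWith_etale_of_comp a' (pullback.fst f b) ?_ (repWith_fst f hb)
    rw [pullback.lift_fst]
    exact ha
  let k : (yon S).obj (pullback h t) ⟶ Q :=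
    sn.lift ((yon S).map (pullback.fst h t) ≫ a') ((yon S).map (pullback.snd h t)) (by
      rw [Category.assoc, pullback.lift_snd, ← Functor.map_comp, ← Functor.map_comp, pullback.condition])
  have st : IsPullback ((yon S).map (pullback.fst h t)) k a' n := by
    refine IsPullback.of_bot ?_ (IsPullback.lift_fst _ _ _ _).symm sn
    rw [IsPullback.lift_snd, pullback.lift_snd]
    exact (IsPullback.of_hasPullback h t).map (yon S)
  refine hQ k (𝟙 _) (pullback.snd h t) (repWith_of_isPullback st ha') (repWith_id _ T) ?_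
  rw [IsPullback.lift_snd, Category.comp_id]

/-- An etale local property which is local on the target and descends along fpqc coverings of schemes is
local on the base in the fpqc topology on algebraic spaces. -/
theorem isLocalOnBase_fpqc_locP [IsEtLocal P] [IsZariskiLocalAtTarget P]
    [P.DescendsAlong (@Surjective ⊓ @Flat ⊓ @QuasiCompact)] :
    IsLocalOnBase (IsFpqcCover (S := S)) (LocP P) := by
  intro ι Y Yi g hY hYi hg X f hX Xi p q hXi sq
  refine ⟨fun hf i => locP_of_isPullback (sq i) hX hY (hYi i) hf, fun hp => ?_⟩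
  obtain ⟨U, V, a, b, h, ha, ha', hb, -, w⟩ := exists_chart hX hY f
  refine locP_of_chart ha ha' hb w ?_
  rw [IsZariskiLocalAtTarget.iff_of_iSup_eq_top (P := P) _ (iSup_affineOpens_eq_top V.left)]
  intro Z
  let Z₀ : Over S := Over.mk (Z.1.ι ≫ V.hom)
  let ιZ : Z₀ ⟶ V := Over.homMk Z.1.ι rfl
  obtain ⟨m, W, c, hW, hc, hsurj, hl⟩ := hg.2 Z₀ Z.2 ((yon S).map ιZ ≫ b)
  choose i l hl using hl
  have hcov (j : Fin m) :
      P (pullback.snd h.left ((c j).left ≫ Z.1.ι)) := by
    have h1 : P (pullback.snd h (c j ≫ ιZ)).left :=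
      property_pullback_snd_of_lift (sq (i j)) (hYi _) (hp _) (hXi _) ha hb w (c j ≫ ιZ) (l j)
        (by rw [hl, Functor.map_comp, Category.assoc])
    have e : IsPullback (pullback.fst h (c j ≫ ιZ)).left (pullback.snd h (c j ≫ ιZ)).left h.left
        ((c j).left ≫ Z.1.ι) := (IsPullback.of_hasPullback h (c j ≫ ιZ)).map (Over.forget S)
    rw [← e.isoPullback_hom_snd] at h1
    exact (P.cancel_left_of_respectsIso e.isoPullback.hom _).1 h1
  let C : (∐ fun j => (W j).left) ⟶ Z.1 := Sigma.desc fun j => (c j).left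
  have : Surjective C := ⟨fun z => by
    obtain ⟨j, y, hy⟩ := hsurj z
    exact ⟨Sigma.ι (fun j => (W j).left) j y,
      by rw [← Scheme.Hom.comp_apply, Sigma.ι_desc]; exact hy⟩⟩
  have : Flat C := by
    rw [IsZariskiLocalAtSource.iff_of_openCover (P := @Flat) (sigmaOpenCover _)]
    intro j
    rw [sigmaOpenCover_f, Sigma.ι_desc]
    exact hc j
  have : IsAffine (Z.1 : Scheme.{u}) := Z.2
  have := hW
  have hsq := isPullback_morphismRestrict h.left Z.1
  refine MorphismProperty.of_pullback_snd_of_descendsAlong (P := P)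
    (Q := @Surjective ⊓ @Flat ⊓ @QuasiCompact) (g := C) ⟨⟨‹_›, ‹_›⟩, inferInstance⟩ ?_
  rw [IsZariskiLocalAtTarget.iff_of_openCover (P := P) (sigmaOpenCover _)]
  intro j
  have h2 := hcov j
  have s1 := ((IsPullback.of_hasPullback (pullback.snd (h.left ∣_ Z.1) C)
      ((sigmaOpenCover fun j => (W j).left).f j)).paste_horiz
    (IsPullback.of_hasPullback (h.left ∣_ Z.1) C)).paste_horiz hsq.flip
  rw [show (sigmaOpenCover fun j => (W j).left).f j ≫ C = (c j).left by
    rw [sigmaOpenCover_f, Sigma.ι_desc]] at s1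
  refine (P.cancel_left_of_respectsIso s1.isoPullback.inv _).1 ?_
  rw [Scheme.Cover.pullbackHom, s1.isoPullback_inv_snd]
  exact h2

end Groth.Agent.AlgSpLib
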