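import Mathlib.AlgebraicGeometry.Sites.Fpqc
import Mathlib.AlgebraicGeometry.Sites.Etale
import Groth.Prelude.Def_AlgSpCov
import Groth.Agent.AlgSpLib.LocP

/-!
# Properties local on the source for schemes are local on the source for algebraic spaces
-/

set_option backward.isDefEq.respectTransparency false
set_option backward.isDefEq.respectTransparency.types false

universe u

open TopologicalSpace CategoryTheory CategoryTheory.Limits AlgebraicGeometry Opposite AlgSp

namespace Groth.Agent.AlgSpLib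

variable {S : Scheme.{u}}

/-- The image of a chart of a fibre product in the chart of the base. -/
theorem range_chart_over {X X' Q : Sp S} {g : X' ⟶ X} {U U' : Over S} {a : (yon S).obj U ⟶ X}
    {fst : Q ⟶ X'} {snd : Q ⟶ (yon S).obj U} (sq : IsPullback fst snd g a) {e : (yon S).obj U' ⟶ Q}
    (he : RepWith @Surjective e) {v : U' ⟶ U} (w : e ≫ snd = (yon S).map v) :
    Set.range v.left = Points.ofPt a ⁻¹' Set.range (Points.map g) := by
  have key : ∀ t : ↥U'.left, Points.map snd (Points.ofPt e t) = Points.ofPt ((yon S).map v) t :=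
    fun t => by rw [Points.map_ofPt, w]
  refine Set.Subset.antisymm ?_ ?_
  · rintro _ ⟨t, rfl⟩
    refine ⟨Points.map fst (Points.ofPt e t), ?_⟩
    rw [← Points.map_comp, sq.w, Points.map_comp, key, Points.map_ofPt, ofPt_comp]
  · rintro u ⟨y, hy⟩
    rw [Points.ofPt_eq_map_ofScheme] at hy
    obtain ⟨z, -, hz⟩ := exists_point_of_isPullback sq hy
    obtain ⟨t, rfl⟩ := surjective_ofPt he z
    rw [key] at hz
    exact ⟨t, ((Points.toScheme_ofPt v t).symm.trans (congrArg (Points.toScheme U) hz)).trans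
      (Points.toScheme_ofScheme U u)⟩

/-- A property of morphisms of schemes local on the source for a class of coverings is, etale locally, local
on the source for the corresponding coverings of algebraic spaces. -/
theorem isLocalOnSource_locP (P : MorphismProperty Scheme.{u}) (K : Precoverage Scheme.{u})
    [P.IsLocalAtSource K] (W : MorphismProperty Scheme.{u}) (τ : CovNotion S)
    (hτ : ∀ ⦃ι : Type u⦄ ⦃X : Sp S⦄ (Xi : ι → Sp S) (g : ∀ i, Xi i ⟶ X), τ Xi g → ∀ i, LocP W (g i))
    (hext : ∀ {U' U : Scheme.{u}} (f : U' ⟶ U), W f → ∃ R ∈ K U, R f)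
    (het : ∀ {U' U : Scheme.{u}} (f : U' ⟶ U), Etale f → Surjective f → Presieve.singleton f ∈ K U)
    (hfam : ∀ ⦃ι : Type u⦄ ⦃X : Sp S⦄ (Xi : ι → Sp S) (g : ∀ i, Xi i ⟶ X), τ Xi g →
      ∀ (U : Over S) (a : (yon S).obj U ⟶ X), RepWith @Etale a →
      ∀ (U' : ι → Over S) (e : ∀ i, (yon S).obj (U' i) ⟶ pullback (g i) a) (v : ∀ i, U' i ⟶ U),
      (∀ i, RepWith @Etale (e i)) → (∀ i, RepWith @Surjective (e i)) →
      (∀ i, e i ≫ pullback.snd (g i) a = (yon S).map (v i)) → (∀ i, W (v i).left) →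
      Presieve.ofArrows (fun i => (U' i).left) (fun i => (v i).left) ∈ K U.left) :
    IsLocalOnSource τ (LocP P) := by
  intro ι X Xi g hX hXi hg Y f hY
  constructor
  · intro hf i U V a b h ha hb w
    obtain ⟨U₁, a₁, h₁, ha₁, ha₁', w₁⟩ := exists_chart_over hX hY f b
    let m : (yon S).obj U ⟶ pullback f b :=
      pullback.lift (a ≫ g i) ((yon S).map h) ((Category.assoc _ _ _).trans w)
    let π : ha₁.rep.pullback m ⟶ U := ha₁.rep.snd m
    let ρ : ha₁.rep.pullback m ⟶ U₁ := ha₁.rep.fst' m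
    have hρπ : (yon S).map ρ ≫ a₁ = (yon S).map π ≫ m := by
      rw [Functor.relativelyRepresentable.map_fst', ha₁.rep.w m]
    have hπ : Etale π.left := ha₁.property_snd m
    have hπ' : Surjective π.left := ha₁'.2 m _ _ (ha₁.rep.isPullback m)
    have hWρ : W ρ.left := hτ Xi g hg i ((yon S).map π ≫ a) (a₁ ≫ pullback.fst f b) ρ
      (repWith_comp ((repWith_yon_map_iff _ _).2 hπ) ha) (repWith_comp ha₁ (repWith_fst f hb)) (by
        rw [← Category.assoc _ a₁, hρπ, Category.assoc, Category.assoc, pullback.lift_fst])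
    have hh₁ : P h₁.left := hf (a₁ ≫ pullback.fst f b) b h₁ (repWith_comp ha₁ (repWith_fst f hb)) hb
      (by rw [Category.assoc, pullback.condition, ← Category.assoc, w₁])
    have hcomm : ρ ≫ h₁ = π ≫ h := by
      apply (yon S).map_injective
      rw [Functor.map_comp, Functor.map_comp, ← w₁, ← Category.assoc, hρπ, Category.assoc,
        pullback.lift_snd]
    obtain ⟨R, hR, hR'⟩ := hext ρ.left hWρ
    have h2 : P (ρ.left ≫ h₁.left) := MorphismProperty.IsLocalAtSource.comp hR _ hR' hh₁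
    rw [← Over.comp_left, hcomm, Over.comp_left] at h2
    refine MorphismProperty.IsLocalAtSource.of_forall_comp (het π.left hπ hπ') ?_
    rintro _ _ ⟨⟩
    exact h2
  · intro hf U V a b h ha hb w
    choose U' e v he he' hv using fun i => exists_chart_over (hXi i) hX (g i) a
    have hfst (i) : RepWith @Etale (e i ≫ pullback.fst (g i) a) :=
      repWith_comp (he i) (repWith_fst (g i) ha)
    have hw (i) : (e i ≫ pullback.fst (g i) a) ≫ g i = (yon S).map (v i) ≫ a := by
      rw [Category.assoc, pullback.condition, ← Category.assoc, hv i]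
    refine MorphismProperty.IsLocalAtSource.of_forall_comp
      (hfam Xi g hg U a ha U' e v he he' hv fun i => hτ Xi g hg i _ a _ (hfst i) ha (hw i)) ?_
    rintro _ _ ⟨i⟩
    rw [← Over.comp_left]
    refine hf i (e i ≫ pullback.fst (g i) a) b (v i ≫ h) (hfst i) hb ?_
    rw [← Category.assoc, hw i, Category.assoc, w, Functor.map_comp, Category.assoc]

section Precoverages

variable {P W : MorphismProperty Scheme.{u}}

theorem exists_mem_precoverage_of_mem [W.ContainsIdentities] {U' U : Scheme.{u}} (f : U' ⟶ U)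
    (hf : W f) : ∃ R ∈ Scheme.precoverage W U, R f := by
  let Z : ULift.{u} Bool → Scheme.{u} := fun b => Bool.rec U U' b.down
  let q : ∀ b, Z b ⟶ U := fun b => Bool.rec (motive := fun b => (Bool.rec U U' b : Scheme) ⟶ U) (𝟙 U) f b.down
  refine ⟨Presieve.ofArrows Z q, ?_, .mk (ULift.up true)⟩
  rw [Scheme.ofArrows_mem_precoverage_iff]
  exact ⟨fun x => ⟨⟨false⟩, x, rfl⟩, fun ⟨b⟩ => by cases b; exacts [W.id_mem U, hf]⟩

/-- The case of coverings which are jointly surjective families with a property. -/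
theorem isLocalOnSource_isCover [W.ContainsIdentities] [P.IsLocalAtSource (Scheme.precoverage W)]
    (hW : ∀ {U' U : Scheme.{u}} (f : U' ⟶ U), Etale f → W f) (τ : CovNotion S)
    (hτ : ∀ ⦃ι : Type u⦄ ⦃X : Sp S⦄ (Xi : ι → Sp S) (g : ∀ i, Xi i ⟶ X), τ Xi g → ∀ i, LocP W (g i))
    (hτ' : ∀ ⦃ι : Type u⦄ ⦃X : Sp S⦄ (Xi : ι → Sp S) (g : ∀ i, Xi i ⟶ X), τ Xi g →
      ∀ x : Points X, ∃ i, x ∈ Set.range (Points.map (g i))) :
    IsLocalOnSource τ (LocP P) := by
  refine isLocalOnSource_locP P (Scheme.precoverage W) W τ hτ exists_mem_precoverage_of_mem ?_ ?_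
  · intro U' U f hf hf'
    rw [Scheme.singleton_mem_precoverage_iff]
    exact ⟨f.surjective, hW f hf⟩
  · intro ι X Xi g hg U a _ U' e v _ he' hv hWv
    rw [Scheme.ofArrows_mem_precoverage_iff]
    refine ⟨fun x => ?_, hWv⟩
    obtain ⟨i, hi⟩ := hτ' Xi g hg (Points.ofPt a x)
    obtain ⟨y, hy⟩ := ((range_chart_over (IsPullback.of_hasPullback (g i) a) (he' i) (hv i)).symm ▸ hi :
      x ∈ Set.range (v i).left)
    exact ⟨i, y, hy⟩

end Precoverages

section Fpqc

variable {P : MorphismProperty Scheme.{u}}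

/-- The chart of a base change of an fpqc covering is an fpqc covering of schemes. -/
theorem ofArrows_mem_fpqcPrecoverage_of_chart {ι : Type u} {X : Sp S} (Xi : ι → Sp S)
    (g : ∀ i, Xi i ⟶ X) (hg : IsFpqcCover Xi g) (U : Over S) (a : (yon S).obj U ⟶ X) (U' : ι → Over S)
    (e : ∀ i, (yon S).obj (U' i) ⟶ pullback (g i) a) (v : ∀ i, U' i ⟶ U)
    (he : ∀ i, RepWith @Etale (e i)) (he' : ∀ i, RepWith @Surjective (e i))
    (hv : ∀ i, e i ≫ pullback.snd (g i) a = (yon S).map (v i)) (hflat : ∀ i, Flat (v i).left) :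
    Presieve.ofArrows (fun i => (U' i).left) (fun i => (v i).left) ∈ Scheme.fpqcPrecoverage U.left := by
  have key : ∀ (Z : U.left.Opens), IsAffineOpen Z →
      IsCompactOpenCovered (fun i (t : ↥(U' i).left) => (v i).left t) (Z : Set U.left) := by
    intro Z hZ
    let Z₀ : Over S := Over.mk (Z.ι ≫ U.hom)
    let ιZ : Z₀ ⟶ U := Over.homMk Z.ι rfl
    obtain ⟨m, W, c, hW, -, hsurj, hl⟩ := hg.2 Z₀ hZ ((yon S).map ιZ ≫ a)
    choose i l hl using hl
    have H (j : Fin m) : ∃ V : (U' (i j)).left.Opens, IsCompact (V : Set (U' (i j)).left) ∧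
        (v (i j)).left '' V ⊆ Z ∧ Set.range (c j ≫ ιZ).left ⊆ (v (i j)).left '' V := by
      let l' : (yon S).obj (W j) ⟶ pullback (g (i j)) a :=
        pullback.lift (l j) ((yon S).map (c j ≫ ιZ))
          (by rw [hl, Functor.map_comp, Category.assoc])
      let r := (he (i j)).rep.snd l'
      let s := (he (i j)).rep.fst' l'
      have hr : Etale r.left := (he (i j)).property_snd l'
      have hr' : Surjective r.left := (he' (i j)).2 l' _ _ ((he (i j)).rep.isPullback l')
      have hrs : s ≫ v (i j) = r ≫ c j ≫ ιZ := by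
        apply (yon S).map_injective
        rw [Functor.map_comp, ← hv (i j), ← Category.assoc, Functor.relativelyRepresentable.map_fst',
          (he (i j)).rep.w l', Category.assoc, pullback.lift_snd, ← Functor.map_comp]
      have := hW j
      obtain ⟨Ω, hΩ, hΩ'⟩ := r.left.isOpenMap.exists_opens_image_eq_of_prespectralSpace
        r.left.continuous (by simp) isOpen_univ isCompact_univ
      have hsub : s.left '' (Ω : Set _) ⊆ ((v (i j)).left ⁻¹ᵁ Z : Set (U' (i j)).left) := by
        rintro _ ⟨w, -, rfl⟩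
        have h2 := congrArg (fun q => q.left w) hrs
        simp only [Over.comp_left, Scheme.Hom.comp_apply] at h2
        show (v (i j)).left (s.left w) ∈ Z
        rw [h2]
        exact ((c j).left (r.left w)).2
      obtain ⟨t, ht⟩ := (hΩ.image s.left.continuous).elim_finite_subcover
        (fun K : {K : Set (U' (i j)).left // IsOpen K ∧ IsCompact K ∧ K ⊆ (v (i j)).left ⁻¹ᵁ Z} => K.1)
        (fun K => K.2.1) fun y hy => by
          obtain ⟨K, hK, hyK, hKZ⟩ := PrespectralSpace.isTopologicalBasis.exists_subset_of_mem_open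
            (hsub hy) ((v (i j)).left ⁻¹ᵁ Z).2
          exact Set.mem_iUnion.2 ⟨⟨K, hK.1, hK.2, hKZ⟩, hyK⟩
      let K : Set (U' (i j)).left := ⋃ K ∈ t, K.1
      have hK₂ : s.left '' (Ω : Set _) ⊆ K := ht
      have hK₃ : K ⊆ (v (i j)).left ⁻¹ᵁ Z := Set.iUnion₂_subset fun K _ => K.2.2.2
      refine ⟨⟨K, isOpen_biUnion fun K _ => K.2.1⟩,
        t.finite_toSet.isCompact_biUnion fun K _ => K.2.2.1, Set.image_subset_iff.2 hK₃, ?_⟩
      rintro _ ⟨x, rfl⟩
      obtain ⟨w, hw, rfl⟩ := hΩ'.ge (Set.mem_univ x)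
      refine ⟨s.left w, hK₂ ⟨w, hw, rfl⟩, ?_⟩
      rw [← Scheme.Hom.comp_apply, ← Over.comp_left, hrs, Over.comp_left, Scheme.Hom.comp_apply]
    choose V hVc hVZ hVc' using H
    refine IsCompactOpenCovered.of_finite (fun j => i j) V hVc ?_
    refine Set.Subset.antisymm (Set.iUnion_subset hVZ) fun x hx => ?_
    obtain ⟨j, y, hy⟩ := hsurj (⟨x, hx⟩ : Z)
    exact Set.mem_iUnion.2 ⟨j, hVc' j ⟨y, congrArg Subtype.val hy⟩⟩
  refine ⟨?_, ?_⟩
  · have h : (PreZeroHypercover.mk ι (fun i => (U' i).left) (fun i => (v i).left)).presieve₀ ∈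
        Scheme.qcPrecoverage U.left :=
      Scheme.presieve₀_mem_qcPrecoverage_iff.2 ⟨fun {Z} hZ => key Z hZ⟩
    exact h
  · rw [Scheme.ofArrows_mem_precoverage_iff]
    refine ⟨fun x => ?_, hflat⟩
    obtain ⟨Z, hZ, hx, -⟩ := Opens.isBasis_iff_nbhd.1 U.left.isBasis_affineOpens (Opens.mem_top x)
    obtain ⟨s, -, V, -, hV⟩ := key Z hZ
    obtain ⟨i, -, y, -, hy⟩ := Set.mem_iUnion₂.1 (hV.ge hx)
    exact ⟨i, y, hy⟩

theorem exists_mem_fpqcPrecoverage_of_flat {U' U : Scheme.{u}} (f : U' ⟶ U) (hf : Flat f) :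
    ∃ R ∈ Scheme.fpqcPrecoverage U, R f := by
  let Z : ULift.{u} Bool → Scheme.{u} := fun b => Bool.rec U U' b.down
  let q : ∀ b, Z b ⟶ U := fun b => Bool.rec (motive := fun b => (Bool.rec U U' b : Scheme) ⟶ U) (𝟙 U) f b.down
  refine ⟨Presieve.ofArrows Z q, ⟨?_, ?_⟩, .mk (ULift.up true)⟩
  · have h : (PreZeroHypercover.mk _ Z q).presieve₀ ∈ Scheme.qcPrecoverage U := by
      refine Scheme.presieve₀_mem_qcPrecoverage_iff.2 ⟨fun {V} hV => ?_⟩
      exact IsCompactOpenCovered.of_finite (fun _ : Unit => ULift.up false) (fun _ => V)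
        (fun _ => hV.isCompact) (by rw [Set.iUnion_const]; exact Set.image_id _)
    exact h
  · rw [Scheme.ofArrows_mem_precoverage_iff]
    exact ⟨fun x => ⟨⟨false⟩, x, rfl⟩, fun ⟨b⟩ => by cases b; exacts [inferInstanceAs (Flat (𝟙 U)), hf]⟩

/-- Properties of schemes local on the source in the fpqc topology. -/
theorem isLocalOnSource_fpqc [P.IsLocalAtSource Scheme.fpqcPrecoverage] :
    IsLocalOnSource (IsFpqcCover (S := S)) (LocP P) := by
  refine isLocalOnSource_locP P Scheme.fpqcPrecoverage @Flat _ (fun _ _ _ _ hg => hg.1)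
    exists_mem_fpqcPrecoverage_of_flat ?_ ?_
  · intro U' U f hf hf'
    apply Scheme.fppfPrecoverage_le_fpqcPrecoverage
    rw [Scheme.fppfPrecoverage, Scheme.singleton_mem_precoverage_iff]
    exact ⟨f.surjective, inferInstance, inferInstance⟩
  · exact fun ι X Xi g hg U a _ U' e v he he' hv hWv =>
      ofArrows_mem_fpqcPrecoverage_of_chart Xi g hg U a U' e v he he' hv hWv

end Fpqc


end Groth.Agent.AlgSpLib
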