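import Mathlib.AlgebraicGeometry.Morphisms.UniversallyOpen
import Groth.Agent.AlgSpLib.EtLocalInst
import Groth.Agent.AlgSpLib.LocalBase
import Groth.Agent.AlgSpLib.LocalSource

/-!
# Fppf and fpqc coverings of algebraic spaces
-/

set_option backward.isDefEq.respectTransparency false
set_option backward.isDefEq.respectTransparency.types false

universe u

open CategoryTheory CategoryTheory.Limits AlgebraicGeometry Opposite AlgSp

namespace Groth.Agent.AlgSpLib

variable {S : Scheme.{u}}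

/-- Finitely many affine opens of an open jointly surjective family cover an affine target. -/
theorem exists_affine_refinement {ι : Type*} {Z : Over S} [IsAffine Z.left] (U : ι → Over S)
    (v : ∀ i, U i ⟶ Z) (hopen : ∀ i, IsOpenMap (v i).left)
    (hsurj : ∀ z : Z.left, ∃ i, z ∈ Set.range (v i).left) :
    ∃ (m : ℕ) (W : Fin m → Over S) (idx : Fin m → ι) (k : ∀ j, W j ⟶ U (idx j)),
      (∀ j, IsAffine (W j).left) ∧ (∀ j, IsOpenImmersion (k j).left) ∧
      ∀ z : Z.left, ∃ j, z ∈ Set.range (k j ≫ v (idx j)).left := by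
  obtain ⟨t, ht⟩ := (isCompact_univ (X := Z.left)).elim_finite_subcover
    (fun p : Σ i, (U i).left.affineOpens => (v p.1).left '' (p.2.1 : Set (U p.1).left))
    (fun p => hopen p.1 _ p.2.1.2) (fun z _ => by
      obtain ⟨i, y, rfl⟩ := hsurj z
      obtain ⟨K, hK, hy, -⟩ := TopologicalSpace.Opens.isBasis_iff_nbhd.1 (U i).left.isBasis_affineOpens
        (TopologicalSpace.Opens.mem_top y)
      exact Set.mem_iUnion.2 ⟨⟨i, K, hK⟩, y, hy, rfl⟩)
  let e := t.equivFin.symm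
  refine ⟨t.card, fun j => Over.mk ((e j).1.2.1.ι ≫ (U (e j).1.1).hom), fun j => (e j).1.1,
    fun j => Over.homMk (e j).1.2.1.ι rfl, fun j => (e j).1.2.2, fun j => ?_, fun z => ?_⟩
  · exact inferInstanceAs (IsOpenImmersion (e j).1.2.1.ι)
  · obtain ⟨p, hp, y, hy, hyz⟩ := Set.mem_iUnion₂.1 (ht (Set.mem_univ z))
    obtain ⟨j, hj⟩ := e.surjective ⟨p, hp⟩
    have hj' : (e j).1 = p := congrArg Subtype.val hj
    subst hj'
    exact ⟨j, ⟨y, hy⟩, by simp only [Over.comp_left, Scheme.Hom.comp_apply]; exact hyz⟩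

/-- The charts over a scheme mapping to the target of an fppf covering. -/
theorem exists_fppf_family {ι : Type u} {X : Sp S} (hX : IsAlgSpace X) {Xi : ι → Sp S}
    (hXi : ∀ i, IsAlgSpace (Xi i)) (g : ∀ i, Xi i ⟶ X) (hg : IsFppfCover Xi g) {T : Over S}
    (t : (yon S).obj T ⟶ X) :
    ∃ (U : ι → Over S) (l : ∀ i, (yon S).obj (U i) ⟶ Xi i) (v : ∀ i, U i ⟶ T),
      (∀ i, l i ≫ g i = (yon S).map (v i) ≫ t) ∧ (∀ i, Flat (v i).left) ∧
      (∀ i, LocallyOfFinitePresentation (v i).left) ∧ ∀ x : T.left, ∃ i, x ∈ Set.range (v i).left := by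
  choose U e v he he' hv using fun i => exists_chart_over (hXi i) hX (g i) t
  have hP : ∀ (P : MorphismProperty Scheme.{u}) [IsEtLocal P] (i), LocP P (g i) → P (v i).left :=
    fun P _ i h => locP_of_isPullback (IsPullback.of_hasPullback (g i) t) (hXi i) hX
      (IsAlgSpace.yon_obj T) h (e i) (𝟙 _) (v i) (he i) (repWith_id _ T) (by rw [hv i, Category.comp_id])
  refine ⟨U, fun i => e i ≫ pullback.fst (g i) t, v, fun i => ?_, fun i => hP @Flat i (hg.1 i).1,
    fun i => hP @LocallyOfFinitePresentation i (hg.1 i).2, fun x => ?_⟩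
  · rw [Category.assoc, pullback.condition, ← Category.assoc, hv i]
  · obtain ⟨i, hi⟩ := hg.2 (Points.ofPt t x)
    exact ⟨i, (range_chart_over (IsPullback.of_hasPullback (g i) t) (he' i) (hv i)).ge hi⟩

theorem isFpqcCover_of_isFppfCover {ι : Type u} {X : Sp S} (hX : IsAlgSpace X) {Xi : ι → Sp S}
    (hXi : ∀ i, IsAlgSpace (Xi i)) (g : ∀ i, Xi i ⟶ X) (hg : IsFppfCover Xi g) : IsFpqcCover Xi g := by
  refine ⟨fun i => (hg.1 i).1, fun Z hZ h => ?_⟩
  obtain ⟨U, l, v, hl, hfl, hfp, hs⟩ := exists_fppf_family hX hXi g hg h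
  obtain ⟨m, W, idx, k, hW, hk, hWs⟩ := exists_affine_refinement U v
    (fun i => have := hfl i; have := hfp i; (v i).left.isOpenMap) hs
  refine ⟨m, W, fun j => k j ≫ v (idx j), hW, fun j => ?_, hWs, fun j => ⟨idx j, (yon S).map (k j) ≫ l _, ?_⟩⟩
  · have := hk j
    have := hfl (idx j)
    exact inferInstanceAs (Flat ((k j).left ≫ (v (idx j)).left))
  · rw [Category.assoc, hl, Functor.map_comp, Category.assoc]

/-- An etale surjection from an algebraic space is an fppf covering. -/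
theorem isFppfCover_of_repWith_etale {U : Over S} {X : Sp S} {p : (yon S).obj U ⟶ X}
    (hp : RepWith @Etale p) (hp' : RepWith @Surjective p) :
    IsFppfCover (fun _ : PUnit.{u+1} => (yon S).obj U) (fun _ => p) := by
  refine ⟨fun _ => ⟨?_, ?_⟩, fun x => ⟨⟨⟩, surjective_map_of_repWith hp' x⟩⟩
  · exact locP_mono (P := @Etale) (Q := @Flat) (fun _ _ f (_ : Etale f) => inferInstanceAs (Flat f))
      (locP_of_repWith hp)
  · exact locP_mono (P := @Etale) (Q := @LocallyOfFinitePresentation)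
      (fun _ _ f (_ : Etale f) => inferInstanceAs (LocallyOfFinitePresentation f)) (locP_of_repWith hp)

theorem isFpqcCover_of_isPullback {ι : Type u} {X X' : Sp S} (hX : IsAlgSpace X) (hX' : IsAlgSpace X')
    {a : X' ⟶ X} {Xi Xi' : ι → Sp S} (hXi : ∀ i, IsAlgSpace (Xi i)) {g : ∀ i, Xi i ⟶ X}
    {q : ∀ i, Xi' i ⟶ X'} {p : ∀ i, Xi' i ⟶ Xi i} (sq : ∀ i, IsPullback (q i) (p i) a (g i))
    (h : IsFpqcCover Xi g) : IsFpqcCover Xi' q := by
  refine ⟨fun i => locP_of_isPullback (sq i).flip (hXi i) hX hX' (h.1 i), fun Z hZ b => ?_⟩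
  obtain ⟨m, W, c, hW, hc, hs, hl⟩ := h.2 Z hZ (b ≫ a)
  refine ⟨m, W, c, hW, hc, hs, fun j => ?_⟩
  obtain ⟨i, l, hl⟩ := hl j
  refine ⟨i, (sq i).lift ((yon S).map (c j) ≫ b) l ((Category.assoc _ _ _).trans hl.symm), ?_⟩
  rw [IsPullback.lift_fst]

theorem isFpqcCover_sigma {ι : Type u} {X : Sp S} (hX : IsAlgSpace X) {Xi : ι → Sp S}
    (hXi : ∀ i, IsAlgSpace (Xi i)) {g : ∀ i, Xi i ⟶ X} {κ : ι → Type u} {Xij : ∀ i, κ i → Sp S}
    (hXij : ∀ i j, IsAlgSpace (Xij i j)) {gij : ∀ i j, Xij i j ⟶ Xi i} (h : IsFpqcCover Xi g)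
    (hij : ∀ i, IsFpqcCover (Xij i) (gij i)) :
    IsFpqcCover (fun r : Σ i, κ i => Xij r.1 r.2) (fun r => gij r.1 r.2 ≫ g r.1) := by
  refine ⟨fun r => locP_comp (hXij _ _) (hXi _) hX ((hij r.1).1 r.2) (h.1 r.1), fun Z hZ b => ?_⟩
  obtain ⟨m, W, c, hW, hc, hs, hl⟩ := h.2 Z hZ b
  choose i l hl using hl
  choose m' W' c' hW' hc' hs' hl' using fun j => (hij (i j)).2 (W j) (hW j) (l j)
  choose i' l' hl' using hl'
  let e := (Fintype.equivFin (Σ j : Fin m, Fin (m' j))).symm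
  refine ⟨_, fun r => W' (e r).1 (e r).2, fun r => c' (e r).1 (e r).2 ≫ c (e r).1, fun r => hW' _ _,
    fun r => ?_, fun z => ?_, fun r => ⟨⟨i (e r).1, i' (e r).1 (e r).2⟩, l' (e r).1 (e r).2, ?_⟩⟩
  · have := hc (e r).1
    have := hc' (e r).1 (e r).2
    exact inferInstanceAs (Flat ((c' (e r).1 (e r).2).left ≫ (c (e r).1).left))
  · obtain ⟨j, y, rfl⟩ := hs z
    obtain ⟨k, w, rfl⟩ := hs' j y
    obtain ⟨r, hr⟩ := e.surjective ⟨j, k⟩
    exact ⟨r, (congrArg (fun s : Σ j : Fin m, Fin (m' j) => Set.range (c' s.1 s.2 ≫ c s.1).left) hr).ge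
      ⟨w, by simp only [Over.comp_left, Scheme.Hom.comp_apply]⟩⟩
  · rw [← Category.assoc, hl', Category.assoc, hl, Functor.map_comp, Category.assoc]

theorem isFpqcCover_iff_of_chart {ι : Type u} {X : Sp S} (hX : IsAlgSpace X) {Xi : ι → Sp S}
    (hXi : ∀ i, IsAlgSpace (Xi i)) (g : ∀ i, Xi i ⟶ X) {U : Over S} {p : (yon S).obj U ⟶ X}
    (hp : RepWith @Etale p) (hps : RepWith @Surjective p) {Ui : ι → Sp S}
    (hUi : ∀ i, IsAlgSpace (Ui i)) (q : ∀ i, Ui i ⟶ (yon S).obj U) (p' : ∀ i, Ui i ⟶ Xi i)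
    (sq : ∀ i, IsPullback (q i) (p' i) p (g i)) : IsFpqcCover Xi g ↔ IsFpqcCover Ui q := by
  refine ⟨isFpqcCover_of_isPullback hX (IsAlgSpace.yon_obj U) hXi sq, fun h => ⟨fun i => ?_, ?_⟩⟩
  · exact (isLocalOnBase_fpqc_locP (P := @Flat) _ _ hX (fun _ => IsAlgSpace.yon_obj U)
      (isFpqcCover_of_isFppfCover hX (fun _ => IsAlgSpace.yon_obj U) _ (isFppfCover_of_repWith_etale hp hps))
      (g i) (hXi i) (fun _ => Ui i) (fun _ => q i) (fun _ => p' i) (fun _ => hUi i)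
      (fun _ => (sq i).flip)).2 fun _ => h.1 i
  · intro Z hZ b
    have : IsAffine Z.left := hZ
    let T := hp.rep.pullback b
    let r : T ⟶ Z := hp.rep.snd b
    have hr : Etale r.left := hp.property_snd b
    have hr' : Surjective r.left := hps.2 b _ _ (hp.rep.isPullback b)
    obtain ⟨m, W, idx, k, hW, hk, hWs⟩ := exists_affine_refinement (fun _ : Unit => T) (fun _ => r)
      (fun _ => r.left.isOpenMap) (fun z => ⟨(), r.left.surjective z⟩)
    choose m' W' c' hW' hc' hs' hl' using fun j => h.2 (W j) (hW j) ((yon S).map (k j) ≫ hp.rep.fst b)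
    choose i l hl using hl'
    let e := (Fintype.equivFin (Σ j : Fin m, Fin (m' j))).symm
    refine ⟨_, fun n => W' (e n).1 (e n).2, fun n => c' (e n).1 (e n).2 ≫ k (e n).1 ≫ r, fun n => hW' _ _,
      fun n => ?_, fun z => ?_, fun n => ⟨i (e n).1 (e n).2, l (e n).1 (e n).2 ≫ p' _, ?_⟩⟩
    · have := hk (e n).1
      have := hc' (e n).1 (e n).2
      exact inferInstanceAs (Flat ((c' (e n).1 (e n).2).left ≫ (k (e n).1).left ≫ r.left))
    · obtain ⟨j, y, rfl⟩ := hWs z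
      obtain ⟨kk, w, rfl⟩ := hs' j y
      obtain ⟨n, hn⟩ := e.surjective ⟨j, kk⟩
      exact ⟨n, (congrArg (fun s : Σ j : Fin m, Fin (m' j) =>
        Set.range (c' s.1 s.2 ≫ k s.1 ≫ r).left) hn).ge
        ⟨w, by simp only [Over.comp_left, Scheme.Hom.comp_apply]⟩⟩
    · rw [Category.assoc, ← (sq _).w, ← Category.assoc, hl, Category.assoc, Category.assoc, hp.rep.w b,
        Functor.map_comp, Functor.map_comp]
      simp only [Category.assoc]
      rfl

theorem exists_fppf_local_lift {ι : Type u} {X : Sp S} (hX : IsAlgSpace X) {Xi : ι → Sp S}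
    (hXi : ∀ i, IsAlgSpace (Xi i)) (g : ∀ i, Xi i ⟶ X) (hg : IsFppfCover Xi g) (T : Over S)
    (t : (yon S).obj T ⟶ X) :
    ∃ (κ : Type u) (Tk : κ → Over S) (c : ∀ k, Tk k ⟶ T), Sieve.ofArrows Tk c ∈ J S T ∧
      ∀ k, ∃ (i : ι) (l : (yon S).obj (Tk k) ⟶ Xi i), l ≫ g i = (yon S).map (c k) ≫ t := by
  obtain ⟨U, l, v, hl, hfl, hfp, hs⟩ := exists_fppf_family hX hXi g hg t
  refine ⟨ι, U, v, ?_, fun k => ⟨k, l k, hl k⟩⟩
  rw [GrothendieckTopology.mem_over_iff]
  have hmem : Presieve.ofArrows (fun i => (U i).left) (fun i => (v i).left) ∈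
      Scheme.fppfPrecoverage T.left := by
    rw [Scheme.fppfPrecoverage, Scheme.ofArrows_mem_precoverage_iff]
    exact ⟨hs, fun i => ⟨hfl i, hfp i⟩⟩
  refine GrothendieckTopology.superset_covering _ ?_ (Precoverage.generate_mem_toGrothendieck hmem)
  rw [Sieve.generate_le_iff]
  rintro _ _ ⟨i⟩
  rw [Sieve.overEquiv_iff]
  convert Sieve.ofArrows_mk U v i |> (Sieve.ofArrows U v).downward_closed <|
    (Over.homMk (U := Over.mk ((v i).left ≫ T.hom)) (V := U i) (𝟙 _) (by simp)) using 1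
  ext
  simp

end Groth.Agent.AlgSpLib
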