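import Mathlib.AlgebraicGeometry.ZariskisMainTheorem
import Groth.Agent.AlgSpLib.Descends

/-!
# Quasi-compactness and closed immersions descend along fpqc base change
-/

set_option backward.isDefEq.respectTransparency false
set_option backward.isDefEq.respectTransparency.types false

universe u

open CategoryTheory CategoryTheory.Limits AlgebraicGeometry MorphismProperty

namespace Groth.Agent.AlgSpLib

theorem quasiCompact_of_comp_surjective {X Y Z : Scheme.{u}} (f : X ⟶ Y) (g : Y ⟶ Z) [Surjective f]
    [QuasiCompact (f ≫ g)] : QuasiCompact g := by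
  refine ⟨fun U hU hU' => ?_⟩
  have h := (QuasiCompact.isCompact_preimage (f := f ≫ g) U hU hU').image f.continuous
  have e : f '' ((f ≫ g) ⁻¹' U) = g ⁻¹' U := by
    ext y
    constructor
    · rintro ⟨x, hx, rfl⟩
      simpa [Scheme.Hom.comp_apply] using hx
    · intro hy
      obtain ⟨x, rfl⟩ := f.surjective y
      exact ⟨x, by simpa [Scheme.Hom.comp_apply] using hy, rfl⟩
  rwa [e] at h

instance : DescendsAlong (@QuasiCompact : MorphismProperty Scheme.{u})
    (@Surjective ⊓ @Flat ⊓ @QuasiCompact) where
  of_isPullback {A X Y Z fst snd f g} h hf hfst := by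
    have : Surjective f := hf.1.1
    have : QuasiCompact f := hf.2
    have : Surjective snd := MorphismProperty.of_isPullback h ‹Surjective f›
    have : QuasiCompact fst := hfst
    have h1 : QuasiCompact (snd ≫ g) := by rw [← h.w]; infer_instance
    exact quasiCompact_of_comp_surjective snd g

theorem mono_of_descends {A X Y Z : Scheme.{u}} {fst : A ⟶ X} {snd : A ⟶ Y} {f : X ⟶ Z} {g : Y ⟶ Z}
    (h : IsPullback fst snd f g) (hf : (@Surjective ⊓ @Flat ⊓ @QuasiCompact : MorphismProperty Scheme) f)
    [Mono fst] : Mono g := by
  rw [← pullback.isIso_diagonal_iff]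
  exact MorphismProperty.of_isPullback_of_descendsAlong
    (P := (MorphismProperty.isomorphisms Scheme).diagonal) (Q := @Surjective ⊓ @Flat ⊓ @QuasiCompact) h hf
    ((pullback.isIso_diagonal_iff fst).2 inferInstance)

instance : DescendsAlong (@IsClosedImmersion : MorphismProperty Scheme.{u})
    (@Surjective ⊓ @Flat ⊓ @QuasiCompact) where
  of_isPullback {A X Y Z fst snd f g} h hf hfst := by
    have : IsClosedImmersion fst := hfst
    have : Mono g := mono_of_descends h hf
    have : UniversallyClosed g := MorphismProperty.of_isPullback_of_descendsAlong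
      (P := @UniversallyClosed) (Q := @Surjective ⊓ @Flat ⊓ @QuasiCompact) h hf inferInstance
    have : LocallyOfFiniteType g := MorphismProperty.of_isPullback_of_descendsAlong
      (P := @LocallyOfFiniteType) (Q := @Surjective ⊓ @Flat ⊓ @QuasiCompact) h hf inferInstance
    exact (IsClosedImmersion.iff_isProper_and_mono g).2 ⟨{}, inferInstance⟩

end Groth.Agent.AlgSpLib
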