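import Groth.Agent.AlgSpLib.Covers

/-!
# Monomorphisms, isomorphisms and open immersions are local on the base in the fpqc topology
-/

set_option backward.isDefEq.respectTransparency false
set_option backward.isDefEq.respectTransparency.types false

universe u

open CategoryTheory CategoryTheory.Limits AlgebraicGeometry Opposite AlgSp

namespace Groth.Agent.AlgSpLib

variable {S : Scheme.{u}}

/-- To prove a property of a morphism of schemes it is enough to prove it after affine flat jointly surjective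
covers of affine opens of the target. -/
theorem property_of_affine_flat_covers {P : MorphismProperty Scheme.{u}} [IsZariskiLocalAtTarget P]
    [P.DescendsAlong (@Surjective ⊓ @Flat ⊓ @QuasiCompact)] {A B : Scheme.{u}} (e : A ⟶ B)
    (H : ∀ Z : B.affineOpens, ∃ (m : ℕ) (W : Fin m → Scheme.{u}) (c : ∀ j, W j ⟶ Z.1),
      (∀ j, IsAffine (W j)) ∧ (∀ j, Flat (c j)) ∧ (∀ z : Z.1, ∃ j, z ∈ Set.range (c j)) ∧
      ∀ j, P (pullback.snd e (c j ≫ Z.1.ι))) : P e := by
  rw [IsZariskiLocalAtTarget.iff_of_iSup_eq_top (P := P) _ (iSup_affineOpens_eq_top B)]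
  intro Z
  obtain ⟨m, W, c, hW, hc, hsurj, hP⟩ := H Z
  let C : (∐ W) ⟶ Z.1 := Sigma.desc c
  have : Surjective C := ⟨fun z => by
    obtain ⟨j, y, hy⟩ := hsurj z
    exact ⟨Sigma.ι W j y, by rw [← Scheme.Hom.comp_apply, Sigma.ι_desc]; exact hy⟩⟩
  have : Flat C := by
    rw [IsZariskiLocalAtSource.iff_of_openCover (P := @Flat) (sigmaOpenCover _)]
    intro j
    rw [sigmaOpenCover_f, Sigma.ι_desc]
    exact hc j
  have : IsAffine (Z.1 : Scheme.{u}) := Z.2
  have := hW
  refine MorphismProperty.of_pullback_snd_of_descendsAlong (P := P)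
    (Q := @Surjective ⊓ @Flat ⊓ @QuasiCompact) (g := C) ⟨⟨‹_›, ‹_›⟩, inferInstance⟩ ?_
  rw [IsZariskiLocalAtTarget.iff_of_openCover (P := P) (sigmaOpenCover _)]
  intro j
  have s1 := ((IsPullback.of_hasPullback (pullback.snd (e ∣_ Z.1) C)
      ((sigmaOpenCover W).f j)).paste_horiz
    (IsPullback.of_hasPullback (e ∣_ Z.1) C)).paste_horiz (isPullback_morphismRestrict e Z.1).flip
  rw [show (sigmaOpenCover W).f j ≫ C = c j by rw [sigmaOpenCover_f, Sigma.ι_desc]] at s1
  refine (P.cancel_left_of_respectsIso s1.isoPullback.inv _).1 ?_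
  rw [Scheme.Cover.pullbackHom, s1.isoPullback_inv_snd]
  exact hP j

/-- The affine cover of an affine open of a test scheme given by an fpqc covering. -/
theorem exists_lifting_cover {ι : Type u} {X : Sp S} {Xi : ι → Sp S} {g : ∀ i, Xi i ⟶ X}
    (hg : IsFpqcCover Xi g) {T : Over S} (t : (yon S).obj T ⟶ X) (Z : T.left.affineOpens) :
    ∃ (m : ℕ) (W : Fin m → Over S) (c : ∀ j, W j ⟶ T) (d : ∀ j, (W j).left ⟶ Z.1),
      (∀ j, IsAffine (W j).left) ∧ (∀ j, Flat (d j)) ∧ (∀ z : Z.1, ∃ j, z ∈ Set.range (d j)) ∧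
      (∀ j, d j ≫ Z.1.ι = (c j).left) ∧
      ∀ j, ∃ (i : ι) (l : (yon S).obj (W j) ⟶ Xi i), l ≫ g i = (yon S).map (c j) ≫ t := by
  let Z₀ : Over S := Over.mk (Z.1.ι ≫ T.hom)
  let ιZ : Z₀ ⟶ T := Over.homMk Z.1.ι rfl
  obtain ⟨m, W, c, hW, hc, hsurj, hl⟩ := hg.2 Z₀ Z.2 ((yon S).map ιZ ≫ t)
  refine ⟨m, W, fun j => c j ≫ ιZ, fun j => (c j).left, hW, hc, hsurj, fun j => rfl, fun j => ?_⟩
  obtain ⟨i, l, hl⟩ := hl j
  exact ⟨i, l, by rw [hl, Functor.map_comp, Category.assoc]⟩

theorem exists_point_of_fpqcCover {ι : Type u} {X : Sp S} {Xi : ι → Sp S} {g : ∀ i, Xi i ⟶ X}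
    (hg : IsFpqcCover Xi g) (x : Points X) : ∃ i, x ∈ Set.range (Points.map (g i)) := by
  obtain ⟨T, t, p, -, rfl⟩ := exists_ofPt_eq x
  obtain ⟨Z, hZ, hp, -⟩ := TopologicalSpace.Opens.isBasis_iff_nbhd.1 T.left.isBasis_affineOpens
    (TopologicalSpace.Opens.mem_top p)
  obtain ⟨m, W, c, d, -, -, hsurj, hd, hl⟩ := exists_lifting_cover hg t ⟨Z, hZ⟩
  obtain ⟨j, w, hw⟩ := hsurj ⟨p, hp⟩
  obtain ⟨i, l, hl⟩ := hl j
  refine ⟨i, Points.ofPt l w, ?_⟩
  rw [Points.map_ofPt, hl, ofPt_comp, ← hd, Scheme.Hom.comp_apply, hw]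
  rfl

/-- A morphism of sheaves is a monomorphism if it is injective on maps from schemes. -/
theorem mono_of_yon_injective {X Y : Sp S} {f : X ⟶ Y}
    (H : ∀ (T : Over S) (a b : (yon S).obj T ⟶ X), a ≫ f = b ≫ f → a = b) : Mono f := by
  refine ⟨fun {K} a b hab => ?_⟩
  apply Sheaf.hom_ext
  ext T s
  let t : (yon S).obj T.unop ⟶ K := (J S).uliftYonedaEquiv.{u + 1}.symm s
  have h1 := H T.unop (t ≫ a) (t ≫ b) (by rw [Category.assoc, Category.assoc, hab])
  have h2 := congrArg (J S).uliftYonedaEquiv.{u + 1} h1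
  rwa [GrothendieckTopology.uliftYonedaEquiv_comp, GrothendieckTopology.uliftYonedaEquiv_comp,
    Equiv.apply_symm_apply] at h2

section

variable {ι : Type u} {X Y : Sp S} {Yi Xi : ι → Sp S} {g : ∀ i, Yi i ⟶ Y} {f : X ⟶ Y}
  {p : ∀ i, Xi i ⟶ Yi i} {q : ∀ i, Xi i ⟶ X}

/-- A morphism from an algebraic space which becomes a monomorphism on an fpqc covering is a monomorphism. -/
theorem mono_of_fpqc (hX : IsAlgSpace X) (hg : IsFpqcCover Yi g)
    (sq : ∀ i, IsPullback (q i) (p i) f (g i)) (hp : ∀ i, Mono (p i)) : Mono f := by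
  have key : ∀ (T : Over S) (h h' : (yon S).obj T ⟶ X), h ≫ f = h' ≫ f → h = h' := by
    intro T h h' hh
    let hr := hX.diag
    let d : (yon S).obj T ⟶ X ⨯ X := prod.lift h h'
    let e : hr.pullback d ⟶ T := hr.snd d
    have hme : Mono ((yon S).map e) :=
      MorphismProperty.of_isPullback (P := MorphismProperty.monomorphisms _) (hr.isPullback d)
        (inferInstanceAs (Mono (Limits.diag X)))
    have : Mono e := (yon S).mono_of_mono_map hme
    have hiso : IsIso e.left := by
      refine property_of_affine_flat_covers (P := MorphismProperty.isomorphisms _) e.left fun Z => ?_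
      obtain ⟨m, W, c, d', hW, hd', hsurj, hc, hl⟩ := exists_lifting_cover hg (h ≫ f) Z
      refine ⟨m, fun j => (W j).left, d', hW, hd', hsurj, fun j => ?_⟩
      obtain ⟨i, l, hl⟩ := hl j
      have hl' : l ≫ g i = (yon S).map (c j) ≫ h' ≫ f := by rw [hl, hh]
      let a := (sq i).lift ((yon S).map (c j) ≫ h) l ((Category.assoc _ _ _).trans hl.symm)
      let a' := (sq i).lift ((yon S).map (c j) ≫ h') l ((Category.assoc _ _ _).trans hl'.symm)
      have := hp i
      have haa : a = a' := by
        rw [← cancel_mono (p i), IsPullback.lift_snd, IsPullback.lift_snd]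
      have heq : (yon S).map (c j) ≫ h = (yon S).map (c j) ≫ h' := by
        have := congrArg (· ≫ q i) haa
        simp only [a, a', IsPullback.lift_fst] at this
        exact this
      let s : W j ⟶ hr.pullback d :=
        hr.lift ((yon S).map (c j) ≫ h) (c j) (by
          apply prod.hom_ext
          · simp [d]
          · simpa [d] using heq)
      have hs : s ≫ e = c j := hr.lift_snd _ _ _
      have : Mono (pullback.snd e.left (d' j ≫ Z.1.ι)) := inferInstance
      have hsec : pullback.lift s.left (𝟙 _) (by rw [Category.id_comp, ← Over.comp_left, hs, hc]) ≫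
          pullback.snd e.left (d' j ≫ Z.1.ι) = 𝟙 _ := pullback.lift_snd _ _ _
      exact @isIso_of_mono_of_isSplitEpi _ _ _ _ (pullback.snd e.left (d' j ≫ Z.1.ι)) this
        (IsSplitEpi.mk' ⟨_, hsec⟩)
    have : IsIso ((Over.forget S).map e) := hiso
    have : IsIso e := isIso_of_reflects_iso e (Over.forget S)
    have h1 := hr.w d =≫ prod.fst
    have h2 := hr.w d =≫ prod.snd
    simp only [Category.assoc, Limits.prod.lift_fst, Limits.prod.lift_snd, d, Limits.diag, prod.lift_fst,
      prod.lift_snd, Category.comp_id] at h1 h2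
    rw [← cancel_epi ((yon S).map e)]
    exact h1.symm.trans h2
  exact mono_of_yon_injective key

theorem surjective_map_of_fpqc (hg : IsFpqcCover Yi g) (sq : ∀ i, IsPullback (q i) (p i) f (g i))
    (hp : ∀ i, Function.Surjective (Points.map (p i))) : Function.Surjective (Points.map f) := by
  intro y
  obtain ⟨i, z, rfl⟩ := exists_point_of_fpqcCover hg y
  obtain ⟨x, rfl⟩ := hp i z
  exact ⟨Points.map (q i) x, by rw [← Points.map_comp, (sq i).w, Points.map_comp]⟩

end

/-- An etale, surjective monomorphism of algebraic spaces is an isomorphism. -/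
theorem isIso_of_mono_of_etale_surjective {X Y : Sp S} (hX : IsAlgSpace X) (hY : IsAlgSpace Y)
    (f : X ⟶ Y) [Mono f] (he : LocP @Etale f) (hs : Function.Surjective (Points.map f)) : IsIso f := by
  have : Sheaf.IsLocallySurjective f := by
    refine isLocallySurjective_of_lifts f fun T t => ?_
    obtain ⟨U, a₀, v, h1, h2, hv⟩ := exists_chart_over hX hY f t
    have hve : Etale v.left :=
      locP_of_isPullback (IsPullback.of_hasPullback f t) hX hY (IsAlgSpace.yon_obj T) he a₀ (𝟙 _) v h1
        (repWith_id _ T) (by rw [hv, Category.comp_id])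
    have hvs : Surjective v.left := ⟨fun x =>
      (range_chart_over (IsPullback.of_hasPullback f t) h2 hv).ge (hs (Points.ofPt t x))⟩
    refine ⟨U, v, a₀ ≫ pullback.fst f t, fppf_of_etale v.left, ?_⟩
    rw [Category.assoc, pullback.condition, ← Category.assoc, hv]
  exact isIso_of_mono_of_locallySurjective f

/-- A morphism which is an isomorphism on an fpqc covering is an isomorphism. -/
theorem isIso_of_fpqc {ι : Type u} {X Y : Sp S} {Yi Xi : ι → Sp S} {g : ∀ i, Yi i ⟶ Y} {f : X ⟶ Y}
    {p : ∀ i, Xi i ⟶ Yi i} {q : ∀ i, Xi i ⟶ X} (hX : IsAlgSpace X) (hY : IsAlgSpace Y)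
    (hYi : ∀ i, IsAlgSpace (Yi i)) (hXi : ∀ i, IsAlgSpace (Xi i)) (hg : IsFpqcCover Yi g)
    (sq : ∀ i, IsPullback (q i) (p i) f (g i)) (hp : ∀ i, IsIso (p i)) : IsIso f := by
  have : Mono f := mono_of_fpqc hX hg sq fun i => inferInstance
  refine isIso_of_mono_of_etale_surjective hX hY f ?_ (surjective_map_of_fpqc hg sq fun i y => ?_)
  · exact (isLocalOnBase_fpqc_locP (P := @Etale) Yi g hY hYi hg f hX Xi p q hXi sq).2
      fun i => locP_of_repWith (repWith_of_isIso @Etale (p i))
  · exact ⟨Points.map (inv (p i)) y, by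
      rw [← Points.map_comp, IsIso.inv_hom_id]
      induction y using Points.ind with
      | h x => rfl⟩

/-- An etale monomorphism is a representable open immersion. -/
theorem repWith_isOpenImmersion_of_mono_of_etale {X Y : Sp S} (hX : IsAlgSpace X) (hY : IsAlgSpace Y)
    (f : X ⟶ Y) [Mono f] (he : LocP @Etale f) : RepWith @IsOpenImmersion f := by
  refine repWith_of_squares fun T t => ?_
  obtain ⟨U, a₀, v, h1, h2, hv⟩ := exists_chart_over hX hY f t
  have hve : Etale v.left :=
    locP_of_isPullback (IsPullback.of_hasPullback f t) hX hY (IsAlgSpace.yon_obj T) he a₀ (𝟙 _) v h1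
      (repWith_id _ T) (by rw [hv, Category.comp_id])
  let O : T.left.Opens := ⟨Set.range v.left, v.left.isOpenMap.isOpen_range⟩
  let T₀ : Over S := Over.mk (O.ι ≫ T.hom)
  let o : T₀ ⟶ T := Over.homMk O.ι rfl
  let v' : U ⟶ T₀ := Over.homMk (IsOpenImmersion.lift O.ι v.left (fun x hx => ⟨⟨x, hx⟩, rfl⟩)) (by
    simp only [T₀, Over.mk_hom, IsOpenImmersion.lift_fac_assoc]
    exact Over.w v)
  have hv' : v' ≫ o = v := by ext1; exact IsOpenImmersion.lift_fac _ _ _
  have hoi : IsOpenImmersion o.left := inferInstanceAs (IsOpenImmersion O.ι)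
  have hv'e : Etale v'.left := by
    have h3 : Etale (v'.left ≫ o.left) := by rw [← Over.comp_left, hv']; exact hve
    exact IsEtLocal.cancel_right (P := @Etale) v'.left o.left h3
  have hv's : Surjective v'.left := ⟨fun x => by
    obtain ⟨y, hy⟩ : o.left x ∈ Set.range v.left := x.2
    refine ⟨y, o.left.isOpenEmbedding.injective ?_⟩
    exact ((Scheme.Hom.comp_apply _ _ _).symm.trans
      (congrArg (fun k : U ⟶ T => k.left y) hv')).trans hy⟩
  have hvm : Mono ((yon S).map o) := by
    have : Mono o.left := inferInstance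
    have : Mono o := (Over.forget S).mono_of_mono_map this
    exact inferInstance
  let K := pullback (pullback.snd f t) ((yon S).map o)
  let e : (yon S).obj U ⟶ K :=
    pullback.lift a₀ ((yon S).map v') (by rw [hv, ← Functor.map_comp, hv'])
  have hl₁ : Sheaf.IsLocallySurjective a₀ := isLocallySurjective_of_etale_surjective h1 h2
  have hl₂ : Sheaf.IsLocallySurjective ((yon S).map v') :=
    isLocallySurjective_of_etale_surjective ((repWith_yon_map_iff _ _).2 hv'e)
      ((repWith_yon_map_iff _ _).2 hv's)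
  have hk₁ : Sheaf.IsLocallySurjective (pullback.fst (pullback.snd f t) ((yon S).map o)) := by
    have hfac : e.hom ≫ (pullback.fst (pullback.snd f t) ((yon S).map o)).hom = a₀.hom :=
      congrArg (·.hom) (pullback.lift_fst a₀ ((yon S).map v') (by rw [hv, ← Functor.map_comp, hv']))
    exact Presheaf.isLocallySurjective_of_isLocallySurjective_fac (J S) hfac
  have hk₂ : Sheaf.IsLocallySurjective (pullback.snd (pullback.snd f t) ((yon S).map o)) := by
    have hfac : e.hom ≫ (pullback.snd (pullback.snd f t) ((yon S).map o)).hom = ((yon S).map v').hom :=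
      congrArg (·.hom) (pullback.lift_snd a₀ ((yon S).map v') (by rw [hv, ← Functor.map_comp, hv']))
    exact Presheaf.isLocallySurjective_of_isLocallySurjective_fac (J S) hfac
  have := isIso_of_mono_of_locallySurjective (pullback.fst (pullback.snd f t) ((yon S).map o))
  have := isIso_of_mono_of_locallySurjective (pullback.snd (pullback.snd f t) ((yon S).map o))
  refine ⟨T₀, inv (pullback.snd (pullback.snd f t) ((yon S).map o)) ≫
    pullback.fst (pullback.snd f t) ((yon S).map o) ≫ pullback.fst f t, o, ?_, hoi⟩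
  refine IsPullback.of_iso (IsPullback.of_hasPullback f t)
    ((asIso (pullback.fst (pullback.snd f t) ((yon S).map o))).symm ≪≫
      asIso (pullback.snd (pullback.snd f t) ((yon S).map o))) (Iso.refl _) (Iso.refl _) (Iso.refl _)
    ?_ ?_ ?_ ?_
  · simp
  · rw [Iso.trans_hom, Iso.symm_hom, asIso_inv, asIso_hom, Iso.refl_hom, Category.comp_id,
      Category.assoc, IsIso.eq_inv_comp]
    exact pullback.condition
  · simp
  · simp

theorem isLocalOnBase_fpqc_monomorphisms :
    IsLocalOnBase (IsFpqcCover (S := S)) (MorphismProperty.monomorphisms (Sp S)) := by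
  intro ι Y Yi g _ _ hg X f hX Xi p q _ sq
  exact ⟨fun hf i => MorphismProperty.of_isPullback (sq i) hf, fun hp => mono_of_fpqc hX hg sq hp⟩

theorem isLocalOnBase_fpqc_isomorphisms :
    IsLocalOnBase (IsFpqcCover (S := S)) (MorphismProperty.isomorphisms (Sp S)) := by
  intro ι Y Yi g hY hYi hg X f hX Xi p q hXi sq
  exact ⟨fun hf i => MorphismProperty.of_isPullback (sq i) hf,
    fun hp => isIso_of_fpqc hX hY hYi hXi hg sq hp⟩

theorem isLocalOnBase_fpqc_isOpenImmersion :
    IsLocalOnBase (IsFpqcCover (S := S)) (RepWith @IsOpenImmersion) := by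
  intro ι Y Yi g hY hYi hg X f hX Xi p q hXi sq
  refine ⟨fun hf i => repWith_of_isPullback (sq i) hf, fun hp => ?_⟩
  have : Mono f := mono_of_fpqc hX hg sq fun i => by
    have h := hp i
    refine mono_of_yon_injective fun T a b hab => ?_
    let π := h.rep.snd (a ≫ p i)
    have : IsOpenImmersion π.left := h.property_snd _
    have hπ : Mono π := (Over.forget S).mono_of_mono_map (inferInstanceAs (Mono π.left))
    let la := h.rep.lift a (𝟙 _) (((congrArg (· ≫ a ≫ p i) ((yon S).map_id T)).trans (Category.id_comp _)).symm)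
    let lb := h.rep.lift b (𝟙 _) (hab.symm.trans (((congrArg (· ≫ a ≫ p i) ((yon S).map_id T)).trans (Category.id_comp _)).symm))
    have hlab : la = lb := by rw [← cancel_mono π]; simp [la, lb, π]
    have := congrArg (fun w => (yon S).map w ≫ h.rep.fst (a ≫ p i)) hlab
    simpa [la, lb] using this
  refine repWith_isOpenImmersion_of_mono_of_etale hX hY f ?_
  exact (isLocalOnBase_fpqc_locP (P := @Etale) Yi g hY hYi hg f hX Xi p q hXi sq).2 fun i =>
    locP_of_repWith (repWith_mono (P := @IsOpenImmersion) (Q := @Etale)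
      (fun _ _ k (_ : IsOpenImmersion k) => inferInstanceAs (Etale k)) _ (hp i))

end Groth.Agent.AlgSpLib
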