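import Groth.Prelude.Def_AlgSpInf
import Groth.Agent.AlgSpLib.FpqcDescent
import Groth.Agent.AlgSpLib.Descends2

/-!
# Topological properties and properties of representable morphisms are local on the base in the fpqc topology
-/

set_option backward.isDefEq.respectTransparency false
set_option backward.isDefEq.respectTransparency.types false

universe u

open CategoryTheory CategoryTheory.Limits AlgebraicGeometry Opposite AlgSp Topology

namespace Groth.Agent.AlgSpLib

variable {S : Scheme.{u}}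

/-- An fpqc covering is submersive. -/
theorem isOpen_of_fpqc {ι : Type u} {Y : Sp S} {Yi : ι → Sp S} {g : ∀ i, Yi i ⟶ Y}
    (hg : IsFpqcCover Yi g) {W : Set (Points Y)} (hW : ∀ i, IsOpen (Points.map (g i) ⁻¹' W)) :
    IsOpen W := by
  refine Points.isOpen_iff.2 fun T t => ?_
  rw [isOpen_iff_forall_mem_open]
  intro x hx
  obtain ⟨Z, hZ, hxZ, -⟩ := TopologicalSpace.Opens.isBasis_iff_nbhd.1 T.left.isBasis_affineOpens
    (TopologicalSpace.Opens.mem_top x)
  obtain ⟨m, V, c, d, hV, hd, hsurj, hdc, hl⟩ := exists_lifting_cover hg t ⟨Z, hZ⟩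
  let C : (∐ fun j => (V j).left) ⟶ Z := Sigma.desc d
  have : Surjective C := ⟨fun z => by
    obtain ⟨j, y, hy⟩ := hsurj z
    exact ⟨Sigma.ι (fun j => (V j).left) j y, by rw [← Scheme.Hom.comp_apply, Sigma.ι_desc]; exact hy⟩⟩
  have : Flat C := by
    rw [IsZariskiLocalAtSource.iff_of_openCover (P := @Flat) (sigmaOpenCover _)]
    intro j
    rw [sigmaOpenCover_f, Sigma.ι_desc]
    exact hd j
  have : IsAffine (Z : Scheme.{u}) := hZ
  have := hV
  let A : Set Z := (fun z => ((Scheme.Opens.ι Z) z : T.left)) ⁻¹' (Points.ofPt t ⁻¹' W)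
  have hA : IsOpen A := by
    rw [← (Flat.isQuotientMap_of_surjective C).isOpen_preimage,
      (sigmaOpenCover fun j => (V j).left).isOpenCover_opensRange.isOpen_iff_inter]
    intro j
    rw [Scheme.Hom.coe_opensRange, ← Set.image_preimage_eq_inter_range]
    apply ((sigmaOpenCover fun j => (V j).left).f j).isOpenEmbedding.isOpenMap
    obtain ⟨i, l, hl⟩ := hl j
    have he : Sigma.ι (fun j => (V j).left) j ⁻¹' (C ⁻¹' A) =
        Points.ofPt l ⁻¹' (Points.map (g i) ⁻¹' W) := by
      refine Set.ext fun w => ?_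
      show Points.ofPt t ((Scheme.Opens.ι Z) (C (Sigma.ι (fun j => (V j).left) j w))) ∈ W ↔
        Points.map (g i) (Points.ofPt l w) ∈ W
      have h1 : C (Sigma.ι (fun j => (V j).left) j w) = d j w :=
        (Scheme.Hom.comp_apply _ _ _).symm.trans (congrArg (fun k => k w) (Sigma.ι_desc d j))
      rw [h1, Points.map_ofPt, hl, ofPt_comp, ← hdc, Scheme.Hom.comp_apply]
    exact he.symm ▸ (hW i).preimage (Points.continuous_ofPt l)
  refine ⟨(Scheme.Opens.ι Z) '' A, ?_, (Scheme.Opens.ι Z).isOpenEmbedding.isOpenMap A hA, ⟨⟨x, hxZ⟩, hx, rfl⟩⟩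
  rintro _ ⟨z, hz, rfl⟩
  exact hz

theorem isClosed_of_fpqc {ι : Type u} {Y : Sp S} {Yi : ι → Sp S} {g : ∀ i, Yi i ⟶ Y}
    (hg : IsFpqcCover Yi g) {W : Set (Points Y)} (hW : ∀ i, IsClosed (Points.map (g i) ⁻¹' W)) :
    IsClosed W :=
  isOpen_compl_iff.1 (isOpen_of_fpqc hg fun i => by
    rw [Set.preimage_compl]
    exact (hW i).isOpen_compl)

section Universal

/-- A condition on morphisms which can be tested after an fpqc covering. -/
def TestOnCover (Q : MorphismProperty (Sp S)) : Prop :=
  ∀ ⦃ι : Type u⦄ ⦃X Y : Sp S⦄ (Yi Xi : ι → Sp S) (g : ∀ i, Yi i ⟶ Y) (f : X ⟶ Y)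
    (p : ∀ i, Xi i ⟶ Yi i) (q : ∀ i, Xi i ⟶ X),
    IsFpqcCover Yi g → (∀ i, IsPullback (q i) (p i) f (g i)) → (∀ i, Q (p i)) → Q f

theorem isLocalOnBase_univSp {Q : MorphismProperty (Sp S)} (hQ : TestOnCover Q) :
    IsLocalOnBase (IsFpqcCover (S := S)) (UnivSp Q) := by
  intro ι Y Yi g hY hYi hg X f _ Xi p q _ sq
  refine ⟨fun hf i Z Z' hZ k fst snd h => hf hZ (k ≫ g i) (fst ≫ q i) snd (h.paste_horiz (sq i)),
    fun hp Z Z' hZ k fst snd h => ?_⟩
  let Zi := fun i => pullback k (g i)
  have hcov : IsFpqcCover Zi (fun i => pullback.fst k (g i)) :=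
    isFpqcCover_of_isPullback (p := fun i => pullback.snd k (g i)) hY hZ hYi
      (fun i => IsPullback.of_hasPullback k (g i)) hg
  refine hQ Zi (fun i => pullback snd (pullback.fst k (g i))) _ snd (fun i => pullback.snd _ _)
    (fun i => pullback.fst _ _) hcov (fun i => IsPullback.of_hasPullback _ _) fun i => ?_
  let m : pullback snd (pullback.fst k (g i)) ⟶ Xi i :=
    (sq i).lift (pullback.fst _ _ ≫ fst) (pullback.snd _ _ ≫ pullback.snd k (g i)) (by
      rw [Category.assoc, h.w, ← Category.assoc, pullback.condition, Category.assoc, pullback.condition,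
        Category.assoc])
  refine hp i (isAlgSpace_pullback hZ (hYi i) hY k (g i)) (pullback.snd k (g i)) m _ ?_
  refine IsPullback.of_right ?_ ((sq i).lift_snd _ _ _) (sq i)
  rw [IsPullback.lift_fst, ← pullback.condition]
  exact (IsPullback.of_hasPullback snd (pullback.fst k (g i))).paste_horiz h

theorem preimage_image_of_isPullback {ι : Type u} {X Y : Sp S} {Yi Xi : ι → Sp S} {g : ∀ i, Yi i ⟶ Y}
    {f : X ⟶ Y} {p : ∀ i, Xi i ⟶ Yi i} {q : ∀ i, Xi i ⟶ X}
    (sq : ∀ i, IsPullback (q i) (p i) f (g i)) (A : Set (Points X)) (i : ι) :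
    Points.map (g i) ⁻¹' (Points.map f '' A) = Points.map (p i) '' (Points.map (q i) ⁻¹' A) :=
  (image_map_snd_preimage_fst (sq i) A).symm

theorem testOnCover_isClosedMap : TestOnCover (S := S) (fun _ _ f => IsClosedMap (Points.map f)) :=
  fun _ _ _ _ _ _ _ _ q hg sq hp A hA => isClosed_of_fpqc hg fun i => by
    rw [preimage_image_of_isPullback sq]
    exact hp i _ (hA.preimage (Points.continuous_map (q i)))

theorem testOnCover_isOpenMap : TestOnCover (S := S) (fun _ _ f => IsOpenMap (Points.map f)) :=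
  fun _ _ _ _ _ _ _ _ q hg sq hp A hA => isOpen_of_fpqc hg fun i => by
    rw [preimage_image_of_isPullback sq]
    exact hp i _ (hA.preimage (Points.continuous_map (q i)))

theorem testOnCover_injective : TestOnCover (S := S) (fun _ _ f => Function.Injective (Points.map f)) := by
  intro ι X Y Yi Xi g f p q hg sq hp x x' h
  obtain ⟨i, y, hy⟩ := exists_point_of_fpqcCover hg (Points.map f x)
  obtain ⟨z, hz, hzy⟩ := exists_point_of_isPullback (sq i) hy.symm
  obtain ⟨z', hz', hzy'⟩ := exists_point_of_isPullback (sq i) (h.symm.trans hy.symm)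
  rw [← hz, ← hz', hp i (hzy.trans hzy'.symm)]

theorem testOnCover_isQuotientMap : TestOnCover (S := S) (fun _ _ f => IsQuotientMap (Points.map f)) := by
  intro ι X Y Yi Xi g f p q hg sq hp
  rw [Topology.isQuotientMap_iff]
  refine ⟨.of_isOpen_preimage_iff_isOpen fun W =>
    ⟨fun hW => ?_, fun hW => hW.preimage (Points.continuous_map f)⟩,
    surjective_map_of_fpqc hg sq fun i => (hp i).surjective⟩
  refine isOpen_of_fpqc hg fun i => ?_
  rw [← (hp i).isOpen_preimage]
  convert hW.preimage (Points.continuous_map (q i)) using 1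
  ext z
  simp only [Set.mem_preimage, ← Points.map_comp, (sq i).w]

theorem testOnCover_isHomeomorph : TestOnCover (S := S) (fun _ _ f => IsHomeomorph (Points.map f)) :=
  fun _ _ _ _ _ g f p q hg sq hp =>
    ⟨Points.continuous_map f, testOnCover_isOpenMap _ _ g f p q hg sq fun i => (hp i).isOpenMap,
      testOnCover_injective _ _ g f p q hg sq fun i => (hp i).bijective.1,
      surjective_map_of_fpqc hg sq fun i => (hp i).bijective.2⟩

end Universal

section QuasiCompact

theorem compactSpace_points {F : Sp S} (h : IsQuasiCompactSp F) : CompactSpace (Points F) := by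
  obtain ⟨U, p, h1, h2, hU⟩ := h
  have : CompactSpace U.left := hU
  exact ⟨by rw [← (surjective_ofPt h2).range_eq]; exact isCompact_range (Points.continuous_ofPt p)⟩

theorem isQuasiCompactSp_of_compactSpace {F : Sp S} (hF : IsAlgSpace F) [CompactSpace (Points F)] :
    IsQuasiCompactSp F := by
  obtain ⟨U, p, h1, h2⟩ := hF.atlas
  obtain ⟨t, ht⟩ := (isCompact_univ (X := Points F)).elim_finite_subcover
    (fun K : U.left.affineOpens => Points.ofPt p '' (K.1 : Set U.left))
    (fun K => isOpenMap_ofPt h1 _ K.1.2) fun x _ => by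
      obtain ⟨u, rfl⟩ := surjective_ofPt h2 x
      obtain ⟨K, hK, hu, -⟩ := TopologicalSpace.Opens.isBasis_iff_nbhd.1 U.left.isBasis_affineOpens
        (TopologicalSpace.Opens.mem_top u)
      exact Set.mem_iUnion.2 ⟨⟨K, hK⟩, u, hu, rfl⟩
  let O : U.left.Opens := ⟨⋃ K ∈ t, (K.1 : Set U.left), isOpen_biUnion fun K _ => K.1.2⟩
  have hO : IsCompact (O : Set U.left) := t.finite_toSet.isCompact_biUnion fun K _ => K.2.isCompact
  let o : Over.mk (O.ι ≫ U.hom) ⟶ U := Over.homMk O.ι rfl
  have ho : RepWith @Etale ((yon S).map o ≫ p) :=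
    repWith_comp ((repWith_yon_map_iff _ _).2 (inferInstanceAs (Etale O.ι))) h1
  refine ⟨_, (yon S).map o ≫ p, ho, repWith_surjective_of_surjective ho.rep fun x => ?_,
    isCompact_iff_compactSpace.1 hO⟩
  obtain ⟨K, hK, u, hu, rfl⟩ := Set.mem_iUnion₂.1 (ht (Set.mem_univ x))
  refine ⟨Points.ofScheme _ ⟨u, Set.mem_biUnion hK hu⟩, ?_⟩
  rw [← Points.ofPt_eq_map_ofScheme, ofPt_comp]
  rfl

theorem isQuasiCompactSp_yon (W : Over S) [CompactSpace W.left] : IsQuasiCompactSp ((yon S).obj W) :=
  ⟨W, 𝟙 _, repWith_id _ W, repWith_id _ W, ‹_›⟩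

theorem isLocalOnBase_fpqc_isQuasiCompactMor :
    IsLocalOnBase (IsFpqcCover (S := S)) IsQuasiCompactMor := by
  intro ι Y Yi g hY hYi hg X f hX Xi p q hXi sq
  refine ⟨fun hf i Z Z' hZ hZc k fst snd h => hf hZ hZc (k ≫ g i) (fst ≫ q i) snd (h.paste_horiz (sq i)),
    fun hp Z Z' hZ hZc k fst snd h => ?_⟩
  have hZ' : IsAlgSpace Z' := isAlgSpace_of_isPullback h hX hZ hY
  obtain ⟨U, a, -, ha', hU⟩ := hZc
  obtain ⟨t, ht⟩ := (isCompact_univ (X := U.left)).elim_finite_subcover
    (fun K : U.left.affineOpens => (K.1 : Set U.left)) (fun K => K.1.2) fun x _ => by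
      obtain ⟨K, hK, hx, -⟩ := TopologicalSpace.Opens.isBasis_iff_nbhd.1 U.left.isBasis_affineOpens
        (TopologicalSpace.Opens.mem_top x)
      exact Set.mem_iUnion.2 ⟨⟨K, hK⟩, hx⟩
  choose m W c d hW hd hsurj hdc hl using fun K => exists_lifting_cover hg (a ≫ k) K
  choose i l hl using hl
  let P := fun (K : U.left.affineOpens) (j : Fin (m K)) => pullback (p (i K j)) (l K j)
  have hP : ∀ K j, CompactSpace (Points (P K j)) := fun K j => by
    have := hW K j
    exact compactSpace_points (hp _ (IsAlgSpace.yon_obj _) (isQuasiCompactSp_yon (W K j)) (l K j) _ _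
      (IsPullback.of_hasPullback _ _))
  let φ : ∀ K j, P K j ⟶ Z' := fun K j =>
    h.lift (pullback.fst _ _ ≫ q _) (pullback.snd _ _ ≫ (yon S).map (c K j) ≫ a) (by
      rw [Category.assoc, (sq _).w, ← Category.assoc, pullback.condition, Category.assoc, hl,
        Category.assoc, Category.assoc])
  have hsq : ∀ K j, IsPullback (φ K j) (pullback.snd (p (i K j)) (l K j)) snd
      ((yon S).map (c K j) ≫ a) := fun K j => by
    refine IsPullback.of_right ?_ (h.lift_snd _ _ _) h
    rw [IsPullback.lift_fst, Category.assoc, ← hl]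
    exact (IsPullback.of_hasPullback _ _).paste_horiz (sq _)
  have : CompactSpace (Points Z') := by
    refine ⟨?_⟩
    have e : (Set.univ : Set (Points Z')) = ⋃ K ∈ t, ⋃ j, Set.range (Points.map (φ K j)) := by
      refine (Set.eq_univ_of_forall fun z => ?_).symm
      obtain ⟨u, hu⟩ := surjective_ofPt ha' (Points.map snd z)
      obtain ⟨K, hK, huK⟩ := Set.mem_iUnion₂.1 (ht (Set.mem_univ u))
      obtain ⟨j, w, hw⟩ := hsurj K ⟨u, huK⟩
      obtain ⟨y, hy, -⟩ := exists_point_of_isPullback (hsq K j)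
        (show Points.map snd z = Points.map ((yon S).map (c K j) ≫ a) (Points.ofScheme _ w) by
          rw [← Points.ofPt_eq_map_ofScheme, ofPt_comp, ← hdc, Scheme.Hom.comp_apply, hw]
          exact hu.symm)
      exact Set.mem_biUnion hK (Set.mem_iUnion.2 ⟨j, y, hy⟩)
    rw [e]
    exact t.finite_toSet.isCompact_biUnion fun K _ => isCompact_iUnion fun j =>
      isCompact_range (Points.continuous_map (φ K j))
  exact isQuasiCompactSp_of_compactSpace hZ'

end QuasiCompact

section Representable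

variable {P : MorphismProperty Scheme.{u}}

/-- For a representable morphism a property which descends can be tested on an fpqc covering. -/
theorem repWith_of_fpqc [P.IsStableUnderBaseChange] [IsZariskiLocalAtTarget P]
    [P.DescendsAlong (@Surjective ⊓ @Flat ⊓ @QuasiCompact)] {ι : Type u} {X Y : Sp S}
    {Yi Xi : ι → Sp S} {g : ∀ i, Yi i ⟶ Y} {f : X ⟶ Y} {p : ∀ i, Xi i ⟶ Yi i} {q : ∀ i, Xi i ⟶ X}
    (hr : Representable f) (hg : IsFpqcCover Yi g) (sq : ∀ i, IsPullback (q i) (p i) f (g i))
    (hp : ∀ i, RepWith P (p i)) : RepWith P f := by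
  refine repWith_of_squares fun T t => ⟨_, hr.fst t, hr.snd t, hr.isPullback t, ?_⟩
  refine property_of_affine_flat_covers (hr.snd t).left fun Z => ?_
  obtain ⟨m, W, c, d, hW, hd, hsurj, hdc, hl⟩ := exists_lifting_cover hg t Z
  refine ⟨m, fun j => (W j).left, d, hW, hd, hsurj, fun j => ?_⟩
  obtain ⟨i, l, hl⟩ := hl j
  let W' := pullback (hr.snd t) (c j)
  have s1 : IsPullback ((yon S).map (pullback.fst (hr.snd t) (c j)) ≫ hr.fst t)
      ((yon S).map (pullback.snd (hr.snd t) (c j))) f (l ≫ g i) := by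
    rw [hl]
    exact ((IsPullback.of_hasPullback (hr.snd t) (c j)).map (yon S)).paste_horiz (hr.isPullback t)
  let a : (yon S).obj W' ⟶ Xi i := (sq i).lift ((yon S).map (pullback.fst (hr.snd t) (c j)) ≫ hr.fst t)
    ((yon S).map (pullback.snd (hr.snd t) (c j)) ≫ l) (by rw [s1.w, Category.assoc])
  have h1 : P (pullback.snd (hr.snd t) (c j)).left := by
    refine (hp i).2 l a _ (IsPullback.of_right ?_ ((sq i).lift_snd _ _ _) (sq i))
    rw [IsPullback.lift_fst]
    exact s1
  have e : IsPullback (pullback.fst (hr.snd t) (c j)).left (pullback.snd (hr.snd t) (c j)).left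
      (hr.snd t).left (d j ≫ Z.1.ι) := hdc j ▸ (IsPullback.of_hasPullback (hr.snd t) (c j)).map (Over.forget S)
  rw [← e.isoPullback_hom_snd] at h1
  exact (P.cancel_left_of_respectsIso e.isoPullback.hom _).1 h1

/-- Conditions on the diagonal can be tested on an fpqc covering. -/
theorem isLocalOnBase_repWith_diagonal [P.IsStableUnderBaseChange] [IsZariskiLocalAtTarget P]
    [P.DescendsAlong (@Surjective ⊓ @Flat ⊓ @QuasiCompact)] :
    IsLocalOnBase (IsFpqcCover (S := S)) (fun _ _ f => RepWith P (pullback.diagonal f)) := by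
  intro ι Y Yi g hY hYi hg X f hX Xi p q hXi sq
  let m : ∀ i, pullback (p i) (p i) ⟶ pullback f f := fun i =>
    pullback.map (p i) (p i) f f (q i) (q i) (g i) (sq i).w.symm (sq i).w.symm
  have hsnd : ∀ i, m i ≫ pullback.snd f f = pullback.snd (p i) (p i) ≫ q i :=
    fun i => pullback.lift_snd _ _ _
  have hfst : ∀ i, m i ≫ pullback.fst f f = pullback.fst (p i) (p i) ≫ q i :=
    fun i => pullback.lift_fst _ _ _
  have sM : ∀ i, IsPullback (m i) (pullback.fst (p i) (p i) ≫ p i) (pullback.fst f f ≫ f) (g i) := by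
    intro i
    refine IsPullback.paste_vert ?_ (sq i)
    refine IsPullback.of_right ?_ (hfst i) (IsPullback.of_hasPullback f f).flip
    rw [hsnd, (sq i).w]
    exact (IsPullback.of_hasPullback (p i) (p i)).flip.paste_horiz (sq i)
  have sD : ∀ i, IsPullback (q i) (pullback.diagonal (p i)) (pullback.diagonal f) (m i) := by
    intro i
    refine IsPullback.of_bot ?_ ?_ (sM i)
    · rw [← Category.assoc, pullback.diagonal_fst, Category.id_comp, ← Category.assoc, pullback.diagonal_fst,
        Category.id_comp]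
      exact sq i
    · apply pullback.hom_ext
      · rw [Category.assoc, Category.assoc, pullback.diagonal_fst, Category.comp_id, hfst,
          ← Category.assoc, pullback.diagonal_fst, Category.id_comp]
      · rw [Category.assoc, Category.assoc, pullback.diagonal_snd, Category.comp_id, hsnd,
          ← Category.assoc, pullback.diagonal_snd, Category.id_comp]
  refine ⟨fun hf i => repWith_of_isPullback (sD i) hf, fun hp => ?_⟩
  refine repWith_of_fpqc (representable_diagonal hX f) ?_ sD hp
  exact isFpqcCover_of_isPullback (a := pullback.fst f f ≫ f)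
    (p := fun i => pullback.fst (p i) (p i) ≫ p i) hY (isAlgSpace_pullback hX hX hY f f) hYi sM hg

end Representable

end Groth.Agent.AlgSpLib

namespace Groth.Agent.AlgSpLib

variable {S : Scheme.{u}}

theorem isLocalOnBase_and {τ : CovNotion S} {P Q : MorphismProperty (Sp S)} (hP : IsLocalOnBase τ P)
    (hQ : IsLocalOnBase τ Q) : IsLocalOnBase τ (fun _ _ f => P f ∧ Q f) :=
  fun _ _ Yi g hY hYi hg _ f hX Xi p q hXi sq =>
    (and_congr (hP Yi g hY hYi hg f hX Xi p q hXi sq) (hQ Yi g hY hYi hg f hX Xi p q hXi sq)).trans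
      forall_and.symm

theorem isLocalOnBase_fpqc_isUnivClosedMor : IsLocalOnBase (IsFpqcCover (S := S)) IsUnivClosedMor :=
  isLocalOnBase_univSp testOnCover_isClosedMap

theorem isLocalOnBase_fpqc_isFiniteTypeMor : IsLocalOnBase (IsFpqcCover (S := S)) IsFiniteTypeMor :=
  isLocalOnBase_and isLocalOnBase_fpqc_locP isLocalOnBase_fpqc_isQuasiCompactMor

theorem isLocalOnBase_fpqc_isSeparatedMor : IsLocalOnBase (IsFpqcCover (S := S)) IsSeparatedMor :=
  isLocalOnBase_repWith_diagonal

theorem isLocalOnBase_fpqc_isQuasiSeparatedMor :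
    IsLocalOnBase (IsFpqcCover (S := S)) IsQuasiSeparatedMor :=
  isLocalOnBase_repWith_diagonal

theorem isLocalOnBase_fpqc_isFinitePresentationMor :
    IsLocalOnBase (IsFpqcCover (S := S)) IsFinitePresentationMor :=
  isLocalOnBase_and isLocalOnBase_fpqc_locP
    (isLocalOnBase_and isLocalOnBase_fpqc_isQuasiCompactMor isLocalOnBase_fpqc_isQuasiSeparatedMor)

theorem isLocalOnBase_fpqc_isProperMor : IsLocalOnBase (IsFpqcCover (S := S)) IsProperMor :=
  isLocalOnBase_and isLocalOnBase_fpqc_isSeparatedMor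
    (isLocalOnBase_and isLocalOnBase_fpqc_isFiniteTypeMor isLocalOnBase_fpqc_isUnivClosedMor)

end Groth.Agent.AlgSpLib
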