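import Mathlib.RingTheory.RingHom.FaithfullyFlat
import Mathlib.AlgebraicGeometry.Noetherian
import Groth.Agent.AlgSpLib.LocalBaseTop

/-!
# Descent of open sets, cartesian squares and the Noetherian property
-/

set_option backward.isDefEq.respectTransparency false
set_option backward.isDefEq.respectTransparency.types false

universe u

open CategoryTheory CategoryTheory.Limits AlgebraicGeometry Opposite AlgSp

namespace Groth.Agent.AlgSpLib

variable {S : Scheme.{u}}

/-- Open sets glue along an fpqc covering. -/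
theorem existsUnique_open_of_fpqc {ι : Type u} {T : Sp S} {Ti : ι → Sp S} {g : ∀ i, Ti i ⟶ T}
    (hg : IsFpqcCover Ti g) (Wi : ∀ i, Set (Points (Ti i))) (hW : ∀ i, IsOpen (Wi i))
    (hc : ∀ i j, Points.map (pullback.fst (g i) (g j)) ⁻¹' Wi i =
      Points.map (pullback.snd (g i) (g j)) ⁻¹' Wi j) :
    ∃! W : TopologicalSpace.Opens (Points T), ∀ i, Points.map (g i) ⁻¹' (W : Set (Points T)) = Wi i := by
  let W : Set (Points T) := ⋃ i, Points.map (g i) '' Wi i
  have hpre : ∀ i, Points.map (g i) ⁻¹' W = Wi i := by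
    refine fun i => Set.Subset.antisymm (fun x hx => ?_) fun x hx => Set.mem_iUnion.2 ⟨i, x, hx, rfl⟩
    obtain ⟨j, y, hy, hyx⟩ := Set.mem_iUnion.1 hx
    obtain ⟨z, hz₁, hz₂⟩ := exists_point_of_isPullback (IsPullback.of_hasPullback (g i) (g j)) hyx.symm
    have h1 : z ∈ Points.map (pullback.snd (g i) (g j)) ⁻¹' Wi j := by simpa [hz₂] using hy
    rw [← hc i j] at h1
    simpa [hz₁] using h1
  have hWo : IsOpen W := isOpen_of_fpqc hg fun i => (hpre i).symm ▸ hW i
  refine ⟨⟨W, hWo⟩, hpre, fun V hV => TopologicalSpace.Opens.ext (Set.ext fun x => ?_)⟩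
  obtain ⟨i, y, rfl⟩ := exists_point_of_fpqcCover hg x
  exact (Set.ext_iff.1 (hV i) y).trans (Set.ext_iff.1 (hpre i) y).symm

/-- A surjective etale morphism is an fpqc covering. -/
theorem isFpqcCover_of_isEtaleMor {B D : Sp S} (hB : IsAlgSpace B) (hD : IsAlgSpace D) {b : B ⟶ D}
    (he : IsEtaleMor b) (hs : IsSurjectiveMor b) :
    IsFpqcCover (fun _ : PUnit.{u + 1} => B) (fun _ => b) := by
  have h := (isEtaleMor_iff_locP hB hD b).1 he
  refine isFpqcCover_of_isFppfCover hD (fun _ => hB) _ ⟨fun _ => ⟨?_, ?_⟩, fun x => ⟨⟨⟩, hs x⟩⟩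
  · exact locP_mono (P := @Etale) (Q := @Flat) (fun _ _ f (_ : Etale f) => inferInstanceAs (Flat f)) h
  · exact locP_mono (P := @Etale) (Q := @LocallyOfFinitePresentation)
      (fun _ _ f (_ : Etale f) => inferInstanceAs (LocallyOfFinitePresentation f)) h

/-- A square which becomes cartesian after a surjective etale base change is cartesian. -/
theorem isPullback_of_etale_surjective {A B C D E F : Sp S} {ac : A ⟶ C} {ab : A ⟶ B} {cd : C ⟶ D}
    {bd : B ⟶ D} {ce : C ⟶ E} {df : D ⟶ F} {ef : E ⟶ F} (hA : IsAlgSpace A) (hB : IsAlgSpace B)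
    (hC : IsAlgSpace C) (hD : IsAlgSpace D) (hE : IsAlgSpace E) (hF : IsAlgSpace F)
    (hl : IsPullback ac ab cd bd) (hcomm : cd ≫ df = ce ≫ ef)
    (hout : IsPullback (ac ≫ ce) ab ef (bd ≫ df)) (hsurj : IsSurjectiveMor bd) (het : IsEtaleMor bd) :
    IsPullback ce cd ef df := by
  let P := pullback ef df
  let c : C ⟶ P := pullback.lift ce cd hcomm.symm
  have hP : IsAlgSpace P := isAlgSpace_pullback hE hD hF ef df
  let Q := pullback (pullback.snd ef df) bd
  have hQ : IsPullback (pullback.fst (pullback.snd ef df) bd ≫ pullback.fst ef df)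
      (pullback.snd (pullback.snd ef df) bd) ef (bd ≫ df) :=
    (IsPullback.of_hasPullback (pullback.snd ef df) bd).paste_horiz (IsPullback.of_hasPullback ef df)
  let a : A ⟶ Q := pullback.lift (ac ≫ c) ab (by rw [Category.assoc, pullback.lift_snd, hl.w])
  have ha : IsIso a := by
    have e : a = (hout.isoIsPullback _ _ hQ).hom := by
      apply hQ.hom_ext
      · rw [IsPullback.isoIsPullback_hom_fst, ← Category.assoc, pullback.lift_fst, Category.assoc,
          pullback.lift_fst]
      · rw [IsPullback.isoIsPullback_hom_snd, pullback.lift_snd]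
    rw [e]
    infer_instance
  have hsq : IsPullback ac a c (pullback.fst (pullback.snd ef df) bd) := by
    refine IsPullback.of_bot ?_ (pullback.lift_fst _ _ _).symm (IsPullback.of_hasPullback _ _)
    rw [pullback.lift_snd, pullback.lift_snd]
    exact hl
  have hcov : IsFpqcCover (fun _ : PUnit.{u + 1} => Q) (fun _ => pullback.fst (pullback.snd ef df) bd) :=
    isFpqcCover_of_isPullback (p := fun _ => pullback.snd (pullback.snd ef df) bd) hD hP (fun _ => hB)
      (fun _ => IsPullback.of_hasPullback _ _) (isFpqcCover_of_isEtaleMor hB hD het hsurj)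
  have : IsIso c := isIso_of_fpqc hC hP (fun _ => isAlgSpace_pullback hP hB hD _ _) (fun _ => hA) hcov
    (fun _ => hsq) fun _ => ha
  exact IsPullback.of_iso_pullback ⟨hcomm.symm⟩ (asIso c) (pullback.lift_fst _ _ _) (pullback.lift_snd _ _ _)

theorem isNoetherianRing_of_faithfullyFlat (A B : Type u) [CommRing A] [CommRing B] [Algebra A B]
    [Module.FaithfullyFlat A B] [IsNoetherianRing B] : IsNoetherianRing A := by
  rw [isNoetherianRing_iff, _root_.isNoetherian_iff]
  refine Subrelation.wf (fun {I J} h => ?_)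
    (InvImage.wf (fun I : Ideal A => I.map (algebraMap A B))
      (_root_.isNoetherian_iff.1 (isNoetherianRing_iff.1 ‹_›)))
  refine lt_of_le_of_ne (Ideal.map_mono h.le) fun e => h.ne ?_
  have e' := congrArg (Ideal.comap (algebraMap A B)) e
  simpa [Ideal.comap_map_eq_self_of_faithfullyFlat] using e'

/-- Locally Noetherian descends along flat surjective open morphisms. -/
theorem isLocallyNoetherian_of_flat {X Y : Scheme.{u}} (f : X ⟶ Y) [Flat f] [Surjective f]
    [UniversallyOpen f] [IsLocallyNoetherian X] : IsLocallyNoetherian Y := by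
  refine ⟨fun V => ?_⟩
  have : IsAffine (V.1 : Scheme.{u}) := V.2
  have : Surjective (f ∣_ V.1) := IsZariskiLocalAtTarget.restrict (P := @Surjective) ‹_› _
  have : UniversallyOpen (f ∣_ V.1) := IsZariskiLocalAtTarget.restrict (P := @UniversallyOpen) ‹_› _
  have : IsAffine (Over.mk (𝟙 V.1.toScheme)).left := V.2
  let W : Over V.1.toScheme := Over.mk (f ∣_ V.1)
  obtain ⟨m, K, idx, k, hK, hk, hsurj⟩ := exists_affine_refinement (S := V.1.toScheme)
    (Z := Over.mk (𝟙 V.1.toScheme)) (fun _ : Unit => W) (fun _ => Over.homMk (f ∣_ V.1) (Category.comp_id _))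
    (fun _ => (f ∣_ V.1).isOpenMap) (fun z => ⟨(), (f ∣_ V.1).surjective z⟩)
  let C : (∐ fun j => (K j).left) ⟶ V.1 := Sigma.desc fun j => (k j).left ≫ f ∣_ V.1
  have := hK
  have : Surjective C := ⟨fun z => by
    obtain ⟨j, y, hy⟩ := hsurj z
    exact ⟨Sigma.ι (fun j => (K j).left) j y, by rw [← Scheme.Hom.comp_apply, Sigma.ι_desc]; exact hy⟩⟩
  have : Flat C := by
    rw [IsZariskiLocalAtSource.iff_of_openCover (P := @Flat) (sigmaOpenCover _)]
    intro j
    rw [sigmaOpenCover_f, Sigma.ι_desc]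
    have : IsOpenImmersion (k j).left := hk j
    infer_instance
  have : IsLocallyNoetherian (∐ fun j => (K j).left) := by
    rw [isLocallyNoetherian_iff_openCover (sigmaOpenCover _)]
    intro j
    have : IsLocallyNoetherian ((W.left : Scheme.{u})) :=
      inferInstanceAs (IsLocallyNoetherian (f ⁻¹ᵁ V.1).toScheme)
    have : IsOpenImmersion (k j).left := hk j
    exact isLocallyNoetherian_of_isOpenImmersion (k j).left
  have hN : IsNoetherianRing Γ(∐ fun j => (K j).left, ⊤) :=
    IsLocallyNoetherian.component_noetherian ⟨⊤, isAffineOpen_top _⟩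
  have hff := (Flat.flat_and_surjective_iff_faithfullyFlat_of_isAffine (f := C)).1 ⟨inferInstance, inferInstance⟩
  algebraize [C.appTop.hom]
  have h1 : IsNoetherianRing Γ(V.1, ⊤) := isNoetherianRing_of_faithfullyFlat _ Γ(∐ fun j => (K j).left, ⊤)
  exact isNoetherianRing_of_ringEquiv Γ(V.1, ⊤) V.1.topIso.commRingCatIsoToRingEquiv

theorem isLocNoethSp_of_fppf_surjective {X Y : Sp S} (hX : IsAlgSpace X) (hY : IsAlgSpace Y) (f : X ⟶ Y)
    (hfp : LocP @LocallyOfFinitePresentation f) (hfl : LocP @Flat f) (hs : IsSurjectiveMor f)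
    (h : IsLocNoethSp X) : IsLocNoethSp Y := by
  obtain ⟨U, a, ha, ha', hU⟩ := h
  obtain ⟨V, b, hb, hb'⟩ := hY.atlas
  have hr : Representable b := hb.rep
  let W := hr.pullback (a ≫ f)
  let r : W ⟶ U := hr.snd (a ≫ f)
  let v : W ⟶ V := hr.fst' (a ≫ f)
  have hre : Etale r.left := hb.property_snd _
  have : IsLocallyNoetherian U.left := hU
  have : IsLocallyNoetherian W.left := LocallyOfFiniteType.isLocallyNoetherian r.left
  have hwa : RepWith @Etale ((yon S).map r ≫ a) := repWith_comp ((repWith_yon_map_iff _ _).2 hre) ha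
  have hw : ((yon S).map r ≫ a) ≫ f = (yon S).map v ≫ b := by
    rw [Category.assoc, Functor.relativelyRepresentable.map_fst', hr.w]
  have : Flat v.left := hfl _ b v hwa hb hw
  have : LocallyOfFinitePresentation v.left := hfp _ b v hwa hb hw
  have : Surjective v.left := ⟨fun x => by
    obtain ⟨z, hz⟩ := hs (Points.ofPt b x)
    obtain ⟨u, rfl⟩ := surjective_ofPt ha' z
    rw [Points.map_ofPt] at hz
    obtain ⟨w, hw₁, -⟩ := exists_ofPt_of_eq (hr.isPullback' (a ≫ f)) hz.symm
    exact ⟨w, hw₁⟩⟩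
  have : UniversallyOpen v.left := inferInstance
  exact ⟨V, b, hb, hb', isLocallyNoetherian_of_flat v.left⟩

end Groth.Agent.AlgSpLib
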