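import Groth.Agent.AlgSpLib.Descent2
import Groth.Agent.AlgSpDec.OneFlat
import Groth.Agent.RegLoc6.RegEtale
import Groth.Agent.RegLoc6.FlatDescent
import Groth.Agent.FBaseLib.Basic
import Groth.Agent.S9407

/-!
# Descent of etale local properties of algebraic spaces along flat surjective morphisms
-/

set_option backward.isDefEq.respectTransparency false
set_option backward.isDefEq.respectTransparency.types false
set_option autoImplicit false

universe u

open CategoryTheory CategoryTheory.Limits AlgebraicGeometry Opposite AlgSp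

namespace Groth.Agent.AlgSpLib

variable {S : Scheme.{u}}

/-- An etale local property passes to the target of a surjective morphism which, on charts, has a property `Q`
along which the property descends. -/
theorem etaleLocally_of_surjective (P : Scheme.{u} → Prop) (Q : MorphismProperty Scheme.{u}) {X Y : Sp S}
    (hY : IsAlgSpace Y) (f : X ⟶ Y) (hf : LocP Q f) (hs : IsSurjectiveMor f)
    (het : ∀ ⦃W U : Scheme.{u}⦄ (r : W ⟶ U), Etale r → P U → P W)
    (hdesc : ∀ ⦃W V : Scheme.{u}⦄ (v : W ⟶ V), Q v → Surjective v → P W → P V)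
    (h : EtaleLocally P X) : EtaleLocally P Y := by
  obtain ⟨U, a, ha, ha', hU⟩ := h
  obtain ⟨V, b, hb, hb'⟩ := hY.atlas
  have hr : Representable b := hb.rep
  let W := hr.pullback (a ≫ f)
  let r : W ⟶ U := hr.snd (a ≫ f)
  let v : W ⟶ V := hr.fst' (a ≫ f)
  have hre : Etale r.left := hb.property_snd _
  have hwa : RepWith @Etale ((yon S).map r ≫ a) := repWith_comp ((repWith_yon_map_iff _ _).2 hre) ha
  have hw : ((yon S).map r ≫ a) ≫ f = (yon S).map v ≫ b := by
    rw [Category.assoc, Functor.relativelyRepresentable.map_fst', hr.w]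
  have : Surjective v.left := ⟨fun x => by
    obtain ⟨z, hz⟩ := hs (Points.ofPt b x)
    obtain ⟨u, rfl⟩ := surjective_ofPt ha' z
    rw [Points.map_ofPt] at hz
    obtain ⟨w, hw₁, -⟩ := exists_ofPt_of_eq (hr.isPullback' (a ≫ f)) hz.symm
    exact ⟨w, hw₁⟩⟩
  exact ⟨V, b, hb, hb', hdesc v.left (hf _ b v hwa hb hw) this (het r.left hre hU)⟩

theorem isReduced_of_smooth {X Y : Scheme.{u}} (f : X ⟶ Y) [Smooth f] [IsReduced Y] : IsReduced X := by
  have key : ∀ x : ↥X, ∃ W : X.Opens, x ∈ W ∧ IsReduced W.toScheme := by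
    intro x
    obtain ⟨U, hU, hxU, -⟩ := exists_isAffineOpen_mem_and_subset (U := (⊤ : Y.Opens)) (x := f x) trivial
    obtain ⟨V, hV, hxV, hVU⟩ := exists_isAffineOpen_mem_and_subset (U := f ⁻¹ᵁ U) (x := x) hxU
    have h : (f.appLE U V hVU).hom.Smooth := HasRingHomProperty.appLE (P := @Smooth) f ‹_› ⟨U, hU⟩ ⟨V, hV⟩ hVU
    let _ := (f.appLE U V hVU).hom.toAlgebra
    have : Algebra.Smooth Γ(Y, U) Γ(X, V) := h
    have : _root_.IsReduced Γ(X, V) := Groth.Agent.S9407.result Γ(Y, U) Γ(X, V)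
    exact ⟨V, hxV, isReduced_of_isOpenImmersion hV.isoSpec.hom⟩
  choose W hxW hW using key
  exact @IsReduced.of_openCover _ (X.openCoverOfIsOpenCover W
    (.mk (top_unique fun x _ => TopologicalSpace.Opens.mem_iSup.mpr ⟨x, hxW x⟩))) hW

theorem isRegular_of_etale {W U : Scheme.{u}} (r : W ⟶ U) [Etale r]
    (h : IsLocallyNoetherian U ∧ ∀ u : ↥U, IsRegularLocalRing ↥(U.presheaf.stalk u)) :
    IsLocallyNoetherian W ∧ ∀ w : ↥W, IsRegularLocalRing ↥(W.presheaf.stalk w) := by
  obtain ⟨hU, hreg⟩ := h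
  have hW : IsLocallyNoetherian W := LocallyOfFiniteType.isLocallyNoetherian r
  refine ⟨hW, fun w => ?_⟩
  obtain ⟨A, hA, hwA, -⟩ := exists_isAffineOpen_mem_and_subset (U := (⊤ : U.Opens)) (x := r w) trivial
  obtain ⟨B, hB, hwB, hBA⟩ := exists_isAffineOpen_mem_and_subset (U := r ⁻¹ᵁ A) (x := w) hwA
  have h : (r.appLE A B hBA).hom.Etale := HasRingHomProperty.appLE (P := @Etale) r ‹_› ⟨A, hA⟩ ⟨B, hB⟩ hBA
  let _ := (r.appLE A B hBA).hom.toAlgebra
  have : Algebra.Etale Γ(U, A) Γ(W, B) := h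
  have : IsNoetherianRing Γ(U, A) := IsLocallyNoetherian.component_noetherian ⟨A, hA⟩
  have : IsNoetherianRing Γ(W, B) := IsLocallyNoetherian.component_noetherian ⟨B, hB⟩
  have := hreg (r w)
  let _ := TopCat.Presheaf.algebra_section_stalk U.presheaf ⟨r w, hwA⟩
  have := hA.isLocalization_stalk ⟨r w, hwA⟩
  let _ := TopCat.Presheaf.algebra_section_stalk W.presheaf ⟨w, hwB⟩
  have := hB.isLocalization_stalk ⟨w, hwB⟩
  have hp : (hB.primeIdealOf ⟨w, hwB⟩).asIdeal.under Γ(U, A) = (hA.primeIdealOf ⟨r w, hwA⟩).asIdeal :=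
    congrArg PrimeSpectrum.asIdeal (IsAffineOpen.comap_primeIdealOf_appLE A hA B hB hBA hwB)
  have h1 : IsRegularLocalRing (Localization.AtPrime ((hB.primeIdealOf ⟨w, hwB⟩).asIdeal.under Γ(U, A))) := by
    have e : IsRegularLocalRing (Localization.AtPrime (hA.primeIdealOf ⟨r w, hwA⟩).asIdeal) :=
      IsRegularLocalRing.of_ringEquiv (IsLocalization.algEquiv (hA.primeIdealOf ⟨r w, hwA⟩).asIdeal.primeCompl
        (U.presheaf.stalk (r w)) (Localization.AtPrime _)).toRingEquiv
    convert e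
  have h2 := RegLoc6.regular_of_etale (hB.primeIdealOf ⟨w, hwB⟩).asIdeal h1
  exact IsRegularLocalRing.of_ringEquiv (R := Localization.AtPrime (hB.primeIdealOf ⟨w, hwB⟩).asIdeal)
    (IsLocalization.algEquiv (hB.primeIdealOf ⟨w, hwB⟩).asIdeal.primeCompl
      (Localization.AtPrime (hB.primeIdealOf ⟨w, hwB⟩).asIdeal) (W.presheaf.stalk w)).toRingEquiv

theorem isRegular_of_flat {W V : Scheme.{u}} (v : W ⟶ V) [Flat v] [Surjective v] [UniversallyOpen v]
    (h : IsLocallyNoetherian W ∧ ∀ w : ↥W, IsRegularLocalRing ↥(W.presheaf.stalk w)) :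
    IsLocallyNoetherian V ∧ ∀ x : ↥V, IsRegularLocalRing ↥(V.presheaf.stalk x) := by
  obtain ⟨hW, hreg⟩ := h
  have hV := isLocallyNoetherian_of_flat v
  refine ⟨hV, fun x => ?_⟩
  obtain ⟨w, rfl⟩ := v.surjective x
  have := hreg w
  let _ := (v.stalkMap w).hom.toAlgebra
  have : Module.Flat (V.presheaf.stalk (v w)) (W.presheaf.stalk w) := Flat.stalkMap v w
  have : IsLocalHom (algebraMap (V.presheaf.stalk (v w)) (W.presheaf.stalk w)) := v.toLRSHom.prop w
  exact RegLoc6.isRegularLocalRing_of_flat (A := V.presheaf.stalk (v w)) (B := W.presheaf.stalk w)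

end Groth.Agent.AlgSpLib
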