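import Groth.Prelude.Def_AlgSpRep
import Groth.Agent.AlgSpLib.Rep
import Mathlib.CategoryTheory.Limits.Types.Pullbacks

/-!
# Morphisms of presheaves representable by algebraic spaces

Sheaves, algebraic spaces and composition.
-/

set_option backward.isDefEq.respectTransparency false
set_option backward.isDefEq.respectTransparency.types false

universe u

open CategoryTheory CategoryTheory.Limits AlgebraicGeometry Opposite AlgSp

namespace Groth.Agent.AlgSpLib

variable {S : Scheme.{u}}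

theorem repBySp_of_isPullback {F G F' G' : PSp S} {a : F ⟶ G} {g : G' ⟶ G} {fst : F' ⟶ F} {snd : F' ⟶ G'}
    (sq : IsPullback fst snd a g) (ha : RepBySp a) : RepBySp snd :=
  fun _ _ _ _ _ sq' => ha _ _ _ (sq'.paste_horiz sq)

theorem repBySpWith_of_isPullback {Q : MorphismProperty (Sp S)} {F G F' G' : PSp S} {a : F ⟶ G} {g : G' ⟶ G}
    {fst : F' ⟶ F} {snd : F' ⟶ G'} (sq : IsPullback fst snd a g) (ha : RepBySpWith Q a) : RepBySpWith Q snd :=
  fun _ _ _ _ _ sq' => ha _ _ _ (sq'.paste_horiz sq)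

/-- A presheaf over a sheaf all whose base changes to schemes are sheaves is a sheaf. -/
theorem isSheaf_of_pullbacks {F G : PSp S} (a : F ⟶ G) (hG : Presheaf.IsSheaf (J S) G)
    (h : ∀ ⦃T : Over S⦄ (ξ : (pyon S).obj T ⟶ G), Presheaf.IsSheaf (J S) (pullback a ξ)) :
    Presheaf.IsSheaf (J S) F := by
  rw [isSheaf_iff_isSheaf_of_type]
  intro T R hR x hx
  have hGs := ((isSheaf_iff_isSheaf_of_type _ _).1 hG) R hR
  have hax : (x.map a).Compatible := Presieve.FamilyOfElements.Compatible.map a hx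
  let s := hGs.amalgamate _ hax
  have hs : ∀ {T' : Over S} (φ : T' ⟶ T) (hφ : R.arrows φ), G.map φ.op s = a.app _ (x φ hφ) :=
    fun φ hφ => hGs.valid_glue hax φ hφ
  let ξ : (pyon S).obj T ⟶ G := uliftYonedaEquiv.symm s
  have hξ : ∀ {T' : Over S} (φ : T' ⟶ T), ξ.app (op T') ⟨φ⟩ = G.map φ.op s := fun φ => rfl
  have hP : ∀ T' : (Over S)ᵒᵖ, IsPullback ((pullback.fst a ξ).app T') ((pullback.snd a ξ).app T')
      (a.app T') (ξ.app T') := fun T' =>
    (IsPullback.of_hasPullback a ξ).map ((evaluation _ _).obj T')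
  have hz : ∀ {T' : Over S} (φ : T' ⟶ T) (hφ : R.arrows φ), ∃ z : (pullback a ξ).obj (op T'),
      (pullback.fst a ξ).app _ z = x φ hφ ∧ (pullback.snd a ξ).app _ z = ⟨φ⟩ := fun φ hφ =>
    Types.exists_of_isPullback (hP _) _ _ ((hs φ hφ).symm.trans (hξ φ).symm)
  let z : Presieve.FamilyOfElements (pullback a ξ) R.arrows := fun T' φ hφ => (hz φ hφ).choose
  have hz₁ : ∀ {T' : Over S} (φ : T' ⟶ T) (hφ : R.arrows φ), (pullback.fst a ξ).app _ (z φ hφ) = x φ hφ :=
    fun φ hφ => (hz φ hφ).choose_spec.1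
  have hz₂ : ∀ {T' : Over S} (φ : T' ⟶ T) (hφ : R.arrows φ), (pullback.snd a ξ).app _ (z φ hφ) = ⟨φ⟩ :=
    fun φ hφ => (hz φ hφ).choose_spec.2
  have hzc : z.Compatible := by
    intro Y₁ Y₂ Z g₁ g₂ f₁ f₂ h₁ h₂ e
    refine Types.ext_of_isPullback (hP _) ?_ ?_
    · rw [NatTrans.naturality_apply, NatTrans.naturality_apply, hz₁, hz₁]
      exact hx g₁ g₂ h₁ h₂ e
    · rw [NatTrans.naturality_apply, NatTrans.naturality_apply, hz₂, hz₂]
      exact congrArg ULift.up e
  have hPs := ((isSheaf_iff_isSheaf_of_type _ _).1 (h ξ)) R hR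
  let z₀ := hPs.amalgamate z hzc
  have hz₀ : ∀ {T' : Over S} (φ : T' ⟶ T) (hφ : R.arrows φ), (pullback a ξ).map φ.op z₀ = z φ hφ :=
    fun φ hφ => hPs.valid_glue hzc φ hφ
  refine ⟨(pullback.fst a ξ).app _ z₀, fun T' φ hφ => ?_, fun t ht => ?_⟩
  · show F.map φ.op _ = x φ hφ
    rw [← NatTrans.naturality_apply, hz₀ φ hφ, hz₁]
  · have hat : a.app (op T) t = s := hGs.isSeparatedFor.ext fun T' φ hφ => by
      rw [hs φ hφ, ← NatTrans.naturality_apply, ht φ hφ]
    obtain ⟨z', hz₁', hz₂'⟩ := Types.exists_of_isPullback (hP (op T)) t ⟨𝟙 T⟩ (by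
      rw [hξ, hat, op_id, G.map_id]
      rfl)
    have : z' = z₀ := hPs.isSeparatedFor.ext fun T' φ hφ => by
      rw [hz₀ φ hφ]
      refine Types.ext_of_isPullback (hP _) ?_ ?_
      · rw [NatTrans.naturality_apply, hz₁', hz₁]
        exact ht φ hφ
      · rw [NatTrans.naturality_apply, hz₂', hz₂]
        exact congrArg ULift.up (Category.comp_id φ)
    rw [← this, hz₁']

theorem isSheaf_of_repBySp {F G : PSp S} {a : F ⟶ G} (ha : RepBySp a) (hG : Presheaf.IsSheaf (J S) G) :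
    Presheaf.IsSheaf (J S) F :=
  isSheaf_of_pullbacks a hG fun _ ξ => (ha ξ _ _ (IsPullback.of_hasPullback a ξ)).1

/-- A sheaf representable by algebraic spaces over an algebraic space is an algebraic space. -/
theorem isAlgSpace_of_repBySp {F G : Sp S} {f : F ⟶ G} (hf : RepBySp f.hom) (hG : IsAlgSpace G) :
    IsAlgSpace F where
  diag := by
    refine Functor.relativelyRepresentable.diag_of_map_from_obj fun U b => ?_
    have hP : IsAlgSpace (pullback f (b ≫ f)) :=
      (repBySp_hom_iff f).1 hf _ _ _ (IsPullback.of_hasPullback f (b ≫ f))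
    have h1 : Representable (pullback.fst f (b ≫ f)) :=
      MorphismProperty.of_isPullback (IsPullback.of_hasPullback f (b ≫ f)).flip (hG.representable_from_yon _)
    rw [show b = pullback.lift b (𝟙 _) (by simp) ≫ pullback.fst f (b ≫ f) from (pullback.lift_fst _ _ _).symm]
    exact MorphismProperty.comp_mem _ _ _ (hP.representable_from_yon _) h1
  atlas := by
    obtain ⟨V, a, ha, ha'⟩ := hG.atlas
    have hP : IsAlgSpace (pullback f a) := (repBySp_hom_iff f).1 hf _ _ _ (IsPullback.of_hasPullback f a)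
    obtain ⟨W, c, hc, hc'⟩ := hP.atlas
    exact ⟨W, c ≫ pullback.fst f a, repWith_comp hc (repWith_fst f ha), repWith_comp hc' (repWith_fst f ha')⟩

theorem isAlgSpaceP_of_repBySp {F G : PSp S} {a : F ⟶ G} (ha : RepBySp a) (hG : IsAlgSpaceP G) :
    IsAlgSpaceP F := by
  obtain ⟨hGs, hGa⟩ := hG
  have hFs := isSheaf_of_repBySp ha hGs
  exact ⟨hFs, isAlgSpace_of_repBySp
    (f := (ObjectProperty.homMk a : (⟨F, hFs⟩ : Sp S) ⟶ ⟨G, hGs⟩)) ha hGa⟩

theorem isAlgSpaceP_of_isPullback {F G X P : PSp S} {a : F ⟶ G} {ξ : X ⟶ G} {fst : P ⟶ F} {snd : P ⟶ X}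
    (sq : IsPullback fst snd a ξ) (ha : RepBySp a) (hX : IsAlgSpaceP X) : IsAlgSpaceP P :=
  isAlgSpaceP_of_repBySp (repBySp_of_isPullback sq ha) hX

theorem repBySp_comp {F G H : PSp S} {a : F ⟶ G} {b : G ⟶ H} (ha : RepBySp a) (hb : RepBySp b) :
    RepBySp (a ≫ b) := by
  intro U ξ F' fst snd sq
  refine isAlgSpaceP_of_isPullback (X := pullback b ξ) (fst := fst) (a := a)
    (ξ := pullback.fst b ξ)
    (snd := pullback.lift (fst ≫ a) snd (by rw [Category.assoc]; exact sq.w)) ?_ ha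
    (hb ξ _ _ (IsPullback.of_hasPullback b ξ))
  exact IsPullback.of_bot (by rw [pullback.lift_snd]; exact sq.flip.flip)
    (pullback.lift_fst _ _ _).symm (IsPullback.of_hasPullback b ξ) |>.flip.flip

end Groth.Agent.AlgSpLib
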