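import Groth.Agent.AlgSpLib.SmoothLocal
import Groth.Agent.AlgSpLib.EtLocalInst

/-!
# Properties etale-smooth local on the source and target
-/

set_option backward.isDefEq.respectTransparency false
set_option backward.isDefEq.respectTransparency.types false

universe u

open CategoryTheory CategoryTheory.Limits AlgebraicGeometry Opposite AlgSp

namespace Groth.Agent.AlgSpLib

variable {S : Scheme.{u}}

theorem isEtaleMor_of_isIso {X Y : Sp S} (φ : X ⟶ Y) [IsIso φ] : IsEtaleMor φ :=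
  isEtaleMor_of_repWith (repWith_of_isIso @Etale φ)

theorem locP_smooth_of_isEtaleMor {X Y : Sp S} {f : X ⟶ Y} (hf : IsEtaleMor f) : LocP @Smooth f :=
  locP_mono (P := @Etale) (fun _ _ g (_ : Etale g) => inferInstanceAs (Smooth g)) (locP_etale_of_isEtaleMor hf)

theorem isEtaleMor_of_repWith_isOpenImmersion {X Y : Sp S} {f : X ⟶ Y} (hf : RepWith @IsOpenImmersion f) :
    IsEtaleMor f :=
  isEtaleMor_of_repWith
    (repWith_mono (fun _ _ g (_ : IsOpenImmersion g) => inferInstanceAs (Etale g)) f hf)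

theorem isEtaleMor_of_isPullback {X Y X' Y' : Sp S} {f : X ⟶ Y} {g : Y' ⟶ Y} {g' : X' ⟶ X} {f' : X' ⟶ Y'}
    (sq : IsPullback g' f' f g) (hX : IsAlgSpace X) (hY : IsAlgSpace Y) (hY' : IsAlgSpace Y')
    (hf : IsEtaleMor f) : IsEtaleMor f' :=
  (isEtaleMor_iff_locP (isAlgSpace_of_isPullback sq hX hY' hY) hY' f').2
    (locP_of_isPullback sq hX hY hY' (locP_etale_of_isEtaleMor hf))

/-- Cancellation of etale morphisms. -/
theorem isEtaleMor_of_comp {X Y Z : Sp S} (hX : IsAlgSpace X) (hY : IsAlgSpace Y) (hZ : IsAlgSpace Z)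
    {f : X ⟶ Y} {g : Y ⟶ Z} (hfg : IsEtaleMor (f ≫ g)) (hg : IsEtaleMor g) : IsEtaleMor f := by
  obtain ⟨V, W, b, c, k, hb, hb', hc, -, hk⟩ := exists_chart hY hZ g
  obtain ⟨U, a₀, h, h1, h2, h3⟩ := exists_chart_over hX hY f b
  have ha : RepWith @Etale (a₀ ≫ pullback.fst f b) := repWith_comp h1 (repWith_fst f hb)
  have w : (a₀ ≫ pullback.fst f b) ≫ f = (yon S).map h ≫ b := by
    rw [Category.assoc, pullback.condition, ← Category.assoc, h3]
  refine (isEtaleMor_iff_locP hX hY f).2 (locP_of_chart ha (repWith_comp h2 (repWith_fst f hb')) hb w ?_)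
  have : Etale k.left := locP_etale_of_isEtaleMor hg b c k hb hc hk
  have : Etale (h.left ≫ k.left) := locP_etale_of_isEtaleMor hfg _ c (h ≫ k) ha hc
    (by rw [← Category.assoc, w, Category.assoc, hk, Functor.map_comp, Category.assoc])
  exact Etale.of_comp h.left k.left

variable {P : MorphismProperty (Sp S)}

theorem isLocalOnSource_et (hP : IsEtaleSmoothLocalST P) : IsLocalOnSource (IsEtCover (S := S)) P := by
  intro ι X Xi g hX hXi hg Y f hY
  refine ⟨fun hf i => hP.precomp (hXi i) hX hY _ _ (hg.1 i) hf, fun hf => (hP.locality hX hY f).2 fun x => ?_⟩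
  obtain ⟨i, v, hv⟩ := hg.2 x
  refine ⟨Y, X, Xi i, 𝟙 Y, 𝟙 X, f, g i, v, hY, hX, hXi i, locP_smooth_of_isIso _,
    IsPullback.of_horiz_isIso ⟨(Category.id_comp f).trans (Category.comp_id f).symm⟩, hg.1 i, ?_, hf i⟩
  rw [Category.comp_id]
  exact hv

theorem isLocalOnBase_sm' (hP : IsEtaleSmoothLocalST P) : IsLocalOnBase (IsSmCover (S := S)) P := by
  intro ι Y Yi g hY hYi hg X f hX Xi p q hXi sq
  refine ⟨fun hf i => hP.baseChange hX hY (hXi i) (hYi i) f (g i) (p i) (q i) (sq i) (hg.1 i) hf, fun hp => ?_⟩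
  refine (hP.locality hX hY f).2 fun x => ?_
  obtain ⟨i, y, hy⟩ := hg.2 (Points.map f x)
  obtain ⟨z, hz, -⟩ := exists_point_of_isPullback (sq i) hy.symm
  refine ⟨Yi i, Xi i, Xi i, g i, q i, p i, 𝟙 _, z, hYi i, hXi i, hXi i, hg.1 i, sq i, isEtaleMor_of_isIso _, ?_, ?_⟩
  · rw [Category.id_comp]
    exact hz
  · rw [Category.id_comp]
    exact hp i

theorem postcomp_et (hP : IsEtaleSmoothLocalST P) {X Y Z : Sp S} (hX : IsAlgSpace X) (hY : IsAlgSpace Y)
    (hZ : IsAlgSpace Z) (f : X ⟶ Y) (g : Y ⟶ Z) (hf : P f) (hg : IsEtaleMor g) : P (f ≫ g) := by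
  refine (hP.locality hX hZ _).2 fun x => ?_
  let e : X ⟶ pullback (f ≫ g) g := pullback.lift (𝟙 X) f (Category.id_comp _)
  have hW : IsAlgSpace (pullback (f ≫ g) g) := isAlgSpace_pullback hX hY hZ _ _
  have he1 : e ≫ pullback.fst (f ≫ g) g = 𝟙 X := pullback.lift_fst _ _ _
  have hfst : IsEtaleMor (pullback.fst (f ≫ g) g) :=
    isEtaleMor_of_isPullback (IsPullback.of_hasPullback (f ≫ g) g).flip hY hZ hX hg
  refine ⟨Y, pullback (f ≫ g) g, X, g, pullback.fst _ _, pullback.snd _ _, e, x, hY, hW, hX,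
    locP_smooth_of_isEtaleMor hg, IsPullback.of_hasPullback _ _,
    isEtaleMor_of_comp hX hW hX (he1 ▸ isEtaleMor_of_isIso (𝟙 X)) hfst, ?_, ?_⟩
  · rw [he1, Points.map_id]
  · rw [pullback.lift_snd]
    exact hf

/-- A property stable under etale precomposition and smooth base change cancels etale morphisms. -/
theorem of_comp_et
    (hpre : ∀ ⦃X Y Z : Sp S⦄, IsAlgSpace X → IsAlgSpace Y → IsAlgSpace Z →
      ∀ (f : X ⟶ Y) (g : Y ⟶ Z), IsEtaleMor f → P g → P (f ≫ g))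
    (hbc : ∀ ⦃X Y X' Y' : Sp S⦄, IsAlgSpace X → IsAlgSpace Y → IsAlgSpace X' → IsAlgSpace Y' →
      ∀ (f : X ⟶ Y) (g : Y' ⟶ Y) (f' : X' ⟶ Y') (g' : X' ⟶ X),
        IsPullback g' f' f g → LocP @Smooth g → P f → P f')
    {X Y Z : Sp S} (hX : IsAlgSpace X) (hY : IsAlgSpace Y) (hZ : IsAlgSpace Z) (f : X ⟶ Y) (g : Y ⟶ Z)
    (hg : IsEtaleMor g) (hfg : P (f ≫ g)) : P f := by
  let e : X ⟶ pullback (f ≫ g) g := pullback.lift (𝟙 X) f (Category.id_comp _)
  have hW : IsAlgSpace (pullback (f ≫ g) g) := isAlgSpace_pullback hX hY hZ _ _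
  have he1 : e ≫ pullback.fst (f ≫ g) g = 𝟙 X := pullback.lift_fst _ _ _
  have hfst : IsEtaleMor (pullback.fst (f ≫ g) g) :=
    isEtaleMor_of_isPullback (IsPullback.of_hasPullback (f ≫ g) g).flip hY hZ hX hg
  have he : IsEtaleMor e := isEtaleMor_of_comp hX hW hX (he1 ▸ isEtaleMor_of_isIso (𝟙 X)) hfst
  have h := hpre hX hW hY e _ he (hbc hX hZ hW hY (f ≫ g) g _ _ (IsPullback.of_hasPullback _ _)
    (locP_smooth_of_isEtaleMor hg) hfg)
  rwa [pullback.lift_snd] at h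

theorem cancel_et (hP : IsEtaleSmoothLocalST P) {X Y Z : Sp S} (hX : IsAlgSpace X) (hY : IsAlgSpace Y)
    (hZ : IsAlgSpace Z) (f : X ⟶ Y) (g : Y ⟶ Z) (hg : IsEtaleMor g) (hfg : P (f ≫ g)) : P f :=
  of_comp_et hP.precomp hP.baseChange hX hY hZ f g hg hfg

end Groth.Agent.AlgSpLib
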