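import Groth.Agent.AlgSpLib.OpenMor
import Groth.Agent.AlgSpLib.EtaleSmoothLocal
import Groth.Agent.AlgSpPts.OpenSub
import Groth.Agent.AlgSpDec.Glue

/-!
# The largest open subspace over which a property local on the base holds
-/

set_option backward.isDefEq.respectTransparency false
set_option backward.isDefEq.respectTransparency.types false
set_option autoImplicit false

universe u

open CategoryTheory CategoryTheory.Limits AlgebraicGeometry Opposite AlgSp

namespace Groth.Agent.AlgSpLib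

variable {S : Scheme.{u}}

/-- A morphism with image inside an open subspace factors through it. -/
theorem exists_lift_openImmersion {A B C : Sp S} (hA : IsAlgSpace A) (hB : IsAlgSpace B) (hC : IsAlgSpace C)
    {j : B ⟶ C} (hj : RepWith @IsOpenImmersion j) (g : A ⟶ C)
    (h : Set.range (Points.map g) ⊆ Set.range (Points.map j)) : ∃ g₁ : A ⟶ B, g₁ ≫ j = g := by
  have hp : RepWith @IsOpenImmersion (pullback.snd j g) := repWith_snd g hj
  have : Mono (pullback.snd j g) := AlgSpDec.mono_of_openImmersion hp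
  have hs : Function.Surjective (Points.map (pullback.snd j g)) := fun a => by
    obtain ⟨b, hb⟩ := h ⟨a, rfl⟩
    obtain ⟨z, -, hz⟩ := exists_point_of_isPullback (IsPullback.of_hasPullback j g) hb
    exact ⟨z, hz⟩
  have hP : IsAlgSpace (pullback j g) := isAlgSpace_pullback hB hA hC j g
  have : IsIso (pullback.snd j g) := isIso_of_mono_of_etale_surjective hP hA _
    (locP_of_repWith (repWith_mono (P := @IsOpenImmersion) (Q := @Etale)
      (fun _ _ f (_ : IsOpenImmersion f) => inferInstanceAs (Etale f)) _ hp)) hs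
  exact ⟨inv (pullback.snd j g) ≫ pullback.fst j g, by rw [Category.assoc, pullback.condition, IsIso.inv_hom_id_assoc]⟩

/-- The properties used for largest opens: covering morphisms. -/
structure OpenTopology (Q : MorphismProperty (Sp S)) : Prop where
  of_openImmersion : ∀ {X Y : Sp S}, IsAlgSpace X → IsAlgSpace Y → ∀ (j : X ⟶ Y), RepWith @IsOpenImmersion j → Q j
  comp : ∀ {X Y Z : Sp S}, IsAlgSpace X → IsAlgSpace Y → IsAlgSpace Z → ∀ (f : X ⟶ Y) (g : Y ⟶ Z), Q f → Q g → Q (f ≫ g)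
  baseChange : ∀ {X Y X' Y' : Sp S} (f : X ⟶ Y) (g : Y' ⟶ Y) (g' : X' ⟶ X) (f' : X' ⟶ Y'), IsAlgSpace X →
    IsAlgSpace Y → IsAlgSpace Y' → IsPullback g' f' f g → Q f → Q f'
  isOpenMap : ∀ {X Y : Sp S}, IsAlgSpace X → IsAlgSpace Y → ∀ (f : X ⟶ Y), Q f → IsOpenMap (Points.map f)

/-- `f` has `P` over the open set `V`. -/
def GoodOn (P : MorphismProperty (Sp S)) {X Y : Space S} (f : X ⟶ Y) (V : Set (Points Y.obj)) : Prop :=
  ∀ (W₁ X₁ : Space S) (j₁ : W₁ ⟶ Y) (j₁' : X₁ ⟶ X) (f₁ : X₁ ⟶ W₁), RepWith @IsOpenImmersion j₁.hom →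
    Set.range (Points.map j₁.hom) = V → IsPullback j₁'.hom f₁.hom f.hom j₁.hom → P f₁.hom

variable {P Q : MorphismProperty (Sp S)}

theorem repWith_id_openImmersion (F : Sp S) : RepWith @IsOpenImmersion (𝟙 F) := repWith_of_isIso _ _

/-- A good open stays good after base change along an open topology morphism. -/
theorem goodOn_preimage (hQ : OpenTopology Q) (hP : IsLocalOnBase (fun _ _ Z g => IsCover Q Z g) P)
    {X Y X' Y' : Space S} {f : X ⟶ Y} {g : Y' ⟶ Y} {g' : X' ⟶ X} {f' : X' ⟶ Y'}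
    (hg : Q g.hom) (sq : IsPullback g'.hom f'.hom f.hom g.hom) {V : Set (Points Y.obj)} (hV : IsOpen V)
    (h : GoodOn P f V) : GoodOn P f' (Points.map g.hom ⁻¹' V) := by
  intro W₂ X₂ j₂ j₂' f₂ hj₂ hr₂ sq₂
  obtain ⟨W₀, j₀, hW₀, hj₀, hr₀⟩ := AlgSpPts.exists_open_subspace Y.property hV
  have hX₀ : IsAlgSpace (pullback f.hom j₀) := isAlgSpace_pullback X.property hW₀ Y.property _ _
  have hP₀ : P (pullback.snd f.hom j₀) :=
    h ⟨W₀, hW₀⟩ ⟨_, hX₀⟩ (ObjectProperty.homMk j₀) (ObjectProperty.homMk (pullback.fst f.hom j₀))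
      (ObjectProperty.homMk (pullback.snd f.hom j₀)) hj₀ hr₀ (IsPullback.of_hasPullback _ _)
  obtain ⟨l, hl⟩ := exists_lift_openImmersion W₂.property hW₀ Y.property hj₀ (j₂.hom ≫ g.hom) (by
    rintro _ ⟨x, rfl⟩
    rw [hr₀, Points.map_comp]
    exact hr₂.le ⟨x, rfl⟩)
  have : Mono j₀ := AlgSpDec.mono_of_openImmersion hj₀
  have hlQ : Q l := by
    have hc : Q (j₂.hom ≫ g.hom) :=
      hQ.comp W₂.property Y'.property Y.property _ _ (hQ.of_openImmersion W₂.property Y'.property _ hj₂) hg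
    have hsq : IsPullback (𝟙 W₂.obj) l (j₂.hom ≫ g.hom) j₀ := by
      refine ⟨⟨by rw [Category.id_comp, hl]⟩, ⟨PullbackCone.IsLimit.mk _ (fun s => s.fst)
        (fun s => Category.comp_id _) (fun s => ?_) (fun s m hm₁ _ => ?_)⟩⟩
      · rw [← cancel_mono j₀, Category.assoc, hl]
        exact s.condition
      · simpa using hm₁
    exact hQ.baseChange _ _ _ _ W₂.property Y.property hW₀ hsq hc
  let p : X₂.obj ⟶ pullback f.hom j₀ := pullback.lift (j₂'.hom ≫ g'.hom) (f₂.hom ≫ l)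
    (by rw [Category.assoc, sq.w, ← Category.assoc, sq₂.w, Category.assoc, Category.assoc, hl])
  have sql : IsPullback p f₂.hom (pullback.snd f.hom j₀) l := by
    refine IsPullback.of_right ?_ (pullback.lift_snd _ _ _) (IsPullback.of_hasPullback f.hom j₀)
    rw [pullback.lift_fst, hl]
    exact sq₂.paste_horiz sq
  let Zc : ULift.{u} Bool → Sp S := fun i => Bool.casesOn i.down W₀ W₂.obj
  let gc : ∀ i, Zc i ⟶ W₀ := fun ⟨i⟩ => match i with
    | false => 𝟙 W₀
    | true => l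
  let Xc : ULift.{u} Bool → Sp S := fun i => Bool.casesOn i.down (pullback f.hom j₀) X₂.obj
  let pc : ∀ i, Xc i ⟶ Zc i := fun ⟨i⟩ => match i with
    | false => pullback.snd f.hom j₀
    | true => f₂.hom
  let qc : ∀ i, Xc i ⟶ pullback f.hom j₀ := fun ⟨i⟩ => match i with
    | false => 𝟙 _
    | true => p
  have hcov : IsCover Q Zc gc := by
    refine ⟨?_, fun x => ⟨⟨false⟩, x, Points.map_id x⟩⟩
    rintro ⟨_ | _⟩
    · exact hQ.of_openImmersion hW₀ hW₀ _ (repWith_id_openImmersion W₀)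
    · exact hlQ
  refine (hP Zc gc hW₀ ?_ hcov (pullback.snd f.hom j₀) hX₀ Xc pc qc ?_ ?_).1 hP₀ ⟨true⟩
  · rintro ⟨_ | _⟩
    · exact hW₀
    · exact W₂.property
  · rintro ⟨_ | _⟩
    · exact hX₀
    · exact X₂.property
  · rintro ⟨_ | _⟩
    · exact IsPullback.of_horiz_isIso ⟨(Category.id_comp _).trans (Category.comp_id _).symm⟩
    · exact sql

/-- The property descends to the image of an open topology morphism. -/
theorem goodOn_range (hQ : OpenTopology Q) (hP : IsLocalOnBase (fun _ _ Z g => IsCover Q Z g) P)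
    {X Y X' Y' : Space S} {f : X ⟶ Y} {g : Y' ⟶ Y} {g' : X' ⟶ X} {f' : X' ⟶ Y'}
    (hg : Q g.hom) (sq : IsPullback g'.hom f'.hom f.hom g.hom) (h : P f'.hom) :
    GoodOn P f (Set.range (Points.map g.hom)) := by
  intro W₁ X₁ j₁ j₁' f₁ hj₁ hr₁ sq₁
  obtain ⟨l, hl⟩ := exists_lift_openImmersion Y'.property W₁.property Y.property hj₁ g.hom hr₁.ge
  have : Mono j₁.hom := AlgSpDec.mono_of_openImmersion hj₁
  have hlQ : Q l := by
    have hsq : IsPullback (𝟙 Y'.obj) l g.hom j₁.hom := by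
      refine ⟨⟨by rw [Category.id_comp, hl]⟩, ⟨PullbackCone.IsLimit.mk _ (fun s => s.fst)
        (fun s => Category.comp_id _) (fun s => ?_) (fun s m hm₁ _ => ?_)⟩⟩
      · rw [← cancel_mono j₁.hom, Category.assoc, hl]
        exact s.condition
      · simpa using hm₁
    exact hQ.baseChange _ _ _ _ Y'.property Y.property W₁.property hsq hg
  let p : X'.obj ⟶ X₁.obj := sq₁.lift g'.hom (f'.hom ≫ l) (by rw [sq.w, Category.assoc, hl])
  have sql : IsPullback p f'.hom f₁.hom l := by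
    refine IsPullback.of_right ?_ (sq₁.lift_snd _ _ _) sq₁
    rw [IsPullback.lift_fst, hl]
    exact sq
  refine (hP (fun _ : PUnit.{u + 1} => Y'.obj) (fun _ => l) W₁.property (fun _ => Y'.property)
    ⟨fun _ => hlQ, fun x => ⟨⟨⟩, ?_⟩⟩ f₁.hom X₁.property (fun _ => X'.obj) (fun _ => f'.hom) (fun _ => p)
    (fun _ => X'.property) (fun _ => sql)).2 fun _ => h
  have hx : Points.map j₁.hom x ∈ Set.range (Points.map g.hom) := hr₁ ▸ ⟨x, rfl⟩
  obtain ⟨y, hy⟩ := hx
  refine ⟨y, ?_⟩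
  have hd : pullback.snd j₁.hom j₁.hom = pullback.fst j₁.hom j₁.hom :=
    (cancel_mono j₁.hom).1 pullback.condition.symm
  obtain ⟨z', h₁', h₂'⟩ := exists_point_of_isPullback (IsPullback.of_hasPullback j₁.hom j₁.hom)
    (show Points.map j₁.hom x = Points.map j₁.hom (Points.map l y) by rw [← Points.map_comp, hl, hy])
  rw [← h₂', hd, h₁']

/-- A union of good opens is good. -/
theorem goodOn_iUnion (hQ : OpenTopology Q) (hP : IsLocalOnBase (fun _ _ Z g => IsCover Q Z g) P)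
    {X Y : Space S} (f : X ⟶ Y) {ι : Type u} (V : ι → Set (Points Y.obj)) (hV : ∀ i, IsOpen (V i))
    (h : ∀ i, GoodOn P f (V i)) : GoodOn P f (⋃ i, V i) := by
  intro W₀ X₀ j₀ j₀' f₀ hj₀ hr₀ sq₀
  choose Z j hZ hj hr using fun i => AlgSpPts.exists_open_subspace W₀.property
    ((hV i).preimage (Points.continuous_map j₀.hom))
  have hXi : ∀ i, IsAlgSpace (pullback f₀.hom (j i)) := fun i =>
    isAlgSpace_pullback X₀.property (hZ i) W₀.property _ _
  refine (hP Z j W₀.property hZ ⟨fun i => hQ.of_openImmersion (hZ i) W₀.property _ (hj i), fun x => ?_⟩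
    f₀.hom X₀.property _ (fun i => pullback.snd f₀.hom (j i)) (fun i => pullback.fst f₀.hom (j i)) hXi
    (fun i => IsPullback.of_hasPullback _ _)).2 fun i => ?_
  · have hx : Points.map j₀.hom x ∈ ⋃ i, V i := hr₀ ▸ ⟨x, rfl⟩
    obtain ⟨i, hi⟩ := Set.mem_iUnion.1 hx
    exact ⟨i, (hr i).ge hi⟩
  · refine h i ⟨Z i, hZ i⟩ ⟨_, hXi i⟩ (ObjectProperty.homMk (j i ≫ j₀.hom))
      (ObjectProperty.homMk (pullback.fst f₀.hom (j i) ≫ j₀'.hom))
      (ObjectProperty.homMk (pullback.snd f₀.hom (j i))) (repWith_comp (hj i) hj₀) ?_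
      ((IsPullback.of_hasPullback f₀.hom (j i)).paste_horiz sq₀)
    show Set.range (Points.map (j i ≫ j₀.hom)) = V i
    rw [show Points.map (j i ≫ j₀.hom) = Points.map j₀.hom ∘ Points.map (j i) from funext (Points.map_comp _ _),
      Set.range_comp, hr i, Set.image_preimage_eq_inter_range, hr₀, Set.inter_eq_left]
    exact Set.subset_iUnion V i

theorem exists_largest_open (hQ : OpenTopology Q) (hP : IsLocalOnBase (fun _ _ Z g => IsCover Q Z g) P)
    {X Y : Space S} (f : X ⟶ Y) :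
    ∃ W : TopologicalSpace.Opens (Points Y.obj), GoodOn P f W ∧
      (∀ V : TopologicalSpace.Opens (Points Y.obj), GoodOn P f V → V ≤ W) ∧
      (∀ (Y' X' : Space S) (g : Y' ⟶ Y) (g' : X' ⟶ X) (f' : X' ⟶ Y'),
        Q g.hom → IsPullback g'.hom f'.hom f.hom g.hom → P f'.hom →
        Set.range (Points.map g.hom) ⊆ (W : Set (Points Y.obj))) ∧
      (∀ (Y' X' : Space S) (g : Y' ⟶ Y) (g' : X' ⟶ X) (f' : X' ⟶ Y'),
        Q g.hom → IsPullback g'.hom f'.hom f.hom g.hom →
        ∀ W' : TopologicalSpace.Opens (Points Y'.obj), GoodOn P f' W' →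
          (∀ V' : TopologicalSpace.Opens (Points Y'.obj), GoodOn P f' V' → V' ≤ W') →
          (W' : Set (Points Y'.obj)) = Points.map g.hom ⁻¹' (W : Set (Points Y.obj))) := by
  let ι := {V : TopologicalSpace.Opens (Points Y.obj) // GoodOn P f V}
  let W : TopologicalSpace.Opens (Points Y.obj) :=
    ⟨⋃ V : ι, (V.1 : Set (Points Y.obj)), isOpen_iUnion fun V => V.1.2⟩
  have hle : ∀ V : TopologicalSpace.Opens (Points Y.obj), GoodOn P f V → V ≤ W := fun V hV x hx =>
    Set.mem_iUnion.2 ⟨⟨V, hV⟩, hx⟩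
  have hW : GoodOn P f W := by
    intro W₀ X₀ j₀ j₀' f₀ hj₀ hr₀ sq₀
    obtain ⟨U, p, hp, hp'⟩ := W₀.property.atlas
    have hmem : ∀ u : ↥U.left, ∃ V : ι, Points.map j₀.hom (Points.ofPt p u) ∈ V.1 := fun u =>
      Set.mem_iUnion.1 (hr₀.le ⟨_, rfl⟩ : Points.map j₀.hom (Points.ofPt p u) ∈ (W : Set _))
    choose V hV using hmem
    refine goodOn_iUnion hQ hP f (fun u => ((V u).1 : Set (Points Y.obj))) (fun u => (V u).1.2)
      (fun u => (V u).2) W₀ X₀ j₀ j₀' f₀ hj₀ (hr₀.trans (Set.Subset.antisymm ?_ ?_)) sq₀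
    · intro x hx
      obtain ⟨y, rfl⟩ := hr₀.ge hx
      obtain ⟨u, rfl⟩ := surjective_ofPt hp' y
      exact Set.mem_iUnion.2 ⟨u, hV u⟩
    · exact Set.iUnion_subset fun u => fun x hx => Set.mem_iUnion.2 ⟨V u, hx⟩
  have h3 : ∀ (Y' X' : Space S) (g : Y' ⟶ Y) (g' : X' ⟶ X) (f' : X' ⟶ Y'),
      Q g.hom → IsPullback g'.hom f'.hom f.hom g.hom → P f'.hom →
      Set.range (Points.map g.hom) ⊆ (W : Set (Points Y.obj)) := fun Y' X' g g' f' hg sq hf' =>
    hle ⟨_, (hQ.isOpenMap Y'.property Y.property _ hg).isOpen_range⟩ (goodOn_range hQ hP hg sq hf')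
  refine ⟨W, hW, hle, h3, fun Y' X' g g' f' hg sq W' hW' hmax => Set.Subset.antisymm ?_ ?_⟩
  · obtain ⟨W₂, j₂, hW₂, hj₂, hr₂⟩ := AlgSpPts.exists_open_subspace Y'.property W'.2
    have hX₂ := isAlgSpace_pullback X'.property hW₂ Y'.property f'.hom j₂
    have hP₂ := hW' ⟨W₂, hW₂⟩ ⟨_, hX₂⟩ (ObjectProperty.homMk j₂) (ObjectProperty.homMk (pullback.fst f'.hom j₂))
      (ObjectProperty.homMk (pullback.snd f'.hom j₂)) hj₂ hr₂ (IsPullback.of_hasPullback _ _)
    have := h3 ⟨W₂, hW₂⟩ ⟨_, hX₂⟩ (ObjectProperty.homMk (j₂ ≫ g.hom))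
      (ObjectProperty.homMk (pullback.fst f'.hom j₂ ≫ g'.hom)) (ObjectProperty.homMk (pullback.snd f'.hom j₂))
      (hQ.comp hW₂ Y'.property Y.property _ _ (hQ.of_openImmersion hW₂ Y'.property _ hj₂) hg)
      ((IsPullback.of_hasPullback f'.hom j₂).paste_horiz sq) hP₂
    intro x hx
    obtain ⟨y, rfl⟩ := hr₂.ge hx
    exact this ⟨y, Points.map_comp _ _ y⟩
  · exact hmax ⟨_, W.2.preimage (Points.continuous_map g.hom)⟩ (goodOn_preimage hQ hP hg sq W.2 hW)

end Groth.Agent.AlgSpLib
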