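import Groth.Agent.SrcDescent.LocalAtSource
import Groth.Agent.AlgSpLib.EtLocalInst
import Groth.Agent.AlgSpLib.LocalSource

/-!
# Etale local properties are local on the source for etale coverings of algebraic spaces
-/

set_option backward.isDefEq.respectTransparency false
set_option backward.isDefEq.respectTransparency.types false

universe u

open CategoryTheory CategoryTheory.Limits AlgebraicGeometry Opposite AlgSp

namespace Groth.Agent.AlgSpLib

variable {S : Scheme.{u}}

instance : MorphismProperty.ContainsIdentities (@Smooth : MorphismProperty Scheme.{u}) :=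
  ⟨fun X => inferInstanceAs (Smooth (𝟙 X))⟩

instance : (@Flat ⊓ @LocallyOfFinitePresentation : MorphismProperty Scheme.{u}).ContainsIdentities :=
  ⟨fun X => ⟨inferInstanceAs (Flat (𝟙 X)), inferInstanceAs (LocallyOfFinitePresentation (𝟙 X))⟩⟩

theorem locP_etale_of_isEtaleMor {F G : Sp S} {f : F ⟶ G} (h : IsEtaleMor f) : LocP @Etale f := by
  intro U V a b k ha hb w
  have h1 := h a ha
  rw [w] at h1
  exact (repWith_yon_map_iff _ k).1 (repWith_etale_of_comp _ b h1 hb)

theorem isLocalAtSource_etale (P : MorphismProperty Scheme.{u}) [IsEtLocal P]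
    [IsZariskiLocalAtSource P] : P.IsLocalAtSource Scheme.etalePrecoverage :=
  Groth.Agent.SrcDescent.isLocalAtSource_of_surjective (fun f g hf hg => IsEtLocal.precomp f g hf hg)
    fun f g hf hs h => IsEtLocal.of_precomp f g hf hs h

/-- A property local on the source in the etale topology is local on the source for etale coverings. -/
theorem isLocalOnSource_etale (P : MorphismProperty Scheme.{u})
    [P.IsLocalAtSource Scheme.etalePrecoverage] : IsLocalOnSource (IsEtCover (S := S)) (LocP P) :=
  have : P.IsLocalAtSource (Scheme.precoverage @Etale) := ‹_›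
  isLocalOnSource_isCover (W := @Etale) (fun _ h => h) _
    (fun _ _ _ _ hg i => locP_etale_of_isEtaleMor (hg.1 i)) fun _ _ _ _ hg => hg.2

theorem isLocalOnSource_smooth (P : MorphismProperty Scheme.{u})
    [P.IsLocalAtSource (Scheme.precoverage @Smooth)] : IsLocalOnSource (IsSmCover (S := S)) (LocP P) :=
  isLocalOnSource_isCover (W := @Smooth) (fun _ _ => inferInstance) _
    (fun _ _ _ _ hg i => hg.1 i) fun _ _ _ _ hg => hg.2

theorem isLocalOnSource_fppf (P : MorphismProperty Scheme.{u})
    [P.IsLocalAtSource Scheme.fppfPrecoverage] : IsLocalOnSource (IsFppfCover (S := S)) (LocP P) :=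
  have : P.IsLocalAtSource (Scheme.precoverage (@Flat ⊓ @LocallyOfFinitePresentation)) := ‹_›
  isLocalOnSource_isCover (W := @Flat ⊓ @LocallyOfFinitePresentation)
    (fun _ _ => ⟨inferInstance, inferInstance⟩) _
    (fun _ _ _ _ hg i _ _ a b h ha hb w => ⟨(hg.1 i).1 a b h ha hb w, (hg.1 i).2 a b h ha hb w⟩)
    fun _ _ _ _ hg => hg.2

end Groth.Agent.AlgSpLib
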