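import Groth.Agent.AlgSpLib.Descent2
import Groth.Agent.AlgSpLib.LocalSourceInst

/-!
# Open morphisms of algebraic spaces and fppf coverings
-/

set_option backward.isDefEq.respectTransparency false
set_option backward.isDefEq.respectTransparency.types false
set_option autoImplicit false

universe u

open CategoryTheory CategoryTheory.Limits AlgebraicGeometry Opposite AlgSp

namespace Groth.Agent.AlgSpLib

variable {S : Scheme.{u}}

/-- A flat morphism which is locally of finite presentation is open on points. -/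
theorem isOpenMap_map_of_fppf {X Y : Sp S} (hX : IsAlgSpace X) (hY : IsAlgSpace Y) (f : X ⟶ Y)
    (hfl : LocP @Flat f) (hfp : LocP @LocallyOfFinitePresentation f) : IsOpenMap (Points.map f) := by
  intro O hO
  obtain ⟨U, a, ha, ha'⟩ := hX.atlas
  obtain ⟨V, b, hb, hb'⟩ := hY.atlas
  have hr : Representable b := hb.rep
  let W := hr.pullback (a ≫ f)
  let r : W ⟶ U := hr.snd (a ≫ f)
  let v : W ⟶ V := hr.fst' (a ≫ f)
  have hre : Etale r.left := hb.property_snd _
  have hwa : RepWith @Etale ((yon S).map r ≫ a) := repWith_comp ((repWith_yon_map_iff _ _).2 hre) ha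
  have hw : ((yon S).map r ≫ a) ≫ f = (yon S).map v ≫ b := by
    rw [Category.assoc, Functor.relativelyRepresentable.map_fst', hr.w]
  have : Flat v.left := hfl _ b v hwa hb hw
  have : LocallyOfFinitePresentation v.left := hfp _ b v hwa hb hw
  rw [isOpen_iff_chart hb hb']
  have heq : Points.ofPt b ⁻¹' (Points.map f '' O) = v.left '' (r.left ⁻¹' (Points.ofPt a ⁻¹' O)) := by
    ext x
    constructor
    · rintro ⟨z, hzO, hz⟩
      obtain ⟨u, rfl⟩ := surjective_ofPt ha' z
      rw [Points.map_ofPt] at hz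
      obtain ⟨w, hw₁, hw₂⟩ := exists_ofPt_of_eq (hr.isPullback' (a ≫ f)) hz.symm
      exact ⟨w, show Points.ofPt a (r.left w) ∈ O from hw₂.symm ▸ hzO, hw₁⟩
    · rintro ⟨w, hw', rfl⟩
      refine ⟨_, hw', ?_⟩
      rw [Points.map_ofPt, ← ofPt_comp, ← Category.assoc, hw, ofPt_comp]
  rw [heq]
  have := UniversallyOpen.of_flat v.left
  exact v.left.isOpenMap _ ((hO.preimage (Points.continuous_ofPt a)).preimage r.left.continuous)

theorem isOpenMap_of_jointlySurjective {ι : Type*} {A B : Type*} [TopologicalSpace A] [TopologicalSpace B]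
    {C : ι → Type*} [∀ i, TopologicalSpace (C i)] (g : ∀ i, C i → A) (hg : ∀ i, Continuous (g i))
    (hs : ∀ a, ∃ i c, g i c = a) (f : A → B) (h : ∀ i, IsOpenMap (f ∘ g i)) : IsOpenMap f := by
  intro O hO
  have : f '' O = ⋃ i, (f ∘ g i) '' (g i ⁻¹' O) := by
    ext b
    simp only [Set.mem_image, Set.mem_iUnion, Set.mem_preimage, Function.comp]
    constructor
    · rintro ⟨a, ha, rfl⟩
      obtain ⟨i, c, rfl⟩ := hs a
      exact ⟨i, c, ha, rfl⟩
    · rintro ⟨i, c, hc, rfl⟩
      exact ⟨_, hc, rfl⟩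
  rw [this]
  exact isOpen_iUnion fun i => h i _ (hO.preimage (hg i))

end Groth.Agent.AlgSpLib
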