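import Groth.Agent.AlgSpLib.CartierAvoid
import Groth.Agent.AlgSpLib.DescendLocally
import Groth.Agent.FBaseLib.Basic
import Groth.Agent.AssPtX.Basic
import Mathlib.RingTheory.Ideal.Height

/-!
# Weakly associated points of the structure sheaf
-/

set_option backward.isDefEq.respectTransparency false
set_option backward.isDefEq.respectTransparency.types false

universe u

open CategoryTheory CategoryTheory.Limits AlgebraicGeometry Opposite AlgSp Topology

namespace Groth.Agent.AlgSpLib.WeakAssUnit

variable {S : Scheme.{u}} {X : Sp S}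

theorem isReduced_chart (hX : IsReducedSp X) {U : Over S} (a : (yon S).obj U ⟶ X) (ha : RepWith @Etale a) :
    IsReduced U.left := by
  obtain ⟨V, φ, hφ, hφs, hV⟩ := hX
  have : Etale (ha.rep.snd φ).left := ha.property_snd φ
  have : Etale (ha.rep.fst' φ).left := hφ.property _ _ _ (ha.rep.isPullback' φ).flip
  have : Surjective (ha.rep.fst' φ).left := hφs.property _ _ _ (ha.rep.isPullback' φ).flip
  have : IsReduced V.left := hV
  have := AlgSpLib.isReduced_of_smooth (ha.rep.snd φ).left
  exact FBaseLib.isReduced_of_flat_surjective (ha.rep.fst' φ).left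

theorem ringKrullDim_stalk_eq_zero_iff {U : Scheme.{u}} [IsAffine U] (w : ↥U) :
    ringKrullDim (U.presheaf.stalk w) = 0 ↔ primeAtPt U w ∈ minimalPrimes Γ(U, ⊤) := by
  rw [Cartier.primeAtPt_eq]
  let _ := U.presheaf.algebra_section_stalk (⟨w, trivial⟩ : (⊤ : U.Opens))
  have : IsLocalization.AtPrime (U.presheaf.stalk w) ((isAffineOpen_top U).primeIdealOf ⟨w, trivial⟩).asIdeal :=
    (isAffineOpen_top U).isLocalization_stalk ⟨w, trivial⟩
  rw [IsLocalization.AtPrime.ringKrullDim_eq_height ((isAffineOpen_top U).primeIdealOf ⟨w, trivial⟩).asIdeal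
    (U.presheaf.stalk w), ← WithBot.coe_zero, WithBot.coe_inj, Ideal.height_eq_zero_iff]

theorem mem_annSect_unit {E : EtOver X} (z c : Γ(E.obj.left.left, ⊤)) :
    c ∈ annSect (M := unitModEt X) (E := E) (upΓ E z) ↔ c * z = 0 := by
  rw [mem_annSect_iff]
  show upΓ E c * upΓ E z = 0 ↔ _
  rw [← map_mul]
  exact map_eq_zero_iff (upΓ E) ULift.ringEquiv.symm.injective

theorem mem_weakAssEt_unit_iff (hX : IsReducedSp X) (x : Points X) :
    x ∈ WeakAssEt (unitModEt X) ↔ HasAt (fun U w => ringKrullDim ↥(U.presheaf.stalk w) = 0) X x := by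
  constructor
  · rintro ⟨E, hE, w, hw, s, hs⟩
    refine ⟨E.obj.left, E.obj.hom, w, E.property, hw, (ringKrullDim_stalk_eq_zero_iff w).2 ?_⟩
    have := isReduced_chart hX E.obj.hom E.property
    obtain ⟨z, rfl⟩ : ∃ z : Γ(E.obj.left.left, ⊤), upΓ E z = s := ULift.ringEquiv.symm.surjective s
    refine AssPtX.weakAss_reduced ⟨z, ?_⟩
    convert hs using 2
    ext c
    rw [Submodule.mem_annihilator_span_singleton, mem_annSect_unit]
    rfl
  · rintro ⟨U, a, v, ha, hv, hd⟩
    obtain ⟨O, hO, hvO, -⟩ := exists_isAffineOpen_mem_and_subset (U := (⊤ : U.left.Opens)) (x := v) trivial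
    let E := AlgSpDec.openObj a ha O
    have hE : IsAffine E.obj.left.left := hO
    let j : E.obj.left ⟶ U := CategoryTheory.Over.homMk O.ι rfl
    let w : E.obj.left.left := ⟨v, hvO⟩
    refine ⟨E, hE, w, ?_, upΓ E 1, ?_⟩
    · rw [← hv]
      exact ofPt_comp j a w
    · have h0 : annSect (M := unitModEt X) (E := E) (upΓ E 1) = ⊥ := by
        ext c
        rw [mem_annSect_unit, mul_one, Ideal.mem_bot]
      rw [h0]
      refine (ringKrullDim_stalk_eq_zero_iff (U := E.obj.left.left) w).1 ?_
      refine Eq.trans ?_ hd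
      exact ringKrullDim_eq_of_ringEquiv (O.stalkIso w).commRingCatIsoToRingEquiv

end Groth.Agent.AlgSpLib.WeakAssUnit
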