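import Groth.Agent.AlgSpLib.CartierCompl
import Groth.Agent.AlgSpLib.DescendLocally
import Groth.Agent.AlgSpLib.LocalBaseTop
import Groth.Agent.AlgSpLib.WeakAssUnit
import Groth.Agent.AlgSpDec.AffineCheck
import Groth.Agent.AlgSpDec.RedInduced
import Groth.Agent.Lib.EffCompl
import Groth.Agent.RegUFD.Basic

/-!
# The complement of a dense affine open of a regular separated algebraic space
-/

set_option backward.isDefEq.respectTransparency false
set_option backward.isDefEq.respectTransparency.types false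

universe u

open CategoryTheory CategoryTheory.Limits AlgebraicGeometry Opposite AlgSp Topology

namespace Groth.Agent.AlgSpLib.CartierRegular

variable {S : Scheme.{u}}

/-- The ideal of a reduced closed subscheme is the vanishing ideal of its support. -/
theorem eq_vanishingIdeal_support {U : Scheme.{u}} (I : U.IdealSheafData) [IsReduced I.subscheme] :
    I = Scheme.IdealSheafData.vanishingIdeal I.support := by
  rw [Scheme.IdealSheafData.vanishingIdeal_support]
  refine le_antisymm I.le_radical fun W s hs => ?_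
  rw [Scheme.IdealSheafData.radical_ideal] at hs
  obtain ⟨n, hn⟩ := hs
  rw [← I.ker_subschemeι_app W, RingHom.mem_ker] at hn ⊢
  rw [map_pow] at hn
  exact IsReduced.eq_zero _ ⟨n, hn⟩

theorem exists_affine_atlas {X : Sp S} (hX : IsAlgSpace X) (hqc : IsQuasiCompactSp X) :
    ∃ (V : Over S) (φ : (yon S).obj V ⟶ X), IsAffine V.left ∧ RepWith @Etale φ ∧ RepWith @Surjective φ := by
  have : CompactSpace (Points X) := compactSpace_points hqc
  obtain ⟨U, p, h1, h2⟩ := hX.atlas
  obtain ⟨t, ht⟩ := (isCompact_univ (X := Points X)).elim_finite_subcover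
    (fun K : U.left.affineOpens => Points.ofPt p '' (K.1 : Set U.left))
    (fun K => isOpenMap_ofPt h1 _ K.1.2) fun x _ => by
      obtain ⟨w, rfl⟩ := surjective_ofPt h2 x
      obtain ⟨K, hK, hw, -⟩ := exists_isAffineOpen_mem_and_subset (U := (⊤ : U.left.Opens)) (x := w) trivial
      exact Set.mem_iUnion.2 ⟨⟨K, hK⟩, w, hw, rfl⟩
  let W : ↥t → U.left.Opens := fun k => k.1.1
  have : ∀ k, IsAffine (W k).toScheme := fun k => k.1.2
  let jW : (∐ fun k => (W k).toScheme) ⟶ U.left := Sigma.desc fun k => (W k).ι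
  have : Etale jW := AlgSpDec.etale_sigma_desc W
  let V : Over S := Over.mk (jW ≫ U.hom)
  let o : V ⟶ U := CategoryTheory.Over.homMk jW rfl
  have ho : RepWith @Etale ((yon S).map o ≫ p) :=
    repWith_comp ((repWith_yon_map_iff _ _).2 (inferInstanceAs (Etale jW))) h1
  refine ⟨V, (yon S).map o ≫ p, inferInstanceAs (IsAffine (∐ fun k => (W k).toScheme)), ho,
    repWith_surjective_of_surjective ho.rep fun x => ?_⟩
  obtain ⟨K, hK, w, hw, rfl⟩ := Set.mem_iUnion₂.1 (ht (Set.mem_univ x))
  refine ⟨Points.ofScheme _ (Sigma.ι (fun k => (W k).toScheme) ⟨K, hK⟩ ⟨w, hw⟩), ?_⟩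
  rw [← Points.ofPt_eq_map_ofScheme, ofPt_comp]
  show Points.ofPt p (jW _) = _
  rw [← Scheme.Hom.comp_apply, Sigma.ι_desc]
  rfl

theorem isAffine_of_isSeparatedSp [S.IsSeparated] {X : Sp S} (hsep : IsSeparatedSp X) {T V R : Over S}
    [IsAffine T.left] [IsAffine V.left] {j : (yon S).obj T ⟶ X} {φ : (yon S).obj V ⟶ X}
    {t : R ⟶ T} {v : R ⟶ V} (sq : IsPullback ((yon S).map t) ((yon S).map v) j φ) : IsAffine R.left := by
  have : IsAffineHom T.hom := IsAffineHom.of_comp T.hom (terminal.from S)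
  let Q : Over S := Over.mk (pullback.fst T.hom V.hom ≫ T.hom)
  have : IsAffineHom (pullback.snd T.hom V.hom) := MorphismProperty.pullback_snd _ _ ‹IsAffineHom T.hom›
  have : IsAffine Q.left := isAffine_of_isAffineHom (pullback.snd T.hom V.hom)
  let qT : Q ⟶ T := CategoryTheory.Over.homMk (pullback.fst T.hom V.hom) rfl
  let qV : Q ⟶ V := CategoryTheory.Over.homMk (pullback.snd T.hom V.hom) (by
    show pullback.snd T.hom V.hom ≫ V.hom = pullback.fst T.hom V.hom ≫ T.hom
    rw [pullback.condition])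
  let q : (yon S).obj Q ⟶ X ⨯ X := prod.lift ((yon S).map qT ≫ j) ((yon S).map qV ≫ φ)
  let W := hsep.rep.pullback q
  let k : W ⟶ Q := hsep.rep.snd q
  have : IsClosedImmersion k.left := hsep.property_snd q
  have : IsAffine W.left := isAffine_of_isAffineHom k.left
  have hW : hsep.rep.fst q ≫ Limits.diag X = (yon S).map k ≫ q := hsep.rep.w q
  have hW1 : (yon S).map (k ≫ qT) ≫ j = (yon S).map (k ≫ qV) ≫ φ := by
    have h1 : hsep.rep.fst q = (yon S).map (k ≫ qT) ≫ j := by simpa [q] using congrArg (· ≫ prod.fst) hW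
    have h2 : hsep.rep.fst q = (yon S).map (k ≫ qV) ≫ φ := by simpa [q] using congrArg (· ≫ prod.snd) hW
    rw [← h1, h2]
  obtain ⟨b, hb₁, hb₂⟩ : ∃ b : W ⟶ R, b ≫ t = k ≫ qT ∧ b ≫ v = k ≫ qV := by
    refine ⟨(yon S).preimage (sq.lift _ _ hW1), ?_, ?_⟩ <;> apply (yon S).map_injective <;> simp
  let rQ : R ⟶ Q := CategoryTheory.Over.homMk (pullback.lift t.left v.left (by rw [Over.w t, Over.w v])) (by
    show pullback.lift _ _ _ ≫ pullback.fst T.hom V.hom ≫ T.hom = R.hom
    rw [pullback.lift_fst_assoc, Over.w t])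
  have hrT : rQ ≫ qT = t := Over.OverMorphism.ext (pullback.lift_fst _ _ _)
  have hrV : rQ ≫ qV = v := Over.OverMorphism.ext (pullback.lift_snd _ _ _)
  obtain ⟨c, hc⟩ : ∃ c : R ⟶ W, c ≫ k = rQ := by
    refine ⟨hsep.rep.lift ((yon S).map t ≫ j) rQ ?_, hsep.rep.lift_snd _ _ _⟩
    apply Limits.prod.hom_ext
    · simp only [q, Category.assoc, Limits.prod.lift_fst, Limits.diag, Category.comp_id]
      rw [← Category.assoc, ← Functor.map_comp, hrT]
    · simp only [q, Category.assoc, Limits.prod.lift_snd, Limits.diag, Category.comp_id]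
      rw [← Category.assoc ((yon S).map rQ), ← Functor.map_comp, hrV, sq.w]
  have : Mono k := (Over.forget S).mono_of_mono_map (inferInstanceAs (Mono k.left))
  have hbk : b ≫ rQ = k := by
    refine Over.OverMorphism.ext (pullback.hom_ext ?_ ?_)
    · exact congrArg CommaMorphism.left (show (b ≫ rQ) ≫ qT = k ≫ qT by rw [Category.assoc, hrT, hb₁])
    · exact congrArg CommaMorphism.left (show (b ≫ rQ) ≫ qV = k ≫ qV by rw [Category.assoc, hrV, hb₂])
  have hcb : c ≫ b = 𝟙 R := by
    apply (yon S).map_injective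
    refine sq.hom_ext ?_ ?_ <;> rw [← Functor.map_comp, ← Functor.map_comp] <;> congr 1
    · rw [Category.assoc, hb₁, ← Category.assoc, hc, hrT, Category.id_comp]
    · rw [Category.assoc, hb₂, ← Category.assoc, hc, hrV, Category.id_comp]
  have hbc : b ≫ c = 𝟙 W := by rw [← cancel_mono k, Category.assoc, hc, hbk, Category.id_comp]
  let e : R ≅ W := ⟨c, b, hcb, hbc⟩
  have : IsIso c.left := ((Over.forget S).mapIso e).isIso_hom
  exact .of_isIso c.left

theorem exists_effCartierSub_compl [S.IsSeparated] {X : Sp S} (hX : IsAlgSpace X)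
    (hreg : EtaleLocally (fun U => IsLocallyNoetherian U ∧ ∀ w : ↥U, IsRegularLocalRing ↥(U.presheaf.stalk w)) X)
    (hqc : IsQuasiCompactSp X) (hsep : IsSeparatedSp X) (T : Over S) [IsAffine T.left]
    (j : (yon S).obj T ⟶ X) (hj : RepWith @IsOpenImmersion j) (hdense : Dense (Set.range (Points.ofPt j))) :
    ∃ (D : Space S) (i : D.obj ⟶ X), IsEffCartierSub i ∧
      Set.range (Points.map i) = (Set.range (Points.ofPt j))ᶜ := by
  have hrange : Set.range (Points.map j) = Set.range (Points.ofPt j) := by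
    ext x
    constructor
    · rintro ⟨y, rfl⟩
      obtain ⟨t, rfl⟩ := (Points.schemeEquiv T).surjective y
      exact ⟨t, Points.ofPt_eq_map_ofScheme j t⟩
    · rintro ⟨t, rfl⟩
      exact ⟨_, (Points.ofPt_eq_map_ofScheme j t).symm⟩
  have hopen : IsOpen (Set.range (Points.ofPt j)) := hrange ▸ (AlgSpDec.isOpenEmbedding_map' hX hj).isOpen_range
  obtain ⟨Z, i, hi, hri, hred⟩ := AlgSpDec.exists_reduced_induced hX hopen.isClosed_compl
  refine ⟨Z, i, ?_, hri⟩
  obtain ⟨V, φ, hV, hφ, hφs⟩ := exists_affine_atlas hX hqc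
  refine Cartier.isEffCartierSub_of_atlas hi φ hφ hφs ?_
  obtain ⟨W, a, ha, has, hW⟩ := hreg
  have : Etale (ha.rep.snd φ).left := ha.property_snd φ
  have : Surjective (ha.rep.snd φ).left := has.property_snd φ
  have : Etale (ha.rep.fst' φ).left := hφ.property _ _ _ (ha.rep.isPullback' φ).flip
  obtain ⟨hN, hR⟩ := isRegular_of_flat (ha.rep.snd φ).left (isRegular_of_etale (ha.rep.fst' φ).left hW)
  let O := AlgSpDec.SchDenseSp.pre hX hj φ
  obtain ⟨fst, sq⟩ := AlgSpDec.SchDenseSp.exists_isPullback hX hj φ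
  have hO : IsAffineOpen O := by
    have : IsAffine (Over.mk (O.ι ≫ V.hom)).left := isAffine_of_isSeparatedSp hsep
      (t := (yon S).preimage fst) (v := (CategoryTheory.Over.homMk O.ι rfl : Over.mk (O.ι ≫ V.hom) ⟶ V))
      (by rw [(yon S).map_preimage]; exact sq)
    exact this
  have hd : Dense (O : Set V.left) := by
    show Dense (Points.ofPt φ ⁻¹' Set.range (Points.map j))
    rw [hrange]
    exact hdense.preimage (isOpenMap_ofPt hφ)
  obtain ⟨p, sqp⟩ := Cartier.exists_isPullback_cutIdeal hi φ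
  have : IsReduced (Cartier.cutIdeal hi φ).subscheme :=
    WeakAssUnit.isReduced_chart hred p (repWith_of_isPullback sqp.flip hφ)
  rw [eq_vanishingIdeal_support (Cartier.cutIdeal hi φ)]
  have hsupp : (Cartier.cutIdeal hi φ).support = ⟨(O : Set V.left)ᶜ, O.isOpen.isClosed_compl⟩ := by
    ext v
    rw [SetLike.mem_coe, Cartier.range_snd_cutIdeal hi φ v, hri, ← hrange]
    rfl
  rw [hsupp]
  exact EffCompl.isEffCartier_vanishingIdeal_compl V.left (fun _ _ hA hB => hA.inf hB) O hO hd
    fun v _ => RegUFD.ufd _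

end Groth.Agent.AlgSpLib.CartierRegular
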