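import Groth.Agent.ModPairLib.Closure
import Groth.Prelude.Def_Flat
import Mathlib.Topology.KrullDimension

/-!
# An effective Cartier divisor drops the local dimension
-/

set_option backward.isDefEq.respectTransparency false
set_option backward.isDefEq.respectTransparency.types false

universe u

open CategoryTheory AlgebraicGeometry Topology TopologicalSpace Order

namespace Groth.Agent.AlgSpLib.CartierDim

theorem topologicalKrullDim_lt {W : Type*} [TopologicalSpace W] [QuasiSober W] [Nonempty W] {Z : Set W}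
    (hZ : IsClosed Z) (h : ∀ z ∈ Z, ∃ y ∉ Z, y ⤳ z) (hfin : topologicalKrullDim W ≠ ⊤) :
    topologicalKrullDim Z < topologicalKrullDim W := by
  have key : ∀ p : LTSeries (IrreducibleCloseds ↥Z),
      ((p.length + 1 : ℕ) : WithBot ℕ∞) ≤ topologicalKrullDim W := by
    intro p
    let q : LTSeries (IrreducibleCloseds W) :=
      p.map (IrreducibleCloseds.map (fun z : ↥Z => (z : W)) continuous_subtype_val)
        (IrreducibleCloseds.map_strictMono_of_isInducing IsInducing.subtypeVal)
    have hqZ : (q.last : Set W) ⊆ Z := by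
      rw [LTSeries.last_map, IrreducibleCloseds.coe_map]
      refine closure_minimal ?_ hZ
      rintro _ ⟨z, -, rfl⟩
      exact z.2
    obtain ⟨η, hη⟩ := QuasiSober.sober q.last.isIrreducible q.last.isClosed
    obtain ⟨y, hy, hyη⟩ := h η (hqZ hη.mem)
    let T : IrreducibleCloseds W := ⟨closure {y}, isIrreducible_singleton.closure, isClosed_closure⟩
    have hlt : q.last < T := by
      refine SetLike.coe_ssubset_coe.1 ⟨?_, fun hle => hy (hqZ (hle (subset_closure rfl)))⟩
      show (q.last : Set W) ⊆ closure {y}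
      rw [← hη]
      exact closure_minimal (Set.singleton_subset_iff.2 hyη.mem_closure) isClosed_closure
    have := LTSeries.length_le_krullDim (q.snoc T hlt)
    simpa [q, topologicalKrullDim] using this
  obtain h0 | h0 := isEmpty_or_nonempty (IrreducibleCloseds ↥Z)
  · rw [topologicalKrullDim, krullDim_eq_bot]
    exact bot_lt_iff_ne_bot.2 (by
      intro hb
      rw [topologicalKrullDim, krullDim_eq_bot_iff] at hb
      obtain ⟨w⟩ := ‹Nonempty W›
      exact hb.false ⟨closure {w}, isIrreducible_singleton.closure, isClosed_closure⟩)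
  have hle : topologicalKrullDim ↥Z + 1 ≤ topologicalKrullDim W := by
    rw [show topologicalKrullDim ↥Z = krullDim (IrreducibleCloseds ↥Z) from rfl,
      krullDim_eq_iSup_length]
    generalize hd : topologicalKrullDim W = dW at key hfin ⊢
    cases dW with
    | bot => exact absurd (key (Classical.arbitrary _)) (by simp)
    | coe dW =>
      rw [show (1 : WithBot ℕ∞) = ((1 : ℕ∞) : WithBot ℕ∞) from rfl, ← WithBot.coe_add, WithBot.coe_le_coe,
        ENat.iSup_add]
      exact iSup_le fun p => WithBot.coe_le_coe.1 (by exact_mod_cast key p)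
  refine lt_of_lt_of_le ?_ hle
  generalize hd : topologicalKrullDim ↥Z = dZ at hle ⊢
  cases dZ with
  | bot => simp [topologicalKrullDim, krullDim_eq_bot_iff] at hd
  | coe dZ =>
    rw [show (1 : WithBot ℕ∞) = ((1 : ℕ∞) : WithBot ℕ∞) from rfl, ← WithBot.coe_add, WithBot.coe_lt_coe]
    refine ENat.lt_add_one_iff (fun ht => hfin ?_) |>.2 le_rfl
    rw [ht] at hle
    refine top_le_iff.1 (le_trans ?_ hle)
    exact le_of_eq (by rfl)

theorem localDim_lt {X : Scheme.{u}} {I : X.IdealSheafData} (hI : BlowUp.IsEffCartierIdeal I) (d : ↥I.subscheme)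
    (hfin : FlatMor.localDim ↥X (I.subschemeι d) ≠ ⊤) :
    FlatMor.localDim ↥I.subscheme d < FlatMor.localDim ↥X (I.subschemeι d) := by
  let s := I.subschemeι d
  have hne : Nonempty {U : Opens ↥X // s ∈ U} := ⟨⟨⊤, trivial⟩⟩
  obtain ⟨⟨U, hU⟩, hUd⟩ : ∃ U : {U : Opens ↥X // s ∈ U},
      topologicalKrullDim (U.1 : Set ↥X) = FlatMor.localDim ↥X s :=
    ciInf_mem fun U : {U : Opens ↥X // s ∈ U} => topologicalKrullDim (U.1 : Set ↥X)
  have : Nonempty ↥(U : Set ↥X) := ⟨⟨s, hU⟩⟩
  have : QuasiSober ↥(U : Set ↥X) := U.isOpen.isOpenEmbedding_subtypeVal.quasiSober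
  let O : Opens ↥I.subscheme := ⟨I.subschemeι ⁻¹' (U : Set ↥X), U.isOpen.preimage I.subschemeι.continuous⟩
  let Z : Set ↥(U : Set ↥X) := Subtype.val ⁻¹' (I.support : Set ↥X)
  have hZ : IsClosed Z := I.support.isClosed.preimage continuous_subtype_val
  have h1 : FlatMor.localDim ↥I.subscheme d ≤ topologicalKrullDim (O : Set ↥I.subscheme) :=
    iInf_le (fun U : {U : Opens ↥I.subscheme // d ∈ U} => topologicalKrullDim (U.1 : Set ↥I.subscheme))
      (⟨O, hU⟩ : {U : Opens ↥I.subscheme // d ∈ U})
  refine lt_of_le_of_lt h1 ?_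
  let φ : ↥(O : Set ↥I.subscheme) → ↥Z := fun z => ⟨⟨I.subschemeι z, z.2⟩, by
    show I.subschemeι z ∈ (I.support : Set ↥X)
    rw [← I.range_subschemeι]
    exact ⟨_, rfl⟩⟩
  have hemb : IsEmbedding ((Subtype.val ∘ Subtype.val) ∘ φ) :=
    I.subschemeι.isEmbedding.comp IsEmbedding.subtypeVal
  have hφ : IsEmbedding φ :=
    IsEmbedding.of_comp (((I.subschemeι.continuous.comp continuous_subtype_val).subtype_mk _).subtype_mk _)
      (continuous_subtype_val.comp continuous_subtype_val) hemb
  refine lt_of_le_of_lt hφ.isInducing.topologicalKrullDim_le ?_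
  rw [← hUd]
  refine topologicalKrullDim_lt hZ (fun z hz => ?_) (hUd ▸ hfin)
  obtain ⟨y, hy, hyz⟩ := ModPairLib.exists_specializes_mem_interior hI z.1
  exact ⟨⟨y, hyz.mem_open U.isOpen z.2⟩, hy, (subtype_specializes_iff _ _).2 hyz⟩

end Groth.Agent.AlgSpLib.CartierDim
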