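import Groth.Prelude.Def_AlgSpMor5
import Groth.Agent.AlgSpLib.LocalSource
import Groth.Agent.S1386
import Mathlib.AlgebraicGeometry.Morphisms.FlatMono

/-!
# Flatness at a point of a morphism of algebraic spaces
-/

set_option backward.isDefEq.respectTransparency false
set_option backward.isDefEq.respectTransparency.types false

universe u

open CategoryTheory CategoryTheory.Limits AlgebraicGeometry Opposite AlgSp IsLocalRing Groth.Agent.FibFlat

namespace Groth.Agent.AlgSpLib

section Schemes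

variable {X Y Z : Scheme.{u}}

/-- Flatness at a point descends along a flat morphism on the source. -/
theorem flatAt_comp_left_iff (r : X ⟶ Y) (h : Y ⟶ Z) (x : X) (hr : (r.stalkMap x).hom.Flat) :
    ((r ≫ h).stalkMap x).hom.Flat ↔ (h.stalkMap (r x)).hom.Flat := by
  have e : ((r ≫ h).stalkMap x).hom = (r.stalkMap x).hom.comp (h.stalkMap (r x)).hom := by
    rw [Scheme.Hom.stalkMap_comp]; rfl
  rw [e]
  refine ⟨fun hf => ?_, fun hf => hf.comp hr⟩
  let := (h.stalkMap (r x)).hom.toAlgebra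
  let := (r.stalkMap x).hom.toAlgebra
  let := ((r.stalkMap x).hom.comp (h.stalkMap (r x)).hom).toAlgebra
  have : IsScalarTower (Z.presheaf.stalk (h (r x))) (Y.presheaf.stalk (r x)) (X.presheaf.stalk x) :=
    IsScalarTower.of_algebraMap_eq fun _ => rfl
  have : IsLocalHom (algebraMap (Y.presheaf.stalk (r x)) (X.presheaf.stalk x)) :=
    inferInstanceAs (IsLocalHom (r.stalkMap x).hom)
  have : Module.Flat (Y.presheaf.stalk (r x)) (X.presheaf.stalk x) := hr
  have : Module.FaithfullyFlat (Y.presheaf.stalk (r x)) (X.presheaf.stalk x) :=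
    Module.FaithfullyFlat.of_flat_of_isLocalHom
  have : Module.Flat (Z.presheaf.stalk (h (r x))) (X.presheaf.stalk x) := hf
  exact SmallFlat.flat_of_faithfullyFlat_tower _ (Y.presheaf.stalk (r x)) (X.presheaf.stalk x)

/-- Flatness at a point is not changed by an etale morphism on the target. -/
theorem flatAt_comp_right_iff (k : X ⟶ Y) (e : Y ⟶ Z) [Etale e] [LocallyOfFinitePresentation (k ≫ e)]
    (x : X) : ((k ≫ e).stalkMap x).hom.Flat ↔ (k.stalkMap x).hom.Flat := by
  refine ⟨fun hf => ?_, fun hk => by rw [Scheme.Hom.stalkMap_comp]; exact (Flat.stalkMap e (k x)).comp hk⟩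
  let γ : X ⟶ pullback (k ≫ e) e := pullback.lift (𝟙 X) k (Category.id_comp _)
  have hγ : IsOpenImmersion γ := by
    have h1 : Etale (γ ≫ pullback.fst (k ≫ e) e) := by rw [pullback.lift_fst]; infer_instance
    have : Etale γ := IsEtLocal.cancel_right (P := @Etale) γ (pullback.fst (k ≫ e) e) h1
    have : IsSplitMono γ := IsSplitMono.mk' ⟨pullback.fst (k ≫ e) e, pullback.lift_fst _ _ _⟩
    exact IsOpenImmersion.of_flat_of_mono γ
  have h1 : ((pullback.snd (k ≫ e) e).stalkMap (γ x)).hom.Flat := by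
    refine flat_stalk_of_isPullback (IsPullback.of_hasPullback (k ≫ e) e) (γ x) ?_
    have hp : pullback.fst (k ≫ e) e (γ x) = x := by
      rw [← Scheme.Hom.comp_apply, pullback.lift_fst]; rfl
    have key : ∀ x₀ : X, x₀ = x → ((k ≫ e).stalkMap x₀).hom.Flat := fun x₀ hx₀ => by subst hx₀; exact hf
    exact key _ hp
  have h2 := (flat_stalk_open_comp γ (pullback.snd (k ≫ e) e) x).2 h1
  rwa [pullback.lift_snd] at h2

/-- Flatness of the fibre map at a point descends along base change of the base. -/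
theorem ff_descend {X' Y' S S' : Scheme.{u}} {f : X ⟶ Y} {g : Y ⟶ S} {f' : X' ⟶ Y'} {g' : Y' ⟶ S'}
    {pX : X' ⟶ X} {pY : Y' ⟶ Y} {h : S' ⟶ S} (sY : IsPullback pY g' g h) (sX : IsPullback pX f' f pY)
    (x' : X') (hff : FF f' g' x') : FF f g (pX x') := by
  have hy : pY (f' x') = f (pX x') := by
    rw [← Scheme.Hom.comp_apply, ← Scheme.Hom.comp_apply, sX.w]
  have hs : h (g' (f' x')) = g (f (pX x')) := by
    rw [← hy, ← Scheme.Hom.comp_apply, ← Scheme.Hom.comp_apply pY g, sY.w]
  unfold FF at hff ⊢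
  have hsq₁ : g (f (pX x')) = g (f (pX x')) := rfl
  have h₁ : (sm g' (f' x') (g' (f' x')) rfl).comp (sm h (g' (f' x')) _ hs) =
      (sm pY (f' x') _ hy).comp (sm g (f (pX x')) _ rfl) :=
    (sm_comp g' h (f' x') _ _ rfl hs).symm.trans (sm_factor pY g (g' ≫ h) sY.w.symm (f' x') _ _ hy rfl
      (by rw [Scheme.Hom.comp_apply, hs]))
  have h₂ : (sm f' x' (f' x') rfl).comp (sm pY (f' x') _ hy) =
      (sm pX x' _ rfl).comp (sm f (pX x') _ rfl) :=
    (sm_comp f' pY x' _ _ rfl hy).symm.trans (sm_factor pX f (f' ≫ pY) sX.w.symm x' _ _ rfl rfl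
      (by rw [Scheme.Hom.comp_apply, hy]))
  set a := sm h (g' (f' x')) _ hs with ha
  set b := sm pY (f' x') _ hy with hb
  set c := sm pX x' _ rfl with hc
  set ψ := sm g (f (pX x')) _ rfl with hψ
  set φ := sm f (pX x') _ rfl with hφ
  set ψ' := sm g' (f' x') _ rfl with hψ'
  set φ' := sm f' x' _ rfl with hφ'
  have hm : (maximalIdeal _).map a ≤ maximalIdeal _ := map_maximalIdeal_le a
  have hle₁ : (maximalIdeal _).map ψ ≤ ((maximalIdeal _).map ψ').comap b := by
    rw [← Ideal.map_le_iff_le_comap, Ideal.map_map, ← h₁, ← Ideal.map_map]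
    exact Ideal.map_mono hm
  have hle₂ : ((maximalIdeal _).map ψ).map φ ≤ (((maximalIdeal _).map ψ').map φ').comap c := by
    rw [← Ideal.map_le_iff_le_comap, Ideal.map_map, ← h₂, ← Ideal.map_map]
    exact Ideal.map_mono (Ideal.map_le_iff_le_comap.2 hle₁)
  refine ffl_descend a b c h₁ h₂ hle₁ hle₂ ?_ ?_ hff
  · exact quotient_flat_of_isPullback' sY (f' x') _ hy _ rfl _ rfl _ rfl _ rfl hle₁
  · refine quotient_flat_of_isPullback' (sX.paste_vert sY) x' _ rfl (g (f (pX x')))
      (Scheme.Hom.comp_apply _ _ _) (g' (f' x')) (Scheme.Hom.comp_apply _ _ _) _ ?_ _ ?_ hle₂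
    · rw [sm_comp f g (pX x') (f (pX x')) _ rfl rfl, ← Ideal.map_map]
    · rw [sm_comp f' g' x' (f' x') _ rfl rfl, ← Ideal.map_map]

end Schemes

variable {S : Scheme.{u}}

/-- Flatness at a point is independent of the chart. -/
theorem flatAt_iff_of_charts {F G : Sp S} {f : F ⟶ G} {U V U₁ V₁ : Over S} {a : (yon S).obj U ⟶ F}
    {b : (yon S).obj V ⟶ G} {h : U ⟶ V} {a₁ : (yon S).obj U₁ ⟶ F}
    {b₁ : (yon S).obj V₁ ⟶ G} {h₁ : U₁ ⟶ V₁} (ha : RepWith @Etale a) (hb : RepWith @Etale b)
    (w : a ≫ f = (yon S).map h ≫ b) (ha₁ : RepWith @Etale a₁) (hb₁ : RepWith @Etale b₁)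
    (w₁ : a₁ ≫ f = (yon S).map h₁ ≫ b₁) [LocallyOfFinitePresentation h.left]
    [LocallyOfFinitePresentation h₁.left] {u : U.left} {u₁ : U₁.left}
    (hu : Points.ofPt a u = Points.ofPt a₁ u₁) :
    (h.left.stalkMap u).hom.Flat ↔ (h₁.left.stalkMap u₁).hom.Flat := by
  obtain ⟨z, hz, hz₁⟩ := exists_ofPt_of_eq (ha.rep.isPullback' a₁) hu
  subst hz hz₁
  set r := ha.rep.fst' a₁
  set r₁ := ha.rep.snd a₁
  have hr₁ : Etale r₁.left := ha.property_snd a₁
  have hr : Etale r.left := ha₁.2 a _ _ (ha.rep.isPullback' a₁).flip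
  let e := hb.rep.fst' b₁
  let e₁ := hb.rep.snd b₁
  have he₁ : Etale e₁.left := hb.property_snd b₁
  have he : Etale e.left := hb₁.2 b _ _ (hb.rep.isPullback' b₁).flip
  obtain ⟨k, hk, hk₁⟩ : ∃ k, k ≫ e = r ≫ h ∧ k ≫ e₁ = r₁ ≫ h₁ := by
    obtain ⟨k, hk⟩ := (yon S).map_surjective ((hb.rep.isPullback' b₁).lift ((yon S).map (r ≫ h))
      ((yon S).map (r₁ ≫ h₁)) (by
        rw [Functor.map_comp, Functor.map_comp, Category.assoc, Category.assoc, ← w, ← w₁, ← Category.assoc,
          ← Category.assoc]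
        exact congrArg (· ≫ f) (ha.rep.isPullback' a₁).w))
    exact ⟨k, (yon S).map_injective (by rw [Functor.map_comp, hk, IsPullback.lift_fst]),
      (yon S).map_injective (by rw [Functor.map_comp, hk, IsPullback.lift_snd])⟩
  have hk' : k.left ≫ e.left = r.left ≫ h.left := congrArg Over.Hom.left hk
  have hk₁' : k.left ≫ e₁.left = r₁.left ≫ h₁.left := congrArg Over.Hom.left hk₁
  have : LocallyOfFinitePresentation (k.left ≫ e.left) := by rw [hk']; infer_instance
  have : LocallyOfFinitePresentation (k.left ≫ e₁.left) := by rw [hk₁']; infer_instance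
  have h1 := flatAt_comp_left_iff r.left h.left z (Flat.stalkMap _ _)
  have h2 := flatAt_comp_left_iff r₁.left h₁.left z (Flat.stalkMap _ _)
  rw [← hk', flatAt_comp_right_iff] at h1
  rw [← hk₁', flatAt_comp_right_iff] at h2
  exact h1.symm.trans h2

/-- Flatness at a point of a morphism locally of finite presentation is tested on one chart. -/
theorem isFlatAtMor_iff {F G : Sp S} {f : F ⟶ G} (hf : LocP @LocallyOfFinitePresentation f)
    {U V : Over S} {a : (yon S).obj U ⟶ F} {b : (yon S).obj V ⟶ G} {h : U ⟶ V} (ha : RepWith @Etale a)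
    (hb : RepWith @Etale b) (w : a ≫ f = (yon S).map h ≫ b) (u : U.left) :
    IsFlatAtMor f (Points.ofPt a u) ↔ (h.left.stalkMap u).hom.Flat := by
  refine ⟨fun H => H a b h u ha hb w rfl, fun H U₁ V₁ a₁ b₁ h₁ u₁ ha₁ hb₁ w₁ hu₁ => ?_⟩
  have := hf a b h ha hb w
  have := hf a₁ b₁ h₁ ha₁ hb₁ w₁
  exact (flatAt_iff_of_charts ha₁ hb₁ w₁ ha hb w hu₁).2 H

/-- The base change of a chart over a chart. -/
theorem exists_chart_baseChange {X Y X' Y' : Sp S} {f : X ⟶ Y} {f' : X' ⟶ Y'} {pX : X' ⟶ X} {pY : Y' ⟶ Y}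
    (sq : IsPullback pX f' f pY) {U V V' : Over S} {b : (yon S).obj V ⟶ Y} {b' : (yon S).obj V' ⟶ Y'}
    {c : V' ⟶ V} (hc : b' ≫ pY = (yon S).map c ≫ b) {e : (yon S).obj U ⟶ pullback f b} {h : U ⟶ V}
    (hh : e ≫ pullback.snd f b = (yon S).map h) (he : RepWith @Etale e) (hes : RepWith @Surjective e)
    (hb' : RepWith @Etale b') (hbs' : RepWith @Surjective b') :
    ∃ (U' : Over S) (c' : U' ⟶ U) (h' : U' ⟶ V') (a' : (yon S).obj U' ⟶ X'),
      IsPullback c' h' h c ∧ RepWith @Etale a' ∧ RepWith @Surjective a' ∧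
      a' ≫ f' = (yon S).map h' ≫ b' ∧ a' ≫ pX = (yon S).map c' ≫ e ≫ pullback.fst f b := by
  let P' := pullback (pullback.snd f b) ((yon S).map c)
  let μ : P' ⟶ pullback f b := pullback.fst _ _
  let U' : Over S := pullback h c
  let c' : U' ⟶ U := pullback.fst h c
  let h' : U' ⟶ V' := pullback.snd h c
  have sU : IsPullback ((yon S).map c') ((yon S).map h') ((yon S).map h) ((yon S).map c) :=
    (IsPullback.of_hasPullback h c).map (yon S)
  let e' : (yon S).obj U' ⟶ P' := pullback.lift ((yon S).map c' ≫ e) ((yon S).map h') (by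
    rw [Category.assoc, hh]; exact sU.w)
  have se : IsPullback ((yon S).map c') e' e μ := by
    refine IsPullback.of_bot ?_ (pullback.lift_fst _ _ _).symm (IsPullback.of_hasPullback _ _)
    rw [pullback.lift_snd, hh]
    exact sU
  have sP : IsPullback (μ ≫ pullback.fst f b) (pullback.snd (pullback.snd f b) ((yon S).map c)) f
      (b' ≫ pY) := by
    rw [hc]
    exact (IsPullback.of_hasPullback _ _).paste_horiz (IsPullback.of_hasPullback f b)
  let ν : P' ⟶ X' := sq.lift (μ ≫ pullback.fst f b)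
    (pullback.snd (pullback.snd f b) ((yon S).map c) ≫ b') (sP.w.trans (Category.assoc _ _ _).symm)
  have sν : IsPullback ν (pullback.snd (pullback.snd f b) ((yon S).map c)) f' b' := by
    refine IsPullback.of_right ?_ (sq.lift_snd _ _ _) sq
    rw [IsPullback.lift_fst]
    exact sP
  refine ⟨U', c', h', e' ≫ ν, IsPullback.of_hasPullback h c,
    repWith_comp (repWith_of_isPullback se he) (repWith_of_isPullback sν.flip hb'),
    repWith_comp (repWith_of_isPullback se hes) (repWith_of_isPullback sν.flip hbs'), ?_, ?_⟩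
  · rw [Category.assoc, sq.lift_snd, ← Category.assoc, pullback.lift_snd]
  · rw [Category.assoc, sq.lift_fst, ← Category.assoc, pullback.lift_fst, Category.assoc]

theorem locP_lofp_of_comp {X Y Z : Sp S} (hX : IsAlgSpace X) (hY : IsAlgSpace Y) (hZ : IsAlgSpace Z)
    (f : X ⟶ Y) (h : Y ⟶ Z)
    (hfp : LocP @LocallyOfFinitePresentation (f ≫ h)) (hft : LocP @LocallyOfFiniteType h) :
    LocP @LocallyOfFinitePresentation f := by
  obtain ⟨W, w, hw, hws⟩ := hZ.atlas
  obtain ⟨V, e, k, he, hes, hk⟩ := exists_chart_over hY hZ h w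
  obtain ⟨U, eX, m, heX, heXs, hm⟩ := exists_chart_over hX hY f (e ≫ pullback.fst h w)
  have hb : RepWith @Etale (e ≫ pullback.fst h w) := repWith_comp he (repWith_fst h hw)
  have hbs : RepWith @Surjective (e ≫ pullback.fst h w) := repWith_comp hes (repWith_fst h hws)
  have wk : (e ≫ pullback.fst h w) ≫ h = (yon S).map k ≫ w := by
    rw [Category.assoc, pullback.condition, ← Category.assoc, hk]
  have wm : (eX ≫ pullback.fst f _) ≫ f = (yon S).map m ≫ (e ≫ pullback.fst h w) := by
    rw [Category.assoc, pullback.condition, ← Category.assoc, hm]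
  have := hft _ _ _ hb hw wk
  have : LocallyOfFinitePresentation (m.left ≫ k.left) := by
    have := hfp (eX ≫ pullback.fst f _) w (m ≫ k) (repWith_comp heX (repWith_fst f hb)) hw (by
      rw [← Category.assoc, wm, Category.assoc, wk, Functor.map_comp, Category.assoc])
    exact this
  exact locP_of_chart (repWith_comp heX (repWith_fst f hb)) (repWith_comp heXs (repWith_fst f hbs))
    hb wm (AlgSpPts.locallyOfFinitePresentation_of_comp m.left k.left)

/-- Openness of the flat locus and its compatibility with base change. -/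
theorem isOpen_flatLocus_and_baseChange {X Y Z : Sp S} (hX : IsAlgSpace X) (hY : IsAlgSpace Y)
    (hZ : IsAlgSpace Z) (f : X ⟶ Y) (h : Y ⟶ Z)
    (hfp : LocP @LocallyOfFinitePresentation (f ≫ h)) (hfl : LocP @Flat (f ≫ h))
    (hft : LocP @LocallyOfFiniteType h) :
    IsOpen {x : Points X | IsFlatAtMor f x} ∧
    ∀ {X' Y' Z' : Sp S}, IsAlgSpace X' → IsAlgSpace Y' → IsAlgSpace Z' →
      ∀ (g : Z' ⟶ Z) (f' : X' ⟶ Y') (h' : Y' ⟶ Z') (pX : X' ⟶ X) (pY : Y' ⟶ Y),
      IsPullback pY h' h g → IsPullback pX f' f pY →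
      {x' : Points X' | IsFlatAtMor f' x'} = Points.map pX ⁻¹' {x : Points X | IsFlatAtMor f x} := by
  have hf := locP_lofp_of_comp hX hY hZ f h hfp hft
  obtain ⟨W, w, hw, hws⟩ := hZ.atlas
  obtain ⟨V, e, k, he, hes, hk⟩ := exists_chart_over hY hZ h w
  have hb : RepWith @Etale (e ≫ pullback.fst h w) := repWith_comp he (repWith_fst h hw)
  have hbs : RepWith @Surjective (e ≫ pullback.fst h w) := repWith_comp hes (repWith_fst h hws)
  obtain ⟨U, eX, m, heX, heXs, hm⟩ := exists_chart_over hX hY f (e ≫ pullback.fst h w)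
  have ha : RepWith @Etale (eX ≫ pullback.fst f _) := repWith_comp heX (repWith_fst f hb)
  have has : RepWith @Surjective (eX ≫ pullback.fst f _) := repWith_comp heXs (repWith_fst f hbs)
  have wk : (e ≫ pullback.fst h w) ≫ h = (yon S).map k ≫ w := by
    rw [Category.assoc, pullback.condition, ← Category.assoc, hk]
  have wm : (eX ≫ pullback.fst f _) ≫ f = (yon S).map m ≫ (e ≫ pullback.fst h w) := by
    rw [Category.assoc, pullback.condition, ← Category.assoc, hm]
  have wmk : (eX ≫ pullback.fst f _) ≫ f ≫ h = (yon S).map (m ≫ k) ≫ w := by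
    rw [← Category.assoc, wm, Category.assoc, wk, Functor.map_comp, Category.assoc]
  have : LocallyOfFiniteType k.left := hft _ _ _ hb hw wk
  have hmfp : LocallyOfFinitePresentation (m.left ≫ k.left) := hfp _ w _ ha hw wmk
  have hmfl : Flat (m.left ≫ k.left) := hfl _ w _ ha hw wmk
  have : LocallyOfFinitePresentation m.left := hf _ _ _ ha hb wm
  refine ⟨?_, fun {X' Y' Z'} hX' hY' hZ' g f' h' pX pY sY sX => Set.ext fun x' => ?_⟩
  · refine (isOpen_iff_chart ha has).2 ?_
    convert FlatLocus.isOpen_flat_locus m.left using 1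
    ext u
    exact isFlatAtMor_iff hf ha hb wm u
  have hf' : LocP @LocallyOfFinitePresentation f' := locP_of_isPullback sX hX hY hY' hf
  obtain ⟨W', e₀, cW, he₀, hes₀, hcW⟩ := exists_chart_over hZ' hZ g w
  have hw' : RepWith @Etale (e₀ ≫ pullback.fst g w) := repWith_comp he₀ (repWith_fst g hw)
  have hws' : RepWith @Surjective (e₀ ≫ pullback.fst g w) := repWith_comp hes₀ (repWith_fst g hws)
  have hcw : (e₀ ≫ pullback.fst g w) ≫ g = (yon S).map cW ≫ w := by
    rw [Category.assoc, pullback.condition, ← Category.assoc, hcW]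
  obtain ⟨V', cV, k', b', sV, hb', hbs', hbk', hbc⟩ :=
    exists_chart_baseChange sY hcw hk he hes hw' hws'
  obtain ⟨U', cU, m', a', sU, ha', has', ham', hac⟩ :=
    exists_chart_baseChange sX hbc hm heX heXs hb' hbs'
  obtain ⟨u', rfl⟩ := surjective_ofPt has' x'
  have hpx : Points.map pX (Points.ofPt a' u') = Points.ofPt (eX ≫ pullback.fst f _) (cU.left u') := by
    rw [Points.map_ofPt, hac, ofPt_comp]
  simp only [Set.mem_setOf_eq, Set.mem_preimage]
  rw [hpx, isFlatAtMor_iff hf ha hb wm, isFlatAtMor_iff hf' ha' hb' ham' u']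
  have sUl := sU.map (Over.forget S)
  have sVl := sV.map (Over.forget S)
  have : LocallyOfFinitePresentation ((Over.forget S).map m) := inferInstanceAs (LocallyOfFinitePresentation m.left)
  refine ⟨fun H => ?_, fun H => flat_stalk_of_isPullback sUl u' H⟩
  have : LocallyOfFinitePresentation m'.left := hf' _ _ _ ha' hb' ham'
  have hff : FF m.left k.left (cU.left u') :=
    ff_descend sVl sUl u' (Groth.Agent.S1386.ff_of_flat m'.left k'.left u' H)
  exact (((Groth.Agent.S1386.result m.left k.left).1 (cU.left u')).1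
    ⟨Flat.stalkMap (m.left ≫ k.left) _, (fiberMap_flat_iff _ _ _).2 hff⟩).2

/-- The fibrewise criterion of flatness. -/
theorem flat_of_flat_fibres {X Y Z : Sp S} (hX : IsAlgSpace X) (hY : IsAlgSpace Y) (hZ : IsAlgSpace Z)
    (f : X ⟶ Y) (h : Y ⟶ Z)
    (hfp : LocP @LocallyOfFinitePresentation (f ≫ h)) (hfl : LocP @Flat (f ≫ h))
    (hft : LocP @LocallyOfFiniteType h)
    (hfib : ∀ (K : Type u) [Field K] (sK : Spec (CommRingCat.of K) ⟶ S)
      (z : (yon S).obj (Over.mk sK) ⟶ Z) (Xz Yz : Sp S)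
      (pX : Xz ⟶ X) (qX : Xz ⟶ (yon S).obj (Over.mk sK))
      (pY : Yz ⟶ Y) (qY : Yz ⟶ (yon S).obj (Over.mk sK)) (fz : Xz ⟶ Yz),
      IsPullback pX qX (f ≫ h) z → IsPullback pY qY h z → fz ≫ pY = pX ≫ f → fz ≫ qY = qX →
      LocP @Flat fz) :
    LocP @Flat f ∧ (Function.Surjective (Points.map f) → LocP @Flat h) := by
  have hf := locP_lofp_of_comp hX hY hZ f h hfp hft
  obtain ⟨W, w, hw, hws⟩ := hZ.atlas
  obtain ⟨V, e, k, he, hes, hk⟩ := exists_chart_over hY hZ h w
  have hb : RepWith @Etale (e ≫ pullback.fst h w) := repWith_comp he (repWith_fst h hw)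
  have hbs : RepWith @Surjective (e ≫ pullback.fst h w) := repWith_comp hes (repWith_fst h hws)
  obtain ⟨U, eX, m, heX, heXs, hm⟩ := exists_chart_over hX hY f (e ≫ pullback.fst h w)
  have ha : RepWith @Etale (eX ≫ pullback.fst f _) := repWith_comp heX (repWith_fst f hb)
  have has : RepWith @Surjective (eX ≫ pullback.fst f _) := repWith_comp heXs (repWith_fst f hbs)
  have wk : (e ≫ pullback.fst h w) ≫ h = (yon S).map k ≫ w := by
    rw [Category.assoc, pullback.condition, ← Category.assoc, hk]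
  have wm : (eX ≫ pullback.fst f _) ≫ f = (yon S).map m ≫ (e ≫ pullback.fst h w) := by
    rw [Category.assoc, pullback.condition, ← Category.assoc, hm]
  have wmk : (eX ≫ pullback.fst f _) ≫ f ≫ h = (yon S).map (m ≫ k) ≫ w := by
    rw [← Category.assoc, wm, Category.assoc, wk, Functor.map_comp, Category.assoc]
  have : LocallyOfFiniteType k.left := hft _ _ _ hb hw wk
  have hmfp : LocallyOfFinitePresentation (m.left ≫ k.left) := hfp _ w _ ha hw wmk
  have hmfl : Flat (m.left ≫ k.left) := hfl _ w _ ha hw wmk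
  have : LocallyOfFinitePresentation m.left := hf _ _ _ ha hb wm
  have main : ∀ u : U.left, (k.left.stalkMap (m.left u)).hom.Flat ∧ (m.left.stalkMap u).hom.Flat := by
    intro u
    let σ := W.left.fromSpecResidueField ((m.left ≫ k.left) u)
    let cW : Over.mk (σ ≫ W.hom) ⟶ W := Over.homMk σ rfl
    let z : (yon S).obj (Over.mk (σ ≫ W.hom)) ⟶ Z := (yon S).map cW ≫ w
    let Yz := pullback h z
    let Xz := pullback (f ≫ h) z
    let fz : Xz ⟶ Yz := pullback.lift (pullback.fst (f ≫ h) z ≫ f) (pullback.snd (f ≫ h) z)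
      ((Category.assoc _ _ _).trans pullback.condition)
    have hflz : LocP @Flat fz := hfib (W.left.residueField ((m.left ≫ k.left) u)) _ z Xz Yz _ _ _ _ fz
      (IsPullback.of_hasPullback (f ≫ h) z) (IsPullback.of_hasPullback h z) (pullback.lift_fst _ _ _)
      (pullback.lift_snd _ _ _)
    have sY : IsPullback (pullback.fst h z) (pullback.snd h z) h z := IsPullback.of_hasPullback h z
    have sX : IsPullback (pullback.fst (f ≫ h) z) fz f (pullback.fst h z) := by
      refine IsPullback.of_bot ?_ (pullback.lift_fst _ _ _).symm sY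
      rw [pullback.lift_snd]
      exact IsPullback.of_hasPullback (f ≫ h) z
    obtain ⟨V', cV, k', b', sV, hb', hbs', hbk', hbc⟩ :=
      exists_chart_baseChange sY (b' := 𝟙 _) (Category.id_comp _) hk he hes (repWith_id _ _) (repWith_id _ _)
    obtain ⟨U', cU, m', a', sU, ha', has', ham', hac⟩ :=
      exists_chart_baseChange sX hbc hm heX heXs hb' hbs'
    have sUl : IsPullback cU.left m'.left m.left cV.left := sU.map (Over.forget S)
    have sVl : IsPullback cV.left k'.left k.left cW.left := sV.map (Over.forget S)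
    obtain ⟨u', hu'⟩ : ∃ u' : U'.left, cU.left u' = u := by
      have sl := sUl.paste_vert sVl
      obtain ⟨y, hy, -⟩ := Scheme.Pullback.exists_preimage_pullback (f := m.left ≫ k.left) (g := cW.left) u
        (IsLocalRing.closedPoint (W.left.residueField ((m.left ≫ k.left) u)))
        (W.left.fromSpecResidueField_apply _ _).symm
      refine ⟨sl.isoPullback.inv y, ?_⟩
      rw [← Scheme.Hom.comp_apply, sl.isoPullback_inv_fst, hy]
    have : Flat m'.left := hflz _ _ _ ha' hb' ham'
    have : LocallyOfFinitePresentation m'.left :=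
      MorphismProperty.of_isPullback (P := @LocallyOfFinitePresentation) sUl ‹LocallyOfFinitePresentation m.left›
    subst hu'
    have hff : FF m.left k.left (cU.left u') :=
      ff_descend sVl sUl u' (Groth.Agent.S1386.ff_of_flat m'.left k'.left u' (Flat.stalkMap _ _))
    exact ((Groth.Agent.S1386.result m.left k.left).1 (cU.left u')).1
      ⟨Flat.stalkMap (m.left ≫ k.left) _, (fiberMap_flat_iff _ _ _).2 hff⟩
  refine ⟨locP_of_chart ha has hb wm (Flat.of_stalkMap _ fun u => (main u).2), fun hs => ?_⟩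
  refine locP_of_chart hb hbs hw wk (Flat.of_stalkMap _ fun v => ?_)
  obtain ⟨u, rfl⟩ : v ∈ Set.range m.left := by
    rw [range_chart_over (IsPullback.of_hasPullback f _) heXs hm]
    exact hs _
  exact (main u).1

end Groth.Agent.AlgSpLib
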