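import Groth.Agent.AlgSpLib.AffineDesc
import Groth.Agent.AlgSpDec.QuasiAffineMor
import Groth.Agent.EtFound.Descent

/-!
# Affine, quasi-affine, integral, finite and finite locally free morphisms are fpqc local on the base
-/

set_option backward.isDefEq.respectTransparency false
set_option backward.isDefEq.respectTransparency.types false

universe u

open CategoryTheory CategoryTheory.Limits AlgebraicGeometry Opposite AlgSp

namespace Groth.Agent.AlgSpLib

variable {S : Scheme.{u}}

theorem isSeparatedMor_of_repWith {F G : Sp S} {f : F ⟶ G} (hf : RepWith @IsSeparated f) :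
    IsSeparatedMor f :=
  repWith_diagonal hf fun g hg => by
    have : IsSeparated g := hg
    infer_instance

theorem isAffineMor_of_isPullback {F G F' G' : Sp S} {f : F ⟶ G} {g : G' ⟶ G} {fst : F' ⟶ F}
    {snd : F' ⟶ G'} (sq : IsPullback fst snd f g) (hf : IsAffineMor f) : IsAffineMor snd :=
  AlgSpDec.isAffineMor_of_repWith le_rfl (repWith_of_isPullback sq (AlgSpDec.repWith_isAffineHom_of_isAffineMor hf))

theorem isQuasiAffineMor_of_isPullback {F G F' G' : Sp S} {f : F ⟶ G} {g : G' ⟶ G} {fst : F' ⟶ F}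
    {snd : F' ⟶ G'} (sq : IsPullback fst snd f g) (hf : IsQuasiAffineMor f) : IsQuasiAffineMor snd := by
  intro Z hZ z
  obtain ⟨W, i, fstW, sW, hW⟩ := hf hZ (z ≫ g)
  refine ⟨W, i, sq.lift fstW ((yon S).map i ≫ z) (sW.w.trans (Category.assoc _ _ _).symm), ?_, hW⟩
  refine IsPullback.of_right ?_ (sq.lift_snd _ _ _) sq
  rw [IsPullback.lift_fst]
  exact sW

/-- Quasi-affine morphisms are representable, separated and quasi-compact. -/
theorem repWith_of_isQuasiAffineMor {F G : Sp S} {f : F ⟶ G} (hf : IsQuasiAffineMor f) :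
    RepWith (@IsSeparated ⊓ @QuasiCompact) f := by
  refine ⟨AlgSpDec.representable_of_isQuasiAffineMor hf, fun T W g fst snd sq => ?_⟩
  change (@IsSeparated ⊓ @QuasiCompact : MorphismProperty Scheme.{u}) snd.left
  rw [IsZariskiLocalAtTarget.iff_of_iSup_eq_top (P := (@IsSeparated ⊓ @QuasiCompact : MorphismProperty Scheme.{u}))
    (fun U : T.left.affineOpens => U.1) (iSup_affineOpens_eq_top _)]
  intro U
  let TU : Over S := Over.mk (U.1.ι ≫ T.hom)
  let inc : TU ⟶ T := CategoryTheory.Over.homMk U.1.ι rfl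
  let WU : Over S := Over.mk ((snd.left ⁻¹ᵁ U.1).ι ≫ W.hom)
  let r : WU ⟶ TU := CategoryTheory.Over.homMk (snd.left ∣_ U.1) (by
    change _ ≫ U.1.ι ≫ T.hom = _ ≫ W.hom
    rw [← Category.assoc, (isPullback_morphismRestrict snd.left U.1).w, Category.assoc, Over.w snd])
  let k : WU ⟶ W := CategoryTheory.Over.homMk (snd.left ⁻¹ᵁ U.1).ι rfl
  have hw : k ≫ snd = r ≫ inc := Over.OverMorphism.ext (isPullback_morphismRestrict snd.left U.1).w.symm
  have sqk : IsPullback k r snd inc :=
    IsPullback.of_map (Over.forget S) hw (isPullback_morphismRestrict snd.left U.1).flip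
  have sq₁ : IsPullback ((yon S).map k ≫ fst) ((yon S).map r) f ((yon S).map inc ≫ g) :=
    (sqk.map (yon S)).paste_horiz sq
  obtain ⟨W', i, fst', sq₂, hW'⟩ := hf (Z := TU) U.2 ((yon S).map inc ≫ g)
  let e : WU ≅ W' := (yon S).preimageIso (sq₁.isoIsPullback _ _ sq₂)
  have hq : (snd.left ⁻¹ᵁ U.1).toScheme.IsQuasiAffine := by
    have : IsIso e.hom.left := inferInstanceAs (IsIso ((Over.forget S).map e.hom))
    exact Scheme.IsQuasiAffine.of_isAffineHom (e.hom.left : _ ⟶ W'.left)
  have : IsAffine U.1.toScheme := U.2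
  exact ⟨inferInstanceAs (IsSeparated (snd.left ∣_ U.1)),
    (quasiCompact_iff_compactSpace (snd.left ∣_ U.1)).2 inferInstance⟩

theorem isLocalOnBase_isIso_repWith :
    IsLocalOnBase (IsFpqcCover (S := S)) (RepWith (MorphismProperty.isomorphisms Scheme.{u})) := by
  intro ι Y Yi g hY hYi hg X f hX Xi p q hXi sq
  refine ⟨fun hf i => repWith_of_isPullback (sq i) hf, fun hp => (repWith_isomorphisms_iff f).2 ?_⟩
  exact isIso_of_fpqc hX hY hYi hXi hg sq fun i => (repWith_isomorphisms_iff _).1 (hp i)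

/-- Affine morphisms are local on the base in the fpqc topology. -/
theorem isLocalOnBase_fpqc_isAffineMor : IsLocalOnBase (IsFpqcCover (S := S)) IsAffineMor := by
  intro ι Y Yi g hY hYi hg X f hX Xi p q hXi sq
  refine ⟨fun hf i => isAffineMor_of_isPullback (sq i) hf, fun hp Z hZ z => ?_⟩
  have hr := fun i => AlgSpDec.repWith_isAffineHom_of_isAffineMor (hp i)
  have hsep : IsSeparatedMor f := (isLocalOnBase_fpqc_isSeparatedMor Yi g hY hYi hg f hX Xi p q hXi sq).2
    fun i => isSeparatedMor_of_repWith (repWith_mono (fun _ _ h hh => by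
      have : IsAffineHom h := hh
      exact inferInstanceAs (IsSeparated h)) _ (hr i))
  have hqc : IsQuasiCompactMor f := (isLocalOnBase_fpqc_isQuasiCompactMor Yi g hY hYi hg f hX Xi p q hXi sq).2
    fun i => AlgSpPts.isQuasiCompactMor_of_repWith (repWith_mono (fun _ _ h hh => by
      have : IsAffineHom h := hh
      exact inferInstanceAs (QuasiCompact h)) _ (hr i))
  obtain ⟨T₀, i, φ, h₀, hφ, hw⟩ := exists_affine_hull (Q := MorphismProperty.isomorphisms Scheme.{u})
    isLocalOnBase_isIso_repWith hX hY hsep hqc hg sq (fun k W hW l => by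
      obtain ⟨D, i, fst, s, hD⟩ := hp k hW l
      exact ⟨D, i, fst, s, inferInstance, inferInstanceAs (IsIso D.left.toSpecΓ)⟩) z
  have := (repWith_isomorphisms_iff φ).1 hφ
  refine ⟨T₀, i, inv φ ≫ pullback.fst f z, ?_, h₀⟩
  refine (IsPullback.of_hasPullback f z).of_iso (asIso φ) (Iso.refl _) (Iso.refl _) (Iso.refl _)
    (by simp) ?_ (by simp) (by simp)
  rw [Iso.refl_hom, Category.comp_id, asIso_hom, hw]

/-- Quasi-affine morphisms are local on the base in the fpqc topology. -/
theorem isLocalOnBase_fpqc_isQuasiAffineMor : IsLocalOnBase (IsFpqcCover (S := S)) IsQuasiAffineMor := by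
  intro ι Y Yi g hY hYi hg X f hX Xi p q hXi sq
  refine ⟨fun hf i => isQuasiAffineMor_of_isPullback (sq i) hf, fun hp Z hZ z => ?_⟩
  have hr := fun i => repWith_of_isQuasiAffineMor (hp i)
  have hsep : IsSeparatedMor f := (isLocalOnBase_fpqc_isSeparatedMor Yi g hY hYi hg f hX Xi p q hXi sq).2
    fun i => isSeparatedMor_of_repWith (repWith_mono (fun _ _ h hh => hh.1) _ (hr i))
  have hqc : IsQuasiCompactMor f := (isLocalOnBase_fpqc_isQuasiCompactMor Yi g hY hYi hg f hX Xi p q hXi sq).2
    fun i => AlgSpPts.isQuasiCompactMor_of_repWith (repWith_mono (fun _ _ h hh => hh.2) _ (hr i))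
  obtain ⟨T₀, i, φ, h₀, hφ, hw⟩ := exists_affine_hull (Q := @IsOpenImmersion)
    isLocalOnBase_fpqc_isOpenImmersion hX hY hsep hqc hg sq (fun k W hW l => by
      obtain ⟨D, i, fst, s, hD⟩ := hp k hW l
      exact ⟨D, i, fst, s, inferInstance, inferInstanceAs (IsOpenImmersion D.left.toSpecΓ)⟩) z
  let hr' := hφ.rep
  let W := hr'.pullback (𝟙 ((yon S).obj T₀))
  let w := hr'.snd (𝟙 ((yon S).obj T₀))
  let e := hr'.fst (𝟙 ((yon S).obj T₀))
  have : IsIso e := (hr'.isPullback (𝟙 ((yon S).obj T₀))).isIso_fst_of_isIso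
  have hwo : IsOpenImmersion w.left := hφ.property_snd _
  have hwe : e ≫ φ = (yon S).map w := (hr'.isPullback (𝟙 _)).w.trans (Category.comp_id _)
  refine ⟨W, w ≫ i, e ≫ pullback.fst f z, ?_, ?_⟩
  · refine (IsPullback.of_hasPullback f z).of_iso (asIso e).symm (Iso.refl _) (Iso.refl _) (Iso.refl _)
      (by simp) ?_ (by simp) (by simp)
    rw [Iso.refl_hom, Category.comp_id, Iso.symm_hom, asIso_inv, IsIso.eq_inv_comp, ← hw, ← Category.assoc, hwe,
      Functor.map_comp]
  · have : CompactSpace W.left := by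
      obtain ⟨U, a, ha, hs⟩ : ∃ (U : Over S) (a : (yon S).obj U ⟶ pullback f z),
          IsAffine U.left ∧ RepWith @Surjective a := by
        obtain ⟨U, a, hU, -, hs⟩ := (Groth.Agent.S10180.result
          ⟨pullback f z, isAlgSpace_pullback hX (IsAlgSpace.yon_obj Z) hY f z⟩).1
          (hqc (IsAlgSpace.yon_obj Z) (isQuasiCompactSp_yon Z) z _ _ (IsPullback.of_hasPullback f z))
        exact ⟨U, a, hU, hs⟩
      obtain ⟨v, hv⟩ := (yon S).map_surjective (a ≫ inv e)
      have hvs : Surjective v.left := by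
        refine (repWith_yon_map_iff _ v).1 ?_
        rw [hv]
        exact repWith_comp hs (repWith_of_isIso _ _)
      exact Function.Surjective.compactSpace (f := v.left) v.left.continuous v.left.surjective
    exact Scheme.IsQuasiAffine.of_isImmersion w.left

theorem isLocalOnBase_fpqc_repWith {P : MorphismProperty Scheme.{u}} [P.IsStableUnderBaseChange]
    [IsZariskiLocalAtTarget P] [P.DescendsAlong (@Surjective ⊓ @Flat ⊓ @QuasiCompact)]
    (hP : P ≤ @IsAffineHom) : IsLocalOnBase (IsFpqcCover (S := S)) (RepWith P) := by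
  intro ι Y Yi g hY hYi hg X f hX Xi p q hXi sq
  refine ⟨fun hf i => repWith_of_isPullback (sq i) hf, fun hp => ?_⟩
  refine repWith_of_fpqc ?_ hg sq hp
  exact AlgSpDec.representable_of_isAffineMor
    ((isLocalOnBase_fpqc_isAffineMor Yi g hY hYi hg f hX Xi p q hXi sq).2
      fun i => AlgSpDec.isAffineMor_of_repWith hP (hp i))

theorem isLocalOnBase_fpqc_isIntegralMor : IsLocalOnBase (IsFpqcCover (S := S)) IsIntegralMor := by
  have := EtFound.fpqc_isIntegralHom.{u}
  intro ι Y Yi g hY hYi hg X f hX Xi p q hXi sq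
  simp only [AlgSpDec.isIntegralMor_iff_repWith]
  exact isLocalOnBase_fpqc_repWith (fun _ _ h hh => by
    have : IsIntegralHom h := hh
    exact inferInstanceAs (IsAffineHom h)) Yi g hY hYi hg f hX Xi p q hXi sq

theorem isLocalOnBase_fpqc_isFiniteMor : IsLocalOnBase (IsFpqcCover (S := S)) IsFiniteMor := by
  have := EtFound.fpqc_isFinite.{u}
  intro ι Y Yi g hY hYi hg X f hX Xi p q hXi sq
  simp only [AlgSpDec.isFiniteMor_iff_repWith]
  exact isLocalOnBase_fpqc_repWith (fun _ _ h hh => by
    have : IsFinite h := hh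
    exact inferInstanceAs (IsAffineHom h)) Yi g hY hYi hg f hX Xi p q hXi sq

theorem finLocFree_eq : (finLocFree : MorphismProperty Scheme.{u}) =
    (@IsFinite ⊓ (@Flat ⊓ @LocallyOfFinitePresentation : MorphismProperty Scheme.{u}) :
      MorphismProperty Scheme.{u}) := rfl

theorem isLocalOnBase_fpqc_isFinLocFreeMor : IsLocalOnBase (IsFpqcCover (S := S)) IsFinLocFreeMor := by
  have := EtFound.fpqc_isFinite.{u}
  have : IsZariskiLocalAtTarget (finLocFree : MorphismProperty Scheme.{u}) := by
    rw [finLocFree_eq]; infer_instance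
  have : (finLocFree : MorphismProperty Scheme.{u}).DescendsAlong (@Surjective ⊓ @Flat ⊓ @QuasiCompact) := by
    rw [finLocFree_eq]; infer_instance
  exact isLocalOnBase_fpqc_repWith (fun _ _ h hh => by
    have : IsFinite h := hh.1
    exact inferInstanceAs (IsAffineHom h))

end Groth.Agent.AlgSpLib
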