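import Groth.Agent.AlgSpLib.FpqcDescent
import Groth.Agent.AlgSpLib.LocalSource
import Groth.Agent.AlgSpLib.LocalBaseTop

/-!
# Quasi-compact flat surjective monomorphisms are isomorphisms
-/

set_option backward.isDefEq.respectTransparency false
set_option backward.isDefEq.respectTransparency.types false

universe u

open CategoryTheory CategoryTheory.Limits AlgebraicGeometry Opposite AlgSp

namespace Groth.Agent.AlgSpLib

variable {S : Scheme.{u}}

theorem isFpqcCover_of_qc_flat_surjective {X Y : Sp S} (hX : IsAlgSpace X) (hY : IsAlgSpace Y) (f : X ⟶ Y)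
    (hqc : IsQuasiCompactMor f) (hflat : LocP @Flat f) (hs : IsSurjectiveMor f) :
    IsFpqcCover (fun _ : PUnit.{u + 1} => X) (fun _ => f) := by
  refine ⟨fun _ => hflat, fun Z hZ h => ?_⟩
  let P := pullback f h
  have sq : IsPullback (pullback.fst f h) (pullback.snd f h) f h := IsPullback.of_hasPullback f h
  have hPfl : LocP @Flat (pullback.snd f h) := locP_of_isPullback sq hX hY (IsAlgSpace.yon_obj Z) hflat
  obtain ⟨U, p, he, hps, hU⟩ := hqc (IsAlgSpace.yon_obj Z)
    (isQuasiCompactSp_yon Z) h _ _ sq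
  have : CompactSpace ↥U.left := hU
  let v : U ⟶ Z := (yon S).preimage (p ≫ pullback.snd f h)
  have hv : (yon S).map v = p ≫ pullback.snd f h := (yon S).map_preimage _
  have hvf : Flat v.left := hPfl p (𝟙 _) v he (repWith_id _ Z) (by rw [hv, Category.comp_id])
  have hvs : ∀ z : ↥Z.left, z ∈ Set.range v.left := fun z =>
    (range_chart_over sq hps hv.symm).ge (hs (Points.ofPt h z))
  let 𝒰 := U.left.affineCover.finiteSubcover
  let e := Fintype.equivFin 𝒰.I₀
  let W : Fin (Fintype.card 𝒰.I₀) → Over S := fun j => Over.mk (𝒰.f (e.symm j) ≫ U.hom)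
  let ι : ∀ j, W j ⟶ U := fun j => Over.homMk (𝒰.f (e.symm j)) rfl
  refine ⟨_, W, fun j => ι j ≫ v, fun j => ?_, fun j => ?_, fun z => ?_, fun j => ?_⟩
  · exact inferInstanceAs (IsAffine (U.left.affineCover.X _))
  · show Flat (𝒰.f (e.symm j) ≫ v.left)
    infer_instance
  · obtain ⟨t, rfl⟩ := hvs z
    obtain ⟨s, hs'⟩ := 𝒰.covers t
    refine ⟨e (𝒰.idx t), ?_⟩
    show v.left t ∈ Set.range (𝒰.f (e.symm (e (𝒰.idx t))) ≫ v.left)
    rw [Equiv.symm_apply_apply]
    exact ⟨s, (Scheme.Hom.comp_apply _ _ _).trans (congrArg (fun x => v.left x) hs')⟩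
  · refine ⟨PUnit.unit, (yon S).map (ι j) ≫ p ≫ pullback.fst f h, ?_⟩
    rw [Category.assoc, Category.assoc, pullback.condition, ← Category.assoc p, ← hv, Functor.map_comp,
      Category.assoc]

/-- A quasi-compact flat surjective monomorphism of algebraic spaces is an isomorphism. -/
theorem isIso_of_qc_flat_surjective_mono {X Y : Sp S} (hX : IsAlgSpace X) (hY : IsAlgSpace Y) (f : X ⟶ Y)
    [Mono f] (hqc : IsQuasiCompactMor f) (hflat : LocP @Flat f) (hs : IsSurjectiveMor f) : IsIso f :=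
  isIso_of_fpqc (Xi := fun _ : PUnit.{u + 1} => X) (p := fun _ => 𝟙 X) (q := fun _ => 𝟙 X) hX hY
    (fun _ => hX) (fun _ => hX) (isFpqcCover_of_qc_flat_surjective hX hY f hqc hflat hs)
    (fun _ => ⟨⟨rfl⟩, ⟨PullbackCone.isLimitMkIdId f⟩⟩) fun _ => inferInstance

end Groth.Agent.AlgSpLib
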