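import Groth.Agent.AlgSpLib.SmoothLocal
import Groth.Agent.AlgSpLib.Descends
import Groth.Agent.AlgSpLib.Descends2

/-!
# Standard properties smooth local on the source and target
-/

set_option backward.isDefEq.respectTransparency false
set_option backward.isDefEq.respectTransparency.types false

universe u

open CategoryTheory CategoryTheory.Limits AlgebraicGeometry Opposite AlgSp

namespace Groth.Agent.AlgSpLib

open Groth.Agent.SrcDescent

variable {S : Scheme.{u}}

theorem smooth_le_flat : (@Smooth : MorphismProperty Scheme.{u}) ≤ @Flat :=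
  fun _ _ f (_ : Smooth f) => inferInstanceAs (Flat f)

theorem smooth_le_lfp : (@Smooth : MorphismProperty Scheme.{u}) ≤ @LocallyOfFinitePresentation :=
  fun _ _ f (_ : Smooth f) => inferInstanceAs (LocallyOfFinitePresentation f)

theorem smooth_le_lft : (@Smooth : MorphismProperty Scheme.{u}) ≤ @LocallyOfFiniteType :=
  fun _ _ f (_ : Smooth f) => inferInstanceAs (LocallyOfFiniteType f)

instance : MorphismProperty.IsLocalAtSource (@Flat : MorphismProperty Scheme.{u}) (Scheme.precoverage @Smooth) :=
  isLocalAtSource_of_surjective (fun f g hf hg => MorphismProperty.comp_mem @Flat f g (smooth_le_flat _ _ _ hf) hg)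
    fun f g hf hs h => flat_of_smooth_comp f g h

instance : MorphismProperty.IsLocalAtSource (@LocallyOfFiniteType : MorphismProperty Scheme.{u})
    (Scheme.precoverage @Smooth) :=
  isLocalAtSource_of_surjective
    (fun f g hf hg => MorphismProperty.comp_mem @LocallyOfFiniteType f g (smooth_le_lft _ _ _ hf) hg)
    fun f g hf hs h => locallyOfFiniteType_of_smooth_comp f g h

instance : MorphismProperty.IsLocalAtSource (@LocallyOfFinitePresentation : MorphismProperty Scheme.{u})
    (Scheme.precoverage @Smooth) :=
  isLocalAtSource_of_surjective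
    (fun f g hf hg => MorphismProperty.comp_mem @LocallyOfFinitePresentation f g (smooth_le_lfp _ _ _ hf) hg)
    fun f g hf hs h => locallyOfFinitePresentation_of_smooth_comp f g h

theorem isSmoothLocalST_locP (R : MorphismProperty Scheme.{u}) [IsEtLocal R] [R.IsStableUnderComposition]
    [IsZariskiLocalAtTarget R] [R.DescendsAlong (@Surjective ⊓ @Flat ⊓ @QuasiCompact)]
    [R.IsLocalAtSource (Scheme.precoverage @Smooth)] (hle : @Smooth ≤ R) :
    IsSmoothLocalST (S := S) (LocP R) :=
  isSmoothLocalST_of_local (isLocalOnSource_smooth R)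
    (isLocalOnBase_smCover_of_fppf (isLocalOnBase_fppfCover_of_fpqc isLocalOnBase_fpqc_locP))
    fun _ _ _ hX hY hZ _ _ hf hg => locP_comp hX hY hZ hf (locP_mono hle hg)

theorem isSmoothLocalST_flat : IsSmoothLocalST (S := S) (LocP @Flat) :=
  isSmoothLocalST_locP _ smooth_le_flat

theorem isSmoothLocalST_lft : IsSmoothLocalST (S := S) (LocP @LocallyOfFiniteType) :=
  isSmoothLocalST_locP _ smooth_le_lft

theorem isSmoothLocalST_lfp : IsSmoothLocalST (S := S) (LocP @LocallyOfFinitePresentation) :=
  isSmoothLocalST_locP _ smooth_le_lfp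

theorem isSmoothLocalST_smooth : IsSmoothLocalST (S := S) (LocP @Smooth) :=
  isSmoothLocalST_locP _ le_rfl

theorem isLocalOnBase_fppf_locP (R : MorphismProperty Scheme.{u}) [IsEtLocal R] [IsZariskiLocalAtTarget R]
    [R.DescendsAlong (@Surjective ⊓ @Flat ⊓ @QuasiCompact)] :
    IsLocalOnBase (IsFppfCover (S := S)) (LocP R) :=
  isLocalOnBase_fppfCover_of_fpqc isLocalOnBase_fpqc_locP

end Groth.Agent.AlgSpLib
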