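import Groth.Agent.AlgSpLib.InfLocal
import Groth.Agent.AlgSpLib.LocP

/-!
# Infinitesimal lifting properties on charts
-/

set_option backward.isDefEq.respectTransparency false
set_option backward.isDefEq.respectTransparency.types false

universe u

open CategoryTheory CategoryTheory.Limits AlgebraicGeometry Opposite AlgSp

namespace Groth.Agent.AlgSpLib

variable {S : Scheme.{u}} {F G : Sp S}

/-- Etale morphisms of algebraic spaces are formally etale. -/
theorem isFormallyEtaleMor_of_isEtaleMor (hF : IsAlgSpace F) {f : F ⟶ G} (hf : IsEtaleMor f) :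
    IsFormallyEtaleMor f := by
  obtain ⟨U, a, ha, ha'⟩ := hF.atlas
  exact isFormallyEtaleMor_of_comp_etale ha ha' ((formal_of_repWith _).2.1 (hf a ha))

theorem isFormallySmoothMor_of_etale_square {X Y U V : Sp S} (hU : IsAlgSpace U) (hV : IsAlgSpace V)
    (f : X ⟶ Y) (hf : IsFormallySmoothMor f) (p : U ⟶ X) (q : V ⟶ Y) (hp : IsEtaleMor p) (hq : IsEtaleMor q)
    (ψ : U ⟶ V) (w : ψ ≫ q = p ≫ f) : IsFormallySmoothMor ψ :=
  isFormallySmoothMor_of_comp ((isFormallyEtaleMor_iff q).1 (isFormallyEtaleMor_of_isEtaleMor hV hq)).2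
    (w ▸ isFormallySmoothMor_comp ((isFormallyEtaleMor_iff p).1 (isFormallyEtaleMor_of_isEtaleMor hU hp)).1 hf)

/-- The square of algebraic spaces attached to a square of affine schemes. -/
theorem exists_infSq_yon {U V : Over S} (h : U ⟶ V) {A : Type u} [CommRing A] (I : Ideal A) (hI : I ^ 2 = ⊥)
    (a : Spec (CommRingCat.of (A ⧸ I)) ⟶ U.left) (b : Spec (CommRingCat.of A) ⟶ V.left)
    (w : Spec.map (CommRingCat.ofHom (Ideal.Quotient.mk I)) ≫ b = a ≫ h.left) :
    ∃ (t : Over.mk (Spec.map (CommRingCat.ofHom (Ideal.Quotient.mk I)) ≫ b ≫ V.hom) ⟶ U)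
      (β : Over.mk (b ≫ V.hom) ⟶ V), t.left = a ∧ β.left = b ∧
      (yon S).map t ≫ (yon S).map h =
        (yon S).map (Over.homMk (V := Over.mk (b ≫ V.hom))
          (Spec.map (CommRingCat.ofHom (Ideal.Quotient.mk I))) rfl :
          Over.mk (Spec.map (CommRingCat.ofHom (Ideal.Quotient.mk I)) ≫ b ≫ V.hom) ⟶ Over.mk (b ≫ V.hom)) ≫
          (yon S).map β := by
  refine ⟨Over.homMk a (by
      show a ≫ U.hom = _
      rw [← Over.w h, ← Category.assoc, ← w, Category.assoc]; rfl),
    Over.homMk b rfl, rfl, rfl, ?_⟩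
  rw [← Functor.map_comp, ← Functor.map_comp]
  exact congrArg _ (Over.OverMorphism.ext w.symm)

theorem formallyUnramified_of_isFormallyUnramifiedMor {U V : Over S} {h : U ⟶ V}
    (hh : IsFormallyUnramifiedMor ((yon S).map h)) : FormallyUnramified h.left := by
  refine FormallyUnramified.of_hom_ext _ fun R T φ hφ hker g₁ g₂ hg hgf => ?_
  let e : CommRingCat.of (R ⧸ RingHom.ker φ.hom) ≅ T :=
    (RingHom.quotientKerEquivOfSurjective hφ).toCommRingCatIso
  have he : CommRingCat.ofHom (Ideal.Quotient.mk (RingHom.ker φ.hom)) ≫ e.hom = φ := by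
    ext x
    exact RingHom.quotientKerEquivOfSurjective_apply_mk hφ x
  have hg' : Spec.map (CommRingCat.ofHom (Ideal.Quotient.mk (RingHom.ker φ.hom))) ≫ g₁ =
      Spec.map (CommRingCat.ofHom (Ideal.Quotient.mk (RingHom.ker φ.hom))) ≫ g₂ := by
    rw [← cancel_epi (Spec.map e.hom), ← Category.assoc, ← Category.assoc, ← Spec.map_comp, he]
    exact hg
  obtain ⟨t, β, ht, hβ, hw⟩ := exists_infSq_yon h (RingHom.ker φ.hom) hker
    (Spec.map (CommRingCat.ofHom (Ideal.Quotient.mk (RingHom.ker φ.hom))) ≫ g₁) (g₁ ≫ h.left)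
    (Category.assoc _ _ _).symm
  let m₁ : Over.mk ((g₁ ≫ h.left) ≫ V.hom) ⟶ U := Over.homMk g₁ (by
    show g₁ ≫ U.hom = (g₁ ≫ h.left) ≫ V.hom
    rw [Category.assoc, Over.w h])
  let m₂ : Over.mk ((g₁ ≫ h.left) ≫ V.hom) ⟶ U := Over.homMk g₂ (by
    show g₂ ≫ U.hom = (g₁ ≫ h.left) ≫ V.hom
    rw [hgf, Category.assoc, Over.w h])
  let sq : InfSq ((yon S).map h) :=
    { A := R, I := RingHom.ker φ.hom, sq_zero := hker, str := (g₁ ≫ h.left) ≫ V.hom
      top := (yon S).map t, bot := (yon S).map β, comm := hw }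
  have e₁ : (yon S).map m₁ = (yon S).map m₂ := hh sq _ _
    (((yon S).map_comp _ _).symm.trans (congrArg _ (Over.OverMorphism.ext ht.symm)))
    (((yon S).map_comp _ _).symm.trans (congrArg _ (Over.OverMorphism.ext hβ.symm)))
    (((yon S).map_comp _ _).symm.trans (congrArg _ (Over.OverMorphism.ext (hg'.symm.trans ht.symm))))
    (((yon S).map_comp _ _).symm.trans (congrArg _ (Over.OverMorphism.ext (hgf.symm.trans hβ.symm))))
  exact congrArg CommaMorphism.left ((yon S).map_injective e₁)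

theorem isFormallyEtaleHom_of_isFormallyEtaleMor {U V : Over S} {h : U ⟶ V}
    (hh : IsFormallyEtaleMor ((yon S).map h)) : MoreMor.IsFormallyEtaleHom h.left := by
  intro A _ I hI a b w
  obtain ⟨t, β, ht, hβ, hw⟩ := exists_infSq_yon h I hI a b w
  let sq : InfSq ((yon S).map h) :=
    { A := A, I := I, sq_zero := hI, str := b ≫ V.hom, top := (yon S).map t, bot := (yon S).map β, comm := hw }
  obtain ⟨l, ⟨hl₁, hl₂⟩, hl⟩ := hh sq
  obtain ⟨m, rfl⟩ := (yon S).map_surjective l
  refine ⟨m.left, ⟨?_, ?_⟩, fun y hy => ?_⟩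
  · rw [← ht]
    exact congrArg CommaMorphism.left ((yon S).map_injective (((yon S).map_comp _ _).trans hl₁))
  · rw [← hβ]
    exact congrArg CommaMorphism.left ((yon S).map_injective (((yon S).map_comp _ _).trans hl₂))
  · have hys : y ≫ U.hom = b ≫ V.hom := by rw [← Over.w h, ← Category.assoc, hy.2]
    have := hl ((yon S).map (Over.homMk y hys : Over.mk (b ≫ V.hom) ⟶ U))
      ⟨((yon S).map_comp _ _).symm.trans (congrArg _ (Over.OverMorphism.ext (hy.1.trans ht.symm))),
        ((yon S).map_comp _ _).symm.trans (congrArg _ (Over.OverMorphism.ext (hy.2.trans hβ.symm)))⟩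
    exact congrArg CommaMorphism.left ((yon S).map_injective this)

theorem isFormallyEtaleMor_yon_map {U V : Over S} {h : U ⟶ V} (hh : MoreMor.IsFormallyEtaleHom h.left) :
    IsFormallyEtaleMor ((yon S).map h) := by
  intro sq
  obtain ⟨t, ht⟩ := (yon S).map_surjective sq.top
  obtain ⟨β, hβ⟩ := (yon S).map_surjective sq.bot
  have hc : t ≫ h = sq.j ≫ β := (yon S).map_injective (by
    rw [Functor.map_comp, Functor.map_comp, ht, hβ]; exact sq.comm)
  obtain ⟨l, ⟨hl₁, hl₂⟩, hl⟩ := hh sq.A sq.I sq.sq_zero t.left β.left (congrArg CommaMorphism.left hc).symm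
  let m : sq.ptT' ⟶ U := Over.homMk l (by
    rw [← Over.w h, ← Category.assoc, hl₂]; exact Over.w β)
  refine ⟨(yon S).map m, ⟨?_, ?_⟩, fun y hy => ?_⟩
  · rw [← ht, ← Functor.map_comp]; exact congrArg _ (Over.OverMorphism.ext hl₁)
  · rw [← hβ, ← Functor.map_comp]; exact congrArg _ (Over.OverMorphism.ext hl₂)
  · obtain ⟨n, rfl⟩ := (yon S).map_surjective y
    refine congrArg _ (Over.OverMorphism.ext (hl n.left ⟨?_, ?_⟩))
    · exact congrArg CommaMorphism.left ((yon S).map_injective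
        (((yon S).map_comp _ _).trans (hy.1.trans ht.symm)))
    · exact congrArg CommaMorphism.left ((yon S).map_injective
        (((yon S).map_comp _ _).trans (hy.2.trans hβ.symm)))

variable (hF : IsAlgSpace F) (hG : IsAlgSpace G) (f : F ⟶ G)

theorem isFormallyUnramifiedMor_of_chart {U V : Over S} (a : (yon S).obj U ⟶ F) (b : (yon S).obj V ⟶ G)
    (h : U ⟶ V) (ha : RepWith @Etale a) (ha' : RepWith @Surjective a) (hb : RepWith @Etale b)
    (w : a ≫ f = (yon S).map h ≫ b) (hh : FormallyUnramified h.left) : IsFormallyUnramifiedMor f := by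
  refine isFormallyUnramifiedMor_of_comp_etale ha ha' ?_
  rw [w]
  exact isFormallyUnramifiedMor_comp
    (isFormallyUnramifiedMor_of_repWith ((repWith_yon_map_iff _ h).2 hh))
    ((isFormallyEtaleMor_iff b).1 ((formal_of_repWith b).2.1 hb)).2

theorem isFormallyEtaleMor_of_chart {U V : Over S} (a : (yon S).obj U ⟶ F) (b : (yon S).obj V ⟶ G)
    (h : U ⟶ V) (ha : RepWith @Etale a) (ha' : RepWith @Surjective a) (hb : RepWith @Etale b)
    (w : a ≫ f = (yon S).map h ≫ b) (hh : MoreMor.IsFormallyEtaleHom h.left) : IsFormallyEtaleMor f := by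
  refine isFormallyEtaleMor_of_comp_etale ha ha' ?_
  rw [w]
  exact isFormallyEtaleMor_comp (isFormallyEtaleMor_yon_map hh) ((formal_of_repWith b).2.1 hb)

include hF hG

theorem isFormallyUnramifiedMor_iff_locP :
    IsFormallyUnramifiedMor f ↔ LocP @FormallyUnramified f := by
  refine ⟨fun hf U V a b h ha hb w => ?_, fun hf => ?_⟩
  · apply formallyUnramified_of_isFormallyUnramifiedMor
    refine isFormallyUnramifiedMor_of_comp (b := b) ?_
    rw [← w]
    exact isFormallyUnramifiedMor_comp ((isFormallyEtaleMor_iff a).1 ((formal_of_repWith a).2.1 ha)).2 hf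
  · obtain ⟨U, V, a, b, h, ha, ha', hb, -, w⟩ := exists_chart hF hG f
    exact isFormallyUnramifiedMor_of_chart f a b h ha ha' hb w (hf a b h ha hb w)

theorem isFormallyEtaleMor_iff_locP :
    IsFormallyEtaleMor f ↔ LocP @MoreMor.IsFormallyEtaleHom f := by
  refine ⟨fun hf U V a b h ha hb w => ?_, fun hf => ?_⟩
  · apply isFormallyEtaleHom_of_isFormallyEtaleMor
    have hab : IsFormallyEtaleMor ((yon S).map h ≫ b) :=
      w ▸ isFormallyEtaleMor_comp ((formal_of_repWith a).2.1 ha) hf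
    have hbu := ((isFormallyEtaleMor_iff b).1 ((formal_of_repWith b).2.1 hb)).2
    have h2 := (isFormallyEtaleMor_iff _).1 hab
    exact (isFormallyEtaleMor_iff _).2
      ⟨isFormallySmoothMor_of_comp hbu h2.1, isFormallyUnramifiedMor_of_comp h2.2⟩
  · obtain ⟨U, V, a, b, h, ha, ha', hb, -, w⟩ := exists_chart hF hG f
    exact isFormallyEtaleMor_of_chart f a b h ha ha' hb w (hf a b h ha hb w)

end Groth.Agent.AlgSpLib

namespace Groth.Agent.AlgSpLib

variable {S : Scheme.{u}}

theorem etale_iff_lfp_formallyEtaleHom {X Y : Scheme.{u}} (f : X ⟶ Y) :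
    Etale f ↔ LocallyOfFinitePresentation f ∧ MoreMor.IsFormallyEtaleHom f := by
  rw [Groth.Agent.MorLib.isFormallyEtaleHom_iff_appLE, HasRingHomProperty.iff_appLE (P := @Etale),
    HasRingHomProperty.iff_appLE (P := @LocallyOfFinitePresentation)]
  refine ⟨fun h => ⟨fun U V e => ?_, fun V U hV hU e => ?_⟩, fun ⟨h1, h2⟩ U V e => ?_⟩
  · algebraize [(f.appLE U.1 V.1 e).hom]
    have : Algebra.Etale Γ(Y, U.1) Γ(X, V.1) := h U V e
    exact inferInstanceAs (Algebra.FinitePresentation Γ(Y, U.1) Γ(X, V.1))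
  · algebraize [(f.appLE U V e).hom]
    have : Algebra.Etale Γ(Y, U) Γ(X, V) := h ⟨U, hU⟩ ⟨V, hV⟩ e
    infer_instance
  · algebraize [(f.appLE U.1 V.1 e).hom]
    exact ⟨h2 V.1 U.1 V.2 U.2 e, h1 U V e⟩

end Groth.Agent.AlgSpLib
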