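import Groth.Agent.AlgSpLib.RepFormal
import Groth.Agent.AlgSpDec.Glue
import Groth.Agent.EtFound.LiftEtale

/-!
# Infinitesimal lifting is local for etale surjections
-/

set_option backward.isDefEq.respectTransparency false
set_option backward.isDefEq.respectTransparency.types false

universe u

open CategoryTheory CategoryTheory.Limits AlgebraicGeometry Opposite AlgSp

namespace Groth.Agent.AlgSpLib

variable {S : Scheme.{u}} {F G H : Sp S} {b : G ⟶ H}

theorem hom_ext_of_affines {F : Sp S} {W : Over S} (x y : (yon S).obj W ⟶ F)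
    (h : ∀ (C : CommRingCat.{u}) (p : Spec C ⟶ W.left),
      (yon S).map (Over.homMk (U := Over.mk (p ≫ W.hom)) p rfl) ≫ x =
        (yon S).map (Over.homMk (U := Over.mk (p ≫ W.hom)) p rfl) ≫ y) : x = y :=
  AlgSpDec.hom_ext_of_openCover W.left.affineOpenCover.openCover x y fun i =>
    h _ (W.left.affineOpenCover.f i)

/-- Pullback of an infinitesimal square to an affine scheme over the big one. -/
theorem exists_piece (sq : InfSq b) {W : Over S} (φ : W ⟶ sq.ptT') (C : CommRingCat.{u})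
    (p : Spec C ⟶ W.left) :
    ∃ (J : Ideal C) (_ : J ^ 2 = ⊥)
      (z' : Over.mk (Spec.map (CommRingCat.ofHom (Ideal.Quotient.mk J)) ≫ p ≫ W.hom) ⟶ sq.ptT),
      (Over.homMk (V := Over.mk (p ≫ W.hom)) (Spec.map (CommRingCat.ofHom (Ideal.Quotient.mk J))) rfl :
          Over.mk (Spec.map (CommRingCat.ofHom (Ideal.Quotient.mk J)) ≫ p ≫ W.hom) ⟶ Over.mk (p ≫ W.hom)) ≫
        (Over.homMk (U := Over.mk (p ≫ W.hom)) p rfl : Over.mk (p ≫ W.hom) ⟶ W) ≫ φ = z' ≫ sq.j ∧
      ∀ (D : CommRingCat.{u}) (s : Spec D ⟶ S) (z : Over.mk s ⟶ Over.mk (p ≫ W.hom))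
        (z₁ : Over.mk s ⟶ sq.ptT),
        z ≫ (Over.homMk (U := Over.mk (p ≫ W.hom)) p rfl : Over.mk (p ≫ W.hom) ⟶ W) ≫ φ = z₁ ≫ sq.j →
        ∃ w : Over.mk s ⟶ Over.mk (Spec.map (CommRingCat.ofHom (Ideal.Quotient.mk J)) ≫ p ≫ W.hom),
          w ≫ Over.homMk (V := Over.mk (p ≫ W.hom)) (Spec.map (CommRingCat.ofHom (Ideal.Quotient.mk J))) rfl = z ∧ w ≫ z' = z₁ := by
  obtain ⟨ψ, hψ⟩ := Spec.map_surjective (p ≫ φ.left : Spec C ⟶ Spec (CommRingCat.of sq.A))
  let J : Ideal C := sq.I.map ψ.hom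
  have hJ : J ^ 2 = ⊥ := by rw [← Ideal.map_pow, sq.sq_zero, Ideal.map_bot]
  let g : CommRingCat.of (sq.A ⧸ sq.I) ⟶ CommRingCat.of (C ⧸ J) :=
    CommRingCat.ofHom (Ideal.quotientMap J ψ.hom Ideal.le_comap_map)
  have hg : CommRingCat.ofHom (Ideal.Quotient.mk sq.I) ≫ g =
      ψ ≫ CommRingCat.ofHom (Ideal.Quotient.mk J) := by
    ext x; rfl
  have hsq : Spec.map g ≫ Spec.map (CommRingCat.ofHom (Ideal.Quotient.mk sq.I)) =
      Spec.map (CommRingCat.ofHom (Ideal.Quotient.mk J)) ≫ p ≫ φ.left := by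
    rw [← hψ, ← Spec.map_comp, ← Spec.map_comp, hg]
  have hstr : φ.left ≫ sq.str = W.hom := Over.w φ
  let z' : Over.mk (Spec.map (CommRingCat.ofHom (Ideal.Quotient.mk J)) ≫ p ≫ W.hom) ⟶ sq.ptT :=
    Over.homMk (Spec.map g) (by
      change Spec.map g ≫ Spec.map _ ≫ sq.str = Spec.map _ ≫ p ≫ W.hom
      rw [reassoc_of% hsq, hstr])
  refine ⟨J, hJ, z', Over.OverMorphism.ext hsq.symm, fun D s z z₁ hz => ?_⟩
  have hz' := congrArg CommaMorphism.left hz
  obtain ⟨ζ, hζ⟩ := Spec.map_surjective (z.left : Spec D ⟶ Spec C)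
  obtain ⟨ζ₁, hζ₁⟩ := Spec.map_surjective (z₁.left : Spec D ⟶ Spec (CommRingCat.of (sq.A ⧸ sq.I)))
  have hk : ψ ≫ ζ = CommRingCat.ofHom (Ideal.Quotient.mk sq.I) ≫ ζ₁ := by
    apply Spec.map_injective
    rw [Spec.map_comp, Spec.map_comp, hζ, hζ₁, hψ]
    exact hz'
  have hle : J ≤ RingHom.ker ζ.hom := by
    refine Ideal.map_le_iff_le_comap.2 fun x hx => ?_
    have := congrArg (fun f => f.hom x) hk
    simpa [Ideal.Quotient.eq_zero_iff_mem.2 hx] using this
  let ω : CommRingCat.of (C ⧸ J) ⟶ D := CommRingCat.ofHom (Ideal.Quotient.lift J ζ.hom hle)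
  have hω : CommRingCat.ofHom (Ideal.Quotient.mk J) ≫ ω = ζ := by ext x; rfl
  have h1 : Spec.map ω ≫ Spec.map (CommRingCat.ofHom (Ideal.Quotient.mk J)) = z.left := by
    rw [← Spec.map_comp, hω, hζ]
  refine ⟨Over.homMk (Spec.map ω) (by
    change Spec.map ω ≫ Spec.map _ ≫ p ≫ W.hom = s
    rw [reassoc_of% h1]; exact Over.w z), Over.OverMorphism.ext h1, Over.OverMorphism.ext ?_⟩
  have : IsClosedImmersion (Spec.map (CommRingCat.ofHom (Ideal.Quotient.mk sq.I))) :=
    IsClosedImmersion.spec_of_surjective _ Ideal.Quotient.mk_surjective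
  rw [← cancel_mono (Spec.map (CommRingCat.ofHom (Ideal.Quotient.mk sq.I)))]
  change (Spec.map ω ≫ Spec.map g) ≫ _ = _
  rw [Category.assoc, hsq, reassoc_of% h1]
  exact hz'

/-- `x` restricts to the top arrow over the small scheme. -/
def IsRes (sq : InfSq b) {W : Over S} (φ : W ⟶ sq.ptT') (x : (yon S).obj W ⟶ G) : Prop :=
  ∀ (D : CommRingCat.{u}) (s : Spec D ⟶ S) (z : Over.mk s ⟶ W) (z₁ : Over.mk s ⟶ sq.ptT),
    z ≫ φ = z₁ ≫ sq.j → (yon S).map z ≫ x = (yon S).map z₁ ≫ sq.top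

theorem IsRes.precomp {sq : InfSq b} {W W' : Over S} {φ : W ⟶ sq.ptT'} {x : (yon S).obj W ⟶ G}
    (h : IsRes sq φ x) (e : W' ⟶ W) : IsRes sq (e ≫ φ) ((yon S).map e ≫ x) := fun D s z z₁ hz => by
  rw [← Category.assoc, ← Functor.map_comp]
  exact h D s _ z₁ (by rw [Category.assoc, hz])

theorem IsRes.unique (hb : IsFormallyUnramifiedMor b) {sq : InfSq b} {W : Over S} {φ : W ⟶ sq.ptT'}
    {x y : (yon S).obj W ⟶ G} (hx : IsRes sq φ x) (hy : IsRes sq φ y)
    (hxb : x ≫ b = (yon S).map φ ≫ sq.bot) (hyb : y ≫ b = (yon S).map φ ≫ sq.bot) : x = y := by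
  refine hom_ext_of_affines x y fun C p => ?_
  obtain ⟨J, hJ, z', hz', -⟩ := exists_piece sq φ C p
  let P : Over.mk (p ≫ W.hom) ⟶ W := Over.homMk p rfl
  let sq' : InfSq b :=
    { A := C, I := J, sq_zero := hJ, str := p ≫ W.hom
      top := (yon S).map z' ≫ sq.top, bot := (yon S).map (P ≫ φ) ≫ sq.bot
      comm := by
        refine (Category.assoc _ _ _).trans ((congrArg (_ ≫ ·) sq.comm).trans ?_)
        refine ((Functor.map_comp_assoc _ _ _ _).symm.trans ?_).trans (Functor.map_comp_assoc _ _ _ _)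
        exact congrArg (fun q => (yon S).map q ≫ sq.bot) hz'.symm }
  refine hb sq' _ _ ?_ ?_ ?_ ?_
  · rw [← Category.assoc, ← Functor.map_comp]
    exact hx _ _ _ z' (by rw [Category.assoc]; exact hz')
  · exact (Category.assoc _ _ _).trans ((congrArg (_ ≫ ·) hxb).trans (Functor.map_comp_assoc _ _ _ _).symm)
  · rw [← Category.assoc, ← Functor.map_comp]
    exact hy _ _ _ z' (by rw [Category.assoc]; exact hz')
  · exact (Category.assoc _ _ _).trans ((congrArg (_ ≫ ·) hyb).trans (Functor.map_comp_assoc _ _ _ _).symm)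

theorem isFormallyUnramifiedMor_of_comp_etale {a : F ⟶ G} (ha : RepWith @Etale a)
    (ha' : RepWith @Surjective a) (h : IsFormallyUnramifiedMor (a ≫ b)) : IsFormallyUnramifiedMor b := by
  intro sq l l' h₁ h₂ h₁' h₂'
  have hae := (formal_of_repWith a).2.1 ha
  have hP := ha.1.isPullback l
  have : Etale (ha.1.snd l).left := ha.2 l _ _ hP
  have : Surjective (ha.1.snd l).left := ha'.2 l _ _ hP
  refine hom_ext_of_fppf (ha.1.snd l) (fppf_of_etale _) l l' ?_
  refine hom_ext_of_affines _ _ fun C p => ?_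
  obtain ⟨J, hJ, z', hz', -⟩ := exists_piece sq (ha.1.snd l) C p
  let P : Over.mk (p ≫ (ha.1.pullback l).hom) ⟶ ha.1.pullback l := Over.homMk p rfl
  let jJ : Over.mk (Spec.map (CommRingCat.ofHom (Ideal.Quotient.mk J)) ≫ p ≫ (ha.1.pullback l).hom) ⟶
      Over.mk (p ≫ (ha.1.pullback l).hom) :=
    Over.homMk (Spec.map (CommRingCat.ofHom (Ideal.Quotient.mk J))) rfl
  have hz : jJ ≫ P ≫ ha.1.snd l = z' ≫ sq.j := hz'
  let m := (yon S).map P ≫ ha.1.fst l
  have hm : m ≫ a = (yon S).map (P ≫ ha.1.snd l) ≫ l := by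
    rw [Functor.map_comp, Category.assoc, Category.assoc, hP.w]
  let sqa : InfSq a :=
    { A := C, I := J, sq_zero := hJ, str := p ≫ (ha.1.pullback l).hom
      top := (yon S).map jJ ≫ m, bot := (yon S).map (P ≫ ha.1.snd l) ≫ l'
      comm := by
        change ((yon S).map jJ ≫ m) ≫ a = (yon S).map jJ ≫ _
        have k : ∀ x : (yon S).obj sq.ptT' ⟶ G, (yon S).map jJ ≫ (yon S).map (P ≫ ha.1.snd l) ≫ x =
            (yon S).map z' ≫ (yon S).map sq.j ≫ x := fun x =>
          ((Functor.map_comp_assoc _ _ _ _).symm.trans (congrArg (fun q => (yon S).map q ≫ x) hz)).trans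
            (Functor.map_comp_assoc _ _ _ _)
        rw [Category.assoc, hm]
        exact (k l).trans ((congrArg _ h₁).trans ((congrArg _ h₁').symm.trans (k l').symm)) }
  obtain ⟨m', ⟨hm'₁, hm'₂⟩, -⟩ := hae sqa
  let sqab : InfSq (a ≫ b) :=
    { A := C, I := J, sq_zero := hJ, str := p ≫ (ha.1.pullback l).hom
      top := (yon S).map jJ ≫ m, bot := (yon S).map (P ≫ ha.1.snd l) ≫ sq.bot
      comm := by
        change ((yon S).map jJ ≫ m) ≫ a ≫ b = (yon S).map jJ ≫ _
        rw [Category.assoc, ← Category.assoc m, hm, Category.assoc _ l b, h₂] }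
  have hmm : m = m' := h sqab m m' rfl (by rw [← Category.assoc, hm, Category.assoc, h₂]) hm'₁
    (by rw [← Category.assoc, hm'₂]; exact (Category.assoc _ _ _).trans (congrArg _ h₂'))
  rw [← Category.assoc, ← Category.assoc, ← Functor.map_comp, ← hm, hmm]
  exact hm'₂

/-- The scheme-level etale lifts give local lifts forming a covering of the big scheme. -/
theorem exists_local_lift {a : F ⟶ G} (ha : RepWith @Etale a) (ha' : RepWith @Surjective a)
    (h : IsFormallySmoothMor (a ≫ b)) (sq : InfSq b) :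
    ∃ (ι : Type u) (W : ι → Over S) (φ : ∀ i, W i ⟶ sq.ptT'),
      (∀ i, Etale (φ i).left) ∧ (∀ t : sq.ptT'.left, ∃ i w, (φ i).left w = t) ∧
      ∀ i, ∃ x : (yon S).obj (W i) ⟶ G, IsRes sq (φ i) x ∧ x ≫ b = (yon S).map (φ i) ≫ sq.bot := by
  have hP := ha.1.isPullback sq.top
  let TV := ha.1.pullback sq.top
  have : Etale (ha.1.snd sq.top).left := ha.2 sq.top _ _ hP
  have : Surjective (ha.1.snd sq.top).left := ha'.2 sq.top _ _ hP
  have hthick := Groth.Agent.MorLib.isFirstOrderThickening_quotientMk sq.A sq.I sq.sq_zero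
  have hcl : IsClosedImmersion sq.j.left := hthick.1.1
  have hsurj : Surjective sq.j.left := hthick.1.2
  choose V hV hVf hVo hVu using fun u : TV.left =>
    Groth.Agent.EtFound.exists_etale_lift sq.j.left (ha.1.snd sq.top).left u
  let ι := Σ u : TV.left, ((V u).left.affineOpenCover).I₀
  let X : ι → Over S := fun i => Over.mk ((V i.1).hom ≫ sq.str)
  let ψ : ∀ i : ι, X i ⟶ sq.ptT' := fun i => Over.homMk (V i.1).hom rfl
  let C : ι → CommRingCat.{u} := fun i => (V i.1).left.affineOpenCover.X i.2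
  let p : ∀ i : ι, Spec (C i) ⟶ (X i).left := fun i => (V i.1).left.affineOpenCover.f i.2
  let W : ι → Over S := fun i => Over.mk (p i ≫ (X i).hom)
  let φ : ∀ i, W i ⟶ sq.ptT' := fun i => (Over.homMk (p i) rfl : W i ⟶ X i) ≫ ψ i
  refine ⟨ι, W, φ, fun i => ?_, fun t => ?_, fun i => ?_⟩
  · have : Etale (V i.1).hom := (V i.1).prop
    have : IsOpenImmersion (p i) := (V i.1).left.affineOpenCover.openCover.map_prop i.2
    change Etale (p i ≫ (V i.1).hom)
    infer_instance
  · obtain ⟨t₀, rfl⟩ := sq.j.left.surjective t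
    obtain ⟨u, rfl⟩ := (ha.1.snd sq.top).left.surjective t₀
    obtain ⟨q, hq⟩ := hVu u
    let cov := (V u).left.affineOpenCover.openCover
    obtain ⟨i, w, hw⟩ := cov.exists_eq (pullback.fst (V u).hom sq.j.left q)
    refine ⟨⟨u, i⟩, w, ?_⟩
    change (p ⟨u, i⟩ ≫ (V u).hom) w = _
    rw [Scheme.Hom.comp_apply]
    refine (congrArg (V u).hom hw).trans ?_
    rw [← Scheme.Hom.comp_apply, pullback.condition, Scheme.Hom.comp_apply]
    refine congrArg sq.j.left ?_
    rw [← hVf u, Scheme.Hom.comp_apply]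
    exact congrArg _ hq
  · obtain ⟨J, hJ, z', hz', hfac⟩ := exists_piece sq (ψ i) (C i) (p i)
    let jJ : Over.mk (Spec.map (CommRingCat.ofHom (Ideal.Quotient.mk J)) ≫ p i ≫ (X i).hom) ⟶ W i :=
      Over.homMk (Spec.map (CommRingCat.ofHom (Ideal.Quotient.mk J))) rfl
    have hzl : (Spec.map (CommRingCat.ofHom (Ideal.Quotient.mk J)) ≫ p i) ≫ (V i.1).hom =
        z'.left ≫ sq.j.left := by
      rw [Category.assoc]; exact congrArg CommaMorphism.left hz'
    let t₀ := pullback.lift (Spec.map (CommRingCat.ofHom (Ideal.Quotient.mk J)) ≫ p i) z'.left hzl ≫ hV i.1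
    have ht₀ : t₀ ≫ (ha.1.snd sq.top).left = z'.left := by
      simp only [t₀, Category.assoc, hVf i.1, pullback.lift_snd]
    let t : Over.mk (Spec.map (CommRingCat.ofHom (Ideal.Quotient.mk J)) ≫ p i ≫ (X i).hom) ⟶ TV :=
      Over.homMk t₀ (by rw [← Over.w (ha.1.snd sq.top), reassoc_of% ht₀]; exact Over.w z')
    have ht : t ≫ ha.1.snd sq.top = z' := Over.OverMorphism.ext ht₀
    let sq' : InfSq (a ≫ b) :=
      { A := C i, I := J, sq_zero := hJ, str := p i ≫ (X i).hom
        top := (yon S).map t ≫ ha.1.fst sq.top, bot := (yon S).map (φ i) ≫ sq.bot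
        comm := by
          change ((yon S).map t ≫ ha.1.fst sq.top) ≫ a ≫ b = (yon S).map jJ ≫ _
          have e : ((yon S).map t ≫ ha.1.fst sq.top) ≫ a = (yon S).map z' ≫ sq.top := by
            rw [Category.assoc, hP.w, ← Functor.map_comp_assoc, ht]
          refine ((Category.assoc _ _ _).symm.trans (congrArg (· ≫ b) e)).trans ?_
          refine (Category.assoc _ _ _).trans ((congrArg (_ ≫ ·) sq.comm).trans ?_)
          refine ((Functor.map_comp_assoc _ _ _ _).symm.trans ?_).trans (Functor.map_comp_assoc _ _ _ _)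
          exact congrArg (fun q => (yon S).map q ≫ sq.bot) hz'.symm }
    obtain ⟨m, hm₁, hm₂⟩ := h sq'
    refine ⟨m ≫ a, fun D s z z₁ hz => ?_, (Category.assoc _ _ _).trans hm₂⟩
    obtain ⟨w, hw₁, hw₂⟩ := hfac D s z z₁ hz
    rw [← hw₁, ← hw₂, Functor.map_comp, Functor.map_comp, Category.assoc, Category.assoc,
      ← Category.assoc _ m a, show (yon S).map jJ ≫ m = _ from hm₁]
    rw [Category.assoc _ _ a, hP.w, ← Category.assoc ((yon S).map t), ← Functor.map_comp, ht]

theorem isFormallyEtaleMor_of_comp_etale {a : F ⟶ G} (ha : RepWith @Etale a)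
    (ha' : RepWith @Surjective a) (h : IsFormallyEtaleMor (a ≫ b)) : IsFormallyEtaleMor b := by
  have h' := (isFormallyEtaleMor_iff _).1 h
  have hu := isFormallyUnramifiedMor_of_comp_etale ha ha' h'.2
  refine (isFormallyEtaleMor_iff _).2 ⟨fun sq => ?_, hu⟩
  obtain ⟨ι, W, φ, het, hsurj, hlift⟩ := exists_local_lift ha ha' h'.1 sq
  let R : Sieve sq.ptT' :=
    { arrows := fun W ψ => ∃ x : (yon S).obj W ⟶ G, IsRes sq ψ x ∧ x ≫ b = (yon S).map ψ ≫ sq.bot
      downward_closed := by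
        rintro W W' ψ ⟨x, hx, hx'⟩ e
        exact ⟨(yon S).map e ≫ x, hx.precomp e, by
          rw [Category.assoc, hx', ← Category.assoc, ← Functor.map_comp]⟩ }
  let σ : AlgSpDec.sigmaOver W ⟶ sq.ptT' :=
    Over.homMk (Sigma.desc fun i => (φ i).left) (Sigma.hom_ext _ _ fun i => by
      rw [← Category.assoc, Sigma.ι_desc, Over.w (φ i)]
      exact (Sigma.ι_desc (fun i => (W i).hom) i).symm)
  have hσι : ∀ i, AlgSpDec.sigmaι W i ≫ σ = φ i := fun i =>
    Over.OverMorphism.ext (Sigma.ι_desc (fun i => (φ i).left) i)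
  have : Etale σ.left := IsZariskiLocalAtSource.sigmaDesc (P := @Etale) het
  have : Surjective σ.left := ⟨fun t => by
    obtain ⟨i, w, hw⟩ := hsurj t
    exact ⟨(AlgSpDec.sigmaι W i).left w, by
      rw [← Scheme.Hom.comp_apply]; exact (congrArg (fun q : _ ⟶ sq.ptT' => q.left w) (hσι i)).trans hw⟩⟩
  have hR : R ∈ J S sq.ptT' := by
    refine (J S).transitive (mem_J_of_fppf σ (fppf_of_etale _) (Sieve.generate (Presieve.singleton σ))
      ⟨_, 𝟙 _, σ, Presieve.singleton_self σ, Category.id_comp _⟩) R ?_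
    rintro Y _ ⟨_, e, _, ⟨⟩, rfl⟩
    rw [Sieve.pullback_comp]
    refine (J S).pullback_stable e ?_
    refine AlgSpDec.mem_J_of_openCover (sigmaOpenCover fun i => (W i).left) _ fun i => ?_
    let e' : Over.mk ((sigmaOpenCover fun i => (W i).left).f i ≫ (AlgSpDec.sigmaOver W).hom) ⟶ W i :=
      Over.homMk (𝟙 _) (by
        rw [Category.id_comp]; exact (Sigma.ι_desc (fun i => (W i).hom) i).symm)
    have he : (Over.homMk ((sigmaOpenCover fun i => (W i).left).f i) rfl :
        Over.mk ((sigmaOpenCover fun i => (W i).left).f i ≫ (AlgSpDec.sigmaOver W).hom) ⟶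
          AlgSpDec.sigmaOver W) ≫ σ = e' ≫ φ i :=
      Over.OverMorphism.ext ((Sigma.ι_desc (fun i => (φ i).left) i).trans (Category.id_comp _).symm)
    show R _
    rw [he]
    exact R.downward_closed (hlift i) e'
  have hsh := (isSheaf_iff_isSheaf_of_type _ _).1 G.property R hR
  let fam : Presieve.FamilyOfElements G.obj R.arrows := fun _ _ hψ => (J S).uliftYonedaEquiv hψ.choose
  have hcompat : fam.Compatible := by
    rw [Presieve.compatible_iff_sieveCompatible]
    intro Y Z ψ e hψ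
    rw [show fam ψ hψ = _ from rfl, uliftYonedaEquiv_precomp]
    refine congrArg (J S).uliftYonedaEquiv ?_
    have h1 := (R.downward_closed hψ e).choose_spec
    exact h1.1.unique hu (hψ.choose_spec.1.precomp e) h1.2 (by
      rw [Category.assoc, hψ.choose_spec.2, ← Category.assoc, ← Functor.map_comp])
  let l : (yon S).obj sq.ptT' ⟶ G := (J S).uliftYonedaEquiv.symm (hsh.amalgamate fam hcompat)
  have hl : ∀ ⦃Y : Over S⦄ (ψ : Y ⟶ sq.ptT') (hψ : R ψ), (yon S).map ψ ≫ l = hψ.choose := fun Y ψ hψ => by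
    apply (J S).uliftYonedaEquiv.injective
    rw [← uliftYonedaEquiv_precomp]
    simp only [l, Equiv.apply_symm_apply]
    exact hsh.valid_glue hcompat ψ hψ
  refine ⟨l, ?_, ?_⟩
  · refine hom_ext_of_covering _ _ ((J S).pullback_stable sq.j hR) fun Y ψ hψ => ?_
    refine hom_ext_of_affines _ _ fun C p => ?_
    let P : Over.mk (p ≫ Y.hom) ⟶ Y := Over.homMk p rfl
    have := (hψ : R (ψ ≫ sq.j)).choose_spec.1 C _ P (P ≫ ψ) (Category.assoc _ _ _).symm
    rw [← Category.assoc ((yon S).map ψ), ← Functor.map_comp, hl _ hψ]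
    refine this.trans ?_
    rw [Functor.map_comp, Category.assoc]
  · refine hom_ext_of_covering _ _ hR fun Y ψ hψ => ?_
    rw [← Category.assoc, hl ψ hψ]
    exact hψ.choose_spec.2

end Groth.Agent.AlgSpLib
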