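import Groth.Prelude.Def_AlgSp
import Groth.Prelude.Def_Grpd

/-!
# The groupoid scheme of the kernel pair of a chart
-/

set_option backward.isDefEq.respectTransparency false
set_option backward.isDefEq.respectTransparency.types false

universe u

open CategoryTheory CategoryTheory.Limits AlgebraicGeometry AlgSp

namespace Groth.Agent.AlgSpLib

variable {S : Scheme.{u}} {F : Sp S} {R U : Over S} {s t : R ⟶ U} {p : (yon S).obj U ⟶ F}
  (sq : IsPullback ((yon S).map t) ((yon S).map s) p p)

include sq in
/-- Two points of the kernel pair with the same projections agree. -/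
theorem pair_ext {T : Scheme.{u}} {a b : T ⟶ R.left} (hs : a ≫ s.left = b ≫ s.left)
    (ht : a ≫ t.left = b ≫ t.left) : a = b := by
  have hw : a ≫ R.hom = b ≫ R.hom := by
    rw [← Over.w s, ← Category.assoc, hs, Category.assoc]
  let a' : Over.mk (a ≫ R.hom) ⟶ R := CategoryTheory.Over.homMk a rfl
  let b' : Over.mk (a ≫ R.hom) ⟶ R := CategoryTheory.Over.homMk b hw.symm
  have : a' = b' := (yon S).map_injective (sq.hom_ext
    (by rw [← Functor.map_comp, ← Functor.map_comp]; exact congrArg _ (Over.OverMorphism.ext ht))
    (by rw [← Functor.map_comp, ← Functor.map_comp]; exact congrArg _ (Over.OverMorphism.ext hs)))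
  exact congrArg Over.Hom.left this

include sq in
theorem exists_pair_lift {Z : Over S} (a b : Z ⟶ U) (h : (yon S).map a ≫ p = (yon S).map b ≫ p) :
    ∃ r : Z ⟶ R, r ≫ t = a ∧ r ≫ s = b :=
  ⟨(yon S).preimage (sq.lift _ _ h),
    (yon S).map_injective (by rw [Functor.map_comp, Functor.map_preimage, sq.lift_fst]),
    (yon S).map_injective (by rw [Functor.map_comp, Functor.map_preimage, sq.lift_snd])⟩

include sq in
theorem exists_pair_id : ∃ e : U ⟶ R, e ≫ t = 𝟙 U ∧ e ≫ s = 𝟙 U :=
  exists_pair_lift sq _ _ rfl

include sq in
theorem exists_pair_inv : ∃ i : R ⟶ R, i ≫ t = s ∧ i ≫ s = t :=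
  exists_pair_lift sq _ _ sq.w.symm

include sq in
theorem exists_pair_comp :
    ∃ c : pullback s.left t.left ⟶ R.left,
      c ≫ s.left = pullback.snd _ _ ≫ s.left ∧ c ≫ t.left = pullback.fst _ _ ≫ t.left := by
  let C : Over S := Over.mk (pullback.fst s.left t.left ≫ R.hom)
  let f : C ⟶ R := CategoryTheory.Over.homMk (pullback.fst _ _) rfl
  let g : C ⟶ R := CategoryTheory.Over.homMk (pullback.snd s.left t.left) (by
    show _ ≫ R.hom = pullback.fst _ _ ≫ R.hom
    conv_rhs => rw [← Over.w s]
    conv_lhs => rw [← Over.w t]
    rw [← Category.assoc, ← Category.assoc, pullback.condition])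
  have hfg : f ≫ s = g ≫ t := Over.OverMorphism.ext pullback.condition
  obtain ⟨r, h1, h2⟩ := exists_pair_lift sq (f ≫ t) (g ≫ s) (by
    rw [Functor.map_comp, Functor.map_comp, Category.assoc, Category.assoc, sq.w, ← Category.assoc,
      ← Functor.map_comp, hfg, Functor.map_comp, Category.assoc, sq.w])
  exact ⟨r.left, congrArg Over.Hom.left h2, congrArg Over.Hom.left h1⟩

/-- The groupoid scheme of the kernel pair of a chart. -/
noncomputable def pairGroupoid : Grpd.GroupoidScheme S where
  U := U.left
  R := R.left
  pU := U.hom
  pR := R.hom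
  s := s.left
  t := t.left
  e := (exists_pair_id sq).choose.left
  i := (exists_pair_inv sq).choose.left
  c := (exists_pair_comp sq).choose
  s_over := Over.w s
  t_over := Over.w t
  comp_s α β h := by
    rw [Category.assoc, (exists_pair_comp sq).choose_spec.1, pullback.lift_snd_assoc]
  comp_t α β h := by
    rw [Category.assoc, (exists_pair_comp sq).choose_spec.2, pullback.lift_fst_assoc]
  assoc α β γ h₁ h₂ := by
    refine pair_ext sq ?_ ?_ <;>
      simp only [Category.assoc, (exists_pair_comp sq).choose_spec.1, (exists_pair_comp sq).choose_spec.2,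
        pullback.lift_fst_assoc, pullback.lift_snd_assoc]
  e_s := congrArg Over.Hom.left (exists_pair_id sq).choose_spec.2
  e_t := congrArg Over.Hom.left (exists_pair_id sq).choose_spec.1
  comp_e α := by
    have he : (exists_pair_id sq).choose.left ≫ s.left = 𝟙 _ :=
      congrArg Over.Hom.left (exists_pair_id sq).choose_spec.2
    refine pair_ext sq ?_ ?_ <;>
      simp only [Category.assoc, (exists_pair_comp sq).choose_spec.1, (exists_pair_comp sq).choose_spec.2,
        pullback.lift_fst_assoc, pullback.lift_snd_assoc, he, Category.comp_id]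
  e_comp α := by
    have he : (exists_pair_id sq).choose.left ≫ t.left = 𝟙 _ :=
      congrArg Over.Hom.left (exists_pair_id sq).choose_spec.1
    refine pair_ext sq ?_ ?_ <;>
      simp only [Category.assoc, (exists_pair_comp sq).choose_spec.1, (exists_pair_comp sq).choose_spec.2,
        pullback.lift_fst_assoc, pullback.lift_snd_assoc, he, Category.comp_id]
  i_s := congrArg Over.Hom.left (exists_pair_inv sq).choose_spec.2
  i_t := congrArg Over.Hom.left (exists_pair_inv sq).choose_spec.1
  comp_i α := by
    have he : (exists_pair_id sq).choose.left ≫ t.left = 𝟙 _ :=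
      congrArg Over.Hom.left (exists_pair_id sq).choose_spec.1
    have he' : (exists_pair_id sq).choose.left ≫ s.left = 𝟙 _ :=
      congrArg Over.Hom.left (exists_pair_id sq).choose_spec.2
    have hi : (exists_pair_inv sq).choose.left ≫ s.left = t.left :=
      congrArg Over.Hom.left (exists_pair_inv sq).choose_spec.2
    refine pair_ext sq ?_ ?_ <;>
      simp only [Category.assoc, (exists_pair_comp sq).choose_spec.1, (exists_pair_comp sq).choose_spec.2,
        pullback.lift_fst_assoc, pullback.lift_snd_assoc, he, he', hi, Category.comp_id]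
  i_comp α := by
    have he : (exists_pair_id sq).choose.left ≫ t.left = 𝟙 _ :=
      congrArg Over.Hom.left (exists_pair_id sq).choose_spec.1
    have he' : (exists_pair_id sq).choose.left ≫ s.left = 𝟙 _ :=
      congrArg Over.Hom.left (exists_pair_id sq).choose_spec.2
    have hi : (exists_pair_inv sq).choose.left ≫ t.left = s.left :=
      congrArg Over.Hom.left (exists_pair_inv sq).choose_spec.1
    refine pair_ext sq ?_ ?_ <;>
      simp only [Category.assoc, (exists_pair_comp sq).choose_spec.1, (exists_pair_comp sq).choose_spec.2,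
        pullback.lift_fst_assoc, pullback.lift_snd_assoc, he, he', hi, Category.comp_id]

end Groth.Agent.AlgSpLib
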