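import Groth.Agent.AlgSpLib.ThickTop
import Groth.Agent.AlgSpLib.PairGroupoid
import Groth.Agent.AlgSpDec.OpenGlue
import Groth.Agent.GrpdThick.AffineQuotNil
import Groth.Agent.MorLib.Thick.Affine
import Groth.Agent.S10180
import Mathlib.CategoryTheory.Sites.RegularEpi
import Mathlib.CategoryTheory.Limits.Shapes.KernelPair

/-!
# A thickening of a scheme is a scheme
-/

set_option backward.isDefEq.respectTransparency false
set_option backward.isDefEq.respectTransparency.types false

universe u

open CategoryTheory CategoryTheory.Limits AlgebraicGeometry Opposite AlgSp Topology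

namespace Groth.Agent.AlgSpLib

variable {S : Scheme.{u}} {X X' : Sp S} {i : X ⟶ X'}

/-- The sections killed by a surjective closed immersion into an affine scheme are nilpotent. -/
theorem ker_appTop_le_nilradical {U₀ U : Scheme.{u}} [IsAffine U] (c : U₀ ⟶ U) [Surjective c] :
    RingHom.ker c.appTop.hom ≤ nilradical Γ(U, ⊤) := by
  intro f hf
  rw [mem_nilradical]
  refine (Scheme.isNilpotent_iff_basicOpen_eq_bot f).2 ?_
  have h : c ⁻¹ᵁ U.basicOpen f = ⊥ := by
    rw [Scheme.preimage_basicOpen, show c.app ⊤ f = 0 from hf, Scheme.basicOpen_zero]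
  rw [eq_bot_iff]
  intro x hx
  obtain ⟨y, rfl⟩ := c.surjective x
  exact h.le hx

/-- A thickening of an affine scheme is an affine scheme. -/
theorem exists_affine_of_thick (hX' : IsAlgSpace X') (hi : IsThickMor i) {T : Over S} [IsAffine T.left]
    (e : (yon S).obj T ≅ X) :
    ∃ Q : Over S, IsAffine Q.left ∧ Nonempty ((yon S).obj Q ≅ X') := by
  have hqc : IsQuasiCompactSp X' := by
    have : CompactSpace T.left := inferInstance
    have : CompactSpace (Points ((yon S).obj T)) := (Points.schemeHomeo T).compactSpace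
    have : CompactSpace (Points X') := by
      have hsurj : Function.Surjective (Points.map (e.hom ≫ i)) := by
        intro x
        obtain ⟨z, rfl⟩ := (isHomeomorph_map_of_thick hX' hi).bijective.2 x
        exact ⟨Points.map e.inv z, by rw [← Points.map_comp, e.inv_hom_id_assoc]⟩
      exact hsurj.compactSpace (Points.continuous_map _)
    exact isQuasiCompactSp_of_compactSpace hX'
  obtain ⟨U, a, hU, he, hs⟩ := (Groth.Agent.S10180.result ⟨X', hX'⟩).1 hqc
  -- the chart of the closed subspace
  let hr := hi.rep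
  let U₀ : Over S := hr.pullback a
  let c : U₀ ⟶ U := hr.snd a
  let fX : (yon S).obj U₀ ⟶ X := hr.fst a
  have sq0 : IsPullback fX ((yon S).map c) i a := hr.isPullback a
  have : IsClosedImmersion c.left := (hi.property_snd a).1
  have : Surjective c.left := (hi.property_snd a).2
  have : IsAffine U₀.left := isAffine_of_isAffineHom c.left
  let q₀ : U₀ ⟶ T := (yon S).preimage (fX ≫ e.inv)
  have hq₀ : (yon S).map q₀ = fX ≫ e.inv := Functor.map_preimage _ _
  have : Etale q₀.left := (repWith_yon_map_iff _ q₀).1 (by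
    rw [hq₀]
    exact (MorphismProperty.cancel_right_of_respectsIso (RepWith @Etale) fX e.inv).2
      (repWith_of_isPullback sq0.flip he))
  have : Surjective q₀.left := (repWith_yon_map_iff _ q₀).1 (by
    rw [hq₀]
    exact (MorphismProperty.cancel_right_of_respectsIso (RepWith @Surjective) fX e.inv).2
      (repWith_of_isPullback sq0.flip hs))
  -- the kernel pair
  let hra := he.rep
  let R : Over S := hra.pullback a
  let s : R ⟶ U := hra.snd a
  let t : R ⟶ U := hra.fst' a
  have sq : IsPullback ((yon S).map t) ((yon S).map s) a a := hra.isPullback' a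
  have : Etale s.left := he.property a _ _ sq
  have : Etale t.left := he.property a _ _ sq.flip
  let R₀ : Over S := Over.mk (pullback.fst s.left c.left ≫ R.hom)
  let f₀ : R₀ ⟶ R := CategoryTheory.Over.homMk (pullback.fst _ _) rfl
  let g₀ : R₀ ⟶ U₀ := CategoryTheory.Over.homMk (pullback.snd s.left c.left) (by
    show _ ≫ U₀.hom = pullback.fst _ _ ≫ R.hom
    rw [← Over.w s, ← Over.w c, ← Category.assoc, ← Category.assoc, pullback.condition])
  have sqs : IsPullback ((yon S).map g₀) ((yon S).map f₀) ((yon S).map c) ((yon S).map s) :=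
    (IsPullback.of_map (Over.forget S) (f := g₀) (g := f₀) (h := c) (i := s)
      (Over.OverMorphism.ext pullback.condition.symm)
      (IsPullback.of_hasPullback s.left c.left).flip).map (yon S)
  have P1 : IsPullback ((yon S).map g₀ ≫ fX) ((yon S).map f₀) i ((yon S).map t ≫ a) := by
    rw [sq.w]
    exact sqs.paste_horiz sq0
  let t₀ : R₀ ⟶ U₀ := (yon S).preimage (sq0.lift ((yon S).map g₀ ≫ fX) ((yon S).map f₀ ≫ (yon S).map t)
    (P1.w.trans (Category.assoc _ _ _).symm))
  have ht₀X : (yon S).map t₀ ≫ fX = (yon S).map g₀ ≫ fX := by rw [Functor.map_preimage, sq0.lift_fst]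
  have ht₀c : (yon S).map t₀ ≫ (yon S).map c = (yon S).map f₀ ≫ (yon S).map t := by
    rw [Functor.map_preimage, sq0.lift_snd]
  have hsqt : IsPullback ((yon S).map t₀) ((yon S).map f₀) ((yon S).map c) ((yon S).map t) :=
    IsPullback.of_right (by rw [ht₀X]; exact P1) ht₀c sq0
  have ht₀ : IsPullback (pullback.fst s.left c.left) t₀.left t.left c.left :=
    ((IsPullback.of_map (yon S) ((yon S).map_injective (by rw [Functor.map_comp, Functor.map_comp, hsqt.w]))
      hsqt).map (Over.forget S)).flip
  have hsq₀ : IsPullback ((yon S).map t₀) ((yon S).map g₀) fX fX :=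
    IsPullback.of_right (by rw [ht₀c, sq0.w]; exact sqs.flip.paste_horiz sq) ht₀X sq0.flip
  have hsqq : IsPullback ((yon S).map t₀) ((yon S).map g₀) ((yon S).map q₀) ((yon S).map q₀) :=
    hsq₀.of_iso (Iso.refl _) (Iso.refl _) (Iso.refl _) e.symm
      (by simp) (by simp) (by simp [hq₀]) (by simp [hq₀])
  have hsqq' : IsPullback t₀.left (pullback.snd s.left c.left) q₀.left q₀.left :=
    (IsPullback.of_map (yon S) ((yon S).map_injective (by rw [Functor.map_comp, Functor.map_comp, hsqq.w]))
      hsqq).map (Over.forget S)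
  have : IsAffine R₀.left := IsAffine.of_isIso hsqq'.isoPullback.hom
  have : IsAffine (pullback s.left c.left) := this
  have : IsAffine R.left :=
    MorLib.Thick.isAffine_of_thickening (pullback.fst s.left c.left) (pullback.fst s.left c.left).surjective
  let G := pairGroupoid sq
  have : IsAffine G.U := hU
  have : IsAffine G.R := ‹IsAffine R.left›
  have : Etale G.t := ‹Etale t.left›
  obtain ⟨Y, q, hY, hqs, hqe, hsqY⟩ := GrpdThick.exists_affine_quotient_nil G (U₀ := U₀.left) (V := T.left)
    c.left (ker_appTop_le_nilradical c.left) t₀.left ht₀ q₀.left hsqq'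
  have hd : ∀ {Z : Scheme.{u}} (g₁ g₂ : Z ⟶ U.left), g₁ ≫ q = g₂ ≫ q → g₁ ≫ U.hom = g₂ ≫ U.hom := by
    intro Z g₁ g₂ h
    have hp : hsqY.lift g₁ g₂ h ≫ t.left = g₁ := hsqY.lift_fst _ _ _
    have hp' : hsqY.lift g₁ g₂ h ≫ s.left = g₂ := hsqY.lift_snd _ _ _
    conv_lhs => rw [← hp]
    conv_rhs => rw [← hp']
    rw [Category.assoc, Category.assoc, Over.w, Over.w]
  have : EffectiveEpi q := inferInstance
  let Q : Over S := Over.mk (EffectiveEpi.desc q U.hom hd)
  let qo : U ⟶ Q := CategoryTheory.Over.homMk q (EffectiveEpi.fac q U.hom hd)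
  refine ⟨Q, hY, ?_⟩
  have hk : IsPullback ((yon S).map t) ((yon S).map s) ((yon S).map qo) ((yon S).map qo) :=
    (IsPullback.of_map (Over.forget S) (f := t) (g := s) (h := qo) (i := qo)
      (Over.OverMorphism.ext hsqY.w) hsqY).map (yon S)
  have hqe' : RepWith @Etale ((yon S).map qo) := (repWith_yon_map_iff _ qo).2 hqe
  have hqs' : RepWith @Surjective ((yon S).map qo) := (repWith_yon_map_iff _ qo).2 hqs
  have : Epi ((yon S).map qo) := epi_of_etale_surjective hqe' hqs'
  have : Epi a := epi_of_etale_surjective he hs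
  have hc : IsRegularEpiCategory (CategoryTheory.Sheaf (AlgSp.J S) (Type (u + 1))) := inferInstance
  have : IsRegularEpi ((yon S).map qo) := hc.regularEpiOfEpi _
  have : IsRegularEpi a := hc.regularEpiOfEpi _
  exact ⟨(IsKernelPair.toCoequalizer' (hk : IsKernelPair ((yon S).map qo) _ _)).coconePointUniqueUpToIso
    (IsKernelPair.toCoequalizer' (sq : IsKernelPair a _ _))⟩

/-- A thickening of a scheme is a scheme. -/
theorem exists_scheme_of_thick (hX : IsAlgSpace X) (hX' : IsAlgSpace X') (hi : IsThickMor i) {T : Over S}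
    (e : (yon S).obj T ≅ X) : ∃ Q : Over S, Nonempty ((yon S).obj Q ≅ X') := by
  let TV : T.left.affineOpens → Over S := fun V => Over.mk (V.1.ι ≫ T.hom)
  let inc : ∀ V, TV V ⟶ T := fun V => CategoryTheory.Over.homMk V.1.ι rfl
  have hu : ∀ V, RepWith @IsOpenImmersion ((yon S).map (inc V) ≫ e.hom) := fun V =>
    (MorphismProperty.cancel_right_of_respectsIso (RepWith @IsOpenImmersion) _ e.hom).2
      ((repWith_yon_map_iff _ _).2 (inferInstanceAs (IsOpenImmersion V.1.ι)))
  choose U' u' k hU' hu' sq using fun V => exists_open_thickening hX hX' (IsAlgSpace.yon_obj (TV V)) hi (hu V)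
  have hk : ∀ V, IsThickMor (k V) := fun V => repWith_of_isPullback (sq V) hi
  have hA : ∀ V, ∃ Q : Over S, Nonempty ((yon S).obj Q ≅ U' V) := fun V => by
    have : IsAffine (TV V).left := V.2
    obtain ⟨Q, -, hQ⟩ := exists_affine_of_thick (hU' V) (hk V) (Iso.refl _)
    exact ⟨Q, hQ⟩
  choose Q hQ using hA
  have eQ : ∀ V, (yon S).obj (Q V) ≅ U' V := fun V => (hQ V).some
  let j : ∀ V, (yon S).obj (Q V) ⟶ X' := fun V => (eQ V).hom ≫ u' V
  have hj : ∀ V, RepWith @IsOpenImmersion (j V) := fun V =>
    (MorphismProperty.cancel_left_of_respectsIso (RepWith @IsOpenImmersion) (eQ V).hom (u' V)).2 (hu' V)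
  have hc : ∀ x, ∃ V v, Points.ofPt (j V) v = x := by
    intro x
    obtain ⟨z, rfl⟩ := (isHomeomorph_map_of_thick hX' hi).bijective.2 x
    obtain ⟨τ, hτ⟩ := (Points.schemeHomeo T).surjective (Points.map e.inv z)
    obtain ⟨V, hV, hτV, -⟩ := exists_isAffineOpen_mem_and_subset (U := (⊤ : T.left.Opens)) (x := τ) trivial
    let V' : T.left.affineOpens := ⟨V, hV⟩
    obtain ⟨v, hv⟩ := (Points.schemeHomeo (Q V')).surjective
      (Points.map (eQ V').inv (Points.map (k V') (Points.ofScheme (TV V') ⟨τ, hτV⟩)))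
    refine ⟨V', v, ?_⟩
    rw [Points.ofPt_eq_map_ofScheme, show Points.ofScheme (Q V') v = _ from hv, Points.map_comp,
      ← Points.map_comp (eQ V').inv (eQ V').hom, Iso.inv_hom_id, Points.map_id, ← Points.map_comp,
      ← (sq V').w, Points.map_comp, Points.map_comp]
    congr 1
    erw [Points.map_yon_map_apply]
    show Points.map e.hom (Points.schemeHomeo T τ) = z
    rw [hτ, ← Points.map_comp, Iso.inv_hom_id, Points.map_id]
  obtain ⟨W, hW, -⟩ := AlgSpDec.exists_iso_of_open_cover Q j hj hc
  exact ⟨W, hW⟩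

end Groth.Agent.AlgSpLib
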