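import Groth.Agent.AlgSpLib.LocalBaseTop
import Groth.Agent.AlgSpLib.FpqcDescent
import Groth.Agent.AlgSpPts.Misc
import Groth.Agent.AlgSpPts.Sep
import Groth.Agent.AlgSpPts.SepDescent
import Groth.Agent.S4667
import Groth.Agent.S9931
import Groth.Agent.S10180

/-!
# Closed immersions of algebraic spaces are local on the base in the fpqc topology
-/

set_option backward.isDefEq.respectTransparency false
set_option backward.isDefEq.respectTransparency.types false

universe u

open CategoryTheory CategoryTheory.Limits AlgebraicGeometry Opposite AlgSp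

namespace Groth.Agent.AlgSpLib

variable {S : Scheme.{u}}

/-- A finite jointly surjective family of flat affine schemes over an affine scheme is an fpqc covering. -/
theorem isFpqcCover_of_affines {Z : Over S} (hZ : IsAffine Z.left) {m : ℕ} {W : Fin m → Over S}
    (c : ∀ j, W j ⟶ Z) (hW : ∀ j, IsAffine (W j).left) (hc : ∀ j, Flat (c j).left)
    (hsurj : ∀ z : ↥Z.left, ∃ j, z ∈ Set.range (c j).left) :
    IsFpqcCover (fun j : ULift.{u} (Fin m) => (yon S).obj (W j.down))
      (fun j => (yon S).map (c j.down)) := by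
  refine ⟨fun j => locP_of_repWith ((repWith_yon_map_iff _ _).2 (hc j.down)), fun Z' hZ' h => ?_⟩
  let h' : Z' ⟶ Z := (yon S).preimage h
  have hh : (yon S).map h' = h := (yon S).map_preimage h
  have sq : ∀ j, IsPullback (pullback.fst h' (c j)).left (pullback.snd h' (c j)).left h'.left (c j).left :=
    fun j => (IsPullback.of_hasPullback h' (c j)).map (Over.forget S)
  refine ⟨m, fun j => pullback h' (c j), fun j => pullback.fst h' (c j), fun j => ?_, fun j => ?_,
    fun z => ?_, fun j => ⟨⟨j⟩, (yon S).map (pullback.snd h' (c j)), ?_⟩⟩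
  · have := hW j
    have : IsAffineHom (c j).left := inferInstance
    have : IsAffineHom (pullback.fst h' (c j)).left := by
      rw [← (sq j).isoPullback_hom_fst]; infer_instance
    exact isAffine_of_isAffineHom (pullback.fst h' (c j)).left
  · have := hc j
    exact MorphismProperty.of_isPullback (P := @Flat) (sq j).flip this
  · obtain ⟨j, w, hw⟩ := hsurj (h'.left z)
    obtain ⟨x, hx, -⟩ := Scheme.Pullback.exists_preimage_pullback z w hw.symm
    refine ⟨j, (sq j).isoPullback.inv x, ?_⟩
    rw [← Scheme.Hom.comp_apply, (sq j).isoPullback_inv_fst, hx]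
  · dsimp only
    rw [← hh, ← Functor.map_comp, ← Functor.map_comp, pullback.condition]

theorem ker_toImage_eq_bot {X Y : Scheme.{u}} (f : X ⟶ Y) [IsAffine X] [IsAffine Y] :
    f.toImage.ker = ⊥ := by
  have : IsAffine f.image := isAffine_of_isAffineHom f.imageι
  apply Scheme.IdealSheafData.ext_of_isAffine
  rw [Scheme.Hom.ker_apply, Scheme.IdealSheafData.ideal_bot, Pi.bot_apply, ← RingHom.injective_iff_ker_eq_bot]
  exact f.toImage_app_injective ⟨⊤, isAffineOpen_top Y⟩

theorem isIso_of_closedImmersion_of_ker_eq_bot {X Y : Scheme.{u}} (f : X ⟶ Y) [IsClosedImmersion f]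
    (h : f.ker = ⊥) : IsIso f := by
  have : IsIso f.imageι := (Scheme.isIso_subschemeι_iff_eq_bot _).2 h
  rw [← f.toImage_imageι]
  infer_instance

variable {ι : Type u} {X Y : Sp S} {Yi Xi : ι → Sp S} {g : ∀ i, Yi i ⟶ Y} {f : X ⟶ Y}
  {p : ∀ i, Xi i ⟶ Yi i} {q : ∀ i, Xi i ⟶ X}

/-- Over an affine scheme, a quasi-compact monomorphism is the composite of a scheme theoretically
dominant morphism and a closed immersion, and the former may be tested on an fpqc covering. -/
theorem repWith_over_affine {P Q R : MorphismProperty Scheme.{u}}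
    (hPQ : ∀ {A B : Scheme.{u}} (h : A ⟶ B), P h → h.ker = ⊥ → Q h)
    [Q.IsMultiplicative] [Q.IsStableUnderBaseChange] [R.IsMultiplicative] [R.IsStableUnderBaseChange]
    (hQR : Q ≤ R) (hCR : @IsClosedImmersion ≤ R)
    (hdesc : IsLocalOnBase (IsFpqcCover (S := S)) (RepWith Q))
    (hX : IsAlgSpace X) (hY : IsAlgSpace Y) [Mono f]
    (hqc : IsQuasiCompactMor f) (hg : IsFpqcCover Yi g)
    (sq : ∀ i, IsPullback (q i) (p i) f (g i)) (hp : ∀ i, RepWith P (p i)) [P.IsStableUnderBaseChange]
    {Z : Over S} [IsAffine Z.left] (z : (yon S).obj Z ⟶ Y) :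
    RepWith R (pullback.snd f z) := by
  have hP : IsAlgSpace (pullback f z) := isAlgSpace_pullback hX (IsAlgSpace.yon_obj Z) hY f z
  have hPqc : IsQuasiCompactSp (pullback f z) :=
    hqc (IsAlgSpace.yon_obj Z) (isQuasiCompactSp_yon Z) z _ _ (IsPullback.of_hasPullback f z)
  obtain ⟨U, a, hU, hae, has⟩ :=
    (Groth.Agent.S10180.result ⟨pullback f z, hP⟩).1 hPqc
  let v : U ⟶ Z := (yon S).preimage (a ≫ pullback.snd f z)
  have hv : (yon S).map v = a ≫ pullback.snd f z := (yon S).map_preimage _
  let T₀ : Over S := Over.mk (v.left.imageι ≫ Z.hom)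
  have hT₀ : IsAffine T₀.left := isAffine_of_isAffineHom v.left.imageι
  let i : T₀ ⟶ Z := Over.homMk v.left.imageι rfl
  let v' : U ⟶ T₀ := Over.homMk v.left.toImage (by
    simp only [T₀, Over.mk_hom, Scheme.Hom.toImage_imageι_assoc]; exact Over.w v)
  have hv' : v' ≫ i = v := by ext1; exact v.left.toImage_imageι
  have hic : IsClosedImmersion i.left := inferInstanceAs (IsClosedImmersion v.left.imageι)
  have hir : RepWith @IsClosedImmersion ((yon S).map i) := (repWith_yon_map_iff _ _).2 hic
  have him : Mono ((yon S).map i) := by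
    have : Mono i.left := inferInstance
    have : Mono i := (Over.forget S).mono_of_mono_map this
    exact inferInstance
  let K := pullback (pullback.snd f z) ((yon S).map i)
  let ψ : K ⟶ (yon S).obj T₀ := pullback.snd _ _
  let e : (yon S).obj U ⟶ K := pullback.lift a ((yon S).map v') (by rw [← hv, ← Functor.map_comp, hv'])
  have hfac : e.hom ≫ (pullback.fst (pullback.snd f z) ((yon S).map i)).hom = a.hom :=
    congrArg (·.hom) (pullback.lift_fst a ((yon S).map v') _)
  have hls : Sheaf.IsLocallySurjective a := isLocallySurjective_of_etale_surjective hae has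
  have hls' : Sheaf.IsLocallySurjective (pullback.fst (pullback.snd f z) ((yon S).map i)) :=
    Presheaf.isLocallySurjective_of_isLocallySurjective_fac (J S) hfac
  have hiso : IsIso (pullback.fst (pullback.snd f z) ((yon S).map i)) :=
    isIso_of_mono_of_locallySurjective _
  have hK : IsAlgSpace K :=
    isAlgSpace_pullback hP (IsAlgSpace.yon_obj T₀) (IsAlgSpace.yon_obj Z) _ _
  have sK : IsPullback (pullback.fst (pullback.snd f z) ((yon S).map i) ≫ pullback.fst f z) ψ f
      ((yon S).map i ≫ z) :=
    (IsPullback.of_hasPullback _ _).paste_horiz (IsPullback.of_hasPullback f z)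
  suffices hψ : RepWith Q ψ by
    have heq : pullback.snd f z =
        inv (pullback.fst (pullback.snd f z) ((yon S).map i)) ≫ ψ ≫ (yon S).map i := by
      rw [IsIso.eq_inv_comp]
      exact pullback.condition
    rw [heq]
    exact repWith_comp (repWith_of_isIso _ _)
      (repWith_comp (repWith_mono hQR _ hψ) (repWith_mono hCR _ hir))
  obtain ⟨m, W, c, hW, hc, hsurj, hl⟩ := hg.2 Z inferInstance z
  let W' : Fin m → Over S := fun j => pullback i (c j)
  let c' : ∀ j, W' j ⟶ T₀ := fun j => pullback.fst i (c j)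
  have sW : ∀ j, IsPullback (c' j).left (pullback.snd i (c j)).left i.left (c j).left :=
    fun j => (IsPullback.of_hasPullback i (c j)).map (Over.forget S)
  have hW' : ∀ j, IsAffine (W' j).left := fun j => by
    have := hW j
    have : IsClosedImmersion (pullback.snd i (c j)).left :=
      MorphismProperty.of_isPullback (P := @IsClosedImmersion) (sW j) hic
    exact isAffine_of_isAffineHom (pullback.snd i (c j)).left
  have hc' : ∀ j, Flat (c' j).left := fun j =>
    MorphismProperty.of_isPullback (P := @Flat) (sW j).flip (hc j)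
  have hsurj' : ∀ x : ↥T₀.left, ∃ j, x ∈ Set.range (c' j).left := fun x => by
    obtain ⟨j, w, hw⟩ := hsurj (i.left x)
    obtain ⟨y, hy, -⟩ := Scheme.Pullback.exists_preimage_pullback x w hw.symm
    refine ⟨j, (sW j).isoPullback.inv y, ?_⟩
    rw [← Scheme.Hom.comp_apply, (sW j).isoPullback_inv_fst, hy]
  refine (hdesc _ _ (IsAlgSpace.yon_obj T₀) (fun j : ULift.{u} (Fin m) => IsAlgSpace.yon_obj _)
    (isFpqcCover_of_affines hT₀ c' hW' hc' hsurj') ψ hK _
    (fun j => pullback.snd ψ ((yon S).map (c' j.down)))
    (fun j => pullback.fst ψ ((yon S).map (c' j.down))) (fun j => isAlgSpace_pullback hK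
      (IsAlgSpace.yon_obj _) (IsAlgSpace.yon_obj T₀) _ _)
    (fun j => IsPullback.of_hasPullback _ _)).2 ?_
  intro ⟨j⟩
  obtain ⟨k, l, hl⟩ := hl j
  let l' : (yon S).obj (W' j) ⟶ Yi k := (yon S).map (pullback.snd i (c j)) ≫ l
  have hl' : l' ≫ g k = (yon S).map (c' j) ≫ (yon S).map i ≫ z := by
    simp only [l', c', Category.assoc, hl, ← Functor.map_comp_assoc, pullback.condition]
  have sKj := (IsPullback.of_hasPullback ψ ((yon S).map (c' j))).paste_horiz sK
  rw [← hl'] at sKj
  let b := (sq k).lift (pullback.fst ψ ((yon S).map (c' j)) ≫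
      pullback.fst (pullback.snd f z) ((yon S).map i) ≫ pullback.fst f z)
    (pullback.snd ψ ((yon S).map (c' j)) ≫ l') (sKj.w.trans (Category.assoc _ _ _).symm)
  have hrep : RepWith P (pullback.snd ψ ((yon S).map (c' j))) := by
    refine repWith_of_isPullback (fst := b) (g := l') (IsPullback.of_right ?_ ((sq k).lift_snd _ _ _) (sq k)) (hp k)
    rw [IsPullback.lift_fst]
    exact sKj
  let hr := hrep.1
  let sC := hr.snd (𝟙 ((yon S).obj (W' j)))
  have hsC : P sC.left := hrep.2 _ _ _ (hr.isPullback _)
  let fC := hr.fst (𝟙 ((yon S).obj (W' j)))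
  have : IsIso fC := (hr.isPullback (𝟙 ((yon S).obj (W' j)))).isIso_fst_of_isIso
  have hfC : fC ≫ pullback.snd ψ ((yon S).map (c' j)) = (yon S).map sC :=
    (hr.isPullback _).w.trans (Category.comp_id _)
  let W'' : Over S := pullback v' (c' j)
  let uK : (yon S).obj W'' ⟶ pullback ψ ((yon S).map (c' j)) :=
    pullback.lift ((yon S).map (pullback.fst v' (c' j)) ≫ e) ((yon S).map (pullback.snd v' (c' j))) (by
      rw [Category.assoc, pullback.lift_snd, ← Functor.map_comp, ← Functor.map_comp, pullback.condition])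
  let k₀ : W'' ⟶ hr.pullback (𝟙 ((yon S).obj (W' j))) := (yon S).preimage (uK ≫ inv fC)
  have hk₀ : k₀ ≫ sC = pullback.snd v' (c' j) := by
    apply (yon S).map_injective
    rw [Functor.map_comp, Functor.map_preimage, Category.assoc, ← hfC, IsIso.inv_hom_id_assoc,
      pullback.lift_snd]
  have hker : (pullback.snd v' (c' j)).left.ker = ⊥ := by
    have s := (IsPullback.of_hasPullback v' (c' j)).map (Over.forget S)
    have e1 : (s.isoPullback.hom ≫ pullback.snd _ _ : W''.left ⟶ _) = (pullback.snd v' (c' j)).left :=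
      s.isoPullback_hom_snd
    rw [← e1, Scheme.Hom.ker_comp_of_isIso]
    have : Flat (c' j).left := hc' j
    have : QuasiCompact v'.left := inferInstanceAs (QuasiCompact v.left.toImage)
    refine (Groth.Agent.S4667.result v'.left (c' j).left).trans ?_
    rw [show v'.left.ker = ⊥ from ker_toImage_eq_bot v.left, Scheme.IdealSheafData.comap_bot]
  have hsC' : sC.left.ker = ⊥ := by
    refine le_bot_iff.1 (hker ▸ ?_)
    rw [← hk₀, Over.comp_left]
    exact k₀.left.le_ker_comp sC.left
  have heq : pullback.snd ψ ((yon S).map (c' j)) = inv fC ≫ (yon S).map sC := by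
    rw [IsIso.eq_inv_comp, hfC]
  show RepWith Q (pullback.snd ψ ((yon S).map (c' j)))
  rw [heq]
  exact repWith_comp (repWith_of_isIso _ _) ((repWith_yon_map_iff _ _).2 (hPQ _ hsC hsC'))

theorem repWith_isomorphisms_iff {F G : Sp S} (h : F ⟶ G) :
    RepWith (MorphismProperty.isomorphisms Scheme.{u}) h ↔ IsIso h := by
  refine ⟨fun hh => ?_, fun _ => repWith_of_isIso _ h⟩
  have : Mono h := AlgSpPts.mono_of_repWith (repWith_mono (fun _ _ k hk => by
    have : IsIso k := hk
    exact inferInstanceAs (Mono k)) _ hh)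
  have : Sheaf.IsLocallySurjective h := isLocallySurjective_of_repWith
    (repWith_mono (fun _ _ k hk => by
      have : IsIso k := hk
      exact fppf_of k) _ hh)
  exact isIso_of_mono_of_locallySurjective h

/-- Closed immersions are local on the base in the fpqc topology. -/
theorem isLocalOnBase_fpqc_isClosedImmersion :
    IsLocalOnBase (IsFpqcCover (S := S)) (RepWith @IsClosedImmersion) := by
  intro ι Y Yi g hY hYi hg X f hX Xi p q hXi sq
  refine ⟨fun hf i => repWith_of_isPullback (sq i) hf, fun hp => ?_⟩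
  have : Mono f := mono_of_fpqc hX hg sq fun i =>
    AlgSpPts.mono_of_repWith (repWith_mono (fun _ _ h hh => by
      have : IsClosedImmersion h := hh
      exact inferInstanceAs (Mono h)) _ (hp i))
  have hqc : IsQuasiCompactMor f :=
    (isLocalOnBase_fpqc_isQuasiCompactMor Yi g hY hYi hg f hX Xi p q hXi sq).2 fun i =>
      AlgSpPts.isQuasiCompactMor_of_repWith (repWith_mono (fun _ _ h hh => by
        have : IsClosedImmersion h := hh
        exact inferInstanceAs (QuasiCompact h)) _ (hp i))
  refine Groth.Agent.S9931.result @IsClosedImmersion (Or.inl rfl) (X := ⟨X, hX⟩) (Y := ⟨Y, hY⟩)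
    (ObjectProperty.homMk f) fun Z hZ z P₀ fst snd s => ?_
  have hdesc : IsLocalOnBase (IsFpqcCover (S := S)) (RepWith (MorphismProperty.isomorphisms Scheme.{u})) := by
    intro ι Y Yi g hY hYi hg X f hX Xi p q hXi sq
    refine ⟨fun hf i => repWith_of_isPullback (sq i) hf, fun hp => (repWith_isomorphisms_iff f).2 ?_⟩
    exact isIso_of_fpqc hX hY hYi hXi hg sq fun i => (repWith_isomorphisms_iff _).1 (hp i)
  have h : RepWith @IsClosedImmersion (pullback.snd f z) :=
    repWith_over_affine (Q := MorphismProperty.isomorphisms Scheme.{u})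
      (fun k hk hker => by
        have : IsClosedImmersion k := hk
        exact isIso_of_closedImmersion_of_ker_eq_bot k hker)
      (fun _ _ k hk => by
        have : IsIso k := hk
        exact inferInstanceAs (IsClosedImmersion k)) le_rfl hdesc hX hY hqc hg sq hp z
  refine repWith_of_isPullback (fst := s.isoPullback.hom) (g := 𝟙 _) (IsPullback.of_horiz_isIso ⟨?_⟩) h
  rw [Category.comp_id]
  exact s.isoPullback_hom_snd

/-- A scheme theoretically dominant quasi-compact immersion is an open immersion. -/
theorem isOpenImmersion_of_ker_eq_bot {X Y : Scheme.{u}} (h : X ⟶ Y) [IsImmersion h] [QuasiCompact h]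
    (hk : h.ker = ⊥) : IsOpenImmersion h := by
  let U := h.coborderRange
  have hfst : IsPullback (𝟙 X) h.liftCoborder h U.ι := by
    refine ⟨⟨by rw [Category.id_comp, h.liftCoborder_ι]⟩, ⟨PullbackCone.IsLimit.mk _ (fun s => s.fst)
      (fun s => Category.comp_id _) (fun s => ?_) (fun s m h1 _ => ?_)⟩⟩
    · rw [← cancel_mono U.ι, Category.assoc, h.liftCoborder_ι, s.condition]
    · simpa using h1
  have hker : h.liftCoborder.ker = ⊥ := by
    rw [← hfst.isoPullback_hom_snd, Scheme.Hom.ker_comp_of_isIso]
    refine (Groth.Agent.S4667.result h U.ι).trans ?_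
    rw [hk, Scheme.IdealSheafData.comap_bot]
  have := isIso_of_closedImmersion_of_ker_eq_bot _ hker
  rw [← h.liftCoborder_ι]
  infer_instance

/-- Quasi-compact immersions are local on the base in the fpqc topology. -/
theorem isLocalOnBase_fpqc_qcImmersion :
    IsLocalOnBase (IsFpqcCover (S := S)) (RepWith (@IsImmersion ⊓ @QuasiCompact)) := by
  intro ι Y Yi g hY hYi hg X f hX Xi p q hXi sq
  refine ⟨fun hf i => repWith_of_isPullback (sq i) hf, fun hp => ?_⟩
  have : Mono f := mono_of_fpqc hX hg sq fun i =>
    AlgSpPts.mono_of_repWith (repWith_mono (fun _ _ h hh => by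
      have : IsImmersion h := hh.1
      exact inferInstanceAs (Mono h)) _ (hp i))
  have hqc : IsQuasiCompactMor f :=
    (isLocalOnBase_fpqc_isQuasiCompactMor Yi g hY hYi hg f hX Xi p q hXi sq).2 fun i =>
      AlgSpPts.isQuasiCompactMor_of_repWith (repWith_mono (fun _ _ h hh => hh.2) _ (hp i))
  have himm : RepWith @IsImmersion f := by
    refine Groth.Agent.S9931.result @IsImmersion (Or.inr (Or.inr rfl)) (X := ⟨X, hX⟩) (Y := ⟨Y, hY⟩)
      (ObjectProperty.homMk f) fun Z hZ z P₀ fst snd s => ?_
    have h : RepWith @IsImmersion (pullback.snd f z) :=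
      repWith_over_affine (Q := @IsOpenImmersion)
        (fun k hk hker => by
          have : IsImmersion k := hk.1
          have : QuasiCompact k := hk.2
          exact isOpenImmersion_of_ker_eq_bot k hker)
        (fun _ _ k hk => by
          have : IsOpenImmersion k := hk
          exact inferInstanceAs (IsImmersion k))
        (fun _ _ k hk => by
          have : IsClosedImmersion k := hk
          exact inferInstanceAs (IsImmersion k))
        isLocalOnBase_fpqc_isOpenImmersion hX hY hqc hg sq hp z
    refine repWith_of_isPullback (fst := s.isoPullback.hom) (g := 𝟙 _) (IsPullback.of_horiz_isIso ⟨?_⟩) h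
    rw [Category.comp_id]
    exact s.isoPullback_hom_snd
  exact (repWith_inf_iff f).2 ⟨himm, AlgSpPts.repWith_quasiCompact himm.1 hqc⟩

end Groth.Agent.AlgSpLib
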