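import Mathlib.RingTheory.Flat.Equalizer
import Mathlib.AlgebraicGeometry.QuasiAffine
import Mathlib.CategoryTheory.Sites.RegularEpi
import Groth.Agent.AlgSpLib.ClosedImmDesc
import Groth.Agent.AlgSpVal.SpecPullback
import Groth.Agent.AlgSpDec.AffineRep
import Groth.Agent.GrpSchLib.AntiAffineBC

/-!
# The affine hull of a quasi-compact separated algebraic space over an affine scheme and fpqc base change
-/

set_option backward.isDefEq.respectTransparency false
set_option backward.isDefEq.respectTransparency.types false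

universe u

open CategoryTheory CategoryTheory.Limits AlgebraicGeometry Opposite AlgSp Groth.Agent.AlgSpVal
open scoped TensorProduct

namespace Groth.Agent.AlgSpLib

variable {S : Scheme.{u}}

/-- An affine scheme over `S` is `Spec` of its global functions. -/
theorem exists_spec_iso (U : Over S) [IsAffine U.left] :
    ∃ (C : CommRingCat.{u}) (str : Spec C ⟶ S), Nonempty (Over.mk str ≅ U) :=
  ⟨Γ(U.left, ⊤), U.left.isoSpec.inv ≫ U.hom, ⟨CategoryTheory.Over.isoMk U.left.isoSpec.symm rfl⟩⟩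

section Algebra

variable {A C R A' : Type u} [CommRing A] [CommRing C] [CommRing R] [CommRing A']
  [Algebra A C] [Algebra A R] [Algebra A A'] [Module.Flat A A']

/-- An algebra between the base change of an equalizer and the base change of the algebra, mapped into the
equalizer, is the base change of the equalizer. -/
theorem bijective_of_le_equalizer {D : Type u} [CommRing D] [Algebra A D] (g₁ g₂ : C →ₐ[A] R)
    (lam : A' ⊗[A] AlgHom.equalizer g₁ g₂ →+* D) (θ : D →+* A' ⊗[A] C)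
    (hθ : Function.Injective θ)
    (hcomp : ∀ z, θ (lam z) = Algebra.TensorProduct.map (AlgHom.id A A') (AlgHom.equalizer g₁ g₂).val z)
    (heq : ∀ d, Algebra.TensorProduct.map (AlgHom.id A A') g₁ (θ d) =
      Algebra.TensorProduct.map (AlgHom.id A A') g₂ (θ d)) : Function.Bijective lam := by
  have hι : Function.Injective (Algebra.TensorProduct.map (AlgHom.id A A') (AlgHom.equalizer g₁ g₂).val) :=
    Module.Flat.lTensor_preserves_injective_linearMap (M := A')
      (AlgHom.equalizer g₁ g₂).val.toLinearMap Subtype.val_injective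
  refine ⟨fun z w h => hι ?_, fun d => ?_⟩
  · rw [← hcomp, ← hcomp, h]
  · let z := (AlgHom.tensorEqualizerEquiv A A' g₁ g₂).symm ⟨θ d, heq d⟩
    refine ⟨z, hθ ?_⟩
    rw [hcomp, ← AlgHom.coe_tensorEqualizer A A' g₁ g₂, ← AlgHom.tensorEqualizerEquiv_apply,
      AlgEquiv.apply_symm_apply]

end Algebra

variable {ι : Type u} {X Y : Sp S} {Yi Xi : ι → Sp S} {g : ∀ i, Yi i ⟶ Y} {f : X ⟶ Y}
  {p : ∀ i, Xi i ⟶ Yi i} {q : ∀ i, Xi i ⟶ X}

/-- Over an affine scheme, a quasi-compact separated morphism maps to an affine scheme by a morphism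
which becomes the affine hull on an fpqc covering. -/
theorem exists_affine_hull {Q : MorphismProperty Scheme.{u}} [Q.IsStableUnderBaseChange] [Q.IsMultiplicative]
    (hdesc : IsLocalOnBase (IsFpqcCover (S := S)) (RepWith Q))
    (hX : IsAlgSpace X) (hY : IsAlgSpace Y) (hsep : IsSeparatedMor f) (hqc : IsQuasiCompactMor f)
    (hg : IsFpqcCover Yi g) (sq : ∀ i, IsPullback (q i) (p i) f (g i))
    (hD : ∀ k ⦃W : Over S⦄, IsAffine W.left → ∀ l : (yon S).obj W ⟶ Yi k,
      ∃ (D : Over S) (i : D ⟶ W) (fst : (yon S).obj D ⟶ Xi k),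
        IsPullback fst ((yon S).map i) (p k) l ∧ CompactSpace D.left ∧ Q D.left.toSpecΓ)
    {Z : Over S} [IsAffine Z.left] (z : (yon S).obj Z ⟶ Y) :
    ∃ (T₀ : Over S) (i : T₀ ⟶ Z) (φ : pullback f z ⟶ (yon S).obj T₀),
      IsAffine T₀.left ∧ RepWith Q φ ∧ φ ≫ (yon S).map i = pullback.snd f z := by
  obtain ⟨A, str, ⟨eZ⟩⟩ := exists_spec_iso Z
  let z' := (yon S).map eZ.hom ≫ z
  suffices h : ∀ z' : (yon S).obj (Over.mk str) ⟶ Y,
      ∃ (T₀ : Over S) (i : T₀ ⟶ Over.mk str) (φ : pullback f z' ⟶ (yon S).obj T₀),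
      IsAffine T₀.left ∧ RepWith Q φ ∧ φ ≫ (yon S).map i = pullback.snd f z' by
    obtain ⟨T₀, i, φ, h₀, hφ, hw⟩ := h z'
    let e : pullback f z ⟶ pullback f z' := pullback.lift (pullback.fst f z)
      (pullback.snd f z ≫ (yon S).map eZ.inv) (by
        simp only [z', Category.assoc, ← Functor.map_comp_assoc, eZ.inv_hom_id, (yon S).map_id, Category.id_comp,
          pullback.condition])
    let e' : pullback f z' ⟶ pullback f z := pullback.lift (pullback.fst f z')
      (pullback.snd f z' ≫ (yon S).map eZ.hom) (by rw [Category.assoc]; exact pullback.condition)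
    have : IsIso e := ⟨e', by
      constructor
      · apply pullback.hom_ext
        · simp [e, e']
        · simp [e, e', ← Functor.map_comp]
      · apply pullback.hom_ext
        · simp [e, e']
        · simp [e, e', ← Functor.map_comp]⟩
    refine ⟨T₀, i ≫ eZ.hom, e ≫ φ, h₀, repWith_comp (repWith_of_isIso _ _) hφ, ?_⟩
    rw [Functor.map_comp, Category.assoc, ← Category.assoc φ, hw, pullback.lift_snd_assoc, Category.assoc,
      ← Functor.map_comp, eZ.inv_hom_id, (yon S).map_id, Category.comp_id]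
  clear z' z eZ
  intro z'
  let P := pullback f z'
  let π : P ⟶ (yon S).obj (Over.mk str) := pullback.snd f z'
  have hA : IsAffine (Over.mk str).left := inferInstanceAs (IsAffine (Spec A))
  have hP : IsAlgSpace P := isAlgSpace_pullback hX (IsAlgSpace.yon_obj _) hY f z'
  have hPqc : IsQuasiCompactSp P :=
    hqc (IsAlgSpace.yon_obj _) (isQuasiCompactSp_yon (Over.mk str)) z' _ _ (IsPullback.of_hasPullback f z')
  have hπ : IsSeparatedMor π :=
    AlgSpPts.isSeparatedMor_of_isPullback (IsPullback.of_hasPullback f z') hsep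
  obtain ⟨U, a₀, hU, hae₀, has₀⟩ := (Groth.Agent.S10180.result ⟨P, hP⟩).1 hPqc
  -- the chart is a spectrum over `A`
  obtain ⟨C, γ, a, hae, has, ha⟩ : ∃ (C : CommRingCat.{u}) (γ : A ⟶ C)
      (a : (yon S).obj (Over.mk (Spec.map γ ≫ str)) ⟶ P),
      RepWith @Etale a ∧ RepWith @Surjective a ∧ a ≫ π = (yon S).map (specToBase γ) := by
    obtain ⟨C, strU, ⟨eU⟩⟩ := exists_spec_iso U
    obtain ⟨v, hv⟩ := (yon S).map_surjective ((yon S).map eU.hom ≫ a₀ ≫ π)
    obtain ⟨γ, hγ⟩ : ∃ γ : A ⟶ C, Spec.map γ = v.left := ⟨_, Spec.map_preimage _⟩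
    have hstr : Spec.map γ ≫ str = strU := hγ ▸ Over.w v
    let e : Over.mk (Spec.map γ ≫ str) ⟶ U :=
      (CategoryTheory.Over.isoMk (Iso.refl (Spec C)) (by simpa using hstr.symm) :
        Over.mk (Spec.map γ ≫ str) ≅ Over.mk strU).hom ≫ eU.hom
    have : IsIso e := inferInstance
    refine ⟨C, γ, (yon S).map e ≫ a₀, repWith_comp (repWith_of_isIso _ _) hae₀,
      repWith_comp (repWith_of_isIso _ _) has₀, ?_⟩
    simp only [e, Functor.map_comp, Category.assoc, ← hv]
    rw [← Functor.map_comp]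
    congr 1
    ext1
    simp only [Over.comp_left, Over.isoMk_hom_left, Iso.refl_hom]
    exact (Category.id_comp _).trans hγ.symm
  obtain ⟨R, γ₁, γ₂, hγγ, sqR, -⟩ := exists_spec_pullback hπ γ γ a a hae.1 ha ha
  algebraize [γ.hom, (γ ≫ γ₂).hom]
  let g₁ : C →ₐ[A] R := { γ₁.hom with commutes' := fun x => RingHom.congr_fun (congrArg CommRingCat.Hom.hom hγγ) x }
  let g₂ : C →ₐ[A] R := { γ₂.hom with commutes' := fun x => rfl }
  let E : CommRingCat.{u} := CommRingCat.of (AlgHom.equalizer g₁ g₂)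
  let γE : A ⟶ E := CommRingCat.ofHom (algebraMap A (AlgHom.equalizer g₁ g₂))
  let ιE : E ⟶ C := CommRingCat.ofHom (AlgHom.equalizer g₁ g₂).val.toRingHom
  have hγι : γE ≫ ιE = γ := rfl
  have hιγ : ιE ≫ γ₁ = ιE ≫ γ₂ := CommRingCat.hom_ext (RingHom.ext fun x => x.2)
  let v' := specHom (str := str) γE ιE γ hγι
  have hagree : (yon S).map (specHom (str := str) γ γ₁ (γ ≫ γ₂) hγγ) ≫ (yon S).map v' =
      (yon S).map (specHom γ γ₂ (γ ≫ γ₂) rfl) ≫ (yon S).map v' := by
    rw [← Functor.map_comp, ← Functor.map_comp, specHom_comp, specHom_comp]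
    exact congrArg _ (specHom_congr _ _ _ _ hιγ)
  have hepi : Epi a := epi_of_etale_surjective hae has
  have : EffectiveEpi a := (isRegularEpi_iff_effectiveEpi a).1 (IsRegularEpiCategory.regularEpiOfEpi a)
  have hag : ∀ {K : Sp S} (b₁ b₂ : K ⟶ (yon S).obj (Over.mk (Spec.map γ ≫ str))),
      b₁ ≫ a = b₂ ≫ a → b₁ ≫ (yon S).map v' = b₂ ≫ (yon S).map v' := fun b₁ b₂ hb => by
    rw [← sqR.lift_fst b₁ b₂ hb]
    conv_rhs => rw [← sqR.lift_snd b₁ b₂ hb]
    rw [Category.assoc, Category.assoc, hagree]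
  let φ : P ⟶ (yon S).obj (Over.mk (Spec.map γE ≫ str)) := EffectiveEpi.desc a ((yon S).map v') hag
  have hφ : a ≫ φ = (yon S).map v' := EffectiveEpi.fac a _ hag
  have hφπ : φ ≫ (yon S).map (specToBase γE) = π := by
    rw [← cancel_epi a, ← Category.assoc, hφ, ha, ← Functor.map_comp, specHom_toBase]
  refine ⟨_, specToBase γE, φ, inferInstanceAs (IsAffine (Spec E)), ?_, hφπ⟩
  obtain ⟨m, W, c, hW, hc, hsurj, hl⟩ := hg.2 (Over.mk str) hA z'
  -- the pieces of the covering are spectra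
  choose A' strW eW using fun j => have := hW j; exists_spec_iso (W j)
  choose φA hφA using fun j =>
    (⟨_, Spec.map_preimage ((eW j).some.hom ≫ c j).left⟩ : ∃ r : A ⟶ A' j, Spec.map r = ((eW j).some.hom ≫ c j).left)
  let W₁ : Fin m → Over S := fun j => Over.mk (Spec.map (φA j) ≫ str)
  let eW₁ : ∀ j, W₁ j ≅ W j := fun j =>
    (CategoryTheory.Over.isoMk (Iso.refl (Spec (A' j))) (by
      refine (Category.id_comp _).trans ?_
      exact (hφA j ▸ Over.w ((eW j).some.hom ≫ c j)).symm) : W₁ j ≅ Over.mk (strW j)) ≪≫ (eW j).some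
  have hec : ∀ j, (eW₁ j).hom ≫ c j = specToBase (str := str) (φA j) := fun j => by
    ext1
    change (𝟙 _ ≫ (eW j).some.hom.left) ≫ (c j).left = Spec.map (φA j)
    rw [Category.id_comp, hφA j]
    rfl
  have hflat : ∀ j, Flat (Spec.map (φA j)) := fun j => by
    have h : Flat ((eW₁ j).hom.left ≫ (c j).left) := by
      have := hc j
      infer_instance
    rwa [← Over.comp_left, hec j] at h
  have hsurj₁ : ∀ x : ↥(Spec A), ∃ j, x ∈ Set.range (Spec.map (φA j)) := fun x => by
    obtain ⟨j, w, hw⟩ := hsurj x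
    refine ⟨j, (eW₁ j).inv.left w, ?_⟩
    have h : (eW₁ j).inv ≫ specToBase (str := str) (φA j) = c j := by rw [← hec j, Iso.inv_hom_id_assoc]
    rw [← hw, ← h]
    rfl
  let alg : ∀ j, Algebra A (A' j) := fun j => (φA j).hom.toAlgebra
  let γT : ∀ j, A ⟶ CommRingCat.of (A' j ⊗[A] E) := fun j => CommRingCat.ofHom (algebraMap A (A' j ⊗[A] E))
  let inl : ∀ j, A' j ⟶ CommRingCat.of (A' j ⊗[A] E) := fun j =>
    CommRingCat.ofHom Algebra.TensorProduct.includeLeftRingHom
  let inr : ∀ j, E ⟶ CommRingCat.of (A' j ⊗[A] E) := fun j =>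
    CommRingCat.ofHom (Algebra.TensorProduct.includeRight (R := A) (A := A' j) (B := E)).toRingHom
  have hpoE : ∀ j, IsPushout (φA j) γE (inl j) (inr j) := fun j =>
    CommRingCat.isPushout_tensorProduct A (A' j) E
  have hinr : ∀ j, γE ≫ inr j = φA j ≫ inl j := fun j => (hpoE j).w.symm
  let T' : Fin m → Over S := fun j => Over.mk (Spec.map (φA j ≫ inl j) ≫ str)
  let c' : ∀ j, T' j ⟶ Over.mk (Spec.map γE ≫ str) := fun j => specHom γE (inr j) _ (hinr j)
  have sT : ∀ j, IsPullback (specHom (φA j) (inl j) _ rfl) (c' j) (specToBase (φA j))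
      (specToBase (str := str) γE) := fun j =>
    IsPullback.of_map (Over.forget S) (by rw [specHom_toBase, specHom_toBase])
      (isPullback_SpecMap_of_isPushout _ _ _ _ (hpoE j))
  have hc' : ∀ j, Flat (c' j).left := fun j =>
    MorphismProperty.of_isPullback (P := @Flat) ((sT j).map (Over.forget S)) (hflat j)
  have hsurj' : ∀ x : ↥(Spec E), ∃ j, x ∈ Set.range (c' j).left := fun x => by
    obtain ⟨j, w, hw⟩ := hsurj₁ (Spec.map γE x)
    obtain ⟨y, -, hy⟩ := Scheme.Pullback.exists_preimage_pullback w x hw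
    refine ⟨j, ((sT j).map (Over.forget S)).isoPullback.inv y, ?_⟩
    exact (Scheme.Hom.comp_apply _ _ _).symm.trans
      ((congrArg (fun k : pullback (Spec.map (φA j)) (Spec.map γE) ⟶ Spec E => k y)
        ((sT j).map (Over.forget S)).isoPullback_inv_snd).trans hy)
  refine (hdesc _ _ (IsAlgSpace.yon_obj _) (fun j : ULift.{u} (Fin m) => IsAlgSpace.yon_obj _)
    (isFpqcCover_of_affines (inferInstanceAs (IsAffine (Spec E))) c'
      (fun j => inferInstanceAs (IsAffine (Spec _))) hc' hsurj') φ hP _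
    (fun j => pullback.snd φ ((yon S).map (c' j.down)))
    (fun j => pullback.fst φ ((yon S).map (c' j.down))) (fun j => isAlgSpace_pullback hP
      (IsAlgSpace.yon_obj _) (IsAlgSpace.yon_obj _) _ _)
    (fun j => IsPullback.of_hasPullback _ _)).2 ?_
  intro ⟨j⟩
  obtain ⟨k, l, hl⟩ := hl j
  obtain ⟨D, iD, fD, sD, hDc, hQD⟩ := hD k (inferInstanceAs (IsAffine (Spec (A' j))) : IsAffine (W₁ j).left)
    ((yon S).map (eW₁ j).hom ≫ l)
  have hlW : ((yon S).map (eW₁ j).hom ≫ l) ≫ g k = (yon S).map (specToBase (φA j)) ≫ z' := by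
    rw [Category.assoc, hl, ← Functor.map_comp_assoc, hec]
  have s1 := sD.paste_horiz (sq k)
  rw [hlW] at s1
  let qD : (yon S).obj D ⟶ P := pullback.lift (fD ≫ q k) ((yon S).map iD ≫ (yon S).map (specToBase (φA j)))
    (s1.w.trans (Category.assoc _ _ _).symm)
  have sqD : IsPullback qD ((yon S).map iD) π ((yon S).map (specToBase (φA j))) := by
    refine IsPullback.of_right ?_ (pullback.lift_snd _ _ _) (IsPullback.of_hasPullback f z')
    rw [pullback.lift_fst]
    exact s1
  -- the chart of the piece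
  let C' : CommRingCat.{u} := CommRingCat.of (A' j ⊗[A] C)
  let cl : A' j ⟶ C' := CommRingCat.ofHom Algebra.TensorProduct.includeLeftRingHom
  let cr : C ⟶ C' := CommRingCat.ofHom (Algebra.TensorProduct.includeRight (R := A) (A := A' j) (B := C)).toRingHom
  have hpoC : IsPushout (φA j) γ cl cr := CommRingCat.isPushout_tensorProduct A (A' j) C
  let U' : Over S := Over.mk (Spec.map (φA j ≫ cl) ≫ str)
  let rA : U' ⟶ W₁ j := specHom (φA j) cl _ rfl
  let rC : U' ⟶ Over.mk (Spec.map γ ≫ str) := specHom γ cr _ hpoC.w.symm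
  have sU : IsPullback rA rC (specToBase (φA j)) (specToBase (str := str) γ) :=
    IsPullback.of_map (Over.forget S) (by rw [specHom_toBase, specHom_toBase])
      (isPullback_SpecMap_of_isPushout _ _ _ _ hpoC)
  have sUy := (sU.map (yon S)).flip
  let t : (yon S).obj U' ⟶ (yon S).obj D :=
    sqD.lift ((yon S).map rC ≫ a) ((yon S).map rA) (by rw [Category.assoc, ha]; exact sUy.w)
  obtain ⟨s, hs⟩ := (yon S).map_surjective t
  have hsA : s ≫ iD = rA := (yon S).map_injective (by rw [Functor.map_comp, hs, IsPullback.lift_snd])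
  have hsq : (yon S).map s ≫ qD = (yon S).map rC ≫ a := by rw [hs, IsPullback.lift_fst]
  have sta : IsPullback ((yon S).map rC) ((yon S).map s) a qD := by
    refine IsPullback.of_bot ?_ hsq.symm sqD
    rw [← Functor.map_comp, hsA, ha]
    exact sUy
  have hse : Etale s.left := hae.2 qD _ _ sta
  have hss : Surjective s.left := has.2 qD _ _ sta
  have : Epi s.left := Flat.epi_of_flat_of_surjective _
  obtain ⟨θ, hθ, hθs⟩ : ∃ θ : Γ(D.left, ⊤) ⟶ C',
      Function.Injective θ.hom ∧ Spec.map θ = s.left ≫ D.left.toSpecΓ := by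
    refine ⟨s.left.appTop ≫ (Scheme.ΓSpecIso C').hom,
      (ConcreteCategory.bijective_of_isIso (Scheme.ΓSpecIso C').hom).injective.comp
        (GrpSchLib.AntiAffine.appTop_injective_of_epi s.left), ?_⟩
    rw [Scheme.toSpecΓ_naturality, Spec.map_comp, SpecMap_ΓSpecIso_hom]
    rfl
  obtain ⟨δ₀, hδ₀⟩ : ∃ δ₀ : A' j ⟶ Γ(D.left, ⊤), iD.left = D.left.toSpecΓ ≫ Spec.map δ₀ :=
    ⟨(ΓSpec.adjunction.homEquiv D.left (op (A' j))).symm iD.left |>.unop, by
      conv_lhs => rw [← (ΓSpec.adjunction.homEquiv D.left (op (A' j))).apply_symm_apply iD.left]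
      rfl⟩
  obtain ⟨uD, huD⟩ := (yon S).map_surjective (qD ≫ φ)
  obtain ⟨η, hη⟩ : ∃ η : E ⟶ Γ(D.left, ⊤), uD.left = D.left.toSpecΓ ≫ Spec.map η :=
    ⟨(ΓSpec.adjunction.homEquiv D.left (op E)).symm uD.left |>.unop, by
      conv_lhs => rw [← (ΓSpec.adjunction.homEquiv D.left (op E)).apply_symm_apply uD.left]
      rfl⟩
  have huE : uD ≫ specToBase γE = iD ≫ specToBase (φA j) := (yon S).map_injective (by
    rw [Functor.map_comp, huD, Category.assoc, hφπ, Functor.map_comp]
    exact sqD.w)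
  have hθδ : δ₀ ≫ θ = cl := Spec.map_injective (by
    rw [Spec.map_comp, hθs, Category.assoc, ← hδ₀, ← Over.comp_left, hsA]
    rfl)
  have hθη : η ≫ θ = ιE ≫ cr := Spec.map_injective (by
    rw [Spec.map_comp, hθs, Category.assoc, ← hη, ← Over.comp_left, Spec.map_comp]
    have : s ≫ uD = rC ≫ v' := (yon S).map_injective (by
      rw [Functor.map_comp, huD, ← Category.assoc, hsq, Category.assoc, hφ, Functor.map_comp])
    rw [this]
    rfl)
  have hδη : φA j ≫ δ₀ = γE ≫ η := by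
    refine CommRingCat.hom_ext (RingHom.ext fun x => hθ ?_)
    have : (φA j ≫ δ₀) ≫ θ = (γE ≫ η) ≫ θ := by
      rw [Category.assoc, hθδ, Category.assoc, hθη, ← Category.assoc, hγι, hpoC.w]
    exact RingHom.congr_fun (congrArg CommRingCat.Hom.hom this) x
  let lam : CommRingCat.of (A' j ⊗[A] E) ⟶ Γ(D.left, ⊤) := (hpoE j).desc δ₀ η hδη
  -- the sections of `D` lie in the equalizer
  let R' : CommRingCat.{u} := CommRingCat.of (A' j ⊗[A] R)
  let rl : A' j ⟶ R' := CommRingCat.ofHom Algebra.TensorProduct.includeLeftRingHom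
  let rr : R ⟶ R' := CommRingCat.ofHom (Algebra.TensorProduct.includeRight (R := A) (A := A' j) (B := R)).toRingHom
  let m₁ : C' ⟶ R' := CommRingCat.ofHom (Algebra.TensorProduct.map (AlgHom.id A (A' j)) g₁).toRingHom
  let m₂ : C' ⟶ R' := CommRingCat.ofHom (Algebra.TensorProduct.map (AlgHom.id A (A' j)) g₂).toRingHom
  have hcl₁ : cl ≫ m₁ = rl := CommRingCat.hom_ext (RingHom.ext fun x => by
    change Algebra.TensorProduct.map (AlgHom.id A (A' j)) g₁ (x ⊗ₜ[A] (1 : C)) = x ⊗ₜ[A] (1 : R)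
    simp)
  have hcl₂ : cl ≫ m₂ = rl := CommRingCat.hom_ext (RingHom.ext fun x => by
    change Algebra.TensorProduct.map (AlgHom.id A (A' j)) g₂ (x ⊗ₜ[A] (1 : C)) = x ⊗ₜ[A] (1 : R)
    simp)
  have hcr₁ : cr ≫ m₁ = γ₁ ≫ rr := CommRingCat.hom_ext (RingHom.ext fun x => by
    change Algebra.TensorProduct.map (AlgHom.id A (A' j)) g₁ ((1 : A' j) ⊗ₜ[A] x) = (1 : A' j) ⊗ₜ[A] g₁ x
    simp)
  have hcr₂ : cr ≫ m₂ = γ₂ ≫ rr := CommRingCat.hom_ext (RingHom.ext fun x => by
    change Algebra.TensorProduct.map (AlgHom.id A (A' j)) g₂ ((1 : A' j) ⊗ₜ[A] x) = (1 : A' j) ⊗ₜ[A] g₂ x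
    simp)
  have hrr : (γ ≫ γ₂) ≫ rr = φA j ≫ rl := (CommRingCat.isPushout_tensorProduct A (A' j) R).w.symm
  let b₁ : Over.mk (Spec.map (φA j ≫ rl) ≫ str) ⟶ U' :=
    specHom (φA j ≫ cl) m₁ _ (by rw [Category.assoc, hcl₁])
  let b₂ : Over.mk (Spec.map (φA j ≫ rl) ≫ str) ⟶ U' :=
    specHom (φA j ≫ cl) m₂ _ (by rw [Category.assoc, hcl₂])
  let rR : Over.mk (Spec.map (φA j ≫ rl) ≫ str) ⟶ Over.mk (Spec.map (γ ≫ γ₂) ≫ str) :=
    specHom (γ ≫ γ₂) rr _ hrr
  have hb₁ : b₁ ≫ rC = rR ≫ specHom γ γ₁ (γ ≫ γ₂) hγγ := by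
    rw [specHom_comp, specHom_comp]
    exact specHom_congr _ _ _ _ hcr₁
  have hb₂ : b₂ ≫ rC = rR ≫ specHom γ γ₂ (γ ≫ γ₂) rfl := by
    rw [specHom_comp, specHom_comp]
    exact specHom_congr _ _ _ _ hcr₂
  have hbb : b₁ ≫ s = b₂ ≫ s := by
    apply (yon S).map_injective
    refine sqD.hom_ext ?_ ?_
    · rw [Functor.map_comp, Functor.map_comp, Category.assoc, Category.assoc, hsq, ← Functor.map_comp_assoc,
        ← Functor.map_comp_assoc, hb₁, hb₂, Functor.map_comp_assoc, Functor.map_comp_assoc, sqR.w]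
    · rw [← Functor.map_comp, ← Functor.map_comp, Category.assoc, Category.assoc, hsA, specHom_comp, specHom_comp]
      exact congrArg _ (specHom_congr _ _ _ _ (hcl₁.trans hcl₂.symm))
  have heq : θ ≫ m₁ = θ ≫ m₂ := Spec.map_injective (by
    rw [Spec.map_comp, Spec.map_comp, hθs, ← Category.assoc, ← Category.assoc]
    exact congrArg (fun k : _ ⟶ D => k.left ≫ D.left.toSpecΓ) hbb)
  let mι : CommRingCat.of (A' j ⊗[A] E) ⟶ C' :=
    CommRingCat.ofHom (Algebra.TensorProduct.map (AlgHom.id A (A' j)) (AlgHom.equalizer g₁ g₂).val).toRingHom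
  have hcomp : lam ≫ θ = mι := by
    refine (hpoE j).hom_ext ?_ ?_
    · rw [← Category.assoc, IsPushout.inl_desc, hθδ]
      refine CommRingCat.hom_ext (RingHom.ext fun x => ?_)
      change x ⊗ₜ[A] (1 : C) =
        Algebra.TensorProduct.map (AlgHom.id A (A' j)) (AlgHom.equalizer g₁ g₂).val (x ⊗ₜ[A] (1 : E))
      simp
    · rw [← Category.assoc, IsPushout.inr_desc, hθη]
      refine CommRingCat.hom_ext (RingHom.ext fun x => ?_)
      change (1 : A' j) ⊗ₜ[A] (x : C) =
        Algebra.TensorProduct.map (AlgHom.id A (A' j)) (AlgHom.equalizer g₁ g₂).val ((1 : A' j) ⊗ₜ[A] x)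
      simp
  algebraize [(φA j ≫ δ₀).hom]
  have : Module.Flat A (A' j) := (HasRingHomProperty.Spec_iff (P := @Flat)).1 (hflat j)
  have hbij : Function.Bijective lam.hom := bijective_of_le_equalizer g₁ g₂ lam.hom θ.hom hθ
    (fun x => RingHom.congr_fun (congrArg CommRingCat.Hom.hom hcomp) x)
    (fun x => RingHom.congr_fun (congrArg CommRingCat.Hom.hom heq) x)
  have : IsIso lam := (ConcreteCategory.isIso_iff_bijective lam).2 hbij
  let w : D ⟶ T' j := CategoryTheory.Over.homMk (D.left.toSpecΓ ≫ Spec.map lam) (by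
    change (D.left.toSpecΓ ≫ Spec.map lam) ≫ Spec.map (φA j ≫ inl j) ≫ str = D.hom
    rw [Category.assoc, ← Spec.map_comp_assoc, Category.assoc, IsPushout.inl_desc, Spec.map_comp,
      Category.assoc, ← Category.assoc D.left.toSpecΓ, ← hδ₀]
    exact Over.w iD)
  have hw₁ : w ≫ specHom (str := str) (φA j) (inl j) _ rfl = iD := by
    ext1
    change (D.left.toSpecΓ ≫ Spec.map lam) ≫ Spec.map (inl j) = iD.left
    rw [Category.assoc, ← Spec.map_comp, IsPushout.inl_desc, hδ₀]
  have hw₂ : w ≫ c' j = uD := by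
    ext1
    change (D.left.toSpecΓ ≫ Spec.map lam) ≫ Spec.map (inr j) = uD.left
    rw [Category.assoc, ← Spec.map_comp, IsPushout.inr_desc, hη]
  have sw : IsPullback qD ((yon S).map w) φ ((yon S).map (c' j)) := by
    refine IsPullback.of_bot ?_ (by rw [← huD, ← Functor.map_comp, hw₂]) ((sT j).map (yon S)).flip
    rw [hφπ, ← Functor.map_comp, hw₁]
    exact sqD
  show RepWith Q (pullback.snd φ ((yon S).map (c' j)))
  have hQw : Q w.left := Q.comp_mem _ _ hQD (MorphismProperty.of_isIso Q _)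
  rw [← sw.isoPullback_inv_snd]
  exact repWith_comp (repWith_of_isIso _ _) ((repWith_yon_map_iff _ _).2 hQw)

end Groth.Agent.AlgSpLib
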