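import Groth.Agent.AlgSpLib.CartierDesc
import Groth.Agent.AlgSpLib.LocP
import Groth.Agent.AlgSpDec.IdealEt
import Groth.Prelude.Def_AlgSpSub

/-!
# Effective Cartier divisors on algebraic spaces in charts
-/

set_option backward.isDefEq.respectTransparency false
set_option backward.isDefEq.respectTransparency.types false

universe u

open CategoryTheory CategoryTheory.Limits AlgebraicGeometry Opposite AlgSp Topology

namespace Groth.Agent.AlgSpLib.Cartier

variable {S : Scheme.{u}} {X D : Sp S} {i : D ⟶ X}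

/-- The ideal of the inverse image of a closed subspace in a chart. -/
noncomputable abbrev cutIdeal (hi : RepWith @IsClosedImmersion i) {U : Over S} (a : (yon S).obj U ⟶ X) :
    U.left.IdealSheafData :=
  (hi.rep.snd a).left.ker

theorem cutIdeal_comp (hi : RepWith @IsClosedImmersion i) {U E : Over S} (a : (yon S).obj U ⟶ X) (g : E ⟶ U) :
    cutIdeal hi ((yon S).map g ≫ a) = (cutIdeal hi a).comap g.left :=
  AlgSpDec.ker_of_isPullback hi a g (hi.rep.isPullback _)

theorem eq_cutIdeal (hi : RepWith @IsClosedImmersion i) {U : Over S} {a : (yon S).obj U ⟶ X}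
    {I : U.left.IdealSheafData} {fst : (yon S).obj (Over.mk (I.subschemeι ≫ U.hom)) ⟶ D}
    (sq : IsPullback fst
      ((yon S).map (Over.homMk I.subschemeι rfl : Over.mk (I.subschemeι ≫ U.hom) ⟶ U)) i a) :
    I = cutIdeal hi a := by
  rw [← I.ker_subschemeι]
  refine Eq.trans ?_ (Scheme.IdealSheafData.comap_id _)
  exact AlgSpDec.ker_of_isPullback hi a (𝟙 U) (fst := fst)
    (snd := (Over.homMk I.subschemeι rfl : Over.mk (I.subschemeι ≫ U.hom) ⟶ U))
    (by rw [CategoryTheory.Functor.map_id, Category.id_comp]; exact sq)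

theorem exists_isPullback_cutIdeal (hi : RepWith @IsClosedImmersion i) {U : Over S} (a : (yon S).obj U ⟶ X) :
    ∃ fst, IsPullback fst ((yon S).map (Over.homMk (cutIdeal hi a).subschemeι rfl :
      Over.mk ((cutIdeal hi a).subschemeι ≫ U.hom) ⟶ U)) i a := by
  have : IsClosedImmersion (hi.rep.snd a).left := hi.property_snd a
  let P := hi.rep.pullback a
  let t : P ⟶ Over.mk ((cutIdeal hi a).subschemeι ≫ U.hom) :=
    CategoryTheory.Over.homMk (hi.rep.snd a).left.toImage (by
      show (hi.rep.snd a).left.toImage ≫ (hi.rep.snd a).left.imageι ≫ U.hom = P.hom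
      rw [← Category.assoc, Scheme.Hom.toImage_imageι]
      exact Over.w (hi.rep.snd a))
  have : IsIso ((Over.forget S).map t) := inferInstanceAs (IsIso (hi.rep.snd a).left.toImage)
  have : IsIso t := isIso_of_reflects_iso t (Over.forget S)
  refine ⟨inv ((yon S).map t) ≫ hi.rep.fst a, IsPullback.of_iso (hi.rep.isPullback a)
    (asIso ((yon S).map t)) (Iso.refl _) (Iso.refl _) (Iso.refl _) (by simp) ?_ (by simp) (by simp)⟩
  simp only [asIso_hom, Iso.refl_hom, Category.comp_id]
  rw [← Functor.map_comp]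
  congr 1
  exact Over.OverMorphism.ext (Scheme.Hom.toImage_imageι _).symm

/-- An effective Cartier divisor is effective Cartier in every etale chart. -/
theorem isEffCartier_cutIdeal (hi : RepWith @IsClosedImmersion i) (h : IsEffCartierSub i) {U : Over S}
    (a : (yon S).obj U ⟶ X) (ha : RepWith @Etale a) : BlowUp.IsEffCartierIdeal (cutIdeal hi a) := by
  obtain ⟨-, V, φ, I, fst, hφ, hφs, sq, hI⟩ := h
  rw [eq_cutIdeal hi sq] at hI
  have : Etale (ha.rep.snd φ).left := ha.property_snd φ
  have : Etale (ha.rep.fst' φ).left := hφ.property _ _ _ (ha.rep.isPullback' φ).flip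
  have : Surjective (ha.rep.fst' φ).left := hφs.property _ _ _ (ha.rep.isPullback' φ).flip
  have e : cutIdeal hi ((yon S).map (ha.rep.fst' φ) ≫ a) = cutIdeal hi ((yon S).map (ha.rep.snd φ) ≫ φ) :=
    congrArg _ (ha.rep.isPullback' φ).w
  rw [cutIdeal_comp, cutIdeal_comp] at e
  refine CartierDesc.isEffCartier_of_comap (ha.rep.fst' φ).left ?_
  rw [e]
  exact BlowUpLib.isEffCartier_comap_flat _ hI

theorem isEffCartierSub_of_atlas (hi : RepWith @IsClosedImmersion i) {V : Over S} (φ : (yon S).obj V ⟶ X)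
    (hφ : RepWith @Etale φ) (hφs : RepWith @Surjective φ)
    (h : BlowUp.IsEffCartierIdeal (cutIdeal hi φ)) : IsEffCartierSub i :=
  let ⟨fst, sq⟩ := exists_isPullback_cutIdeal hi φ
  ⟨hi, V, φ, _, fst, hφ, hφs, sq, h⟩

theorem isEffCartierSub_iff (hX : IsAlgSpace X) (hi : RepWith @IsClosedImmersion i) :
    IsEffCartierSub i ↔ ∀ (U : Over S) (a : (yon S).obj U ⟶ X), RepWith @Etale a →
      BlowUp.IsEffCartierIdeal (cutIdeal hi a) := by
  refine ⟨fun h U a ha => isEffCartier_cutIdeal hi h a ha, fun h => ?_⟩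
  obtain ⟨V, φ, hφ, hφs⟩ := hX.atlas
  exact isEffCartierSub_of_atlas hi φ hφ hφs (h V φ hφ)

/-- The ideal in a chart of a closed subspace cut out by an ideal of the small etale site. -/
theorem cutIdeal_ideal_top (hi : RepWith @IsClosedImmersion i) {I : IdealEt X} (h : idealOfRep hi.1 = I)
    (E : EtOver X) (hE : IsAffine E.obj.left.left) :
    (cutIdeal hi E.obj.hom).ideal ⟨⊤, isAffineOpen_top _⟩ = I.ideal E hE := by
  rw [← h, AlgSpDec.idealOfRep_eq hi E hE]

end Groth.Agent.AlgSpLib.Cartier
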