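import Groth.Agent.AlgSpLib.Cartier
import Groth.Agent.AlgSpDec.QCohIdeal
import Groth.Agent.ModPairLib.BlowUp

/-!
# Pullbacks and products of closed subspaces in charts
-/

set_option backward.isDefEq.respectTransparency false
set_option backward.isDefEq.respectTransparency.types false

universe u

open CategoryTheory CategoryTheory.Limits AlgebraicGeometry Opposite AlgSp Topology

namespace Groth.Agent.AlgSpLib.Cartier

variable {S : Scheme.{u}} {X D : Sp S} {i : D ⟶ X}

theorem cutIdeal_isPullback (hi : RepWith @IsClosedImmersion i) {Y P : Sp S} {f : Y ⟶ X} {fst : P ⟶ D}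
    {snd : P ⟶ Y} (sq : IsPullback fst snd i f) (hs : RepWith @IsClosedImmersion snd) {U : Over S}
    (a : (yon S).obj U ⟶ Y) : cutIdeal hs a = cutIdeal hi (a ≫ f) := by
  obtain ⟨p, hp⟩ := exists_isPullback_cutIdeal hs a
  exact eq_cutIdeal hi (hp.paste_horiz sq)

theorem cutIdeal_mul {Z Y : Sp S} {iZ : Z ⟶ X} {iY : Y ⟶ X} {I J : IdealEt X}
    (hZ : IsCutOutBy I iZ) (hY : IsCutOutBy J iY) (hD : IsCutOutBy (I * J) i) {U : Over S}
    (a : (yon S).obj U ⟶ X) (ha : RepWith @Etale a) :
    cutIdeal hD.1 a = cutIdeal hZ.1 a * cutIdeal hY.1 a := by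
  have key : ∀ V : U.left.affineOpens,
      (cutIdeal hD.1 a).comap V.1.ι = (cutIdeal hZ.1 a * cutIdeal hY.1 a).comap V.1.ι := by
    intro V
    let E := AlgSpDec.openObj a ha V.1
    have hE : IsAffine E.obj.left.left := V.2
    let g : E.obj.left ⟶ U := CategoryTheory.Over.homMk V.1.ι rfl
    have hg : E.obj.hom = (yon S).map g ≫ a := rfl
    rw [ModPairLib.ideal_comap_mul, show V.1.ι = g.left from rfl, ← cutIdeal_comp, ← cutIdeal_comp,
      ← cutIdeal_comp, ← hg]
    refine Scheme.IdealSheafData.ext_of_isAffine ?_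
    rw [Scheme.IdealSheafData.ideal_mul, Pi.mul_apply, cutIdeal_ideal_top hD.1 hD.2 E hE,
      cutIdeal_ideal_top hZ.1 hZ.2 E hE, cutIdeal_ideal_top hY.1 hY.2 E hE]
    rfl
  exact le_antisymm (AlgSpDec.le_of_comap_opens fun V => (key V).le)
    (AlgSpDec.le_of_comap_opens fun V => (key V).ge)

end Groth.Agent.AlgSpLib.Cartier
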