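import Groth.Agent.AlgSpLib.CartierPoints
import Groth.Agent.AlgSpLib.CartierOps
import Groth.Agent.AlgSpDec.QCohIdeal
import Groth.Agent.ModPairLib.Coprod
import Groth.Prelude.Def_AlgSpModX

/-!
# Inverse images of effective Cartier divisors avoiding weakly associated points
-/

set_option backward.isDefEq.respectTransparency false
set_option backward.isDefEq.respectTransparency.types false

universe u

open CategoryTheory CategoryTheory.Limits AlgebraicGeometry Opposite AlgSp Topology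

namespace Groth.Agent.AlgSpLib.Cartier

theorem primeAtPt_eq {U : Scheme.{u}} [IsAffine U] (w : ↥U) :
    primeAtPt U w = ((isAffineOpen_top U).primeIdealOf ⟨w, trivial⟩).asIdeal := by
  let _ := U.presheaf.algebra_section_stalk (⟨w, trivial⟩ : (⊤ : U.Opens))
  have : IsLocalization.AtPrime (U.presheaf.stalk w) ((isAffineOpen_top U).primeIdealOf ⟨w, trivial⟩).asIdeal :=
    (isAffineOpen_top U).isLocalization_stalk ⟨w, trivial⟩
  exact IsLocalization.AtPrime.under_maximalIdeal (U.presheaf.stalk w)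
    ((isAffineOpen_top U).primeIdealOf ⟨w, trivial⟩).asIdeal

theorem exists_primeAtPt_eq {U : Scheme.{u}} [IsAffine U] (P : Ideal Γ(U, ⊤)) [hP : P.IsPrime] :
    ∃ w : ↥U, primeAtPt U w = P := by
  refine ⟨(isAffineOpen_top U).fromSpec ⟨P, hP⟩, ?_⟩
  rw [primeAtPt_eq]
  exact congrArg PrimeSpectrum.asIdeal ((isAffineOpen_top U).fromSpec.isOpenEmbedding.injective
    ((isAffineOpen_top U).fromSpec_primeIdealOf _))

theorem mem_support_of_primeAtPt {U : Scheme.{u}} [IsAffine U] {I : U.IdealSheafData} {g : Γ(U, ⊤)}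
    (hI : I.ideal ⟨⊤, isAffineOpen_top U⟩ = Ideal.span {g}) {w : ↥U} (hw : g ∈ primeAtPt U w) : w ∈ I.support := by
  rw [primeAtPt_eq] at hw
  have h1 : w ∈ U.zeroLocus (U := ⊤) ↑(I.ideal ⟨⊤, isAffineOpen_top U⟩) ∩ ((⊤ : U.Opens) : Set U) := by
    rw [← (isAffineOpen_top U).fromSpec_image_zeroLocus]
    refine ⟨_, ?_, (isAffineOpen_top U).fromSpec_primeIdealOf ⟨w, trivial⟩⟩
    rw [hI, PrimeSpectrum.zeroLocus_span, PrimeSpectrum.mem_zeroLocus, Set.singleton_subset_iff]
    exact hw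
  rw [← Scheme.IdealSheafData.coe_support_inter I ⟨⊤, isAffineOpen_top U⟩] at h1
  exact h1.1

variable {S : Scheme.{u}} {X : Sp S}

theorem mem_nonZeroDivisors_of_avoid (E : EtOver X) [IsAffine E.obj.left.left] {g : Γ(E.obj.left.left, ⊤)}
    (h : ∀ w, IsWeakAssOn (unitModEt X) E w → g ∉ primeAtPt E.obj.left.left w) :
    g ∈ nonZeroDivisors Γ(E.obj.left.left, ⊤) := by
  refine mem_nonZeroDivisors_iff_right.2 fun z hz => ?_
  by_contra hne
  let s : sectModEt (unitModEt X) E := upΓ E z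
  have hs : ∀ c, c ∈ annSect s ↔ c * z = 0 := fun c => by
    rw [mem_annSect_iff]
    show upΓ E c * upΓ E z = 0 ↔ _
    rw [← map_mul]
    exact map_eq_zero_iff (upΓ E) ULift.ringEquiv.symm.injective
  have hann : annSect s ≠ ⊤ := fun ht => hne (by
    have := (hs 1).1 (ht ▸ trivial)
    rwa [one_mul] at this)
  obtain ⟨P, hP⟩ := Ideal.nonempty_minimalPrimes hann
  have : P.IsPrime := hP.1.1
  obtain ⟨w, hw⟩ := exists_primeAtPt_eq P
  refine h w ⟨s, hw.symm ▸ hP⟩ ?_
  rw [hw]
  exact hP.1.2 ((hs g).2 (by rwa [mul_comm]))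

theorem isEffCartierSub_pullback_of_avoid {Y D P : Sp S} (hX : IsAlgSpace X) (hY : IsAlgSpace Y) {f : X ⟶ Y}
    {i : D ⟶ Y} (hD : IsEffCartierSub i)
    (h : ∀ x ∈ WeakAssEt (unitModEt X), Points.map f x ∉ Set.range (Points.map i))
    {fst : P ⟶ D} {snd : P ⟶ X} (hP : IsPullback fst snd i f) : IsEffCartierSub snd := by
  have hi := hD.1
  have hs : RepWith @IsClosedImmersion snd := repWith_of_isPullback hP hi
  obtain ⟨U, V, a, b, k, ha, ha', hb, -, w⟩ := exists_chart hX hY f
  refine isEffCartierSub_of_atlas hs a ha ha' ?_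
  have hJ : ModPairLib.IsLocPrincipal (cutIdeal hs a) := by
    rw [cutIdeal_isPullback hi hP hs a, w, cutIdeal_comp hi b k]
    exact (ModPairLib.isLocPrincipal_of_isEffCartier (isEffCartier_cutIdeal hi hD b hb)).comap k.left
  choose O hO g hg using hJ
  refine ModPairLib.isEffCartier_of_comap (fun x : ↥U.left => (O x).1.ι) (fun x => ⟨x, ⟨x, hO x⟩, rfl⟩) fun x => ?_
  let E := AlgSpDec.openObj a ha (O x).1
  have hE : IsAffine E.obj.left.left := (O x).2
  let j : E.obj.left ⟶ U := CategoryTheory.Over.homMk (O x).1.ι rfl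
  have htop : ((cutIdeal hs a).comap (O x).1.ι).ideal ⟨⊤, isAffineOpen_top E.obj.left.left⟩ =
      Ideal.span {((O x).1.ι.appLE (O x).1 ⊤ (fun z _ => z.2)).hom (g x)} := by
    have := ModPairLib.comap_ideal_of_opensRange (W := E.obj.left.left) (O x).1.ι (cutIdeal hs a) (O x)
      (Scheme.Opens.opensRange_ι _)
    rw [this, hg x, Ideal.map_span, Set.image_singleton]
    rfl
  refine isEffCartier_of_affine (U := E.obj.left.left) (mem_nonZeroDivisors_of_avoid E fun w' hw' hmem => ?_) htop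
  have hsupp : w' ∈ ((cutIdeal hs a).comap (O x).1.ι).support := mem_support_of_primeAtPt htop hmem
  have hc : (cutIdeal hs a).comap (O x).1.ι = cutIdeal hs E.obj.hom := (cutIdeal_comp hs a j).symm
  rw [hc, range_snd_cutIdeal] at hsupp
  obtain ⟨p, hp⟩ := hsupp
  refine h _ ⟨E, hE, w', rfl, hw'⟩ ⟨Points.map fst p, ?_⟩
  rw [← Points.map_comp, hP.w, Points.map_comp, hp]

end Groth.Agent.AlgSpLib.Cartier
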