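import Groth.Agent.AlgSpLib.CartierOps
import Groth.Agent.MeroX.BaseChange

/-!
# Base change of effective Cartier divisors which are flat over the base
-/

set_option backward.isDefEq.respectTransparency false
set_option backward.isDefEq.respectTransparency.types false

universe u

open CategoryTheory CategoryTheory.Limits AlgebraicGeometry Opposite AlgSp Topology

namespace Groth.Agent.AlgSpLib.Cartier

variable {S : Scheme.{u}}

theorem isEffCartierSub_baseChange {X Y D Y' X' D' : Sp S} (hX : IsAlgSpace X) (hY : IsAlgSpace Y)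
    (hY' : IsAlgSpace Y') {f : X ⟶ Y} {i : D ⟶ X} (hD : IsEffCartierSub i) (hflat : LocP @Flat (i ≫ f))
    {g : Y' ⟶ Y} {g' : X' ⟶ X} {f' : X' ⟶ Y'} (hX' : IsPullback g' f' f g)
    {k : D' ⟶ D} {i' : D' ⟶ X'} (hD' : IsPullback k i' i g') : IsEffCartierSub i' := by
  have hi := hD.1
  have hi' : RepWith @IsClosedImmersion i' := repWith_of_isPullback hD' hi
  obtain ⟨V, b, hb, hbs⟩ := hY.atlas
  obtain ⟨U, e₁, h, he₁, he₁s, hh⟩ := exists_chart_over hX hY f b
  obtain ⟨V', e₂, m, he₂, he₂s, hm⟩ := exists_chart_over hY' hY g b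
  let b' := e₂ ≫ pullback.fst g b
  have hb' : RepWith @Etale b' := repWith_comp he₂ (repWith_fst g hb)
  have hbs' : RepWith @Surjective b' := repWith_comp he₂s (repWith_fst g hbs)
  have wb : b' ≫ g = (yon S).map m ≫ b := by rw [Category.assoc, pullback.condition, ← Category.assoc, hm]
  let Q := pullback (pullback.snd f b) ((yon S).map m)
  have sq₀ := (IsPullback.of_hasPullback (pullback.snd f b) ((yon S).map m)).paste_horiz
    (IsPullback.of_hasPullback f b)
  let q : Q ⟶ X' := hX'.lift (pullback.fst _ _ ≫ pullback.fst f b) (pullback.snd _ _ ≫ b')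
    (by rw [sq₀.w, Category.assoc, wb])
  have sqQ : IsPullback q (pullback.snd (pullback.snd f b) ((yon S).map m)) f' b' := by
    refine IsPullback.of_right ?_ (hX'.lift_snd _ _ _) hX'
    rw [hX'.lift_fst, wb]
    exact sq₀
  let R : Over S := Over.mk (pullback.fst h.left m.left ≫ U.hom)
  let r₁ : R ⟶ U := CategoryTheory.Over.homMk (pullback.fst h.left m.left) rfl
  let r₂ : R ⟶ V' := CategoryTheory.Over.homMk (pullback.snd h.left m.left) (by
    show pullback.snd h.left m.left ≫ V'.hom = pullback.fst h.left m.left ≫ U.hom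
    rw [← Over.w m, ← Over.w h, pullback.condition_assoc])
  have sqR : IsPullback ((yon S).map r₁) ((yon S).map r₂) ((yon S).map h) ((yon S).map m) :=
    (IsPullback.of_map (Over.forget S) (f := r₁) (g := r₂) (h := h) (i := m)
      (Over.OverMorphism.ext pullback.condition) (IsPullback.of_hasPullback h.left m.left)).map (yon S)
  let e₃ : (yon S).obj R ⟶ Q := pullback.lift ((yon S).map r₁ ≫ e₁) ((yon S).map r₂)
    (by rw [Category.assoc, hh, sqR.w])
  have sq₃ : IsPullback ((yon S).map r₁) e₃ e₁ (pullback.fst (pullback.snd f b) ((yon S).map m)) := by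
    refine IsPullback.of_bot ?_ (pullback.lift_fst _ _ _).symm
      (IsPullback.of_hasPullback (pullback.snd f b) ((yon S).map m))
    rw [pullback.lift_snd, hh]
    exact sqR
  let a' := e₃ ≫ q
  have ha' : RepWith @Etale a' :=
    repWith_comp (repWith_of_isPullback sq₃ he₁) (repWith_of_isPullback sqQ.flip hb')
  have has' : RepWith @Surjective a' :=
    repWith_comp (repWith_of_isPullback sq₃ he₁s) (repWith_of_isPullback sqQ.flip hbs')
  refine isEffCartierSub_of_atlas hi' a' ha' has' ?_
  have wa : a' ≫ g' = (yon S).map r₁ ≫ (e₁ ≫ pullback.fst f b) := by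
    rw [Category.assoc, hX'.lift_fst, pullback.lift_fst_assoc, Category.assoc]
  have ha : RepWith @Etale (e₁ ≫ pullback.fst f b) := repWith_comp he₁ (repWith_fst f hb)
  rw [cutIdeal_isPullback hi hD' hi' a', wa, cutIdeal_comp]
  obtain ⟨fst, sq⟩ := exists_isPullback_cutIdeal hi (e₁ ≫ pullback.fst f b)
  have : Flat ((cutIdeal hi (e₁ ≫ pullback.fst f b)).subschemeι ≫ h.left) :=
    hflat fst b ((Over.homMk (cutIdeal hi (e₁ ≫ pullback.fst f b)).subschemeι rfl :
        Over.mk ((cutIdeal hi (e₁ ≫ pullback.fst f b)).subschemeι ≫ U.hom) ⟶ U) ≫ h)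
      (repWith_of_isPullback sq.flip ha) hb (by
        rw [← Category.assoc, sq.w, Category.assoc, Category.assoc, pullback.condition, ← Category.assoc e₁,
          hh, ← Functor.map_comp_assoc])
  exact MeroX.isEffCartier_baseChange h.left _ (isEffCartier_cutIdeal hi hD _ ha) m.left

end Groth.Agent.AlgSpLib.Cartier
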