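import Groth.Agent.AlgSpLib.Cartier
import Groth.Agent.AlgSpDec.SchDenseSp
import Groth.Agent.AlgSpDec.AffineLocal
import Groth.Agent.AlgSpDec.AffineRep
import Groth.Agent.ModPairLib.Basic
import Groth.Agent.EtFound.Descent
import Groth.Prelude.Def_CurvBase

/-!
# Complements of locally principal closed subspaces
-/

set_option backward.isDefEq.respectTransparency false
set_option backward.isDefEq.respectTransparency.types false

universe u

open CategoryTheory CategoryTheory.Limits AlgebraicGeometry Opposite AlgSp Topology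

namespace Groth.Agent.AlgSpLib.Cartier

theorem isSchematicallyDense_of_isSchemeTheoreticallyDominant {X : Scheme.{u}} (U : X.Opens)
    [QuasiCompact U.ι] [IsSchemeTheoreticallyDominant U.ι] : CInt.IsSchematicallyDense U := by
  intro V
  rw [injective_iff_map_eq_zero]
  intro s hs
  refine X.IsSheaf.section_ext fun x hx => ?_
  obtain ⟨W, hW, hxW, hWV⟩ := exists_isAffineOpen_mem_and_subset (U := V) (x := x) hx
  refine ⟨W, hWV, hxW, ?_⟩
  rw [map_zero]
  have h1 : (X.presheaf.map (homOfLE hWV).op).hom s ∈ RingHom.ker (U.ι.app W).hom := by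
    rw [RingHom.mem_ker, Scheme.Opens.ι_app, ← CommRingCat.comp_apply, ← Functor.map_comp]
    have hle : U.ι ''ᵁ (U.ι ⁻¹ᵁ W) ≤ V ⊓ U := by
      rintro z ⟨w, hw, rfl⟩
      exact ⟨hWV hw, w.2⟩
    have key : ∀ a : op V ⟶ op (U.ι ''ᵁ (U.ι ⁻¹ᵁ W)), X.presheaf.map a s = 0 := fun a => by
      rw [Subsingleton.elim a ((homOfLE (inf_le_left : V ⊓ U ≤ V)).op ≫ (homOfLE hle).op), Functor.map_comp,
        CommRingCat.comp_apply, hs, map_zero]
    exact key _
  rw [← Scheme.Hom.ker_apply U.ι ⟨W, hW⟩, U.ι.ker_eq_bot, Scheme.IdealSheafData.ideal_bot,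
    Pi.bot_apply, Ideal.mem_bot] at h1
  exact h1

theorem isLocPrincipal_of_curv2 {X : Scheme.{u}} {I : X.IdealSheafData} (h : Curv2.IsLocPrincipal I) :
    ModPairLib.IsLocPrincipal I := by
  intro x
  by_cases hx : x ∈ I.support
  · exact h x hx
  obtain ⟨U, hU, hxU, hUle⟩ := exists_isAffineOpen_mem_and_subset (U := I.support.compl) (x := x) hx
  refine ⟨⟨U, hU⟩, hxU, 1, ?_⟩
  rw [Ideal.span_singleton_one, ← PrimeSpectrum.zeroLocus_empty_iff_eq_top]
  refine Set.eq_empty_of_forall_notMem fun p hp => ?_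
  have hp' : hU.fromSpec p ∈ X.zeroLocus (U := U) ↑(I.ideal ⟨U, hU⟩) ∩ (U : Set X) := by
    rw [← hU.fromSpec_image_zeroLocus]
    exact ⟨p, hp, rfl⟩
  rw [← Scheme.IdealSheafData.coe_support_inter I ⟨U, hU⟩] at hp'
  exact hUle hp'.2 hp'.1

variable {S : Scheme.{u}} {X D W : Sp S} {i : D ⟶ X} {j : W ⟶ X}

theorem range_snd_cutIdeal (hi : RepWith @IsClosedImmersion i) {V : Over S} (φ : (yon S).obj V ⟶ X) (v : ↥V.left) :
    v ∈ (cutIdeal hi φ).support ↔ Points.ofPt φ v ∈ Set.range (Points.map i) := by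
  obtain ⟨fst, sq⟩ := exists_isPullback_cutIdeal hi φ
  constructor
  · intro hv
    rw [← SetLike.mem_coe, ← (cutIdeal hi φ).range_subschemeι] at hv
    obtain ⟨w, rfl⟩ := hv
    refine ⟨Points.ofPt fst w, ?_⟩
    rw [Points.map_ofPt, sq.w, ofPt_comp]
    rfl
  · rintro ⟨y, hy⟩
    obtain ⟨w, -, hw⟩ := AlgSpPts.exists_lift sq hy
    rw [← hw, ← SetLike.mem_coe, ← (cutIdeal hi φ).range_subschemeι]
    exact ⟨w, rfl⟩

theorem pre_eq_compl (hX : IsAlgSpace X) (hi : RepWith @IsClosedImmersion i) (hj : RepWith @IsOpenImmersion j)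
    (hU : Set.range (Points.map j) = (Set.range (Points.map i))ᶜ) {V : Over S} (φ : (yon S).obj V ⟶ X) :
    AlgSpDec.SchDenseSp.pre hX hj φ = ModPair.interior (cutIdeal hi φ) := by
  ext v
  show v ∈ AlgSpDec.SchDenseSp.pre hX hj φ ↔ ¬ v ∈ (cutIdeal hi φ).support
  rw [AlgSpDec.SchDenseSp.mem_pre, hU, range_snd_cutIdeal hi φ v]
  rfl

theorem isAffineMor_compl (hX : IsAlgSpace X) (hi : RepWith @IsClosedImmersion i)
    (hj : RepWith @IsOpenImmersion j) (hU : Set.range (Points.map j) = (Set.range (Points.map i))ᶜ)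
    {V : Over S} (φ : (yon S).obj V ⟶ X) (hφ : RepWith @Etale φ) (hφs : RepWith @Surjective φ)
    (h : ModPairLib.IsLocPrincipal (cutIdeal hi φ)) : IsAffineMor j := by
  obtain ⟨fst, sq⟩ := AlgSpDec.SchDenseSp.exists_isPullback hX hj φ
  have := EtFound.fpqc_isAffineHom.{u}
  refine AlgSpDec.isAffineMor_of_repWith (P := @IsAffineHom) le_rfl
    (AlgSpDec.repWith_of_etale_cover le_rfl hφ hφs sq ((repWith_yon_map_iff _ _).2 ?_))
  show IsAffineHom (AlgSpDec.SchDenseSp.pre hX hj φ).ι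
  rw [pre_eq_compl hX hi hj hU φ]
  exact ModPairLib.isAffineHom_interior h

theorem isSchDense_compl (hX : IsAlgSpace X) (hi : RepWith @IsClosedImmersion i) (hD : IsEffCartierSub i)
    (hj : RepWith @IsOpenImmersion j) (hU : Set.range (Points.map j) = (Set.range (Points.map i))ᶜ) :
    IsSchDense j := by
  obtain ⟨V, φ, hφ, hφs⟩ := hX.atlas
  have h := isEffCartier_cutIdeal hi hD φ hφ
  refine AlgSpDec.SchDenseSp.isSchDense_of_atlas hX hj hφ hφs ?_
  rw [pre_eq_compl hX hi hj hU φ]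
  have := ModPairLib.isAffineHom_interior (ModPairLib.isLocPrincipal_of_isEffCartier h)
  have := ModPairLib.isSchemeTheoreticallyDominant_interior h
  exact isSchematicallyDense_of_isSchemeTheoreticallyDominant _

end Groth.Agent.AlgSpLib.Cartier
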