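import Groth.Agent.LC.DepthExt
import Groth.Agent.Alg6.LocLoc
import Groth.Agent.ParaFX.Ufd
import Groth.Agent.Alg6.AssDepth
import Groth.Prelude.Def_BlowUp2
import Mathlib.RingTheory.KrullDimension.Regular
import Mathlib.AlgebraicGeometry.Noetherian
import Mathlib.AlgebraicGeometry.IdealSheaf.Subscheme

/-!
# Depth and dimension of the local rings of an effective Cartier divisor
-/

set_option backward.isDefEq.respectTransparency false
set_option backward.isDefEq.respectTransparency.types false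

universe u

open CategoryTheory AlgebraicGeometry IsLocalRing TopologicalSpace Pointwise

namespace Groth.Agent.AlgSpLib.CartierDepth

variable {X : Scheme.{u}} {I : X.IdealSheafData}

theorem exists_stalk_generator (hI : BlowUp.IsEffCartierIdeal I) (d : ↥I.subscheme) :
    ∃ g ∈ nonZeroDivisors (X.presheaf.stalk (I.subschemeι d)),
      RingHom.ker (I.subschemeι.stalkMap d).hom = Ideal.span {g} := by
  obtain ⟨U, hdU, a, ha, hU⟩ := hI (I.subschemeι d)
  let p := (U.2.primeIdealOf ⟨I.subschemeι d, hdU⟩).asIdeal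
  let _ := X.presheaf.algebra_section_stalk (⟨I.subschemeι d, hdU⟩ : U.1)
  have : IsLocalization.AtPrime (X.presheaf.stalk (I.subschemeι d)) p :=
    U.2.isLocalization_stalk ⟨I.subschemeι d, hdU⟩
  let g : X.presheaf.stalk (I.subschemeι d) := X.presheaf.germ U.1 _ hdU a
  have key : ∀ b : Γ(X, U.1), I.subschemeι.stalkMap d (X.presheaf.germ U.1 _ hdU b) =
      I.subscheme.presheaf.germ (I.subschemeι ⁻¹ᵁ U.1) d hdU (I.subschemeι.app U.1 b) := fun b =>
    Scheme.Hom.germ_stalkMap_apply I.subschemeι U.1 d hdU b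
  have hker : ∀ b, b ∈ I.ideal U ↔ I.subschemeι.app U.1 b = 0 := fun b => by
    rw [← I.ker_subschemeι_app U]; rfl
  refine ⟨g, ?_, le_antisymm (fun s hs => ?_) ?_⟩
  · exact IsLocalization.map_nonZeroDivisors_le p.primeCompl _ ⟨a, ha, rfl⟩
  · obtain ⟨⟨b, c⟩, hbc⟩ := IsLocalization.surj p.primeCompl s
    have hb : I.subscheme.presheaf.germ (I.subschemeι ⁻¹ᵁ U.1) d hdU (I.subschemeι.app U.1 b) = 0 := by
      rw [← key]
      show (I.subschemeι.stalkMap d).hom (algebraMap Γ(X, U.1) _ b) = 0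
      rw [← hbc, map_mul, RingHom.mem_ker.1 hs, zero_mul]
    have hV : IsAffineOpen (I.subschemeι ⁻¹ᵁ U.1) := U.2.preimage _
    let q := (hV.primeIdealOf ⟨d, hdU⟩).asIdeal
    let _ := I.subscheme.presheaf.algebra_section_stalk (⟨d, hdU⟩ : (I.subschemeι ⁻¹ᵁ U.1 : I.subscheme.Opens))
    have : IsLocalization.AtPrime (I.subscheme.presheaf.stalk d) q := hV.isLocalization_stalk ⟨d, hdU⟩
    obtain ⟨⟨c', hc'⟩, h0⟩ := (IsLocalization.map_eq_zero_iff q.primeCompl (I.subscheme.presheaf.stalk d)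
      (I.subschemeι.app U.1 b)).1 hb
    obtain ⟨e, rfl⟩ := I.subschemeι_app_surjective U c'
    have he : IsUnit (algebraMap Γ(X, U.1) (X.presheaf.stalk (I.subschemeι d)) e) := by
      refine isUnit_of_map_unit (I.subschemeι.stalkMap d).hom _ ?_
      show IsUnit (I.subschemeι.stalkMap d (X.presheaf.germ U.1 _ hdU e))
      rw [key]
      exact IsLocalization.map_units (I.subscheme.presheaf.stalk d) (⟨_, hc'⟩ : q.primeCompl)
    have hmem : e * b ∈ Ideal.span {a} := hU ▸ (hker _).2 (by rw [map_mul]; exact h0)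
    obtain ⟨z, hz⟩ := Ideal.mem_span_singleton'.1 hmem
    have hcu := IsLocalization.map_units (X.presheaf.stalk (I.subschemeι d)) c
    rw [Ideal.mem_span_singleton]
    refine (hcu.dvd_mul_right).1 ?_
    rw [hbc]
    refine (he.dvd_mul_left).1 ?_
    rw [← map_mul, ← hz, map_mul]
    exact dvd_mul_left _ _
  · rw [Ideal.span_le, Set.singleton_subset_iff]
    show I.subschemeι.stalkMap d g = 0
    rw [key, (hker a).1 (hU ▸ Ideal.mem_span_singleton_self a), map_zero]

theorem depth_dim_subscheme [IsLocallyNoetherian X] (hI : BlowUp.IsEffCartierIdeal I) (d : ↥I.subscheme) :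
    LocCoh.depth (I.subscheme.presheaf.stalk d) (I.subscheme.presheaf.stalk d) + 1 =
        LocCoh.depth (X.presheaf.stalk (I.subschemeι d)) (X.presheaf.stalk (I.subschemeι d)) ∧
      ringKrullDim (I.subscheme.presheaf.stalk d) + 1 = ringKrullDim (X.presheaf.stalk (I.subschemeι d)) := by
  obtain ⟨g, hg, hker⟩ := exists_stalk_generator hI d
  let φ : X.presheaf.stalk (I.subschemeι d) →+* I.subscheme.presheaf.stalk d := (I.subschemeι.stalkMap d).hom
  have hφ : Function.Surjective φ := I.subschemeι.stalkMap_surjective d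
  have : Nontrivial (I.subscheme.presheaf.stalk d) := inferInstance
  have hgm : g ∈ maximalIdeal (X.presheaf.stalk (I.subschemeι d)) := le_maximalIdeal (RingHom.ker_ne_top φ) (hker ▸ Ideal.mem_span_singleton_self g)
  have hreg : IsSMulRegular (X.presheaf.stalk (I.subschemeι d)) g := (isRegular_iff_mem_nonZeroDivisors.2 hg).left.isSMulRegular
  let _ : Algebra (X.presheaf.stalk (I.subschemeι d)) (I.subscheme.presheaf.stalk d) := φ.toAlgebra
  have hlk : LinearMap.ker (Algebra.linearMap (X.presheaf.stalk (I.subschemeι d)) (I.subscheme.presheaf.stalk d)) = g • (⊤ : Submodule (X.presheaf.stalk (I.subschemeι d)) (X.presheaf.stalk (I.subschemeι d))) := by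
    rw [← Submodule.ideal_span_singleton_smul, Ideal.smul_eq_mul, Ideal.mul_top, ← hker]
    rfl
  let e : QuotSMulTop g (X.presheaf.stalk (I.subschemeι d)) ≃ₗ[(X.presheaf.stalk (I.subschemeι d))] (I.subscheme.presheaf.stalk d) :=
    (Submodule.quotEquivOfEq _ _ hlk.symm).trans ((Algebra.linearMap (X.presheaf.stalk (I.subschemeι d)) (I.subscheme.presheaf.stalk d)).quotKerEquivOfSurjective hφ)
  refine ⟨?_, ?_⟩
  · rw [← Alg6.depth_eq_of_semilinear φ hφ e.toAddEquiv fun r x => (e.map_smul r x).trans (Algebra.smul_def _ _)]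
    exact LC.idealDepth_quotSMulTop_add_one (maximalIdeal (X.presheaf.stalk (I.subschemeι d))) hgm hreg
  · rw [← ringKrullDim_eq_of_ringEquiv ((Ideal.quotientEquivAlgOfEq (X.presheaf.stalk (I.subschemeι d)) hker).toRingEquiv.symm.trans
      (RingHom.quotientKerEquivOfSurjective hφ))]
    exact ringKrullDim_quotient_span_singleton_succ_eq_ringKrullDim hreg hgm

theorem Sk_subscheme [IsLocallyNoetherian X] (hI : BlowUp.IsEffCartierIdeal I) (k : ℕ)
    (hX : ∀ x : ↥X, min (k : WithBot ℕ∞) (ringKrullDim (X.presheaf.stalk x)) ≤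
      ((LocCoh.depth (X.presheaf.stalk x) (X.presheaf.stalk x) : ℕ∞) : WithBot ℕ∞)) (d : ↥I.subscheme) :
    min ((k - 1 : ℕ) : WithBot ℕ∞) (ringKrullDim (I.subscheme.presheaf.stalk d)) ≤
      ((LocCoh.depth (I.subscheme.presheaf.stalk d) (I.subscheme.presheaf.stalk d) : ℕ∞) : WithBot ℕ∞) := by
  obtain ⟨h1, h2⟩ := depth_dim_subscheme hI d
  have h := hX (I.subschemeι d)
  rw [← h1, ← h2] at h
  generalize LocCoh.depth (I.subscheme.presheaf.stalk d) (I.subscheme.presheaf.stalk d) = δ at h ⊢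
  obtain ⟨n, hn⟩ := WithBot.ne_bot_iff_exists.1
    (ne_bot_of_le_ne_bot WithBot.coe_ne_bot (ringKrullDim_nonneg_of_nontrivial (R := I.subscheme.presheaf.stalk d)))
  rw [← hn] at h ⊢
  cases k with
  | zero => exact (min_le_left _ _).trans (WithBot.coe_le_coe.2 bot_le)
  | succ k =>
    rw [Nat.add_sub_cancel, show ((k : ℕ) : WithBot ℕ∞) = ((k : ℕ∞) : WithBot ℕ∞) from rfl, ← WithBot.coe_min,
      WithBot.coe_le_coe]
    rw [show ((k + 1 : ℕ) : WithBot ℕ∞) = (((k : ℕ∞) + 1 : ℕ∞) : WithBot ℕ∞) from by norm_cast,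
      show (1 : WithBot ℕ∞) = ((1 : ℕ∞) : WithBot ℕ∞) from rfl, ← WithBot.coe_add, ← WithBot.coe_min,
      WithBot.coe_le_coe, min_add_add_right] at h
    exact WithTop.le_of_add_le_add_right (by simp) h

theorem one_two_le_depth_of_normal (A : Type u) [CommRing A] [IsDomain A] [IsNoetherianRing A]
    [IsLocalRing A] [IsIntegrallyClosed A] :
    min ((2 : ℕ) : WithBot ℕ∞) (ringKrullDim A) ≤ ((LocCoh.depth A A : ℕ∞) : WithBot ℕ∞) := by
  by_cases h2 : (2 : WithBot ℕ∞) ≤ ringKrullDim A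
  · exact (min_le_left _ _).trans (WithBot.coe_le_coe.2 (ParaFX.two_le_depth_of_normal A h2))
  refine (min_le_right _ _).trans ?_
  by_cases hf : IsField A
  · rw [ringKrullDim_eq_zero_of_isField hf]
    exact WithBot.coe_le_coe.2 bot_le
  have h1 : (1 : ℕ∞) ≤ LocCoh.depth A A := Alg6.one_le_depth_iff.2 fun hass => by
    obtain ⟨-, z, hz⟩ := Alg6.mem_ass_iff.mp hass
    obtain ⟨b, hb, hb0⟩ := Submodule.exists_mem_ne_zero_of_ne_bot
      (fun hh => hf (isField_iff_maximalIdeal_eq.mpr hh))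
    have h3 := (hz b).1 hb
    rw [smul_eq_mul] at h3
    have hz0 : z = 0 := (mul_eq_zero.1 h3).resolve_left hb0
    exact (maximalIdeal.isMaximal A).ne_top ((Ideal.eq_top_iff_one _).2 ((hz 1).2 (by simp [hz0])))
  refine le_trans ?_ (WithBot.coe_le_coe.2 h1)
  obtain ⟨n, hn⟩ := WithBot.ne_bot_iff_exists.1
    (ne_bot_of_le_ne_bot WithBot.coe_ne_bot (ringKrullDim_nonneg_of_nontrivial (R := A)))
  rw [← hn] at h2 ⊢
  rw [WithBot.coe_le_coe]
  have h3 : ¬ ((2 : ℕ∞) ≤ n) := fun h => h2 (WithBot.coe_le_coe.2 h)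
  cases n with
  | top => simp at h3
  | coe n => norm_cast at h3 ⊢; omega

end Groth.Agent.AlgSpLib.CartierDepth
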