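import Groth.Agent.ModPairLib.Basic
import Groth.Agent.BlowUpLib.Local
import Mathlib.RingTheory.Flat.EquationalCriterion
import Mathlib.RingTheory.RingHom.FaithfullyFlat
import Mathlib.AlgebraicGeometry.Morphisms.Flat
import Mathlib.AlgebraicGeometry.Morphisms.UniversallyOpen
import Mathlib.RingTheory.Flat.TorsionFree

/-!
# Descent of effective Cartier ideals along flat surjective maps
-/

set_option backward.isDefEq.respectTransparency false
set_option backward.isDefEq.respectTransparency.types false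

universe u

open CategoryTheory AlgebraicGeometry Topology

namespace Groth.Agent.AlgSpLib.CartierDesc

variable {A B : Type u} [CommRing A] [CommRing B] [Algebra A B]

/-- A linear relation with coefficients in `A` holding in a flat algebra: the first entry lies in
the extension of the colon ideal. -/
theorem mem_map_colon [Module.Flat A B] {b c : A} {t t' : B}
    (h : algebraMap A B b * t + algebraMap A B c * t' = 0) :
    t ∈ ((Ideal.span {c}).colon ({b} : Set A)).map (algebraMap A B) := by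
  obtain ⟨k, r, y, h1, h2⟩ := Module.Flat.isTrivialRelation_of_sum_smul_eq_zero (R := A) (M := B)
    (f := ![b, c]) (x := ![t, t']) (by simpa [Fin.sum_univ_two, Algebra.smul_def] using h)
  have h1' : t = ∑ j, r 0 j • y j := h1 0
  rw [h1']
  refine Ideal.sum_mem _ fun j _ => ?_
  rw [Algebra.smul_def]
  refine Ideal.mul_mem_right _ _ (Ideal.mem_map_of_mem _ (Submodule.mem_colon_singleton.2 ?_))
  have h3 : b * r 0 j + c * r 1 j = 0 := by simpa [Fin.sum_univ_two] using h2 j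
  refine Ideal.mem_span_singleton'.2 ⟨- r 1 j, ?_⟩
  show - r 1 j * c = r 0 j * b
  linear_combination -h3

theorem exists_generator [Module.FaithfullyFlat A B] (I : Ideal A) {a' : B} (ha' : a' ∈ nonZeroDivisors B)
    (hI : I.map (algebraMap A B) = Ideal.span {a'}) (p : Ideal A) [p.IsPrime] :
    ∃ r ∉ p, ∃ a ∈ I, (∀ b ∈ I, r * b ∈ Ideal.span {a}) ∧ ∀ x, x * a = 0 → r * x = 0 := by
  obtain ⟨P, hP, hPp⟩ : ∃ P : Ideal B, P.IsPrime ∧ P.comap (algebraMap A B) = p := by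
    obtain ⟨P, hP⟩ := PrimeSpectrum.comap_surjective_of_faithfullyFlat (A := A) (B := B) ⟨p, inferInstance⟩
    exact ⟨P.asIdeal, P.isPrime, congrArg PrimeSpectrum.asIdeal hP⟩
  have hmem : a' ∈ Submodule.span B (algebraMap A B '' (I : Set A)) := by
    have : a' ∈ I.map (algebraMap A B) := by rw [hI]; exact Ideal.mem_span_singleton_self _
    exact this
  obtain ⟨T, hTI, hT⟩ := Submodule.mem_span_finite_of_mem_span hmem
  classical
  choose g hgI hg using fun x : T => hTI x.2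
  let J : Ideal A := Ideal.span (Set.range g)
  have hJI : J ≤ I := Ideal.span_le.2 (Set.range_subset_iff.2 hgI)
  have hJ : I.map (algebraMap A B) ≤ J.map (algebraMap A B) := by
    rw [hI, Ideal.span_le, Set.singleton_subset_iff]
    refine (Submodule.span_le (p := (J.map (algebraMap A B) : Submodule B B))).2 (fun x hx => ?_) hT
    rw [SetLike.mem_coe, show x = algebraMap A B (g ⟨x, hx⟩) from (hg ⟨x, hx⟩).symm]
    exact Ideal.mem_map_of_mem _ (Ideal.subset_span ⟨_, rfl⟩)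
  have hIJ : I = J := le_antisymm (by
    have := Ideal.comap_mono (f := algebraMap A B) hJ
    rwa [Ideal.comap_map_eq_self_of_faithfullyFlat, Ideal.comap_map_eq_self_of_faithfullyFlat] at this) hJI
  have hdvd : ∀ b ∈ I, ∃ t, t * a' = algebraMap A B b := fun b hb =>
    Ideal.mem_span_singleton'.1 (hI ▸ Ideal.mem_map_of_mem _ hb)
  choose t ht using fun x : T => hdvd _ (hgI x)
  obtain ⟨i, hi⟩ : ∃ i, t i ∉ P := by
    by_contra hall
    push Not at hall
    have : Submodule.span B (T : Set B) ≤ (P * Ideal.span {a'} : Ideal B) := by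
      refine Submodule.span_le.2 fun x hx => ?_
      rw [SetLike.mem_coe, show x = algebraMap A B (g ⟨x, hx⟩) from (hg ⟨x, hx⟩).symm, ← ht]
      exact Ideal.mul_mem_mul (hall _) (Ideal.mem_span_singleton_self _)
    obtain ⟨z, hz, hza⟩ := Ideal.mem_mul_span_singleton.1 (this hT)
    refine hP.ne_top ((Ideal.eq_top_iff_one _).2 ?_)
    have : z = 1 := mul_cancel_right_mem_nonZeroDivisors ha' |>.1 (by rw [hza, one_mul])
    exact this ▸ hz
  have hk : ∀ x : T, ∃ r ∉ p, r * g x ∈ Ideal.span {g i} := fun x => by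
    by_contra hall
    push Not at hall
    have h1 : t i ∈ ((Ideal.span {g i}).colon ({g x} : Set A)).map (algebraMap A B) :=
      mem_map_colon (t' := - t x) (by rw [← ht x, ← ht i]; ring)
    refine hi ((Ideal.map_le_iff_le_comap.2 (fun r hr => ?_)) h1)
    rw [hPp]
    by_contra hrp
    exact hall r hrp (Submodule.mem_colon_singleton.1 hr)
  choose r hr hrm using hk
  refine ⟨∏ x, r x, ?_, g i, hgI i, ?_, ?_⟩
  · intro h
    obtain ⟨x, -, hx⟩ := Ideal.IsPrime.prod_mem_iff.1 h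
    exact hr x hx
  · intro b hb
    rw [hIJ] at hb
    have : J ≤ (Ideal.span {g i}).colon ({∏ x, r x} : Set A) := Ideal.span_le.2 (by
      rintro _ ⟨x, rfl⟩
      refine Submodule.mem_colon_singleton.2 ?_
      rw [smul_eq_mul, ← Finset.prod_erase_mul _ _ (Finset.mem_univ x), mul_comm (g x), mul_assoc]
      exact Ideal.mul_mem_left _ _ (hrm x))
    have := Submodule.mem_colon_singleton.1 (this hb)
    rwa [smul_eq_mul, mul_comm] at this
  · intro x hx
    apply FaithfulSMul.algebraMap_injective A B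
    rw [map_zero]
    have h1 : ∀ y : T, (∏ z, r z) * x * g y = 0 := fun y => by
      obtain ⟨c, hc⟩ := Ideal.mem_span_singleton'.1 (hrm y)
      rw [← Finset.prod_erase_mul _ _ (Finset.mem_univ y)]
      linear_combination (∏ z ∈ Finset.univ.erase y, r z) * c * hx - (∏ z ∈ Finset.univ.erase y, r z) * x * hc
    refine mem_nonZeroDivisors_iff_right.1 ha' _ ?_
    have hle : Submodule.span B (T : Set B) ≤
        LinearMap.ker (LinearMap.mulLeft B (algebraMap A B ((∏ z, r z) * x))) := by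
      refine Submodule.span_le.2 fun y hy => ?_
      rw [SetLike.mem_coe, LinearMap.mem_ker, LinearMap.mulLeft_apply,
        show y = algebraMap A B (g ⟨y, hy⟩) from (hg ⟨y, hy⟩).symm, ← map_mul, h1, map_zero]
    exact LinearMap.mem_ker.1 (hle hT)

theorem appLE_faithfullyFlat {X Y : Scheme.{u}} (f : X ⟶ Y) [Flat f] {U : Y.Opens} (hU : IsAffineOpen U)
    {V : X.Opens} (hV : IsAffineOpen V) (e : V ≤ f ⁻¹ᵁ U) (hs : (U : Set Y) ⊆ f '' (V : Set X)) :
    (f.appLE U V e).hom.FaithfullyFlat := by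
  refine RingHom.FaithfullyFlat.iff_flat_and_comap_surjective.2
    ⟨HasRingHomProperty.appLE (P := @Flat) f ‹_› ⟨U, hU⟩ ⟨V, hV⟩ e, fun q => ?_⟩
  have hq : hU.fromSpec q ∈ U := by
    have : hU.fromSpec q ∈ hU.fromSpec.opensRange := ⟨q, rfl⟩
    rwa [hU.opensRange_fromSpec] at this
  obtain ⟨x, hx, hxq⟩ := hs hq
  refine ⟨hV.primeIdealOf ⟨x, hx⟩, hU.fromSpec.isOpenEmbedding.injective ?_⟩
  show (Spec.map (f.appLE U V e) ≫ hU.fromSpec) (hV.primeIdealOf ⟨x, hx⟩) = _
  rw [IsAffineOpen.SpecMap_appLE_fromSpec f hU hV e, Scheme.Hom.comp_apply, hV.fromSpec_primeIdealOf]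
  exact hxq

/-- Effective Cartier ideals descend along flat open surjective maps. -/
theorem isEffCartier_of_comap {X Y : Scheme.{u}} (f : X ⟶ Y) [Flat f] [LocallyOfFinitePresentation f]
    [Surjective f] {I : Y.IdealSheafData} (h : BlowUp.IsEffCartierIdeal (I.comap f)) :
    BlowUp.IsEffCartierIdeal I := by
  intro y
  obtain ⟨x, rfl⟩ := f.surjective y
  obtain ⟨W, hxW, a', ha', hW⟩ := h x
  obtain ⟨_, ⟨U, hU, rfl⟩, hyU, -⟩ := Y.isBasis_affineOpens.exists_subset_of_mem_open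
    (Set.mem_univ (f x)) isOpen_univ
  obtain ⟨W₁, hW₁, hxW₁, hW₁le⟩ : ∃ W₁ : X.Opens, IsAffineOpen W₁ ∧ x ∈ W₁ ∧ W₁ ≤ W.1 ⊓ f ⁻¹ᵁ U := by
    obtain ⟨_, ⟨W₁, hW₁, rfl⟩, hx, hle⟩ := X.isBasis_affineOpens.exists_subset_of_mem_open
      (show x ∈ ((W.1 ⊓ f ⁻¹ᵁ U : X.Opens) : Set X) from ⟨hxW, hyU⟩) (W.1 ⊓ f ⁻¹ᵁ U).isOpen
    exact ⟨W₁, hW₁, hx, hle⟩
  have : UniversallyOpen f := inferInstance
  obtain ⟨s, hs, hfx⟩ := hU.exists_basicOpen_le
    (V := ⟨f '' (W₁ : Set X), f.isOpenMap _ W₁.isOpen⟩) ⟨f x, ⟨x, hxW₁, rfl⟩⟩ hyU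
  let U₂ : Y.affineOpens := ⟨Y.basicOpen s, hU.basicOpen s⟩
  let e₀ : W₁ ≤ f ⁻¹ᵁ U := hW₁le.trans inf_le_right
  let W₂ : X.affineOpens := ⟨X.basicOpen (f.appLE U W₁ e₀ s), hW₁.basicOpen _⟩
  have hW₂ : W₂.1 = W₁ ⊓ f ⁻¹ᵁ Y.basicOpen s := Scheme.basicOpen_appLE f W₁ U e₀ s
  have e : W₂.1 ≤ f ⁻¹ᵁ U₂.1 := hW₂.le.trans inf_le_right
  have hW₂W : W₂.1 ≤ W.1 := (hW₂.le.trans inf_le_left).trans (hW₁le.trans inf_le_left)
  have hff := appLE_faithfullyFlat f U₂.2 W₂.2 e (fun z hz => by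
    obtain ⟨w, hw, rfl⟩ := hs hz
    exact ⟨w, by rw [SetLike.mem_coe, hW₂]; exact ⟨hw, hz⟩, rfl⟩)
  algebraize [(f.appLE U₂.1 W₂.1 e).hom]
  let a₂ := X.presheaf.map (homOfLE hW₂W).op a'
  have ha₂ : a₂ ∈ nonZeroDivisors Γ(X, W₂.1) := by
    have hfl : ((𝟙 X : X ⟶ X).appLE W.1 W₂.1 hW₂W).hom.Flat :=
      HasRingHomProperty.appLE (P := @Flat) (𝟙 X) inferInstance W W₂ hW₂W
    rw [show (𝟙 X : X ⟶ X).appLE W.1 W₂.1 hW₂W = X.presheaf.map (homOfLE hW₂W).op by
      simp [Scheme.Hom.appLE]] at hfl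
    algebraize [(X.presheaf.map (homOfLE hW₂W).op).hom]
    refine mem_nonZeroDivisors_iff_right.2 fun z hz => ?_
    exact Module.Flat.isSMulRegular_of_nonZeroDivisors (M := Γ(X, W₂.1)) ha'
      (by simp only [Algebra.smul_def]; rw [mul_zero, mul_comm]; exact hz)
  have hI : (I.ideal U₂).map (algebraMap Γ(Y, U₂.1) Γ(X, W₂.1)) = Ideal.span {a₂} := by
    show (I.ideal U₂).map (f.appLE U₂.1 W₂.1 e).hom = _
    rw [← ModPairLib.ideal_comap I f U₂ W₂ e, ← (I.comap f).map_ideal (U := W₂) (V := W) hW₂W, hW,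
      Ideal.map_span, Set.image_singleton]
    rfl
  obtain ⟨r, hr, a, haI, hra, hxa⟩ := exists_generator (I.ideal U₂) ha₂ hI
    (U₂.2.primeIdealOf ⟨f x, hfx⟩).asIdeal
  have : IsLocalization.Away r Γ(Y, Y.basicOpen r) := U₂.2.isLocalization_basicOpen r
  have hbo : Y.basicOpen r ≤ U₂.1 := Y.basicOpen_le r
  refine ⟨Y.affineBasicOpen r, ?_,
    (algebraMap Γ(Y, U₂.1) Γ(Y, Y.basicOpen r) a : Γ(Y, Y.basicOpen r)), ?_, ?_⟩
  · have h1 : U₂.2.primeIdealOf ⟨f x, hfx⟩ ∈ U₂.2.fromSpec ⁻¹ᵁ Y.basicOpen r := by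
      rw [U₂.2.fromSpec_preimage_basicOpen]
      exact hr
    have h2 : U₂.2.fromSpec (U₂.2.primeIdealOf ⟨f x, hfx⟩) ∈ Y.basicOpen r := h1
    rwa [U₂.2.fromSpec_primeIdealOf] at h2
  · show _ ∈ nonZeroDivisors Γ(Y, Y.basicOpen r)
    refine mem_nonZeroDivisors_iff_right.2 fun z hz => ?_
    obtain ⟨⟨x₀, m⟩, hz'⟩ := IsLocalization.surj (Submonoid.powers r) z
    obtain ⟨c, hc⟩ := (IsLocalization.map_eq_zero_iff (R := Γ(Y, U₂.1)) (Submonoid.powers r) Γ(Y, Y.basicOpen r) (x₀ * a)).1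
      (by rw [map_mul, ← hz', mul_right_comm, hz, zero_mul])
    have h0 := hxa ((c : Γ(Y, U₂.1)) * x₀) (by rw [mul_assoc]; exact hc)
    refine (IsLocalization.map_units _ m).mul_left_eq_zero.1 ?_
    rw [hz', IsLocalization.map_eq_zero_iff (Submonoid.powers r)]
    exact ⟨⟨r * c, mul_mem (Submonoid.mem_powers r) c.2⟩, by rw [mul_assoc]; exact h0⟩
  · rw [← I.map_ideal_basicOpen U₂ r]
    refine le_antisymm (Ideal.map_le_iff_le_comap.2 fun b hb => ?_) ?_
    · obtain ⟨c, hc⟩ := Ideal.mem_span_singleton'.1 (hra b hb)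
      rw [Ideal.mem_comap, Ideal.mem_span_singleton]
      refine ((IsLocalization.Away.algebraMap_isUnit (S := Γ(Y, Y.basicOpen r)) r).dvd_mul_left).1 ?_
      rw [show (Y.presheaf.map (homOfLE (Y.basicOpen_le r)).op).hom b =
        algebraMap Γ(Y, U₂.1) Γ(Y, Y.basicOpen r) b from rfl, ← map_mul, ← hc, map_mul]
      exact dvd_mul_left _ _
    · rw [Ideal.span_le, Set.singleton_subset_iff]
      exact Ideal.mem_map_of_mem _ haI

end Groth.Agent.AlgSpLib.CartierDesc
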