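import Groth.Agent.AlgSpLib.CartierCompl
import Groth.Agent.ModPairLib.Decomp

/-!
# Effective Cartier divisors from etale neighbourhoods of their points
-/

set_option backward.isDefEq.respectTransparency false
set_option backward.isDefEq.respectTransparency.types false

universe u

open CategoryTheory CategoryTheory.Limits AlgebraicGeometry Opposite AlgSp Topology

namespace Groth.Agent.AlgSpLib.Cartier

theorem exists_affine_generator {X : Scheme.{u}} {I : X.IdealSheafData} (h : BlowUp.IsEffCartierIdeal I) (x : X) :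
    ∃ U : X.Opens, x ∈ U ∧ IsAffine U.toScheme ∧ ∃ (h2 : IsAffineOpen (⊤ : U.toScheme.Opens))
      (f : Γ(U.toScheme, ⊤)), f ∈ nonZeroDivisors Γ(U.toScheme, ⊤) ∧
        (I.comap U.ι).ideal ⟨⊤, h2⟩ = Ideal.span {f} := by
  obtain ⟨U, hxU, f, hf, hI⟩ := h x
  have : IsAffine U.1.toScheme := U.2
  let e := U.1.topIso.symm.commRingCatIsoToRingEquiv
  refine ⟨U.1, hxU, U.2, isAffineOpen_top _, e f, ?_, ?_⟩
  · refine mem_nonZeroDivisors_iff_right.2 fun z hz => e.symm.injective ?_
    rw [map_zero]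
    exact mem_nonZeroDivisors_iff_right.1 hf _ (by simpa using congrArg e.symm hz)
  · rw [ModPairLib.comap_ideal_of_opensRange U.1.ι I U (Scheme.Opens.opensRange_ι _), hI, Ideal.map_span,
      Set.image_singleton]
    congr 2
    rw [Scheme.Opens.ι_appLE, show e f = U.1.topIso.inv f from rfl, Scheme.Opens.topIso_inv]
    rfl

variable {S : Scheme.{u}} {X D : Sp S} {i : D ⟶ X}

theorem isEffCartier_of_affine {U : Scheme.{u}} [IsAffine U] {I : U.IdealSheafData} {f : Γ(U, ⊤)}
    (hf : f ∈ nonZeroDivisors Γ(U, ⊤)) (hI : I.ideal ⟨⊤, isAffineOpen_top U⟩ = Ideal.span {f}) :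
    BlowUp.IsEffCartierIdeal I :=
  fun _ => ⟨⟨⊤, isAffineOpen_top U⟩, trivial, f, hf, hI⟩

theorem isEffCartierSub_of_points (hX : IsAlgSpace X) (hi : RepWith @IsClosedImmersion i)
    (h : ∀ x : Points D, ∃ (U : Over S) (a : (yon S).obj U ⟶ X) (u : ↥U.left), RepWith @Etale a ∧
      Points.ofPt a u = Points.map i x ∧ BlowUp.IsEffCartierIdeal (cutIdeal hi a)) : IsEffCartierSub i := by
  obtain ⟨V, φ, hφ, hφs⟩ := hX.atlas
  refine isEffCartierSub_of_atlas hi φ hφ hφs fun v => ?_
  by_cases hv : v ∈ (cutIdeal hi φ).support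
  · obtain ⟨x, hx⟩ := (range_snd_cutIdeal hi φ v).1 hv
    obtain ⟨U, a, w, ha, haw, hE⟩ := h x
    obtain ⟨r, -, hr⟩ := AlgSpPts.exists_lift (ha.rep.isPullback φ) (x := Points.ofScheme U w) (t := v)
      (by rw [← Points.ofPt_eq_map_ofScheme, haw, hx])
    let m : ha.rep.pullback φ ⟶ V := ha.rep.snd φ
    have hm : Etale m.left := ha.property_snd φ
    have hl : Etale (ha.rep.fst' φ).left := hφ.property _ _ _ (ha.rep.isPullback' φ).flip
    let W : V.left.Opens := ⟨Set.range m.left, m.left.isOpenMap.isOpen_range⟩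
    let m' := IsOpenImmersion.lift W.ι m.left (by rw [Scheme.Opens.range_ι]; rfl)
    have hm' : m' ≫ W.ι = m.left := IsOpenImmersion.lift_fac _ _ _
    have : Etale (m' ≫ W.ι) := hm' ▸ hm
    have : Etale m' := Etale.of_comp m' W.ι
    have : Surjective m' := ⟨fun z => by
      obtain ⟨q, hq⟩ := z.2
      refine ⟨q, W.ι.isOpenEmbedding.injective ?_⟩
      rw [← Scheme.Hom.comp_apply, hm']
      exact hq⟩
    have hW : BlowUp.IsEffCartierIdeal ((cutIdeal hi φ).comap W.ι) := by
      refine CartierDesc.isEffCartier_of_comap m' ?_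
      rw [← Scheme.IdealSheafData.comap_comp, hm', ← cutIdeal_comp,
        show (yon S).map m ≫ φ = (yon S).map (ha.rep.fst' φ) ≫ a from (ha.rep.isPullback' φ).w.symm,
        cutIdeal_comp]
      exact BlowUpLib.isEffCartier_comap_flat _ hE
    exact ModPairLib.isEffCartier_of_comap_at W.ι hW ⟨v, r, hr⟩
  · obtain ⟨O, hO, hvO, hle⟩ := exists_isAffineOpen_mem_and_subset
      (U := (cutIdeal hi φ).support.compl) (x := v) hv
    refine ⟨⟨O, hO⟩, hvO, 1, one_mem _, ?_⟩
    rw [Ideal.span_singleton_one, ← PrimeSpectrum.zeroLocus_empty_iff_eq_top]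
    refine Set.eq_empty_of_forall_notMem fun p hp => ?_
    have hp' : hO.fromSpec p ∈ V.left.zeroLocus (U := O) ↑((cutIdeal hi φ).ideal ⟨O, hO⟩) ∩ (O : Set V.left) := by
      rw [← hO.fromSpec_image_zeroLocus]
      exact ⟨p, hp, rfl⟩
    rw [← Scheme.IdealSheafData.coe_support_inter (cutIdeal hi φ) ⟨O, hO⟩] at hp'
    exact hle hp'.2 hp'.1

end Groth.Agent.AlgSpLib.Cartier
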