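import Groth.Prelude.Def_AlgSpCov
import Groth.Agent.AlgSpLib.Covers
import Groth.Agent.EtGlueSp.Charts

/-!
# Iterated fibre products over a sheaf and properties descending along fppf coverings
-/

set_option backward.isDefEq.respectTransparency false
set_option backward.isDefEq.respectTransparency.types false

universe w v u

open CategoryTheory CategoryTheory.Limits

namespace Groth.Agent.AlgSpLib

section Generic

variable {C : Type u} [Category.{v} C] [HasLimits C]

/-- A class of objects over `U` stable under isomorphism and fibre products contains the iterated fibre products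
of its members. -/
theorem widePullback_base_mem {U : C} (Q : ∀ ⦃W : C⦄, (W ⟶ U) → Prop)
    (hiso : ∀ ⦃W W' : C⦄ (e : W ≅ W') (f : W' ⟶ U), Q f → Q (e.hom ≫ f))
    (hpb : ∀ ⦃W W' : C⦄ (f : W ⟶ U) (g : W' ⟶ U), Q f → Q g → Q (pullback.fst f g ≫ f)) :
    ∀ (n : ℕ) (Z : Fin (n + 1) → C) (g : ∀ i, Z i ⟶ U) [HasWidePullback U Z g], (∀ i, Q (g i)) →
      Q (WidePullback.base g) := by
  intro n
  induction n with
  | zero =>
    intro Z g _ hg
    let e : widePullback U Z g ≅ Z 0 :=
      { hom := WidePullback.π g 0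
        inv := WidePullback.lift (g 0)
          (fun i => Fin.cases (motive := fun i => Z 0 ⟶ Z i) (𝟙 _) (fun j => j.elim0) i)
          (fun i => Fin.cases (by simp) (fun j => j.elim0) i)
        hom_inv_id := by
          refine WidePullback.hom_ext _ _ _ (fun i => ?_) ?_
          · induction i using Fin.cases with
            | zero => simp
            | succ j => exact j.elim0
          · simp
        inv_hom_id := by simp }
    have h := hiso e (g 0) (hg 0)
    rwa [show e.hom ≫ g 0 = WidePullback.base g from WidePullback.π_arrow g 0] at h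
  | succ n ih =>
    intro Z g _ hg
    let Z' : Fin (n + 1) → C := fun i => Z i.succ
    let g' : ∀ i, Z' i ⟶ U := fun i => g i.succ
    have h' := ih Z' g' (fun i => hg _)
    let e : widePullback U Z g ≅ pullback (g 0) (WidePullback.base g') :=
      { hom := pullback.lift (WidePullback.π g 0)
          (WidePullback.lift (WidePullback.base g) (fun i : Fin (n + 1) => WidePullback.π g i.succ)
            (fun i => WidePullback.π_arrow g _)) (by simp)
        inv := WidePullback.lift (pullback.fst _ _ ≫ g 0)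
          (fun i => Fin.cases (motive := fun i => pullback (g 0) (WidePullback.base g') ⟶ Z i)
            (pullback.fst _ _) (fun j => pullback.snd _ _ ≫ WidePullback.π g' j) i)
          (fun i => Fin.cases (by simp) (fun j => by
            simp only [Fin.cases_succ, Category.assoc]
            exact (congrArg (pullback.snd _ _ ≫ ·) (WidePullback.π_arrow g' j)).trans
              pullback.condition.symm) i)
        hom_inv_id := by
          refine WidePullback.hom_ext _ _ _ (fun i => ?_) ?_
          · induction i using Fin.cases with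
            | zero => simp
            | succ j => simp [g', Z']
          · simp
        inv_hom_id := by
          apply pullback.hom_ext
          · simp
          · refine WidePullback.hom_ext _ _ _ (fun i => ?_) ?_
            · simp [g', Z']
            · simp [pullback.condition] }
    have h := hiso e _ (hpb _ _ (hg 0) h')
    rwa [show e.hom ≫ pullback.fst _ _ ≫ g 0 = WidePullback.base g by simp [e]] at h

end Generic

open AlgebraicGeometry AlgSp

variable {S : Scheme.{u}}

instance : MorphismProperty.IsMultiplicative @LocallyOfFinitePresentation.{u} where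
  id_mem _ := inferInstance
  comp_mem f g _ _ := inferInstanceAs (LocallyOfFinitePresentation (f ≫ g))

/-- Objects over `U` that are schemes, flat, locally of finite presentation, with a property `R`. -/
def FfpScheme {U : Sp S} (R : ∀ ⦃T : Over S⦄, ((yon S).obj T ⟶ U) → Prop) ⦃W : Sp S⦄ (f : W ⟶ U) : Prop :=
  ∃ (T : Over S) (e : W ≅ (yon S).obj T) (f' : (yon S).obj T ⟶ U), f = e.hom ≫ f' ∧
    LocP @Flat f' ∧ LocP @LocallyOfFinitePresentation f' ∧ R f'

theorem ffpScheme_base {U : Sp S} (hU : IsAlgSpace U) (R : ∀ ⦃T : Over S⦄, ((yon S).obj T ⟶ U) → Prop)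
    (hR : ∀ ⦃T₁ T₂ T : Over S⦄ (f : (yon S).obj T₁ ⟶ U) (g : (yon S).obj T₂ ⟶ U) (p : T ⟶ T₁) (q : T ⟶ T₂),
      IsPullback ((yon S).map p) ((yon S).map q) f g → R f → R g → R ((yon S).map p ≫ f))
    {n : ℕ} {Z : Fin (n + 1) → Sp S} (g : ∀ i, Z i ⟶ U) (hg : ∀ i, FfpScheme R (g i)) :
    FfpScheme R (WidePullback.base g) := by
  refine widePullback_base_mem (fun _ f => FfpScheme R f) ?_ ?_ n Z g hg
  · rintro W W' e f ⟨T, e', f', rfl, h⟩
    exact ⟨T, e ≪≫ e', f', by simp, h⟩
  · rintro W W' f g ⟨T₁, e₁, f, rfl, hff, hfp, hfR⟩ ⟨T₂, e₂, g, rfl, hgf, hgp, hgR⟩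
    have hr : Representable f := hU.representable_from_yon f
    have sq : IsPullback ((yon S).map (hr.fst' g)) ((yon S).map (hr.snd g)) f g := hr.isPullback' g
    let p := hr.fst' g
    have hp : ∀ (P : MorphismProperty Scheme.{u}) [IsEtLocal P], LocP P g → LocP P ((yon S).map p) :=
      fun P _ h => locP_of_isPullback sq.flip (IsAlgSpace.yon_obj _) hU (IsAlgSpace.yon_obj _) h
    let e : pullback (e₁.hom ≫ f) (e₂.hom ≫ g) ≅ (yon S).obj (hr.pullback g) :=
      asIso (pullback.map _ _ f g e₁.hom e₂.hom (𝟙 _) (by simp) (by simp)) ≪≫ sq.isoPullback.symm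
    refine ⟨_, e, (yon S).map p ≫ f, ?_, ?_, ?_, hR f g p _ sq hfR hgR⟩
    · simp [e, p]
    · exact locP_comp (IsAlgSpace.yon_obj _) (IsAlgSpace.yon_obj _) hU (hp @Flat hgf) hff
    · exact locP_comp (IsAlgSpace.yon_obj _) (IsAlgSpace.yon_obj _) hU (hp @LocallyOfFinitePresentation hgp) hfp

theorem locP_flat_of_etale {F G : Sp S} {f : F ⟶ G} (hf : RepWith @Etale f) : LocP @Flat f :=
  locP_mono (P := @Etale) (Q := @Flat) (fun _ _ h (_ : Etale h) => inferInstanceAs (Flat h)) (locP_of_repWith hf)

theorem locP_lfp_of_etale {F G : Sp S} {f : F ⟶ G} (hf : RepWith @Etale f) :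
    LocP @LocallyOfFinitePresentation f :=
  locP_mono (P := @Etale) (Q := @LocallyOfFinitePresentation)
    (fun _ _ h (_ : Etale h) => inferInstanceAs (LocallyOfFinitePresentation h)) (locP_of_repWith hf)

theorem repWith_etale_of_isOpenImmersion {T' T : Over S} (j : T' ⟶ T) [IsOpenImmersion j.left] :
    RepWith @Etale ((yon S).map j) :=
  (repWith_yon_map_iff @Etale j).2 (inferInstanceAs (Etale j.left))

/-- Jointly surjective open immersions of schemes form an fppf covering of representable sheaves. -/
theorem isFppfCover_of_openImmersion {T : Over S} {ι : Type u} (Ti : ι → Over S) (j : ∀ i, Ti i ⟶ T)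
    [∀ i, IsOpenImmersion (j i).left] (h : ∀ t : T.left, ∃ i, t ∈ Set.range (j i).left) :
    IsFppfCover (fun i => (yon S).obj (Ti i)) (fun i => (yon S).map (j i)) := by
  refine ⟨fun i => ⟨locP_flat_of_etale (repWith_etale_of_isOpenImmersion _),
    locP_lfp_of_etale (repWith_etale_of_isOpenImmersion _)⟩, fun x => ?_⟩
  obtain ⟨i, y, hy⟩ := h (Points.toScheme T x)
  refine ⟨i, Points.ofScheme (Ti i) y, ?_⟩
  rw [← Points.ofScheme_toScheme T x, ← hy, Points.map_ofPt, Category.id_comp]
  exact (congrArg (fun q => Points.ofPt q y) (Category.comp_id ((yon S).map (j i))).symm).trans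
    (ofPt_comp (j i) (𝟙 _) y)

section Descending

variable {X : Sp S} (hX : IsAlgSpace X) (P : ∀ ⦃U : Sp S⦄, (U ⟶ X) → Prop)
    (hP : ∀ ⦃U : Sp S⦄ (a : U ⟶ X), IsAlgSpace U →
      ∀ ⦃ι : Type u⦄ (Ui : ι → Sp S) (g : ∀ i, Ui i ⟶ U), (∀ i, IsAlgSpace (Ui i)) →
      IsFppfCover Ui g →
      (∀ (n : ℕ) (c : Fin (n + 1) → ι),
        P (WidePullback.base (fun k : Fin (n + 1) => g (c k)) ≫ a)) → P a)
    (haff : ∀ ⦃U : Sp S⦄ (a : U ⟶ X) (T : Over S) (e : U ≅ (yon S).obj T), IsAffine T.left →
      LocP @Flat a → LocP @LocallyOfFinitePresentation a → P a)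

/-- The members of the affine open covering of a scheme over `S`. -/
def affOpen (T : Over S) (O : T.left.affineOpens) : Over S := Over.mk (O.1.ι ≫ T.hom)

def affOpenι (T : Over S) (O : T.left.affineOpens) : affOpen T O ⟶ T := Over.homMk O.1.ι rfl

instance (T : Over S) (O : T.left.affineOpens) : IsOpenImmersion (affOpenι T O).left :=
  inferInstanceAs (IsOpenImmersion O.1.ι)

instance (T : Over S) (O : T.left.affineOpens) : IsAffine (affOpen T O).left := O.2

theorem affOpen_covers (T : Over S) (t : T.left) : ∃ O, t ∈ Set.range (affOpenι T O).left := by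
  obtain ⟨W, hW, htW, -⟩ := exists_isAffineOpen_mem_and_subset (U := (⊤ : T.left.Opens)) (x := t) trivial
  exact ⟨⟨W, hW⟩, ⟨t, htW⟩, rfl⟩

theorem locP_base_comp {U W : Sp S} {T : Over S} (hU : IsAlgSpace U) (hX : IsAlgSpace X) (e : W ≅ (yon S).obj T)
    {f : W ⟶ U} {f' : (yon S).obj T ⟶ U} (he : f = e.hom ≫ f') {a : U ⟶ X} (P : MorphismProperty Scheme.{u})
    [IsEtLocal P] [P.IsMultiplicative] (hf' : LocP P f') (ha : LocP P a) :
    LocP P (f ≫ a) := by
  have hT := IsAlgSpace.yon_obj (S := S) T
  have hW : IsAlgSpace W := hT.of_iso e.symm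
  subst he
  rw [Category.assoc]
  exact locP_comp hW hT hX (locP_of_repWith (repWith_of_isIso P e.hom)) (locP_comp hT hU hX hf' ha)

include hX hP haff in
/-- Separated schemes, flat and locally of finite presentation over `X`. -/
theorem cech_of_separated {U : Sp S} (a : U ⟶ X) (T : Over S) (e : U ≅ (yon S).obj T) (hT : T.left.IsSeparated)
    (ha : LocP @Flat a) (ha' : LocP @LocallyOfFinitePresentation a) : P a := by
  have hU : IsAlgSpace U := (IsAlgSpace.yon_obj T).of_iso e.symm
  suffices ∀ b : (yon S).obj T ⟶ X, LocP @Flat b → LocP @LocallyOfFinitePresentation b →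
      ∀ ⦃n : ℕ⦄ (c : Fin (n + 1) → T.left.affineOpens),
        P (WidePullback.base (fun k => (yon S).map (affOpenι T (c k)) ≫ e.inv) ≫ e.hom ≫ b) by
    refine hP a hU (fun O => (yon S).obj (affOpen T O)) (fun O => (yon S).map (affOpenι T O) ≫ e.inv)
      (fun _ => IsAlgSpace.yon_obj _) ?_ fun n c => ?_
    · have h := isFppfCover_of_openImmersion _ (affOpenι T) (affOpen_covers T)
      refine ⟨fun O => ⟨?_, ?_⟩, fun x => ?_⟩
      · exact locP_comp (IsAlgSpace.yon_obj _) (IsAlgSpace.yon_obj _) hU (h.1 O).1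
          (locP_of_repWith (repWith_of_isIso @Flat e.inv))
      · exact locP_comp (IsAlgSpace.yon_obj _) (IsAlgSpace.yon_obj _) hU (h.1 O).2
          (locP_of_repWith (repWith_of_isIso @LocallyOfFinitePresentation e.inv))
      · obtain ⟨O, y, hy⟩ := h.2 (Points.map e.hom x)
        exact ⟨O, y, by rw [Points.map_comp, hy, ← Points.map_comp, e.hom_inv_id, Points.map_id]⟩
    · have h := this (e.inv ≫ a)
        (locP_comp (IsAlgSpace.yon_obj _) hU hX (locP_of_repWith (repWith_of_isIso @Flat e.inv)) ha)
        (locP_comp (IsAlgSpace.yon_obj _) hU hX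
          (locP_of_repWith (repWith_of_isIso @LocallyOfFinitePresentation e.inv)) ha') c
      rwa [e.hom_inv_id_assoc] at h
  intro b hb hb' n c
  obtain ⟨T', e', f', he', hf, hfp, hR⟩ := ffpScheme_base hU
    (fun T' f => IsAffine T'.left)
    (fun T₁ T₂ T' f g p q sq h₁ h₂ => by
      have := h₁
      have := h₂
      have sq' : IsPullback ((yon S).map p) ((yon S).map q) (f ≫ e.hom) (g ≫ e.hom) := sq.of_iso
        (Iso.refl _) (Iso.refl _) (Iso.refl _) e (by simp) (by simp) (by simp) (by simp)
      obtain ⟨f₀, hf₀⟩ := (yon S).map_surjective (f ≫ e.hom)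
      obtain ⟨g₀, hg₀⟩ := (yon S).map_surjective (g ≫ e.hom)
      rw [← hf₀, ← hg₀] at sq'
      have : IsAffineHom g₀.left := IsAffineHom.of_comp _ (terminal.from T.left)
      have hp : IsAffineHom p.left := (repWith_yon_map_iff @IsAffineHom p).1
        (repWith_of_isPullback sq'.flip ((repWith_yon_map_iff @IsAffineHom g₀).2 this))
      exact isAffine_of_isAffineHom p.left)
    (fun k => (yon S).map (affOpenι T (c k)) ≫ e.inv)
    (fun k => ⟨_, Iso.refl _, _, (Category.id_comp _).symm,
      locP_flat_of_etale (repWith_comp (repWith_etale_of_isOpenImmersion _) (repWith_of_isIso @Etale e.inv)),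
      locP_lfp_of_etale (repWith_comp (repWith_etale_of_isOpenImmersion _) (repWith_of_isIso @Etale e.inv)),
      inferInstance⟩)
  exact haff _ T' e' hR
    (locP_base_comp hU hX e' he' @Flat hf
      (locP_comp hU (IsAlgSpace.yon_obj _) hX (locP_of_repWith (repWith_of_isIso @Flat e.hom)) hb))
    (locP_base_comp hU hX e' he' @LocallyOfFinitePresentation hfp
      (locP_comp hU (IsAlgSpace.yon_obj _) hX
        (locP_of_repWith (repWith_of_isIso @LocallyOfFinitePresentation e.hom)) hb'))

include hX hP haff in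
/-- Schemes, flat and locally of finite presentation over `X`. -/
theorem cech_of_scheme {U : Sp S} (a : U ⟶ X) (T : Over S) (e : U ≅ (yon S).obj T)
    (ha : LocP @Flat a) (ha' : LocP @LocallyOfFinitePresentation a) : P a := by
  have hU : IsAlgSpace U := (IsAlgSpace.yon_obj T).of_iso e.symm
  have het : ∀ O, RepWith @Etale ((yon S).map (affOpenι T O) ≫ e.inv) := fun O =>
    repWith_comp (repWith_etale_of_isOpenImmersion _) (repWith_of_isIso @Etale e.inv)
  refine hP a hU (fun O => (yon S).obj (affOpen T O)) (fun O => (yon S).map (affOpenι T O) ≫ e.inv)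
    (fun _ => IsAlgSpace.yon_obj _) ⟨fun O => ⟨locP_flat_of_etale (het O), locP_lfp_of_etale (het O)⟩,
      fun x => ?_⟩ fun n c => ?_
  · obtain ⟨O, y, hy⟩ := (isFppfCover_of_openImmersion _ (affOpenι T) (affOpen_covers T)).2
      (Points.map e.hom x)
    exact ⟨O, y, by rw [Points.map_comp, hy, ← Points.map_comp, e.hom_inv_id, Points.map_id]⟩
  obtain ⟨T', e', f', he', hf, hfp, hR⟩ := ffpScheme_base hU
    (fun T' f => T'.left.IsSeparated ∧ RepWith @IsOpenImmersion f)
    (fun T₁ T₂ T' f g p q sq h₁ h₂ => by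
      have hp' : RepWith @IsOpenImmersion ((yon S).map p) := repWith_of_isPullback sq.flip h₂.2
      have hp : IsOpenImmersion p.left := (repWith_yon_map_iff @IsOpenImmersion p).1 hp'
      have := h₁.1
      exact ⟨⟨by rw [← terminal.comp_from p.left]; infer_instance⟩,
        repWith_comp hp' h₁.2⟩)
    (fun k => (yon S).map (affOpenι T (c k)) ≫ e.inv)
    (fun k => ⟨_, Iso.refl _, _, (Category.id_comp _).symm, locP_flat_of_etale (het _),
      locP_lfp_of_etale (het _), inferInstance,
      repWith_comp ((repWith_yon_map_iff @IsOpenImmersion _).2 inferInstance)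
        (repWith_of_isIso @IsOpenImmersion e.inv)⟩)
  exact cech_of_separated hX P hP haff _ T' e' hR.1 (locP_base_comp hU hX e' he' @Flat hf ha)
    (locP_base_comp hU hX e' he' @LocallyOfFinitePresentation hfp ha')

include hX hP haff in
/-- A descending property holding for affines, flat and lfp over `X`, holds for `X`. -/
theorem cech_self : P (𝟙 X) := by
  obtain ⟨U, p, hpe, hps⟩ := hX.atlas
  refine hP (𝟙 X) hX (fun _ : PUnit.{u + 1} => (yon S).obj U) (fun _ => p) (fun _ => IsAlgSpace.yon_obj U)
    (isFppfCover_of_repWith_etale hpe hps) fun n c => ?_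
  obtain ⟨T', e', f', he', hf, hfp, -⟩ := ffpScheme_base hX (fun _ _ => True)
    (fun _ _ _ _ _ _ _ _ _ _ => trivial) (fun _ : Fin (n + 1) => p)
    (fun _ => ⟨_, Iso.refl _, _, (Category.id_comp _).symm, locP_flat_of_etale hpe, locP_lfp_of_etale hpe,
      trivial⟩)
  refine cech_of_scheme hX P hP haff _ T' e' ?_ ?_ <;> rw [Category.comp_id, he']
  · exact locP_comp ((IsAlgSpace.yon_obj T').of_iso e'.symm) (IsAlgSpace.yon_obj T') hX
      (locP_of_repWith (repWith_of_isIso @Flat e'.hom)) hf
  · exact locP_comp ((IsAlgSpace.yon_obj T').of_iso e'.symm) (IsAlgSpace.yon_obj T') hX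
      (locP_of_repWith (repWith_of_isIso @LocallyOfFinitePresentation e'.hom)) hfp

end Descending

end Groth.Agent.AlgSpLib
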