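import Groth.Agent.AlgSpLib.ESLScheme

/-!
# The smooth descent step for properties etale local on the source and smooth local on the base
-/

set_option backward.isDefEq.respectTransparency false
set_option backward.isDefEq.respectTransparency.types false

noncomputable section

universe u

open CategoryTheory CategoryTheory.Limits AlgebraicGeometry

namespace Groth.Agent.AlgSpLib

variable {S : Scheme.{u}}

theorem liftBound_standardEtale {A B : Type u} [CommRing A] [CommRing B] [Algebra A B]
    (P : StandardEtalePresentation A B) :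
    LiftBound (Spec.map (CommRingCat.ofHom (algebraMap A B))) P.f.natDegree := by
  classical
  intro K _ s t ht hinj
  let σ := (Spec.preimage s).hom
  let τ : ∀ i, B →+* K := fun i => (Spec.preimage (t i)).hom
  have hτ : ∀ i, (τ i).comp (algebraMap A B) = σ := by
    intro i
    have : CommRingCat.ofHom (algebraMap A B) ≫ Spec.preimage (t i) = Spec.preimage s := by
      apply Spec.map_injective
      rw [Spec.map_comp, Spec.map_preimage, Spec.map_preimage, ht]
    exact congrArg CommRingCat.Hom.hom this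
  let : Algebra A K := σ.toAlgebra
  let ψ : ∀ i, B →ₐ[A] K := fun i => { τ i with commutes' := fun a => congrArg (fun φ => φ a) (hτ i) }
  have hroot : ∀ i, ψ i P.x ∈ (P.f.map (algebraMap A K)).roots.toFinset := by
    intro i
    rw [Multiset.mem_toFinset, Polynomial.mem_roots (P.monic_f.map _).ne_zero, Polynomial.IsRoot,
      Polynomial.eval_map, ← Polynomial.aeval_def, Polynomial.aeval_algHom_apply, P.hasMap.1, map_zero]
  have hinj' : Function.Injective fun i => ψ i P.x := by
    intro i j hij
    refine hinj ?_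
    have h1 : τ i = τ j := congrArg AlgHom.toRingHom (P.hom_ext hij)
    rw [← Spec.map_preimage (t i), ← Spec.map_preimage (t j)]
    exact congrArg Spec.map (CommRingCat.hom_ext h1)
  have h2 := Finset.card_le_card_of_injOn (s := (Finset.univ : Finset (Fin (P.f.natDegree + 1))))
    (fun i => ψ i P.x) (fun i _ => hroot i) hinj'.injOn
  have h3 := (Multiset.toFinset_card_le _).trans (Polynomial.card_roots' (P.f.map (algebraMap A K)))
  have h4 := Polynomial.natDegree_map_le (f := algebraMap A K) (p := P.f)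
  simp only [Finset.card_univ, Fintype.card_fin] at h2
  omega

theorem exists_liftBound_nhd {Y Z : Scheme.{u}} (g : Y ⟶ Z) [Etale g] (y : Y) :
    ∃ (V : Scheme.{u}) (φ : V ⟶ Y) (n : ℕ), IsOpenImmersion φ ∧ y ∈ Set.range φ ∧
      IsSeparated (φ ≫ g) ∧ LiftBound (φ ≫ g) n := by
  obtain ⟨U, hU, hyU, -⟩ := TopologicalSpace.Opens.isBasis_iff_nbhd.1 Z.isBasis_affineOpens
    (TopologicalSpace.Opens.mem_top (g y))
  obtain ⟨V, hV, hyV, e⟩ := TopologicalSpace.Opens.isBasis_iff_nbhd.1 Y.isBasis_affineOpens
    (show y ∈ g ⁻¹ᵁ U from hyU)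
  have h := HasRingHomProperty.appLE @Etale g ‹_› ⟨U, hU⟩ ⟨V, hV⟩ e
  algebraize [(g.appLE U V e).hom]
  obtain ⟨f, hf, hst⟩ := Algebra.IsEtaleAt.exists_isStandardEtale (R := Γ(Z, U))
    (hV.primeIdealOf ⟨y, hyV⟩).asIdeal
  let B' := Localization.Away f
  let ι := CommRingCat.ofHom (algebraMap Γ(Y, V) B')
  have hι : IsOpenImmersion (Spec.map ι) :=
    inferInstanceAs (IsOpenImmersion (Spec.map (CommRingCat.ofHom (algebraMap Γ(Y, V) (Localization.Away f)))))
  let φ := Spec.map ι ≫ hV.fromSpec
  have hfac : φ ≫ g = Spec.map (CommRingCat.ofHom (algebraMap Γ(Z, U) B')) ≫ hU.fromSpec := by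
    have : CommRingCat.ofHom (algebraMap Γ(Z, U) B') = g.appLE U V e ≫ ι :=
      CommRingCat.hom_ext (IsScalarTower.algebraMap_eq Γ(Z, U) Γ(Y, V) B')
    rw [this, Spec.map_comp, Category.assoc, Category.assoc, hU.SpecMap_appLE_fromSpec g hV e]
  obtain ⟨P⟩ := hst.nonempty_standardEtalePresentation
  refine ⟨_, φ, P.f.natDegree, inferInstance, ?_, ?_, ?_⟩
  · have hr : hV.primeIdealOf ⟨y, hyV⟩ ∈ Set.range (PrimeSpectrum.comap (algebraMap Γ(Y, V) B')) := by
      rw [PrimeSpectrum.localization_away_comap_range B' f]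
      exact hf
    obtain ⟨z, hz⟩ := hr
    refine ⟨z, ?_⟩
    refine (Scheme.Hom.comp_apply _ _ _).trans ((congrArg (hV.fromSpec) ?_).trans
      (hV.fromSpec_primeIdealOf ⟨y, hyV⟩))
    exact hz
  · rw [hfac]
    infer_instance
  · intro K _ s t ht hinj
    refine liftBound_standardEtale P K (t 0 ≫ Spec.map (CommRingCat.ofHom (algebraMap Γ(Z, U) B'))) t (fun i => ?_)
      hinj
    rw [← cancel_mono hU.fromSpec, Category.assoc, Category.assoc, ← hfac, ht i, ← ht 0]

section

variable {Q : MorphismProperty (Over S)} (hQ : LocalQ Q)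
include hQ

/-- A property etale local on the source and smooth local on the base that survives composition
with open immersions survives composition with etale morphisms. -/
theorem LocalQ.postcomp_etale {X Y Z : Over S} (f : X ⟶ Y) (g : Y ⟶ Z) (hg : Etale g.left) (hf : Q f) :
    Q (f ≫ g) := by
  choose V φ n hφ hy hsep hn using fun x : X.left => exists_liftBound_nhd g.left (f.left x)
  let φ' : ∀ x, (Over.mk (φ x ≫ Y.hom) : Over S) ⟶ Y := fun x => Over.homMk (φ x) rfl
  have sq : ∀ x, IsPullback (pullback.fst f (φ' x)) (pullback.snd f (φ' x)) f (φ' x) :=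
    fun x => IsPullback.of_hasPullback _ _
  have ho : ∀ x, IsOpenImmersion (φ' x).left := hφ
  refine (hQ.source (fun x => Limits.pullback f (φ' x)) (fun x => pullback.fst f (φ' x)) (f ≫ g)
    (fun x => MorphismProperty.of_isPullback (isPullback_left (sq x)).flip
      (show Etale (φ' x).left from have := ho x; inferInstance)) fun x => ⟨x, ?_⟩).2 fun x => ?_
  · rw [range_fst_left (sq x)]
    exact hy x
  · rw [← Category.assoc, pullback.condition, Category.assoc]
    have := ho x
    refine hQ.postcomp_of_liftBound (n x) _ _ (inferInstanceAs (Etale (φ x ≫ g.left))) (hsep x) (hn x) ?_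
    exact hQ.baseChange f (φ' x) _ _ (sq x) inferInstance hf

end

section Affine

variable {A : CommRingCat.{u}} (σ : Spec A ⟶ S)

/-- An affine scheme over an affine scheme over `S`. -/
abbrev mkSpec (R : Type u) [CommRing R] [Algebra A R] : Over S :=
  Over.mk (Spec.map (CommRingCat.ofHom (algebraMap A R)) ≫ σ)

/-- The morphism defined by an algebra map. -/
def mkSpecHom {R R' : Type u} [CommRing R] [Algebra A R] [CommRing R'] [Algebra A R'] (ψ : R →ₐ[A] R') :
    mkSpec σ R' ⟶ mkSpec σ R :=
  Over.homMk (Spec.map (CommRingCat.ofHom ψ.toRingHom)) (by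
    simp only [Over.mk_hom]
    rw [← Category.assoc, ← Spec.map_comp]
    congr
    exact CommRingCat.hom_ext ψ.comp_algebraMap)

@[simp]
theorem mkSpecHom_left {R R' : Type u} [CommRing R] [Algebra A R] [CommRing R'] [Algebra A R']
    (ψ : R →ₐ[A] R') : (mkSpecHom σ ψ).left = Spec.map (CommRingCat.ofHom ψ.toRingHom) :=
  rfl

theorem mkSpecHom_comp {R R' R'' : Type u} [CommRing R] [Algebra A R] [CommRing R'] [Algebra A R']
    [CommRing R''] [Algebra A R''] (ψ : R →ₐ[A] R') (ψ' : R' →ₐ[A] R'') :
    mkSpecHom σ ψ' ≫ mkSpecHom σ ψ = mkSpecHom σ (ψ'.comp ψ) :=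
  Over.OverMorphism.ext (Spec.map_comp _ _).symm

/-- The structure morphism to the base. -/
abbrev mkSpecπ (R : Type u) [CommRing R] [Algebra A R] : mkSpec σ R ⟶ mkSpec σ A :=
  mkSpecHom σ (Algebra.ofId A R)

theorem mkSpecπ_left (R : Type u) [CommRing R] [Algebra A R] :
    (mkSpecπ σ R).left = Spec.map (CommRingCat.ofHom (algebraMap A R)) :=
  rfl

theorem mkSpecHom_π {R R' : Type u} [CommRing R] [Algebra A R] [CommRing R'] [Algebra A R']
    (ψ : R →ₐ[A] R') : mkSpecHom σ ψ ≫ mkSpecπ σ R = mkSpecπ σ R' := by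
  rw [mkSpecπ, mkSpecHom_comp]
  congr 1
  exact Subsingleton.elim _ _

attribute [local instance] MvPolynomial.algebraMvPolynomial in
theorem isPullback_mkSpec_mvPolynomial (R : Type u) [CommRing R] [Algebra A R] (d : ℕ) :
    IsPullback (mkSpecHom σ (IsScalarTower.toAlgHom A R (MvPolynomial (Fin d) R)))
      (mkSpecHom σ (MvPolynomial.mapAlgHom (σ := Fin d) (Algebra.ofId A R)))
      (mkSpecπ σ R) (mkSpecπ σ (MvPolynomial (Fin d) A)) := by
  refine IsPullback.of_map (Over.forget S) ((mkSpecHom_π σ _).trans (mkSpecHom_π σ _).symm) ?_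
  refine isPullback_SpecMap_of_isPushout _ _ _ _ ?_
  exact CommRingCat.isPushout_iff_isPushout.2
    (inferInstanceAs (Algebra.IsPushout A R (MvPolynomial (Fin d) A) (MvPolynomial (Fin d) R)))

end Affine


section Key

variable {Q : MorphismProperty (Over S)} (hQ : LocalQ Q)
variable {A : CommRingCat.{u}} (σ : Spec A ⟶ S)

/-- The polynomial `∏ (a_i - a_j)` whose invertibility makes the `a_i` pairwise distinct. -/
def confPoly (A : Type u) [CommRing A] (N d : ℕ) : MvPolynomial (Fin (N + 1) ⊕ Fin d) A :=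
  ∏ ij ∈ (Finset.univ : Finset (Fin (N + 1))).offDiag,
    (MvPolynomial.X (Sum.inl ij.1) - MvPolynomial.X (Sum.inl ij.2))

/-- The ring of `N + 1` distinct scalars and a point of affine `d`-space. -/
abbrev ConfRing (A : Type u) [CommRing A] (N d : ℕ) : Type u := Localization.Away (confPoly A N d)

/-- The translation `t_k ↦ t_k + a_{ν k}`. -/
def shiftEquiv (A : Type u) [CommRing A] {N d : ℕ} (ν : Fin d → Fin (N + 1)) :
    MvPolynomial (Fin (N + 1) ⊕ Fin d) A ≃ₐ[A] MvPolynomial (Fin (N + 1) ⊕ Fin d) A :=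
  AlgEquiv.ofAlgHom
    (MvPolynomial.aeval (Sum.elim (fun j => MvPolynomial.X (Sum.inl j))
      fun k => MvPolynomial.X (Sum.inr k) + MvPolynomial.X (Sum.inl (ν k))))
    (MvPolynomial.aeval (Sum.elim (fun j => MvPolynomial.X (Sum.inl j))
      fun k => MvPolynomial.X (Sum.inr k) - MvPolynomial.X (Sum.inl (ν k))))
    (by ext (j | k) <;> simp) (by ext (j | k) <;> simp)

/-- The map from the coordinate ring of affine `d`-space given by the translation `ν`. -/
def shiftHom (A : Type u) [CommRing A] {N d : ℕ} (ν : Fin d → Fin (N + 1)) :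
    MvPolynomial (Fin d) A →ₐ[A] ConfRing A N d :=
  ((IsScalarTower.toAlgHom A (MvPolynomial (Fin (N + 1) ⊕ Fin d) A) (ConfRing A N d)).comp
    (shiftEquiv A ν).toAlgHom).comp (MvPolynomial.rename Sum.inr)

theorem shiftHom_X (A : Type u) [CommRing A] {N d : ℕ} (ν : Fin d → Fin (N + 1)) (k : Fin d) :
    shiftHom A ν (MvPolynomial.X k) = algebraMap (MvPolynomial (Fin (N + 1) ⊕ Fin d) A) (ConfRing A N d)
      (MvPolynomial.X (Sum.inr k) + MvPolynomial.X (Sum.inl (ν k))) := by
  simp [shiftHom, shiftEquiv]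

theorem smooth_mvPolynomial (R : Type u) [CommRing R] (τ : Type*) [Finite τ] :
    Algebra.Smooth R (MvPolynomial τ R) :=
  ⟨inferInstance, inferInstance⟩

theorem smooth_confPoly (A : Type u) [CommRing A] (N d : ℕ) :
    Algebra.Smooth (MvPolynomial (Fin (N + 1) ⊕ Fin d) A) (ConfRing A N d) :=
  ⟨inferInstance, IsLocalization.Away.finitePresentation (confPoly A N d)⟩

theorem smooth_C (B : Type u) [CommRing B] (τ : Type*) [Finite τ] :
    (MvPolynomial.C : B →+* MvPolynomial τ B).Smooth :=
  RingHom.smooth_algebraMap.2 (smooth_mvPolynomial B τ)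

theorem smooth_rename_inr (A : Type u) [CommRing A] (N d : ℕ) :
    (MvPolynomial.rename (R := A) (Sum.inr : Fin d → Fin (N + 1) ⊕ Fin d)).toRingHom.Smooth := by
  have h : ∀ p, (MvPolynomial.sumRingEquiv A (Fin (N + 1)) (Fin d)).symm (MvPolynomial.C p) =
      MvPolynomial.rename (R := A) (Sum.inr : Fin d → Fin (N + 1) ⊕ Fin d) p := fun p => by
    induction p using MvPolynomial.induction_on with
    | C a => rw [MvPolynomial.sumRingEquiv_symm_C_C, MvPolynomial.rename_C]
    | add p q hp hq => simp only [map_add, hp, hq]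
    | mul_X p k hp => rw [map_mul, map_mul, map_mul, hp, MvPolynomial.sumRingEquiv_symm_C_X, MvPolynomial.rename_X]
  rw [show (MvPolynomial.rename (R := A) (Sum.inr : Fin d → Fin (N + 1) ⊕ Fin d)).toRingHom =
      (MvPolynomial.sumRingEquiv A (Fin (N + 1)) (Fin d)).symm.toRingHom.comp MvPolynomial.C from
      RingHom.ext fun p => (h p).symm]
  exact RingHom.Smooth.stableUnderComposition _ _ (smooth_C _ _)
    (RingHom.Smooth.of_bijective (MvPolynomial.sumRingEquiv A (Fin (N + 1)) (Fin d)).symm.bijective)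

theorem smooth_shiftHom (A : Type u) [CommRing A] {N d : ℕ} (ν : Fin d → Fin (N + 1)) :
    (shiftHom A ν).toRingHom.Smooth :=
  RingHom.Smooth.stableUnderComposition _ _ (smooth_rename_inr A N d) (RingHom.Smooth.stableUnderComposition _ _
    (RingHom.Smooth.of_bijective (f := (shiftEquiv A ν).toAlgHom.toRingHom) (shiftEquiv A ν).bijective)
    (RingHom.smooth_algebraMap.2 (smooth_confPoly A N d)))

theorem smooth_confRing (A : Type u) [CommRing A] (N d : ℕ) : Algebra.Smooth A (ConfRing A N d) :=
  have := smooth_confPoly A N d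
  have := smooth_mvPolynomial A (Fin (N + 1) ⊕ Fin d)
  Algebra.Smooth.comp A (MvPolynomial (Fin (N + 1) ⊕ Fin d) A) (ConfRing A N d)

theorem surjective_confRing (A : Type u) [CommRing A] (N d : ℕ) :
    Function.Surjective (PrimeSpectrum.comap (algebraMap A (ConfRing A N d))) := by
  intro p
  let K := AlgebraicClosure p.asIdeal.ResidueField
  let φ : A →+* K := (algebraMap p.asIdeal.ResidueField K).comp (algebraMap A p.asIdeal.ResidueField)
  have hker : RingHom.ker φ = p.asIdeal := by
    rw [RingHom.ker_comp_of_injective _ (algebraMap p.asIdeal.ResidueField K).injective,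
      Ideal.ker_algebraMap_residueField]
  let emb : Fin (N + 1) ↪ K := (Fin.valEmbedding).trans (Infinite.natEmbedding K)
  let Φ : MvPolynomial (Fin (N + 1) ⊕ Fin d) A →+* K := MvPolynomial.eval₂Hom φ (Sum.elim emb fun _ => 0)
  have hu : IsUnit (Φ (confPoly A N d)) := by
    rw [isUnit_iff_ne_zero, confPoly, map_prod, Finset.prod_ne_zero_iff]
    intro ij hij
    rw [Finset.mem_offDiag] at hij
    simp [Φ, sub_eq_zero, hij.2.2]
  let Ψ : ConfRing A N d →+* K := IsLocalization.Away.lift (confPoly A N d) hu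
  refine ⟨⟨RingHom.ker Ψ, RingHom.ker_isPrime Ψ⟩, PrimeSpectrum.ext ?_⟩
  change (RingHom.ker Ψ).comap _ = _
  rw [RingHom.comap_ker]
  refine Eq.trans ?_ hker
  congr 1
  ext a
  rw [RingHom.comp_apply, IsScalarTower.algebraMap_apply A (MvPolynomial (Fin (N + 1) ⊕ Fin d) A) (ConfRing A N d),
    IsLocalization.Away.lift_eq]
  simp [Φ]

theorem exists_eval_ne_zero {K : Type u} [Field K] {N d : ℕ} (p : MvPolynomial (Fin d) K) (hp : p ≠ 0)
    (hN : ∀ k, p.degreeOf k ≤ N) (t : Fin d → K) (a : Fin (N + 1) → K) (ha : Function.Injective a) :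
    ∃ ν : Fin d → Fin (N + 1), MvPolynomial.eval (fun k => t k + a (ν k)) p ≠ 0 := by
  classical
  by_contra h
  push Not at h
  refine hp (MvPolynomial.eq_zero_of_eval_zero_at_prod_finset p
    (fun k => Finset.univ.image fun j => t k + a j) (fun k => ?_) fun x hx => ?_)
  · rw [Finset.card_image_of_injective _ (fun i j hij => ha (add_left_cancel hij)), Finset.card_univ,
      Fintype.card_fin]
    exact Nat.lt_succ_of_le (hN k)
  · have hx' : ∀ k, ∃ j, t k + a j = x k := fun k => by simpa using hx k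
    choose ν hν using hx'
    rw [show x = fun k => t k + a (ν k) from funext fun k => (hν k).symm]
    exact h ν

include hQ

/-- The descent step over affine space. -/
theorem LocalQ.of_openPoly {R : Type u} [CommRing R] [Algebra A R] {d : ℕ} (h : MvPolynomial (Fin d) R)
    (m : Fin d →₀ ℕ) {D : Over S} (jD : D ⟶ mkSpec σ (MvPolynomial (Fin d) R)) (hjD : IsOpenImmersion jD.left)
    (hrange : ∀ z : PrimeSpectrum (MvPolynomial (Fin d) R), h ∉ z.asIdeal → z ∈ Set.range jD.left)
    (hD : Q (jD ≫ mkSpecHom σ (MvPolynomial.mapAlgHom (σ := Fin d) (Algebra.ofId A R))))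
    {O : Over S} (i : O ⟶ mkSpec σ R) (hi : IsOpenImmersion i.left)
    (hrangeO : ∀ z : PrimeSpectrum R, z ∈ Set.range i.left → h.coeff m ∉ z.asIdeal) :
    Q (i ≫ mkSpecπ σ R) := by
  let N := Finset.univ.sup fun k => h.degreeOf k
  let π' := mkSpecπ σ (ConfRing A N d)
  have sA := isPullback_mkSpec_mvPolynomial σ R d
  have sO : IsPullback (pullback.fst (i ≫ mkSpecπ σ R) π') (pullback.snd (i ≫ mkSpecπ σ R) π')
      (i ≫ mkSpecπ σ R) π' := IsPullback.of_hasPullback _ _
  have sR : IsPullback (pullback.fst (mkSpecπ σ R) π') (pullback.snd (mkSpecπ σ R) π') (mkSpecπ σ R) π' :=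
    IsPullback.of_hasPullback _ _
  have hπ : Smooth π'.left := by
    rw [mkSpecπ_left, HasRingHomProperty.Spec_iff (P := @Smooth)]
    exact RingHom.smooth_algebraMap.2 (smooth_confRing A N d)
  have hπs : Surjective π'.left := ⟨surjective_confRing A N d⟩
  refine hQ.descend _ π' _ _ sO hπ hπs ?_
  let inc : Limits.pullback (i ≫ mkSpecπ σ R) π' ⟶ Limits.pullback (mkSpecπ σ R) π' :=
    pullback.lift (pullback.fst _ _ ≫ i) (pullback.snd _ _) (by rw [Category.assoc, pullback.condition])
  have sinc : IsPullback (pullback.fst (i ≫ mkSpecπ σ R) π') inc i (pullback.fst (mkSpecπ σ R) π') := by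
    refine IsPullback.of_bot ?_ (pullback.lift_fst _ _ _).symm sR
    rw [pullback.lift_snd]
    exact sO
  let l : ∀ ν : Fin d → Fin (N + 1), Limits.pullback (mkSpecπ σ R) π' ⟶ mkSpec σ (MvPolynomial (Fin d) R) :=
    fun ν => sA.lift (pullback.fst _ _) (pullback.snd _ _ ≫ mkSpecHom σ (shiftHom A ν))
      (by rw [Category.assoc, mkSpecHom_π, pullback.condition])
  have sl : ∀ ν, IsPullback (l ν) (pullback.snd (mkSpecπ σ R) π')
      (mkSpecHom σ (MvPolynomial.mapAlgHom (σ := Fin d) (Algebra.ofId A R))) (mkSpecHom σ (shiftHom A ν)) := by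
    intro ν
    refine IsPullback.of_right ?_ (sA.lift_snd _ _ _) sA.flip.flip
    rw [sA.lift_fst, mkSpecHom_π]
    exact sR
  have hσ : ∀ ν : Fin d → Fin (N + 1), Smooth (mkSpecHom σ (shiftHom A ν)).left := by
    intro ν
    rw [mkSpecHom_left, HasRingHomProperty.Spec_iff (P := @Smooth)]
    exact smooth_shiftHom A ν
  have sD : ∀ ν, IsPullback (pullback.snd (l ν) jD) (pullback.fst (l ν) jD) jD (l ν) :=
    fun ν => (IsPullback.of_hasPullback _ _).flip
  have hDQ : ∀ ν, Q (pullback.fst (l ν) jD ≫ pullback.snd (mkSpecπ σ R) π') := fun ν =>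
    hQ.baseChange _ _ _ _ ((sD ν).paste_vert (sl ν)) (hσ ν) hD
  have hfst : ∀ ν, IsOpenImmersion (pullback.fst (l ν) jD).left := fun ν =>
    MorphismProperty.of_isPullback (isPullback_left (sD ν)) hjD
  have hinc : IsOpenImmersion inc.left := MorphismProperty.of_isPullback (isPullback_left sinc) hi
  have sE : ∀ ν, IsPullback (pullback.fst inc (pullback.fst (l ν) jD)) (pullback.snd inc (pullback.fst (l ν) jD))
      inc (pullback.fst (l ν) jD) := fun ν => IsPullback.of_hasPullback _ _
  refine (hQ.source (fun ν : ULift.{u} (Fin d → Fin (N + 1)) => Limits.pullback inc (pullback.fst (l ν.down) jD))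
    (fun ν => pullback.fst inc (pullback.fst (l ν.down) jD)) _ (fun ν => ?_) fun z => ?_).2 fun ν => ?_
  · have := hfst ν.down
    exact MorphismProperty.of_isPullback (isPullback_left (sE ν.down)).flip
      (inferInstanceAs (Etale (pullback.fst (l ν.down) jD).left))
  · let X'' := Limits.pullback (mkSpecπ σ R) π'
    let w : X''.left := inc.left z
    let K := X''.left.residueField w
    let s := X''.left.fromSpecResidueField w
    let χ : R →+* K := (Spec.preimage (s ≫ (pullback.fst (mkSpecπ σ R) π').left)).hom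
    let ξ : ConfRing A N d →+* K := (Spec.preimage (s ≫ (pullback.snd (mkSpecπ σ R) π').left)).hom
    have hcompat : χ.comp (algebraMap A R) = ξ.comp (algebraMap A (ConfRing A N d)) := by
      have := congrArg (fun φ => Spec.preimage (s ≫ φ)) (isPullback_left sR).w
      simp only [π', ← Category.assoc, mkSpecπ_left, Spec.preimage_comp, Spec.preimage_map] at this
      exact congrArg CommRingCat.Hom.hom this
    have hc : χ (h.coeff m) ≠ 0 := by
      refine fun h0 => hrangeO ((pullback.fst (mkSpecπ σ R) π').left w)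
        ⟨(pullback.fst (i ≫ mkSpecπ σ R) π').left z, ?_⟩ ?_
      · rw [← Scheme.Hom.comp_apply, ← Scheme.Hom.comp_apply]
        exact congrArg (fun φ => φ z) (isPullback_left sinc).w
      · have hpt : (pullback.fst (mkSpecπ σ R) π').left w =
            (PrimeSpectrum.comap χ) (IsLocalRing.closedPoint K) := by
          conv_lhs => rw [← X''.left.fromSpecResidueField_apply w (IsLocalRing.closedPoint K)]
          rw [← Scheme.Hom.comp_apply, ← Spec.map_preimage (s ≫ (pullback.fst (mkSpecπ σ R) π').left)]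
          rfl
        rw [hpt]
        show h.coeff m ∈ Ideal.comap χ (IsLocalRing.maximalIdeal K)
        rw [Ideal.mem_comap, h0]
        exact Ideal.zero_mem _
    have hinj : Function.Injective fun j : Fin (N + 1) =>
        ξ (algebraMap (MvPolynomial (Fin (N + 1) ⊕ Fin d) A) _ (MvPolynomial.X (Sum.inl j))) := by
      intro j j' hjj
      by_contra hne
      have hu : IsUnit (ξ (algebraMap (MvPolynomial (Fin (N + 1) ⊕ Fin d) A) _ (confPoly A N d))) :=
        (IsLocalization.Away.algebraMap_isUnit (confPoly A N d)).map ξ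
      simp only [confPoly, map_prod] at hu
      refine Finset.prod_ne_zero_iff.1 hu.ne_zero (j, j')
        (Finset.mem_offDiag.2 ⟨Finset.mem_univ _, Finset.mem_univ _, hne⟩) ?_
      rw [map_sub, map_sub, sub_eq_zero]
      exact hjj
    obtain ⟨ν, hν⟩ := exists_eval_ne_zero (N := N) (MvPolynomial.map χ h)
      (fun h0 => hc (by rw [← MvPolynomial.coeff_map, h0, MvPolynomial.coeff_zero]))
      (fun k => by
        refine le_trans ?_ (Finset.le_sup (f := fun k => h.degreeOf k) (Finset.mem_univ k))
        rw [MvPolynomial.degreeOf_eq_sup, MvPolynomial.degreeOf_eq_sup]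
        exact Finset.sup_mono (MvPolynomial.support_map_subset _ h))
      (fun k => ξ (algebraMap (MvPolynomial (Fin (N + 1) ⊕ Fin d) A) _ (MvPolynomial.X (Sum.inr k)))) _ hinj
    refine ⟨⟨ν⟩, ?_⟩
    rw [range_fst_left (sE ν), Set.mem_preimage, range_fst_left (sD ν).flip, Set.mem_preimage]
    let θ : MvPolynomial (Fin d) R →+* K := (Spec.preimage (s ≫ (l ν).left)).hom
    have hpt : (l ν).left w = (PrimeSpectrum.comap θ) (IsLocalRing.closedPoint K) := by
      conv_lhs => rw [← X''.left.fromSpecResidueField_apply w (IsLocalRing.closedPoint K)]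
      rw [← Scheme.Hom.comp_apply, ← Spec.map_preimage (s ≫ (l ν).left)]
      rfl
    show (l ν).left w ∈ _
    rw [hpt]
    refine hrange _ ?_
    show h ∉ Ideal.comap θ (IsLocalRing.maximalIdeal K)
    rw [Ideal.mem_comap, IsLocalRing.maximalIdeal_eq_bot, Ideal.mem_bot]
    have h1 : θ.comp MvPolynomial.C = χ := by
      have := congrArg (fun φ => Spec.preimage (s ≫ φ))
        (show (l ν).left ≫ (mkSpecHom σ (IsScalarTower.toAlgHom A R (MvPolynomial (Fin d) R))).left =
          (pullback.fst (mkSpecπ σ R) π').left from congrArg CommaMorphism.left (sA.lift_fst _ _ _))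
      simp only [← Category.assoc, mkSpecHom_left, Spec.preimage_comp, Spec.preimage_map] at this
      exact congrArg CommRingCat.Hom.hom this
    have h2 : ∀ k, θ (MvPolynomial.X k) = ξ (shiftHom A ν (MvPolynomial.X k)) := by
      intro k
      have := congrArg (fun φ => Spec.preimage (s ≫ φ))
        (show (l ν).left ≫ (mkSpecHom σ (MvPolynomial.mapAlgHom (σ := Fin d) (Algebra.ofId A R))).left =
          (pullback.snd (mkSpecπ σ R) π').left ≫ (mkSpecHom σ (shiftHom A ν)).left from
          congrArg CommaMorphism.left (sA.lift_snd _ _ _))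
      simp only [← Category.assoc, mkSpecHom_left, Spec.preimage_comp, Spec.preimage_map] at this
      have h3 := congrArg (fun φ => φ.hom (MvPolynomial.X k)) this
      simpa using h3
    have h4 : θ h = MvPolynomial.eval₂ χ (fun k => θ (MvPolynomial.X k)) h := by
      rw [← h1]
      conv_lhs => rw [← MvPolynomial.eval₂_eta h]
      exact MvPolynomial.eval₂_comp_left θ _ _ h
    rw [h4]
    simp only [h2, shiftHom_X, map_add]
    rw [← MvPolynomial.eval_map]
    exact hν
  · have := hinc
    have := hfst ν.down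
    have hsnd : Etale (pullback.snd inc (pullback.fst (l ν.down) jD)).left :=
      MorphismProperty.of_isPullback (isPullback_left (sE ν.down)) (inferInstanceAs (Etale inc.left))
    rw [show pullback.fst inc (pullback.fst (l ν.down) jD) ≫ pullback.snd (i ≫ mkSpecπ σ R) π' =
        pullback.snd inc (pullback.fst (l ν.down) jD) ≫ pullback.fst (l ν.down) jD ≫ pullback.snd _ _ by
      rw [← pullback.condition_assoc, pullback.lift_snd]]
    exact hQ.precomp _ _ hsnd (hDQ ν.down)

end Key


/-- A pullback over a monomorphism. -/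
theorem isPullback_of_comp_mono {C : Type*} [Category C] {P X Y Z Z' : C} {fst : P ⟶ X} {snd : P ⟶ Y}
    {f : X ⟶ Z} {g : Y ⟶ Z} (j : Z ⟶ Z') [Mono j] (h : IsPullback fst snd (f ≫ j) (g ≫ j)) :
    IsPullback fst snd f g := by
  have w : fst ≫ f = snd ≫ g := (cancel_mono j).1 (by rw [Category.assoc, Category.assoc, h.w])
  refine ⟨⟨w⟩, ⟨PullbackCone.IsLimit.mk w (fun c => h.lift c.fst c.snd (by rw [c.condition_assoc]))
    (fun c => h.lift_fst _ _ _) (fun c => h.lift_snd _ _ _) fun c l h1 h2 => h.hom_ext ?_ ?_⟩⟩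
  · rw [h.lift_fst, h1]
  · rw [h.lift_snd, h2]

/-- A morphism over `S` whose underlying morphism is a monomorphism. -/
theorem mono_of_left {X Y : Over S} (f : X ⟶ Y) [IsOpenImmersion f.left] : Mono f :=
  Over.mono_of_mono_left f

section Locality

variable {Q : MorphismProperty (Over S)} (hQ : LocalQ Q)
include hQ

theorem LocalQ.exists_open_of_smooth {X Y V W U : Over S} (f : X ⟶ Y) (b : V ⟶ Y) (p : W ⟶ X) (q : W ⟶ V)
    (e : U ⟶ W) (hb : Smooth b.left) (sq : IsPullback p q f b) (he : Etale e.left) (hh : Q (e ≫ q))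
    (u : U.left) :
    ∃ (O : Over S) (i : O ⟶ X), IsOpenImmersion i.left ∧ p.left (e.left u) ∈ Set.range i.left ∧ Q (i ≫ f) := by
  obtain ⟨U0, hU0, V0, hV0, hv, hle, hst⟩ := Smooth.exists_isStandardSmooth b.left (q.left (e.left u))
  let A := Γ(Y.left, U0)
  let σ : Spec A ⟶ S := hU0.fromSpec ≫ Y.hom
  -- the standard smooth chart
  let : Algebra A Γ(V.left, V0) := (b.left.appLE U0 V0 hle).hom.toAlgebra
  obtain ⟨d, g, hgC, hge⟩ := RingHom.IsStandardSmooth.exists_etale_mvPolynomial hst
  let gA : MvPolynomial (Fin d) A →ₐ[A] Γ(V.left, V0) :=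
    { g with commutes' := fun a => congrArg (fun φ => φ a) hgC }
  -- an affine neighbourhood in the source
  have hx : p.left (e.left u) ∈ f.left ⁻¹ᵁ U0 := by
    show f.left (p.left (e.left u)) ∈ U0
    rw [← Scheme.Hom.comp_apply, (isPullback_left sq).w, Scheme.Hom.comp_apply]
    exact hle hv
  obtain ⟨W0, hW0, hxW, hWle⟩ := TopologicalSpace.Opens.isBasis_iff_nbhd.1 X.left.isBasis_affineOpens hx
  let R := Γ(X.left, W0)
  let : Algebra A R := (f.left.appLE U0 W0 hWle).hom.toAlgebra
  let j : mkSpec σ A ⟶ Y := Over.homMk hU0.fromSpec (by simp [σ])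
  let k : mkSpec σ Γ(V.left, V0) ⟶ V := Over.homMk hV0.fromSpec (by
    show hV0.fromSpec ≫ V.hom = Spec.map (b.left.appLE U0 V0 hle) ≫ hU0.fromSpec ≫ Y.hom
    rw [← Category.assoc (Spec.map _), hU0.SpecMap_appLE_fromSpec b.left hV0 hle, Category.assoc, Over.w])
  let ιR : mkSpec σ R ⟶ X := Over.homMk hW0.fromSpec (by
    show hW0.fromSpec ≫ X.hom = Spec.map (f.left.appLE U0 W0 hWle) ≫ hU0.fromSpec ≫ Y.hom
    rw [← Category.assoc (Spec.map _), hU0.SpecMap_appLE_fromSpec f.left hW0 hWle, Category.assoc, Over.w])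
  have hkb : k ≫ b = mkSpecπ σ Γ(V.left, V0) ≫ j :=
    Over.OverMorphism.ext (hU0.SpecMap_appLE_fromSpec b.left hV0 hle).symm
  have hRf : ιR ≫ f = mkSpecπ σ R ≫ j :=
    Over.OverMorphism.ext (hU0.SpecMap_appLE_fromSpec f.left hW0 hWle).symm
  have hj : IsOpenImmersion j.left := inferInstanceAs (IsOpenImmersion hU0.fromSpec)
  have hk : IsOpenImmersion k.left := inferInstanceAs (IsOpenImmersion hV0.fromSpec)
  have hιR : IsOpenImmersion ιR.left := inferInstanceAs (IsOpenImmersion hW0.fromSpec)
  have : Mono j := mono_of_left j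
  have : Mono k := mono_of_left k
  let ε := mkSpecHom σ gA
  have hε : Etale ε.left := by
    rw [mkSpecHom_left, HasRingHomProperty.Spec_iff (P := @Etale)]
    exact hge
  -- the part of `W` over the two charts
  have s1 : IsPullback (pullback.fst p ιR) (pullback.snd p ιR) p ιR := IsPullback.of_hasPullback _ _
  have s2 : IsPullback (pullback.fst (pullback.fst p ιR ≫ q) k) (pullback.snd (pullback.fst p ιR ≫ q) k)
      (pullback.fst p ιR ≫ q) k := IsPullback.of_hasPullback _ _
  let a0 := pullback.fst (pullback.fst p ιR ≫ q) k ≫ pullback.snd p ιR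
  let v0 := pullback.snd (pullback.fst p ιR ≫ q) k
  let m := pullback.fst (pullback.fst p ιR ≫ q) k ≫ pullback.fst p ιR
  have s3 : IsPullback a0 v0 (mkSpecπ σ R) (mkSpecπ σ Γ(V.left, V0)) := by
    refine isPullback_of_comp_mono j ?_
    rw [← hRf, ← hkb]
    exact s2.paste_horiz (s1.flip.paste_vert sq) |>.flip.flip
  have hm : IsOpenImmersion m.left := by
    have h1 : IsOpenImmersion (pullback.fst (pullback.fst p ιR ≫ q) k).left :=
      MorphismProperty.of_isPullback (isPullback_left s2).flip hk
    have h2 : IsOpenImmersion (pullback.fst p ιR).left :=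
      MorphismProperty.of_isPullback (isPullback_left s1).flip hιR
    exact inferInstanceAs (IsOpenImmersion (_ ≫ _))
  -- the point and the morphism to affine space
  have s4 : IsPullback (pullback.fst e m) (pullback.snd e m) e m := IsPullback.of_hasPullback _ _
  have hu : u ∈ Set.range (pullback.fst e m).left := by
    rw [range_fst_left s4, Set.mem_preimage]
    have h1 : e.left u ∈ Set.range (pullback.fst p ιR).left := by
      rw [range_fst_left s1, Set.mem_preimage]
      show _ ∈ Set.range hW0.fromSpec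
      rw [hW0.range_fromSpec]
      exact hxW
    obtain ⟨w1, hw1⟩ := h1
    have h2 : w1 ∈ Set.range (pullback.fst (pullback.fst p ιR ≫ q) k).left := by
      rw [range_fst_left s2, Set.mem_preimage]
      show (q.left ((pullback.fst p ιR).left w1)) ∈ Set.range hV0.fromSpec
      rw [hw1, hV0.range_fromSpec]
      exact hv
    obtain ⟨w2, hw2⟩ := h2
    exact ⟨w2, ((Scheme.Hom.comp_apply _ _ _).trans (congrArg _ hw2)).trans hw1⟩
  obtain ⟨u1, hu1⟩ := hu
  have he1 : Etale (pullback.snd e m).left := MorphismProperty.of_isPullback (isPullback_left s4) he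
  have hQ1 : Q (pullback.snd e m ≫ v0) := by
    have h1 : Q ((pullback.snd e m ≫ v0) ≫ k) := by
      rw [show (pullback.snd e m ≫ v0) ≫ k = pullback.fst e m ≫ e ≫ q by
        rw [pullback.condition_assoc]
        simp only [m, v0, Category.assoc]
        rw [← s2.w]]
      exact hQ.precomp _ _ (MorphismProperty.of_isPullback (isPullback_left s4).flip
        (inferInstanceAs (Etale m.left))) hh
    refine hQ.baseChange _ k _ (𝟙 _) ?_ (inferInstanceAs (Smooth k.left)) h1
    exact ⟨⟨Category.id_comp _⟩, ⟨PullbackCone.IsLimit.mk _ (fun c => c.fst) (fun c => Category.comp_id _)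
      (fun c => (cancel_mono k).1 ((Category.assoc _ _ _).trans c.condition))
      fun c l h1 _ => (Category.comp_id l).symm.trans h1⟩⟩
  have hQ2 : Q ((pullback.snd e m ≫ v0) ≫ ε) := hQ.postcomp_etale _ ε hε hQ1
  have sA := isPullback_mkSpec_mvPolynomial σ R d
  let c : Limits.pullback (pullback.fst p ιR ≫ q) k ⟶ mkSpec σ (MvPolynomial (Fin d) R) :=
    sA.lift a0 (v0 ≫ ε) (s3.w.trans (by rw [Category.assoc, mkSpecHom_π]))
  have sc : IsPullback c v0 (mkSpecHom σ (MvPolynomial.mapAlgHom (σ := Fin d) (Algebra.ofId A R))) ε := by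
    refine IsPullback.of_right ?_ (sA.lift_snd _ _ _) sA
    rw [sA.lift_fst, mkSpecHom_π]
    exact s3
  have hc : Etale c.left := MorphismProperty.of_isPullback (isPullback_left sc).flip hε
  let c1 := pullback.snd e m ≫ c
  have hc1 : Etale c1.left := inferInstanceAs (Etale ((pullback.snd e m).left ≫ c.left))
  have hQ3 : Q (c1 ≫ mkSpecHom σ (MvPolynomial.mapAlgHom (σ := Fin d) (Algebra.ofId A R))) := by
    rw [show c1 ≫ mkSpecHom σ (MvPolynomial.mapAlgHom (σ := Fin d) (Algebra.ofId A R)) =
      (pullback.snd e m ≫ v0) ≫ ε by rw [Category.assoc, sA.lift_snd, ← Category.assoc]]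
    exact hQ2
  -- a basic open of affine space inside the image
  let w : PrimeSpectrum (MvPolynomial (Fin d) R) := c1.left u1
  obtain ⟨_, ⟨h, rfl⟩, hwh, hsub⟩ := PrimeSpectrum.isTopologicalBasis_basic_opens.exists_subset_of_mem_open
    (show w ∈ Set.range c1.left from ⟨u1, rfl⟩) c1.left.isOpenMap.isOpen_range
  obtain ⟨mm, hmm⟩ : ∃ mm, h.coeff mm ∉ w.asIdeal.comap MvPolynomial.C := by
    by_contra hall
    push Not at hall
    have : h ∈ Ideal.map (MvPolynomial.C : R →+* MvPolynomial (Fin d) R) (w.asIdeal.comap MvPolynomial.C) :=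
      MvPolynomial.mem_map_C_iff.2 hall
    exact hwh (Ideal.map_comap_le this)
  let jD : openOver (mkSpec σ (MvPolynomial (Fin d) R)) (PrimeSpectrum.basicOpen h) ⟶ _ :=
    openOverHom (mkSpec σ (MvPolynomial (Fin d) R)) (PrimeSpectrum.basicOpen h)
  have hjD : IsOpenImmersion jD.left := inferInstanceAs (IsOpenImmersion (Scheme.Opens.ι _))
  have z' : ∀ z, jD.left z ∈ PrimeSpectrum.basicOpen h := fun z => z.2
  have sU : IsPullback (pullback.fst c1 jD) (pullback.snd c1 jD) c1 jD := IsPullback.of_hasPullback _ _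
  have hD : Q (jD ≫ mkSpecHom σ (MvPolynomial.mapAlgHom (σ := Fin d) (Algebra.ofId A R))) := by
    refine (hQ.source (fun _ : PUnit.{u+1} => Limits.pullback c1 jD) (fun _ => pullback.snd c1 jD) _
      (fun _ => MorphismProperty.of_isPullback (isPullback_left sU) hc1) fun z => ⟨⟨⟩, ?_⟩).2 fun _ => ?_
    · rw [range_fst_left sU.flip, Set.mem_preimage]
      refine hsub ?_
      exact z' z
    · rw [← Category.assoc, ← sU.w, Category.assoc]
      exact hQ.precomp _ _ (MorphismProperty.of_isPullback (isPullback_left sU).flip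
        (inferInstanceAs (Etale jD.left))) hQ3
  let i := openOverHom (mkSpec σ R) (PrimeSpectrum.basicOpen (h.coeff mm))
  have hi : IsOpenImmersion i.left := inferInstanceAs (IsOpenImmersion (Scheme.Opens.ι _))
  have hQO := hQ.of_openPoly σ h mm jD hjD
    (fun z hz => by rw [range_openOverHom]; exact hz) hD i hi
    (fun z hz => by rw [range_openOverHom] at hz; exact hz)
  refine ⟨_, i ≫ ιR, inferInstanceAs (IsOpenImmersion (i.left ≫ ιR.left)), ?_, ?_⟩
  · have hwx : (mkSpecHom σ (IsScalarTower.toAlgHom A R (MvPolynomial (Fin d) R))).left w ∈ Set.range i.left := by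
      rw [range_openOverHom]
      exact hmm
    obtain ⟨z, hz⟩ := hwx
    refine ⟨z, (Scheme.Hom.comp_apply _ _ _).trans ?_⟩
    rw [hz, ← hu1]
    show ((c1 ≫ mkSpecHom σ (IsScalarTower.toAlgHom A R (MvPolynomial (Fin d) R))) ≫ ιR).left u1 =
      ((pullback.fst e m ≫ e) ≫ p).left u1
    congr 2
    simp only [c1, Category.assoc]
    rw [← Category.assoc c, sA.lift_fst, pullback.condition_assoc]
    simp only [a0, m, Category.assoc]
    rw [s1.w]
  · rw [Category.assoc, hRf, ← Category.assoc]
    exact hQ.postOpen _ _ hQO hj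

end Locality

end Groth.Agent.AlgSpLib
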