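import Groth.Agent.AlgSpLib.EtaleSmoothLocal
import Groth.Agent.AlgSpLib.ESLSmooth

/-!
# Criterion for a property to be etale-smooth local on source and target
-/

set_option backward.isDefEq.respectTransparency false
set_option backward.isDefEq.respectTransparency.types false

universe u

open CategoryTheory CategoryTheory.Limits AlgebraicGeometry Opposite AlgSp

namespace Groth.Agent.AlgSpLib

variable {S : Scheme.{u}} {P : MorphismProperty (Sp S)}

theorem surjective_points_yon {X : Over S} (x : Points ((yon S).obj X)) :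
    ∃ z : X.left, Points.ofPt (𝟙 _) z = x :=
  surjective_ofPt (repWith_of_isIso @Surjective (𝟙 _)) x

theorem isSmCover_yon {ι : Type u} {Y : Over S} {V : ι → Over S} (b : ∀ i, V i ⟶ Y)
    (hb : ∀ i, Smooth (b i).left) (hs : ∀ y : Y.left, ∃ i, y ∈ Set.range (b i).left) :
    IsSmCover (fun i => (yon S).obj (V i)) (fun i => (yon S).map (b i)) := by
  refine ⟨fun i => locP_of_repWith ((repWith_yon_map_iff _ _).2 (hb i)), fun x => ?_⟩
  obtain ⟨y, rfl⟩ := surjective_points_yon x
  obtain ⟨i, v, rfl⟩ := hs y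
  refine ⟨i, Points.ofPt (𝟙 _) v, ?_⟩
  rw [Points.map_ofPt, ← ofPt_comp, Category.id_comp, Category.comp_id]

theorem isEtCover_yon {ι : Type u} {Y : Over S} {V : ι → Over S} (b : ∀ i, V i ⟶ Y)
    (hb : ∀ i, Etale (b i).left) (hs : ∀ y : Y.left, ∃ i, y ∈ Set.range (b i).left) :
    IsEtCover (fun i => (yon S).obj (V i)) (fun i => (yon S).map (b i)) :=
  ⟨fun i => (isEtaleMor_yon_map_iff _).2 (hb i),
    (isSmCover_yon b (fun i => have := hb i; inferInstance) hs).2⟩

theorem localQ_of_local (h1 : IsLocalOnSource (IsEtCover (S := S)) P) (h2 : IsLocalOnBase (IsSmCover (S := S)) P)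
    (h3 : ∀ ⦃X Y Z : Sp S⦄, IsAlgSpace X → IsAlgSpace Y → IsAlgSpace Z → ∀ (f : X ⟶ Y) (j : Y ⟶ Z),
      P f → RepWith @IsOpenImmersion j → P (f ≫ j)) :
    LocalQ (P.inverseImage (yon S)) where
  source {ι X Y} U a f ha hs := by
    have h := h1 (fun i => (yon S).obj (U i)) (fun i => (yon S).map (a i)) (IsAlgSpace.yon_obj X)
      (fun i => IsAlgSpace.yon_obj (U i)) (isEtCover_yon a ha hs) ((yon S).map f) (IsAlgSpace.yon_obj Y)
    simp only [MorphismProperty.inverseImage_iff, Functor.map_comp]
    exact h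
  base {ι X Y} V b f W p q hb hs sq :=
    h2 (fun i => (yon S).obj (V i)) (fun i => (yon S).map (b i)) (IsAlgSpace.yon_obj Y)
      (fun i => IsAlgSpace.yon_obj (V i)) (isSmCover_yon b hb hs) ((yon S).map f) (IsAlgSpace.yon_obj X)
      (fun i => (yon S).obj (W i)) (fun i => (yon S).map (p i)) (fun i => (yon S).map (q i))
      (fun i => IsAlgSpace.yon_obj (W i)) fun i => (sq i).map (yon S)
  postOpen {X Y Z} f j hf hj := by
    simp only [MorphismProperty.inverseImage_iff, Functor.map_comp]
    exact h3 (IsAlgSpace.yon_obj X) (IsAlgSpace.yon_obj Y) (IsAlgSpace.yon_obj Z) _ _ hf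
      ((repWith_yon_map_iff _ _).2 hj)

theorem precomp_of_localOnSource (h1 : IsLocalOnSource (IsEtCover (S := S)) P) ⦃X Y Z : Sp S⦄
    (hX : IsAlgSpace X) (hY : IsAlgSpace Y) (hZ : IsAlgSpace Z) (f : X ⟶ Y) (g : Y ⟶ Z) (hf : IsEtaleMor f)
    (hg : P g) : P (f ≫ g) := by
  let W : ULift.{u} Bool → Sp S := fun b => Bool.rec Y X b.down
  let q : ∀ b, W b ⟶ Y := fun b => Bool.rec (motive := fun b => (Bool.rec Y X b : Sp S) ⟶ Y) (𝟙 Y) f b.down
  have hW : ∀ b, IsAlgSpace (W b) := fun ⟨b⟩ => by cases b; exacts [hY, hX]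
  have hq : IsEtCover W q :=
    ⟨fun ⟨b⟩ => by cases b; exacts [isEtaleMor_of_isIso (𝟙 Y), hf], fun y => ⟨⟨false⟩, y, Points.map_id y⟩⟩
  exact (h1 W q hY hW hq g hZ).1 hg ⟨true⟩

theorem baseChange_of_localOnBase (h2 : IsLocalOnBase (IsSmCover (S := S)) P) ⦃X Y X' Y' : Sp S⦄
    (hX : IsAlgSpace X) (hY : IsAlgSpace Y) (hX' : IsAlgSpace X') (hY' : IsAlgSpace Y') (f : X ⟶ Y)
    (g : Y' ⟶ Y) (f' : X' ⟶ Y') (g' : X' ⟶ X) (sq : IsPullback g' f' f g) (hg : LocP @Smooth g) (hf : P f) :
    P f' := by
  let W : ULift.{u} Bool → Sp S := fun b => Bool.rec Y Y' b.down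
  let W' : ULift.{u} Bool → Sp S := fun b => Bool.rec X X' b.down
  let k : ∀ b, W b ⟶ Y := fun b => Bool.rec (motive := fun b => (Bool.rec Y Y' b : Sp S) ⟶ Y) (𝟙 Y) g b.down
  let p : ∀ b, W' b ⟶ W b := fun b =>
    Bool.rec (motive := fun b => (Bool.rec X X' b : Sp S) ⟶ (Bool.rec Y Y' b : Sp S)) f f' b.down
  let q : ∀ b, W' b ⟶ X := fun b => Bool.rec (motive := fun b => (Bool.rec X X' b : Sp S) ⟶ X) (𝟙 X) g' b.down
  have hk : IsSmCover W k :=
    ⟨fun ⟨b⟩ => by cases b; exacts [locP_smooth_of_isIso (𝟙 Y), hg], fun y => ⟨⟨false⟩, y, Points.map_id y⟩⟩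
  refine (h2 W k hY (fun ⟨b⟩ => by cases b; exacts [hY, hY']) hk f hX W' p q
    (fun ⟨b⟩ => by cases b; exacts [hX, hX']) fun ⟨b⟩ => ?_).1 hf ⟨true⟩
  cases b
  · exact IsPullback.of_horiz_isIso ⟨(Category.id_comp f).trans (Category.comp_id f).symm⟩
  · exact sq

/-- Etale locality on the source, smooth locality on the base and stability under composition with open
immersions imply etale-smooth locality on source and target. -/
theorem isEtaleSmoothLocalST_of_local (h1 : IsLocalOnSource (IsEtCover (S := S)) P)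
    (h2 : IsLocalOnBase (IsSmCover (S := S)) P)
    (h3 : ∀ ⦃X Y Z : Sp S⦄, IsAlgSpace X → IsAlgSpace Y → IsAlgSpace Z → ∀ (f : X ⟶ Y) (j : Y ⟶ Z),
      P f → RepWith @IsOpenImmersion j → P (f ≫ j)) : IsEtaleSmoothLocalST P where
  precomp := precomp_of_localOnSource h1
  baseChange := baseChange_of_localOnBase h2
  locality X Y hX hY f := by
    refine ⟨fun hf x => ⟨Y, X, X, 𝟙 Y, 𝟙 X, f, 𝟙 X, x, hY, hX, hX, locP_smooth_of_isIso _,
      IsPullback.of_horiz_isIso ⟨(Category.id_comp f).trans (Category.comp_id f).symm⟩, isEtaleMor_of_isIso _,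
      by rw [Category.id_comp, Points.map_id], by rw [Category.id_comp]; exact hf⟩, fun h => ?_⟩
    obtain ⟨Y1, b1, hb, hb'⟩ := hY.atlas
    obtain ⟨U1, a₁, h0, ha₁, ha₁', w₁⟩ := exists_chart_over hX hY f b1
    let a : (yon S).obj U1 ⟶ X := a₁ ≫ pullback.fst f b1
    have ha : RepWith @Etale a := repWith_comp ha₁ (repWith_fst f hb)
    have w : a ≫ f = (yon S).map h0 ≫ b1 := by rw [Category.assoc, pullback.condition, ← Category.assoc, w₁]
    have hU1 : IsAlgSpace ((yon S).obj U1) := IsAlgSpace.yon_obj U1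
    have hY1 : IsAlgSpace ((yon S).obj Y1) := IsAlgSpace.yon_obj Y1
    have hQ := localQ_of_local h1 h2 h3
    -- reduce to the chart
    suffices hkey : P ((yon S).map h0) by
      have hX1 : IsAlgSpace (pullback f b1) := isAlgSpace_pullback hX hY1 hY f b1
      have hbs : LocP @Smooth b1 := locP_smooth_of_isEtaleMor (isEtaleMor_of_repWith hb)
      refine (h2 (fun _ : PUnit.{u+1} => (yon S).obj Y1) (fun _ => b1) hY (fun _ => hY1)
        ⟨fun _ => hbs, fun y => ⟨⟨⟩, surjective_map_of_repWith hb' y⟩⟩ f hX (fun _ => pullback f b1)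
        (fun _ => pullback.snd f b1) (fun _ => pullback.fst f b1) (fun _ => hX1)
        fun _ => IsPullback.of_hasPullback f b1).2 fun _ => ?_
      refine (h1 (fun _ : PUnit.{u+1} => (yon S).obj U1) (fun _ => a₁) hX1 (fun _ => hU1)
        ⟨fun _ => isEtaleMor_of_repWith ha₁, fun y => ⟨⟨⟩, surjective_map_of_repWith ha₁' y⟩⟩ _ hY1).2 fun _ => ?_
      rw [w₁]
      exact hkey
    -- locally on the chart
    have hloc : ∀ t : U1.left, ∃ (O : Over S) (i : O ⟶ U1), IsOpenImmersion i.left ∧ t ∈ Set.range i.left ∧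
        P.inverseImage (yon S) (i ≫ h0) := by
      intro t
      obtain ⟨V, W, U, b, p, q, e, v, hV, hW, hU, hbsm, sq, he, hv, hP⟩ := h (Points.ofPt a t)
      let N := pullback b b1
      have hN : IsAlgSpace N := isAlgSpace_pullback hV hY1 hY b b1
      obtain ⟨V', a0, ha0, ha0'⟩ := hN.atlas
      let g : V' ⟶ Y1 := (yon S).preimage (a0 ≫ pullback.snd b b1)
      have hg' : (yon S).map g = a0 ≫ pullback.snd b b1 := (yon S).map_preimage _
      have hg : Smooth g.left := by
        refine (locP_of_isPullback (IsPullback.of_hasPullback b b1) hV hY hY1 hbsm) a0 (𝟙 _) g ha0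
          (repWith_id _ _) ?_
        rw [Category.comp_id, hg']
      let d : (yon S).obj V' ⟶ V := a0 ≫ pullback.fst b b1
      have hd : IsEtaleMor d := isEtaleMor_comp (IsAlgSpace.yon_obj V') hN hV (isEtaleMor_of_repWith ha0)
        (isEtaleMor_of_repWith (repWith_fst b hb))
      -- the fibre product of schemes and its map to `W`
      let Wc := Limits.pullback h0 g
      have sWc : IsPullback ((yon S).map (pullback.fst h0 g)) ((yon S).map (pullback.snd h0 g))
          ((yon S).map h0) ((yon S).map g) := (IsPullback.of_hasPullback h0 g).map (yon S)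
      let M := pullback a p
      have sM : IsPullback (pullback.fst a p) (pullback.snd a p) a p := IsPullback.of_hasPullback a p
      have sM' : IsPullback (pullback.fst a p) (pullback.snd a p ≫ q) (a ≫ f) b := sM.paste_vert sq
      let n : M ⟶ N := pullback.lift (pullback.snd a p ≫ q) (pullback.fst a p ≫ (yon S).map h0) (by
        rw [Category.assoc, Category.assoc, ← w, ← sq.w, pullback.condition_assoc])
      have sN : IsPullback (pullback.fst a p) n ((yon S).map h0) (pullback.snd b b1) := by
        refine IsPullback.of_bot ?_ (pullback.lift_snd _ _ _).symm (IsPullback.of_hasPullback b b1).flip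
        rw [pullback.lift_fst, ← w]
        exact sM'
      let ω : (yon S).obj Wc ⟶ M := sN.lift ((yon S).map (pullback.fst h0 g))
        ((yon S).map (pullback.snd h0 g) ≫ a0) (by rw [Category.assoc, ← hg', sWc.w])
      have sω : IsPullback ω ((yon S).map (pullback.snd h0 g)) n a0 := by
        refine IsPullback.of_right ?_ (sN.lift_snd _ _ _) sN
        rw [sN.lift_fst, ← hg']
        exact sWc
      let mW : (yon S).obj Wc ⟶ W := ω ≫ pullback.snd a p
      have hM : IsAlgSpace M := isAlgSpace_pullback hU1 hW hX a p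
      have hWc : IsAlgSpace ((yon S).obj Wc) := IsAlgSpace.yon_obj Wc
      have hmW : IsEtaleMor mW := isEtaleMor_comp hWc hM hW
        (isEtaleMor_of_repWith (repWith_of_isPullback sω.flip ha0))
        (isEtaleMor_of_repWith (repWith_snd p ha))
      -- the etale scheme over the fibre product
      have hPe : IsAlgSpace (pullback e mW) := isAlgSpace_pullback hU hWc hW e mW
      obtain ⟨U2, a2, ha2, ha2'⟩ := hPe.atlas
      let e2 : U2 ⟶ Wc := (yon S).preimage (a2 ≫ pullback.snd e mW)
      have he2' : (yon S).map e2 = a2 ≫ pullback.snd e mW := (yon S).map_preimage _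
      have he2 : Etale e2.left := by
        refine (isEtaleMor_yon_map_iff _).1 ?_
        rw [he2']
        exact isEtaleMor_comp (IsAlgSpace.yon_obj U2) hPe hWc (isEtaleMor_of_repWith ha2)
          (isEtaleMor_of_isPullback (IsPullback.of_hasPullback e mW) hU hW hWc he)
      let r : (yon S).obj U2 ⟶ U := a2 ≫ pullback.fst e mW
      have hr : IsEtaleMor r := isEtaleMor_comp (IsAlgSpace.yon_obj U2) hPe hU (isEtaleMor_of_repWith ha2)
        (isEtaleMor_of_isPullback (IsPullback.of_hasPullback e mW).flip hWc hW hU hmW)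
      have hQ2 : P.inverseImage (yon S) (e2 ≫ pullback.snd h0 g) := by
        simp only [MorphismProperty.inverseImage_iff]
        refine of_comp_et (precomp_of_localOnSource h1) (baseChange_of_localOnBase h2) (IsAlgSpace.yon_obj U2)
          (IsAlgSpace.yon_obj V') hV _ d hd ?_
        have heq : (yon S).map (e2 ≫ pullback.snd h0 g) ≫ d = r ≫ e ≫ q := by
          simp only [Functor.map_comp, Category.assoc, d, r, he2']
          rw [pullback.condition_assoc]
          simp only [mW, Category.assoc]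
          rw [show pullback.snd a p ≫ q = n ≫ pullback.fst b b1 from (pullback.lift_fst _ _ _).symm,
            reassoc_of% sω.w]
        rw [heq]
        exact precomp_of_localOnSource h1 (IsAlgSpace.yon_obj U2) hU hV r _ hr hP
      -- a point of `U2` over `t`
      obtain ⟨z, hz1, hz2⟩ := exists_point_of_isPullback sM
        (show Points.map a (Points.ofPt (𝟙 _) t) = Points.map p (Points.map e v) by
          rw [← Points.map_comp, hv, Points.map_ofPt, Category.id_comp])
      obtain ⟨v', hv'⟩ := surjective_map_of_repWith ha0' (Points.map n z)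
      obtain ⟨z', hz', -⟩ := exists_point_of_isPullback sω hv'.symm
      obtain ⟨z'', -, hz''⟩ := exists_point_of_isPullback (IsPullback.of_hasPullback e mW)
        (show Points.map e v = Points.map mW z' by rw [Points.map_comp, hz', hz2])
      obtain ⟨u2, hu2⟩ := surjective_ofPt ha2' z''
      obtain ⟨O, i, hi, hO, hQO⟩ := hQ.exists_open_of_smooth h0 g (pullback.fst h0 g) (pullback.snd h0 g) e2 hg
        (IsPullback.of_hasPullback h0 g) he2 hQ2 u2
      refine ⟨O, i, hi, ?_, hQO⟩
      have ht : Points.ofPt ((yon S).map (e2 ≫ pullback.fst h0 g)) u2 = Points.ofPt (𝟙 _) t := by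
        rw [Functor.map_comp, he2', Category.assoc, ← Points.map_ofPt, hu2, Points.map_comp, hz'', ← hz1, ← hz',
          ← Points.map_comp, sN.lift_fst]
      rw [← Category.comp_id ((yon S).map (e2 ≫ pullback.fst h0 g)), ofPt_comp] at ht
      have hinj : t = (pullback.fst h0 g).left (e2.left u2) := by
        have := congrArg (Points.toScheme U1) ht
        rw [Points.ofPt_eq_map_ofScheme, Points.ofPt_eq_map_ofScheme, Points.map_id, Points.map_id,
          Points.toScheme_ofScheme, Points.toScheme_ofScheme] at this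
        exact this.symm
      rw [hinj]
      exact hO
    choose O i hi hO hQO using hloc
    refine (hQ.source O i h0 (fun t => ?_) fun t => ⟨t, hO t⟩).2 hQO
    have := hi t
    exact inferInstanceAs (Etale (i t).left)

end Groth.Agent.AlgSpLib
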