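import Mathlib

/-!
# Properties of morphisms of schemes etale local on the source and smooth local on the base

If such a property survives composition with open immersions, it survives composition with etale
morphisms, and it is etale-smooth local on source and target.
-/

set_option backward.isDefEq.respectTransparency false
set_option backward.isDefEq.respectTransparency.types false

universe u

open CategoryTheory CategoryTheory.Limits AlgebraicGeometry

namespace Groth.Agent.AlgSpLib

variable {S : Scheme.{u}}

/-- Local properties of morphisms of schemes over `S`. -/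
structure LocalQ (Q : MorphismProperty (Over S)) : Prop where
  source : ∀ {ι : Type u} {X Y : Over S} (U : ι → Over S) (a : ∀ i, U i ⟶ X) (f : X ⟶ Y),
    (∀ i, Etale (a i).left) → (∀ x : X.left, ∃ i, x ∈ Set.range (a i).left) → (Q f ↔ ∀ i, Q (a i ≫ f))
  base : ∀ {ι : Type u} {X Y : Over S} (V : ι → Over S) (b : ∀ i, V i ⟶ Y) (f : X ⟶ Y) (W : ι → Over S)
    (p : ∀ i, W i ⟶ V i) (q : ∀ i, W i ⟶ X), (∀ i, Smooth (b i).left) →
    (∀ y : Y.left, ∃ i, y ∈ Set.range (b i).left) → (∀ i, IsPullback (q i) (p i) f (b i)) →
    (Q f ↔ ∀ i, Q (p i))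
  postOpen : ∀ {X Y Z : Over S} (f : X ⟶ Y) (j : Y ⟶ Z), Q f → IsOpenImmersion j.left → Q (f ≫ j)

/-- The underlying pullback square of schemes. -/
theorem isPullback_left {P X Y Z : Over S} {fst : P ⟶ X} {snd : P ⟶ Y} {f : X ⟶ Z} {g : Y ⟶ Z}
    (sq : IsPullback fst snd f g) : IsPullback fst.left snd.left f.left g.left :=
  sq.map (Over.forget S)

theorem range_fst_left {P X Y Z : Over S} {fst : P ⟶ X} {snd : P ⟶ Y} {f : X ⟶ Z} {g : Y ⟶ Z}
    (sq : IsPullback fst snd f g) : Set.range fst.left = f.left ⁻¹' Set.range g.left := by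
  ext x
  constructor
  · rintro ⟨p, rfl⟩
    refine ⟨snd.left p, ?_⟩
    rw [← Scheme.Hom.comp_apply, ← Scheme.Hom.comp_apply, (isPullback_left sq).w]
  · rintro ⟨y, hy⟩
    obtain ⟨p, hp, -⟩ := Scheme.exists_preimage_of_isPullback (isPullback_left sq) x y hy.symm
    exact ⟨p, hp⟩

/-- The open subscheme as an object over `S`. -/
abbrev openOver (X : Over S) (U : X.left.Opens) : Over S := Over.mk (U.ι ≫ X.hom)

/-- The inclusion of an open subscheme over `S`. -/
abbrev openOverHom (X : Over S) (U : X.left.Opens) : openOver X U ⟶ X := Over.homMk U.ι rfl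

theorem range_openOverHom (X : Over S) (U : X.left.Opens) : Set.range (openOverHom X U).left = (U : Set X.left) :=
  U.range_ι

section Basic

variable {Q : MorphismProperty (Over S)} (hQ : LocalQ Q)
include hQ

theorem LocalQ.precomp {X' X Y : Over S} (a : X' ⟶ X) (f : X ⟶ Y) (ha : Etale a.left) (hf : Q f) :
    Q (a ≫ f) := by
  let U : ULift.{u} Bool → Over S := fun b => Bool.rec X X' b.down
  let k : ∀ b, U b ⟶ X := fun b => Bool.rec (motive := fun b => (Bool.rec X X' b : Over S) ⟶ X) (𝟙 X) a b.down
  refine (hQ.source U k f (fun ⟨b⟩ => ?_) fun x => ⟨⟨false⟩, x, rfl⟩).1 hf ⟨true⟩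
  cases b
  · exact inferInstanceAs (Etale (𝟙 X.left))
  · exact ha

theorem LocalQ.baseChange {X Y X' Y' : Over S} (f : X ⟶ Y) (g : Y' ⟶ Y) (f' : X' ⟶ Y') (g' : X' ⟶ X)
    (sq : IsPullback g' f' f g) (hg : Smooth g.left) (hf : Q f) : Q f' := by
  let V : ULift.{u} Bool → Over S := fun b => Bool.rec Y Y' b.down
  let W : ULift.{u} Bool → Over S := fun b => Bool.rec X X' b.down
  let k : ∀ b, V b ⟶ Y := fun b => Bool.rec (motive := fun b => (Bool.rec Y Y' b : Over S) ⟶ Y) (𝟙 Y) g b.down
  let p : ∀ b, W b ⟶ V b := fun b =>
    Bool.rec (motive := fun b => (Bool.rec X X' b : Over S) ⟶ (Bool.rec Y Y' b : Over S)) f f' b.down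
  let q : ∀ b, W b ⟶ X := fun b => Bool.rec (motive := fun b => (Bool.rec X X' b : Over S) ⟶ X) (𝟙 X) g' b.down
  refine (hQ.base V k f W p q (fun ⟨b⟩ => ?_) (fun y => ⟨⟨false⟩, y, rfl⟩) fun ⟨b⟩ => ?_).1 hf ⟨true⟩
  · cases b
    · exact inferInstanceAs (Smooth (𝟙 Y.left))
    · exact hg
  · cases b
    · exact IsPullback.of_horiz_isIso ⟨(Category.id_comp f).trans (Category.comp_id f).symm⟩
    · exact sq

theorem LocalQ.of_isEmpty {X Y : Over S} (f : X ⟶ Y) [IsEmpty X.left] : Q f :=
  (hQ.source (fun e : PEmpty.{u+1} => e.elim) (fun e => e.elim) f (fun e => e.elim)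
    (fun x => isEmptyElim x)).2 fun e => e.elim

theorem LocalQ.of_iso {X' X Y : Over S} (a : X' ≅ X) (f : X ⟶ Y) : Q (a.hom ≫ f) ↔ Q f := by
  refine ⟨fun h => ?_, fun h => hQ.precomp _ _ inferInstance h⟩
  simpa using hQ.precomp a.inv _ inferInstance h

theorem LocalQ.descend {X Y V W : Over S} (f : X ⟶ Y) (b : V ⟶ Y) (q : W ⟶ X) (p : W ⟶ V)
    (sq : IsPullback q p f b) (hb : Smooth b.left) (hs : Surjective b.left) (hp : Q p) : Q f :=
  (hQ.base (fun _ : PUnit.{u+1} => V) (fun _ => b) f (fun _ => W) (fun _ => p) (fun _ => q) (fun _ => hb)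
    (fun y => ⟨⟨⟩, hs.surj y⟩) fun _ => sq).2 fun _ => hp

end Basic

section Etale

/-- `g` has at most `n` lifts of every field point. -/
def LiftBound {Y Z : Scheme.{u}} (g : Y ⟶ Z) (n : ℕ) : Prop :=
  ∀ (K : Type u) [Field K] (s : Spec (CommRingCat.of K) ⟶ Z) (t : Fin (n + 1) → (Spec (CommRingCat.of K) ⟶ Y)),
    (∀ i, t i ≫ g = s) → ¬ Function.Injective t

theorem isEmpty_of_liftBound_zero {Y Z : Scheme.{u}} {g : Y ⟶ Z} (h : LiftBound g 0) : IsEmpty Y :=
  ⟨fun y => h (Y.residueField y) (Y.fromSpecResidueField y ≫ g) (fun _ => Y.fromSpecResidueField y)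
    (fun _ => rfl) (fun i j _ => Fin.ext (by omega))⟩

variable {Q : MorphismProperty (Over S)} (hQ : LocalQ Q)
include hQ

theorem LocalQ.postcomp_of_liftBound : ∀ (n : ℕ) {X Y Z : Over S} (f : X ⟶ Y) (g : Y ⟶ Z),
    Etale g.left → IsSeparated g.left → LiftBound g.left n → Q f → Q (f ≫ g)
  | 0, X, Y, Z, f, g, _, _, hn, _ => by
    have := isEmpty_of_liftBound_zero hn
    have : IsEmpty X.left := Function.isEmpty f.left
    exact hQ.of_isEmpty _
  | n + 1, X, Y, Z, f, g, he, hsep, hn, hf => by
    have key : ∀ {Z : Over S} (g : Y ⟶ Z), Etale g.left → IsSeparated g.left → LiftBound g.left (n + 1) →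
        Surjective g.left → Q (f ≫ g) := by
      clear hn hsep he g
      intro Z g he hsep hn hs
      let Pp := Limits.pullback g g
      have sP : IsPullback (pullback.fst g g) (pullback.snd g g) g g := IsPullback.of_hasPullback g g
      let Δ : Y ⟶ Pp := pullback.lift (𝟙 Y) (𝟙 Y) rfl
      have hΔ1 : Δ.left ≫ (pullback.fst g g).left = 𝟙 Y.left := by
        rw [← Over.comp_left, pullback.lift_fst, Over.id_left]
      have hΔ2 : Δ.left ≫ (pullback.snd g g).left = 𝟙 Y.left := by
        rw [← Over.comp_left, pullback.lift_snd, Over.id_left]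
      have hfe : Etale (pullback.fst g g).left :=
        MorphismProperty.of_isPullback (isPullback_left sP).flip he
      have hfs : IsSeparated (pullback.fst g g).left :=
        MorphismProperty.of_isPullback (isPullback_left sP).flip hsep
      have hse : Etale (pullback.snd g g).left := MorphismProperty.of_isPullback (isPullback_left sP) he
      have hss : IsSeparated (pullback.snd g g).left := MorphismProperty.of_isPullback (isPullback_left sP) hsep
      have : Etale (Δ.left ≫ (pullback.fst g g).left) := by rw [hΔ1]; infer_instance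
      have hΔe : Etale Δ.left := Etale.of_comp Δ.left (pullback.fst g g).left
      have : IsClosedImmersion (Δ.left ≫ (pullback.fst g g).left) := by rw [hΔ1]; infer_instance
      have hΔc : IsClosedImmersion Δ.left := IsClosedImmersion.of_comp Δ.left (pullback.fst g g).left
      let R : Pp.left.Opens := ⟨(Set.range Δ.left)ᶜ, Δ.left.isClosedEmbedding.isClosed_range.isOpen_compl⟩
      let r := openOverHom Pp R
      let ρ : openOver Pp R ⟶ Y := r ≫ pullback.snd g g
      let ρ₁ : openOver Pp R ⟶ Y := r ≫ pullback.fst g g
      have hr : IsOpenImmersion r.left := inferInstanceAs (IsOpenImmersion R.ι)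
      have hρe : Etale ρ.left := inferInstanceAs (Etale (r.left ≫ (pullback.snd g g).left))
      have hρs : IsSeparated ρ.left := inferInstanceAs (IsSeparated (r.left ≫ (pullback.snd g g).left))
      have hρ₁e : Etale ρ₁.left := inferInstanceAs (Etale (r.left ≫ (pullback.fst g g).left))
      have hρn : LiftBound ρ.left n := by
        intro K _ s t ht hinj
        have hpt : ∀ i, (t i ≫ r.left ≫ (pullback.fst g g).left) ≫ g.left = s ≫ g.left := by
          intro i
          simp only [Category.assoc]
          rw [(isPullback_left sP).w, ← ht i]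
          simp [ρ]
        refine hn K (s ≫ g.left) (Fin.cons s fun i => t i ≫ r.left ≫ (pullback.fst g g).left) (fun i => ?_) ?_
        · induction i using Fin.cases with
          | zero => simp
          | succ i => simpa using hpt i
        · refine Fin.cons_injective_iff.2 ⟨?_, fun i j h => hinj ?_⟩
          · rintro ⟨i, hi⟩
            have heq : t i ≫ r.left = s ≫ Δ.left := by
              refine (isPullback_left sP).hom_ext ?_ ?_
              · rw [Category.assoc, Category.assoc, hΔ1, Category.comp_id]
                exact hi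
              · rw [Category.assoc, Category.assoc, hΔ2, Category.comp_id]
                exact ht i
            have h0 : (t i ≫ r.left) (IsLocalRing.closedPoint K) ∈ Set.range Δ.left := by
              rw [heq]
              exact ⟨_, (Scheme.Hom.comp_apply _ _ _).symm⟩
            have h1 : (t i ≫ r.left) (IsLocalRing.closedPoint K) ∈ Set.range r.left :=
              ⟨_, (Scheme.Hom.comp_apply _ _ _).symm⟩
            rw [range_openOverHom] at h1
            exact h1 h0
          · refine (cancel_mono r.left).1 ((isPullback_left sP).hom_ext ?_ ?_)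
            · simpa only [Category.assoc] using h
            · simp only [Category.assoc]
              exact (ht i).trans (ht j).symm
      -- base change along `g`
      let W := Limits.pullback (f ≫ g) g
      have sW : IsPullback (pullback.fst (f ≫ g) g) (pullback.snd (f ≫ g) g) (f ≫ g) g :=
        IsPullback.of_hasPullback _ _
      refine hQ.descend (f ≫ g) g _ _ sW inferInstance hs ?_
      let m : W ⟶ Pp := pullback.lift (pullback.fst _ _ ≫ f) (pullback.snd _ _)
        (by rw [Category.assoc, pullback.condition])
      have sm : IsPullback (pullback.fst (f ≫ g) g) m f (pullback.fst g g) := by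
        refine IsPullback.of_bot ?_ (pullback.lift_fst _ _ _).symm sP
        rw [pullback.lift_snd]
        exact sW
      let γ : X ⟶ W := pullback.lift (𝟙 X) f (Category.id_comp _)
      have hγm : γ ≫ m = f ≫ Δ := by apply pullback.hom_ext <;>
        (simp [γ, m, Δ] <;> exact Category.id_comp f)
      have sγ : IsPullback γ f m Δ := by
        refine IsPullback.of_right ?_ hγm sm
        rw [pullback.lift_fst, pullback.lift_fst]
        exact IsPullback.of_horiz_isIso ⟨(Category.id_comp f).trans (Category.comp_id f).symm⟩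
      have hγe : Etale γ.left := MorphismProperty.of_isPullback (isPullback_left sγ).flip hΔe
      have sR : IsPullback (pullback.fst m r) (pullback.snd m r) m r := IsPullback.of_hasPullback _ _
      have hR : Q (pullback.snd m r) :=
        hQ.baseChange f ρ₁ (pullback.snd m r) (pullback.fst m r ≫ pullback.fst (f ≫ g) g)
          (sR.paste_horiz sm) inferInstance hf
      have hR' := LocalQ.postcomp_of_liftBound n (pullback.snd m r) ρ hρe hρs hρn hR
      let U : ULift.{u} Bool → Over S := fun b => Bool.rec X (Limits.pullback m r) b.down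
      let a : ∀ b, U b ⟶ W := fun b =>
        Bool.rec (motive := fun b => (Bool.rec X (Limits.pullback m r) b : Over S) ⟶ W) γ (pullback.fst m r) b.down
      refine (hQ.source U a _ (fun ⟨b⟩ => ?_) fun w => ?_).2 fun ⟨b⟩ => ?_
      · cases b
        · exact hγe
        · exact MorphismProperty.of_isPullback (isPullback_left sR).flip (inferInstanceAs (Etale R.ι))
      · by_cases hw : m.left w ∈ Set.range Δ.left
        · refine ⟨⟨false⟩, ?_⟩
          show w ∈ Set.range γ.left
          rw [range_fst_left sγ]
          exact hw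
        · refine ⟨⟨true⟩, ?_⟩
          show w ∈ Set.range (pullback.fst m r).left
          rw [range_fst_left sR, Set.mem_preimage, range_openOverHom]
          exact hw
      · cases b
        · show Q (γ ≫ pullback.snd (f ≫ g) g)
          rw [pullback.lift_snd]
          exact hf
        · show Q (pullback.fst m r ≫ pullback.snd (f ≫ g) g)
          have hm : m ≫ pullback.snd g g = pullback.snd (f ≫ g) g := pullback.lift_snd _ _ _
          rw [← hm, ← Category.assoc, sR.w, Category.assoc]
          exact hR'
    let V : Z.left.Opens := ⟨Set.range g.left, g.left.isOpenMap.isOpen_range⟩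
    let j := openOverHom Z V
    have hj : IsOpenImmersion j.left := inferInstanceAs (IsOpenImmersion V.ι)
    let g' : Y ⟶ openOver Z V := Over.homMk (IsOpenImmersion.lift V.ι g.left (by simp [V]))
      (by simp [openOver])
    have hg : g' ≫ j = g := Over.OverMorphism.ext (IsOpenImmersion.lift_fac _ _ _)
    have hgl : g'.left ≫ j.left = g.left := congrArg CommaMorphism.left hg
    have : Etale (g'.left ≫ j.left) := by rw [hgl]; exact he
    have : IsSeparated (g'.left ≫ j.left) := by rw [hgl]; exact hsep
    rw [← hg, ← Category.assoc]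
    refine hQ.postOpen _ _ (key g' (Etale.of_comp g'.left j.left) (IsSeparated.of_comp g'.left j.left)
      (fun K _ s t ht => hn K (s ≫ j.left) t fun i => by rw [← hgl, ← Category.assoc, ht i]) ⟨fun z => ?_⟩) hj
    obtain ⟨y, hy⟩ : V.ι z ∈ Set.range g.left := z.2
    exact ⟨y, V.ι.isOpenEmbedding.injective (by rw [← hy, ← hgl]; rfl)⟩

end Etale

end Groth.Agent.AlgSpLib
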