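import Groth.Agent.AlgSpLib.ThickTop
import Groth.Agent.AlgSpLib.LocalBaseTop

/-!
# Topological properties of morphisms of thickenings
-/

set_option backward.isDefEq.respectTransparency false
set_option backward.isDefEq.respectTransparency.types false

universe u

open CategoryTheory CategoryTheory.Limits AlgebraicGeometry Opposite AlgSp Topology

namespace Groth.Agent.AlgSpLib

variable {S : Scheme.{u}} {X X' Y Y' : Sp S} {i : X ⟶ X'} {j : Y ⟶ Y'} {f : X ⟶ Y} {f' : X' ⟶ Y'}

/-- The comparison of base changes along a map to the thickened target. -/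
theorem exists_thick_compare (hi : IsThickMor i) (hj : IsThickMor j) (w : i ≫ f' = f ≫ j) {Z : Sp S}
    (g : Z ⟶ Y) {W W' : Sp S} {a : W ⟶ X} {b : W ⟶ Z} {a' : W' ⟶ X'} {b' : W' ⟶ Z}
    (s : IsPullback a b f g) (s' : IsPullback a' b' f' (g ≫ j)) :
    ∃ t : W ⟶ W', IsThickMor t ∧ t ≫ b' = b := by
  have := mono_of_thick hj
  let t : W ⟶ W' := s'.lift (a ≫ i) b (by rw [Category.assoc, w, ← Category.assoc, s.w, Category.assoc])
  refine ⟨t, ?_, s'.lift_snd _ _ _⟩
  refine repWith_of_isPullback (fst := a) (g := a') ?_ hi
  refine IsPullback.of_bot ?_ (s'.lift_fst _ _ _).symm s'.flip.flip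
  rw [IsPullback.lift_snd, w]
  refine ⟨⟨by rw [← Category.assoc, s.w, Category.assoc]⟩, ⟨PullbackCone.IsLimit.mk _
    (fun c => s.lift c.fst c.snd (by rw [← cancel_mono j, Category.assoc, Category.assoc]; exact c.condition))
    (fun c => s.lift_fst _ _ _) (fun c => s.lift_snd _ _ _) (fun c m h1 h2 => ?_)⟩⟩
  exact s.hom_ext (by rw [IsPullback.lift_fst, h1]) (by rw [IsPullback.lift_snd, h2])

/-- A property of maps of topological spaces invariant under homeomorphisms. -/
def HomeoInvariant (Q : ∀ {α β : Type (u + 1)} [TopologicalSpace α] [TopologicalSpace β], (α → β) → Prop) : Prop :=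
  ∀ {α β α' β' : Type (u + 1)} [TopologicalSpace α] [TopologicalSpace β] [TopologicalSpace α'] [TopologicalSpace β']
    (p : α → β) (p' : α' → β') (a : α → α') (b : β → β'), IsHomeomorph a → IsHomeomorph b →
    p' ∘ a = b ∘ p → (Q p ↔ Q p')

theorem homeoInvariant_surjective : HomeoInvariant.{u} (fun p => Function.Surjective p) := by
  intro α β α' β' _ _ _ _ p p' a b ha hb h
  constructor
  · intro hp
    have h1 : Function.Surjective (p' ∘ a) := by rw [h]; exact hb.bijective.2.comp hp
    exact h1.of_comp
  · intro hp
    have h1 : Function.Surjective (b ∘ p) := by rw [← h]; exact hp.comp ha.bijective.2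
    exact (Function.Surjective.of_comp_iff' hb.bijective p).1 h1

theorem homeoInvariant_injective : HomeoInvariant.{u} (fun p => Function.Injective p) := by
  intro α β α' β' _ _ _ _ p p' a b ha hb h
  constructor
  · intro hp
    have h1 : Function.Injective (p' ∘ a) := by rw [h]; exact hb.bijective.1.comp hp
    exact h1.of_comp_right ha.bijective.2
  · intro hp
    have h1 : Function.Injective (b ∘ p) := by rw [← h]; exact hp.comp ha.bijective.1
    exact h1.of_comp

theorem homeoInvariant_isOpenMap : HomeoInvariant.{u} (fun p => IsOpenMap p) := by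
  intro α β α' β' _ _ _ _ p p' a b ha hb h
  constructor
  · intro hp A hA
    rw [← Set.image_preimage_eq A ha.bijective.2, ← Set.image_comp, h, Set.image_comp]
    exact hb.isOpenMap _ (hp _ (hA.preimage ha.continuous))
  · intro hp A hA
    rw [← Set.preimage_image_eq (p '' A) hb.bijective.1, ← Set.image_comp, ← h, Set.image_comp]
    exact (hp _ (ha.isOpenMap _ hA)).preimage hb.continuous

theorem homeoInvariant_isClosedMap : HomeoInvariant.{u} (fun p => IsClosedMap p) := by
  intro α β α' β' _ _ _ _ p p' a b ha hb h
  constructor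
  · intro hp A hA
    rw [← Set.image_preimage_eq A ha.bijective.2, ← Set.image_comp, h, Set.image_comp]
    exact hb.homeomorph.isClosedMap _ (hp _ (hA.preimage ha.continuous))
  · intro hp A hA
    rw [← Set.preimage_image_eq (p '' A) hb.bijective.1, ← Set.image_comp, ← h, Set.image_comp]
    exact (hp _ (ha.homeomorph.isClosedMap _ hA)).preimage hb.continuous

/-- A topological property of the base changes holds for `f` exactly when it holds for `f'`. -/
theorem univSp_iff {Q : ∀ {α β : Type (u + 1)} [TopologicalSpace α] [TopologicalSpace β], (α → β) → Prop}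
    (hQ : HomeoInvariant Q) (hX' : IsAlgSpace X') (hY : IsAlgSpace Y) (hY' : IsAlgSpace Y')
    (hi : IsThickMor i) (hj : IsThickMor j) (w : i ≫ f' = f ≫ j) :
    UnivSp (fun _ _ k => Q (Points.map k)) f ↔ UnivSp (fun _ _ k => Q (Points.map k)) f' := by
  constructor
  · intro h Z W' hZ g a' b' s'
    let e := pullback.snd j g
    have he : IsThickMor e := repWith_snd (P := thick) g hj
    have hZY : IsAlgSpace (pullback j g) := isAlgSpace_pullback hY hZ hY' j g
    have hW' : IsAlgSpace W' := isAlgSpace_of_isPullback s' hX' hZ hY'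
    let W'' := pullback b' e
    have s'' : IsPullback (pullback.fst b' e ≫ a') (pullback.snd b' e) f' (pullback.fst j g ≫ j) := by
      rw [pullback.condition]
      exact (IsPullback.of_hasPullback b' e).paste_horiz s'
    obtain ⟨t, ht, htb⟩ := exists_thick_compare hi hj w (pullback.fst j g)
      (IsPullback.of_hasPullback f (pullback.fst j g)) s''
    have hd : IsThickMor (pullback.fst b' e) := repWith_fst (P := thick) b' he
    have hW'' : IsAlgSpace W'' := isAlgSpace_pullback hW' hZY hZ b' e
    refine (hQ _ _ _ _ ((isHomeomorph_map_of_thick hW' hd).comp (isHomeomorph_map_of_thick hW'' ht))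
      (isHomeomorph_map_of_thick hZ he) ?_).1 (h hZY (pullback.fst j g) _ _
        (IsPullback.of_hasPullback f (pullback.fst j g)))
    funext x
    simp only [Function.comp_apply, ← Points.map_comp]
    rw [Category.assoc, pullback.condition, ← Category.assoc, htb]
  · intro h Z W hZ g a b s
    have hW' : IsAlgSpace (pullback f' (g ≫ j)) := isAlgSpace_pullback hX' hZ hY' f' _
    obtain ⟨t, ht, htb⟩ := exists_thick_compare hi hj w g s (IsPullback.of_hasPullback f' (g ≫ j))
    refine (hQ (Points.map b) _ (Points.map t) id (isHomeomorph_map_of_thick hW' ht)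
      ⟨continuous_id, IsOpenMap.id, Function.bijective_id⟩ ?_).2
      (h hZ (g ≫ j) _ _ (IsPullback.of_hasPullback f' (g ≫ j)))
    funext x
    simp only [Function.comp_apply, id_eq, ← Points.map_comp]
    rw [htb]

theorem isSurjectiveMor_iff (hX' : IsAlgSpace X') (hY' : IsAlgSpace Y') (hi : IsThickMor i) (hj : IsThickMor j)
    (w : i ≫ f' = f ≫ j) : IsSurjectiveMor f ↔ IsSurjectiveMor f' :=
  homeoInvariant_surjective (Points.map f) (Points.map f') (Points.map i) (Points.map j)
    (isHomeomorph_map_of_thick hX' hi) (isHomeomorph_map_of_thick hY' hj)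
    (funext fun x => by simp only [Function.comp_apply, ← Points.map_comp, w])

theorem isQuasiCompactSp_iff_of_thick {A A' : Sp S} (hA : IsAlgSpace A) (hA' : IsAlgSpace A') {t : A ⟶ A'}
    (ht : IsThickMor t) : IsQuasiCompactSp A ↔ IsQuasiCompactSp A' := by
  have h := (isHomeomorph_map_of_thick hA' ht).homeomorph
  constructor
  · intro hq
    have := compactSpace_points hq
    have := h.compactSpace
    exact isQuasiCompactSp_of_compactSpace hA'
  · intro hq
    have := compactSpace_points hq
    have := h.symm.compactSpace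
    exact isQuasiCompactSp_of_compactSpace hA

theorem isQuasiCompactMor_iff (hX : IsAlgSpace X) (hX' : IsAlgSpace X') (hY : IsAlgSpace Y) (hY' : IsAlgSpace Y')
    (hi : IsThickMor i) (hj : IsThickMor j) (w : i ≫ f' = f ≫ j) :
    IsQuasiCompactMor f ↔ IsQuasiCompactMor f' := by
  constructor
  · intro h Z W' hZ hZq g a' b' s'
    let e := pullback.snd j g
    have he : IsThickMor e := repWith_snd (P := thick) g hj
    have hZY : IsAlgSpace (pullback j g) := isAlgSpace_pullback hY hZ hY' j g
    have hW' : IsAlgSpace W' := isAlgSpace_of_isPullback s' hX' hZ hY'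
    have s'' : IsPullback (pullback.fst b' e ≫ a') (pullback.snd b' e) f' (pullback.fst j g ≫ j) := by
      rw [pullback.condition]
      exact (IsPullback.of_hasPullback b' e).paste_horiz s'
    obtain ⟨t, ht, -⟩ := exists_thick_compare hi hj w (pullback.fst j g)
      (IsPullback.of_hasPullback f (pullback.fst j g)) s''
    have hW : IsAlgSpace (pullback f (pullback.fst j g)) := isAlgSpace_pullback hX hZY hY f _
    have hW'' : IsAlgSpace (pullback b' e) := isAlgSpace_pullback hW' hZY hZ b' e
    refine (isQuasiCompactSp_iff_of_thick hW'' hW' (repWith_fst (P := thick) b' he)).1 ?_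
    refine (isQuasiCompactSp_iff_of_thick hW hW'' ht).1 ?_
    exact h hZY ((isQuasiCompactSp_iff_of_thick hZY hZ he).2 hZq) (pullback.fst j g) _ _
      (IsPullback.of_hasPullback f _)
  · intro h Z W hZ hZq g a b s
    have hW' : IsAlgSpace (pullback f' (g ≫ j)) := isAlgSpace_pullback hX' hZ hY' f' _
    obtain ⟨t, ht, -⟩ := exists_thick_compare hi hj w g s (IsPullback.of_hasPullback f' (g ≫ j))
    exact (isQuasiCompactSp_iff_of_thick (isAlgSpace_of_isPullback s hX hZ hY) hW' ht).2
      (h hZ hZq _ _ _ (IsPullback.of_hasPullback f' (g ≫ j)))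

end Groth.Agent.AlgSpLib
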