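import Groth.Agent.AlgSpLib.ThickScheme
import Groth.Agent.AlgSpLib.ThickMor
import Groth.Prelude.Def_AlgSp3
import Mathlib.AlgebraicGeometry.Morphisms.Integral

/-!
# Affine, integral and representable morphisms of thickenings
-/

set_option backward.isDefEq.respectTransparency false
set_option backward.isDefEq.respectTransparency.types false

universe u

open CategoryTheory CategoryTheory.Limits AlgebraicGeometry Opposite AlgSp Topology

namespace Groth.Agent.AlgSpLib

instance thick_isStableUnderComposition : (thick.{u}).IsStableUnderComposition where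
  comp_mem f g hf hg := by
    have : IsClosedImmersion f := hf.1
    have : Surjective f := hf.2
    have : IsClosedImmersion g := hg.1
    have : Surjective g := hg.2
    exact ⟨(inferInstance : IsClosedImmersion (f ≫ g)), (inferInstance : Surjective (f ≫ g))⟩

variable {S : Scheme.{u}} {X X' Y Y' : Sp S} {i : X ⟶ X'} {j : Y ⟶ Y'} {f : X ⟶ Y} {f' : X' ⟶ Y'}

/-- A base change of `f` is a thickened part of the base change of `f'` with the same base. -/
theorem exists_thick_down (hi : IsThickMor i) (hj : IsThickMor j) (w : i ≫ f' = f ≫ j) {Z V' : Over S}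
    (g : (yon S).obj Z ⟶ Y) {fst' : (yon S).obj V' ⟶ X'} {p' : V' ⟶ Z}
    (sq' : IsPullback fst' ((yon S).map p') f' (g ≫ j)) :
    ∃ (V : Over S) (k : V ⟶ V') (fst : (yon S).obj V ⟶ X),
      thick k.left ∧ IsPullback fst ((yon S).map (k ≫ p')) f g := by
  obtain ⟨t, ht, htb⟩ := exists_thick_compare hi hj w g (IsPullback.of_hasPullback f g) sq'
  let hr := ht.rep
  have : IsIso (hr.fst (𝟙 ((yon S).obj V'))) := (hr.isPullback (𝟙 ((yon S).obj V'))).isIso_fst_of_isIso
  refine ⟨hr.pullback (𝟙 _), hr.snd (𝟙 _), hr.fst (𝟙 _) ≫ pullback.fst f g, ht.property_snd _,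
    (IsPullback.of_hasPullback f g).of_iso (asIso (hr.fst (𝟙 _))).symm (Iso.refl _) (Iso.refl _) (Iso.refl _)
      ?_ ?_ (by simp) (by simp)⟩
  · simp
  · simp only [Iso.refl_hom, Category.comp_id, Iso.symm_hom, asIso_inv]
    rw [eq_comm, IsIso.inv_comp_eq, Functor.map_comp, ← htb, ← Category.assoc, hr.w (𝟙 _), Category.comp_id]

/-- A base change of `f'` is a thickening of a base change of `f`. -/
theorem exists_thick_up (hX' : IsAlgSpace X') (hY' : IsAlgSpace Y') (hi : IsThickMor i) (hj : IsThickMor j)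
    (w : i ≫ f' = f ≫ j) {Z' : Over S} (g' : (yon S).obj Z' ⟶ Y') :
    ∃ (Z : Over S) (c : Z ⟶ Z') (g : (yon S).obj Z ⟶ Y) (T : pullback f g ⟶ pullback f' g'),
      thick c.left ∧ IsThickMor T ∧ IsAlgSpace (pullback f' g') ∧
      T ≫ pullback.snd f' g' = pullback.snd f g ≫ (yon S).map c := by
  let hr := hj.rep
  let Z := hr.pullback g'
  let c : Z ⟶ Z' := hr.snd g'
  let g : (yon S).obj Z ⟶ Y := hr.fst g'
  have sq : IsPullback g ((yon S).map c) j g' := hr.isPullback g'
  have hP' : IsAlgSpace (pullback f' g') := isAlgSpace_pullback hX' (IsAlgSpace.yon_obj Z') hY' f' g'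
  let P'' := pullback (pullback.snd f' g') ((yon S).map c)
  have s'' : IsPullback (pullback.fst (pullback.snd f' g') ((yon S).map c) ≫ pullback.fst f' g')
      (pullback.snd (pullback.snd f' g') ((yon S).map c)) f' (g ≫ j) := by
    rw [sq.w]
    exact (IsPullback.of_hasPullback _ _).paste_horiz (IsPullback.of_hasPullback f' g')
  obtain ⟨t, ht, htb⟩ := exists_thick_compare hi hj w g (IsPullback.of_hasPullback f g) s''
  have hc : IsThickMor ((yon S).map c) := (repWith_yon_map_iff _ c).2 (hj.property_snd g')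
  refine ⟨Z, c, g, t ≫ pullback.fst _ _, hj.property_snd g',
    repWith_comp ht (repWith_fst (P := thick) (pullback.snd f' g') hc), hP', ?_⟩
  rw [Category.assoc, pullback.condition, ← Category.assoc, htb]

/-- Integrality is tested on a thickened part. -/
theorem isIntegralHom_of_thick {V Q Z : Scheme.{u}} [IsAffine Q] [IsAffine Z] (t : V ⟶ Q) [IsClosedImmersion t]
    [Surjective t] (h : Q ⟶ Z) [IsIntegralHom (t ≫ h)] : IsIntegralHom h := by
  have : IsAffine V := isAffine_of_isAffineHom t
  have h1 : (t ≫ h).appTop.hom.IsIntegral :=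
    ((HasAffineProperty.iff_of_isAffine (P := @IsIntegralHom)).1 ‹_›).2
  refine (HasAffineProperty.iff_of_isAffine (P := @IsIntegralHom)).2 ⟨inferInstance, fun b => ?_⟩
  obtain ⟨p, hp, hpb⟩ := h1 (t.appTop.hom b)
  obtain ⟨n, hn⟩ := mem_nilradical.1 (ker_appTop_le_nilradical t (show Polynomial.eval₂ h.appTop.hom b p ∈ _ from by
    rw [RingHom.mem_ker, Polynomial.hom_eval₂, ← CommRingCat.hom_comp, ← Scheme.Hom.comp_appTop]
    exact hpb))
  exact ⟨p ^ n, hp.pow n, by rw [Polynomial.eval₂_pow, hn]⟩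

theorem representable_iff_of_thick (hX : IsAlgSpace X) (hX' : IsAlgSpace X') (hY : IsAlgSpace Y)
    (hY' : IsAlgSpace Y') (hi : IsThickMor i) (hj : IsThickMor j) (w : i ≫ f' = f ≫ j) :
    Representable f ↔ Representable f' := by
  constructor
  · intro hf Z' g'
    obtain ⟨Z, c, g, T, -, hT, hP', -⟩ := exists_thick_up hX' hY' hi hj w g'
    obtain ⟨V, v, fst, sq⟩ := hf g
    have hP : IsAlgSpace (pullback f g) := isAlgSpace_pullback hX (IsAlgSpace.yon_obj Z) hY f g
    obtain ⟨Q, ⟨e⟩⟩ := exists_scheme_of_thick hP hP' hT sq.isoPullback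
    refine ⟨Q, (yon S).preimage (e.hom ≫ pullback.snd f' g'), e.hom ≫ pullback.fst f' g', ?_⟩
    rw [Functor.map_preimage]
    exact (IsPullback.of_hasPullback f' g').of_iso e.symm (Iso.refl _) (Iso.refl _) (Iso.refl _)
      (by simp) (by simp) (by simp) (by simp)
  · intro hf' Z g
    obtain ⟨V', p', fst', sq'⟩ := hf' (g ≫ j)
    obtain ⟨V, k, fst, -, sq⟩ := exists_thick_down hi hj w g sq'
    exact ⟨V, _, fst, sq⟩

theorem isAffineMor_iff_of_thick (hX' : IsAlgSpace X')
    (hY' : IsAlgSpace Y') (hi : IsThickMor i) (hj : IsThickMor j) (w : i ≫ f' = f ≫ j) :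
    IsAffineMor f ↔ IsAffineMor f' := by
  constructor
  · intro hf Z' hZ' g'
    obtain ⟨Z, c, g, T, hc, hT, hP', -⟩ := exists_thick_up hX' hY' hi hj w g'
    have : IsAffine Z'.left := hZ'
    have : IsClosedImmersion c.left := hc.1
    obtain ⟨V, v, fst, sq, hV⟩ := hf (isAffine_of_isAffineHom c.left) g
    obtain ⟨Q, hQ, ⟨e⟩⟩ := exists_affine_of_thick hP' hT sq.isoPullback
    refine ⟨Q, (yon S).preimage (e.hom ≫ pullback.snd f' g'), e.hom ≫ pullback.fst f' g', ?_, hQ⟩
    rw [Functor.map_preimage]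
    exact (IsPullback.of_hasPullback f' g').of_iso e.symm (Iso.refl _) (Iso.refl _) (Iso.refl _)
      (by simp) (by simp) (by simp) (by simp)
  · intro hf' Z hZ g
    obtain ⟨V', p', fst', sq', hV'⟩ := hf' hZ (g ≫ j)
    obtain ⟨V, k, fst, hk, sq⟩ := exists_thick_down hi hj w g sq'
    have : IsClosedImmersion k.left := hk.1
    exact ⟨V, _, fst, sq, isAffine_of_isAffineHom k.left⟩

theorem isIntegralMor_iff_of_thick (hX' : IsAlgSpace X')
    (hY' : IsAlgSpace Y') (hi : IsThickMor i) (hj : IsThickMor j) (w : i ≫ f' = f ≫ j) :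
    IsIntegralMor f ↔ IsIntegralMor f' := by
  constructor
  · intro hf Z' hZ' g'
    obtain ⟨Z, c, g, T, hc, hT, hP', hTc⟩ := exists_thick_up hX' hY' hi hj w g'
    have : IsAffine Z'.left := hZ'
    have : IsClosedImmersion c.left := hc.1
    obtain ⟨V, v, fst, sq, hV, hv⟩ := hf (isAffine_of_isAffineHom c.left) g
    obtain ⟨Q, hQ, ⟨e⟩⟩ := exists_affine_of_thick hP' hT sq.isoPullback
    let q : Q ⟶ Z' := (yon S).preimage (e.hom ≫ pullback.snd f' g')
    refine ⟨Q, q, e.hom ≫ pullback.fst f' g', ?_, hQ, ?_⟩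
    · rw [Functor.map_preimage]
      exact (IsPullback.of_hasPullback f' g').of_iso e.symm (Iso.refl _) (Iso.refl _) (Iso.refl _)
        (by simp) (by simp) (by simp) (by simp)
    let k : V ⟶ Q := (yon S).preimage (sq.isoPullback.hom ≫ T ≫ e.inv)
    have hk : thick k.left := (repWith_yon_map_iff _ k).1 (by
      rw [Functor.map_preimage]
      exact (MorphismProperty.cancel_left_of_respectsIso (RepWith thick) _ _).2
        ((MorphismProperty.cancel_right_of_respectsIso (RepWith thick) _ _).2 hT))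
    have hkq : k ≫ q = v ≫ c := (yon S).map_injective (by
      simp only [Functor.map_comp, q, k, Functor.map_preimage, Category.assoc, Iso.inv_hom_id_assoc]
      rw [hTc, sq.isoPullback_hom_snd_assoc])
    have hint : IsIntegralHom (k ≫ q).left := by
      rw [hkq]
      exact inferInstanceAs (IsIntegralHom (v.left ≫ c.left))
    have : IsClosedImmersion k.left := hk.1
    have : Surjective k.left := hk.2
    have : IsIntegralHom (k.left ≫ q.left) := hint
    exact isIntegralHom_of_thick k.left q.left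
  · intro hf' Z hZ g
    obtain ⟨V', p', fst', sq', hV', hp'⟩ := hf' hZ (g ≫ j)
    obtain ⟨V, k, fst, hk, sq⟩ := exists_thick_down hi hj w g sq'
    have : IsClosedImmersion k.left := hk.1
    exact ⟨V, _, fst, sq, isAffine_of_isAffineHom k.left, inferInstanceAs (IsIntegralHom (k.left ≫ p'.left))⟩

end Groth.Agent.AlgSpLib
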