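import Groth.Agent.AlgSpLib.ThickScheme
import Groth.Agent.AlgSpLib.ThickRep
import Groth.Agent.AlgSpLib.EtLocalInst
import Groth.Agent.AlgSpDec.LqfQuot
import Groth.Agent.AlgSpPts.Quot
import Groth.Agent.S0118
import Groth.Prelude.Def_AlgSpOX2

/-!
# Schemes étale over a space lift along thickenings
-/

set_option backward.isDefEq.respectTransparency false
set_option backward.isDefEq.respectTransparency.types false

universe u

open CategoryTheory CategoryTheory.Limits AlgebraicGeometry Opposite AlgSp Topology

namespace Groth.Agent.AlgSpLib.EtLift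

variable {S : Scheme.{u}} {X X' : Sp S} {i : X ⟶ X'}

/-- A map from a scheme factors through an open subscheme when its image does. -/
theorem exists_factor_open {P : Over S} (O : P.left.Opens) {T : Over S} (x : T ⟶ P)
    (hx : ∀ v, x.left v ∈ O) : ∃ y : T ⟶ Over.mk (O.ι ≫ P.hom), y ≫ (Over.homMk O.ι rfl) = x := by
  have hr : Set.range x.left ⊆ Set.range O.ι := by
    rintro _ ⟨v, rfl⟩
    rw [Scheme.Opens.range_ι]
    exact hx v
  refine ⟨Over.homMk (IsOpenImmersion.lift O.ι x.left hr) ?_, Over.OverMorphism.ext (IsOpenImmersion.lift_fac _ _ _)⟩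
  show _ ≫ O.ι ≫ P.hom = T.hom
  rw [← Category.assoc, IsOpenImmersion.lift_fac, Over.w x]

/-- The coequalizer of the kernel pair of an étale surjection. -/
noncomputable def isColimitOfAtlas {F : Sp S} {U R : Over S} {p : (yon S).obj U ⟶ F} (he : RepWith @Etale p)
    (hs : RepWith @Surjective p) {t s : R ⟶ U} (sq : IsPullback ((yon S).map t) ((yon S).map s) p p) :
    IsColimit (Cofork.ofπ p sq.w) :=
  have : Epi p := epi_of_etale_surjective he hs
  have hc : IsRegularEpiCategory (CategoryTheory.Sheaf (AlgSp.J S) (Type (u + 1))) := inferInstance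
  have : IsRegularEpi p := hc.regularEpiOfEpi p
  IsKernelPair.toCoequalizer' (sq : IsKernelPair p _ _)

/-- A scheme étale over `X` is the base change of a scheme étale over its thickening. -/
theorem exists_lift (hX : IsAlgSpace X) (hX' : IsAlgSpace X') (hi : IsThickMor i) {U : Over S}
    (p : (yon S).obj U ⟶ X) (hp : RepWith @Etale p) :
    ∃ (T : Over S) (b : (yon S).obj T ⟶ X') (ε : (yon S).obj U ≅ pullback i b),
      RepWith @Etale b ∧ ε.hom ≫ pullback.fst i b = p := by
  obtain ⟨V', a, ha, has⟩ := hX'.atlas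
  let V := hi.rep.pullback a
  let c : V ⟶ V' := hi.rep.snd a
  let aX : (yon S).obj V ⟶ X := hi.rep.fst a
  have sqV : IsPullback aX ((yon S).map c) i a := hi.rep.isPullback a
  have hthc : thick c.left := hi.property_snd a
  have : IsClosedImmersion c.left := hthc.1
  have : Surjective c.left := hthc.2
  let W := hp.rep.pullback aX
  let wV : W ⟶ V := hp.rep.snd aX
  let wU : W ⟶ U := hp.rep.fst' aX
  have sqW : IsPullback ((yon S).map wU) ((yon S).map wV) p aX := hp.rep.isPullback' aX
  have : Etale wV.left := hp.property _ _ _ sqW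
  have hwU : Etale wU.left := (repWith_of_isPullback sqV.flip ha).property _ _ _ sqW.flip
  have hwUs : Surjective wU.left := (repWith_of_isPullback sqV.flip has).property _ _ _ sqW.flip
  -- lift the chart
  let Wet : V.left.Etale := { toComma := Over.mk wV.left, prop := ‹Etale wV.left› }
  have := Groth.Agent.S0118.result c.left
  let W'et := (EtCoh.bc c.left).objPreimage Wet
  let θ : (EtCoh.bc c.left).obj W'et ≅ Wet := (EtCoh.bc c.left).objObjPreimageIso Wet
  let θi := θ.inv.left
  have : IsIso θi := ⟨θ.hom.left, congrArg (fun k => k.left) θ.inv_hom_id, congrArg (fun k => k.left) θ.hom_inv_id⟩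
  have hθw : θi ≫ pullback.snd W'et.hom c.left = wV.left := MorphismProperty.Over.w θ.inv
  let W' : Over S := Over.mk (W'et.hom ≫ V'.hom)
  let w' : W' ⟶ V' := Over.homMk W'et.hom rfl
  let γ : W ⟶ W' := Over.homMk (θi ≫ pullback.fst W'et.hom c.left) (by
    show (θi ≫ _) ≫ W'et.hom ≫ V'.hom = W.hom
    rw [Category.assoc, pullback.condition_assoc, ← Category.assoc, hθw, ← Over.w wV, ← Over.w c])
  have sqγ0 : IsPullback γ.left wV.left w'.left c.left :=
    (IsPullback.of_hasPullback W'et.hom c.left).of_iso (asIso θi).symm (Iso.refl _) (Iso.refl _) (Iso.refl _)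
      (by simp [γ]) (by simp [← hθw]) (by simp [w']) (by simp)
  have sqγ1 : IsPullback γ wV w' c := IsPullback.of_map (Over.forget S) (Over.OverMorphism.ext sqγ0.w) sqγ0
  have : IsClosedImmersion γ.left := MorphismProperty.of_isPullback (P := @IsClosedImmersion) sqγ0.flip inferInstance
  have hγs : Surjective γ.left := MorphismProperty.of_isPullback (P := @Surjective) sqγ0.flip inferInstance
  let a' : (yon S).obj W' ⟶ X' := (yon S).map w' ≫ a
  have ha' : RepWith @Etale a' := repWith_comp ((repWith_yon_map_iff _ _).2 W'et.prop) ha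
  let pW : (yon S).obj W ⟶ X := (yon S).map wV ≫ aX
  have sqγ : IsPullback pW ((yon S).map γ) i a' := (sqγ1.map (yon S)).flip.paste_horiz sqV
  have hpW : pW = (yon S).map wU ≫ p := sqW.w.symm
  -- the kernel pair of the lifted chart
  let P := ha'.rep.pullback a'
  let t' : P ⟶ W' := ha'.rep.fst' a'
  let s' : P ⟶ W' := ha'.rep.snd a'
  have sqP : IsPullback ((yon S).map t') ((yon S).map s') a' a' := ha'.rep.isPullback' a'
  have : Etale s'.left := ha'.property _ _ _ sqP
  have : Etale t'.left := ha'.property _ _ _ sqP.flip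
  let R := pullback wU wU
  let r₁ : R ⟶ W := pullback.fst wU wU
  let r₂ : R ⟶ W := pullback.snd wU wU
  have sqR : IsPullback r₁.left r₂.left wU.left wU.left :=
    (IsPullback.of_hasPullback wU wU).map (Over.forget S)
  have hρw : (yon S).map (r₁ ≫ γ) ≫ a' = (yon S).map (r₂ ≫ γ) ≫ a' := by
    rw [Functor.map_comp, Functor.map_comp, Category.assoc, Category.assoc, ← sqγ.w, hpW, ← Category.assoc,
      ← Category.assoc, ← Category.assoc, ← Category.assoc, ← Functor.map_comp, ← Functor.map_comp, pullback.condition]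
  obtain ⟨ρ, hρ₁, hρ₂⟩ := exists_pair_lift sqP (r₁ ≫ γ) (r₂ ≫ γ) hρw
  let Z := pullback s' γ
  let z : Z ⟶ P := pullback.fst s' γ
  let zW : Z ⟶ W := pullback.snd s' γ
  have sqZ : IsPullback z.left zW.left s'.left γ.left := (IsPullback.of_hasPullback s' γ).map (Over.forget S)
  let l : R ⟶ Z := pullback.lift ρ r₂ hρ₂
  have hl₁ : l.left ≫ z.left = ρ.left := by rw [← Over.comp_left, pullback.lift_fst]
  have : Etale l.left := by
    have : Etale zW.left := MorphismProperty.of_isPullback (P := @Etale) sqZ inferInstance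
    have : Etale (l.left ≫ zW.left) := by
      rw [← Over.comp_left, pullback.lift_snd]
      exact MorphismProperty.of_isPullback (P := @Etale) sqR hwU
    exact MorphismProperty.of_postcomp (W := @Etale) (W' := @Etale) l.left zW.left inferInstance this
  have hρm : Mono ρ.left := ⟨fun x y h => sqR.hom_ext
    (by
      rw [← cancel_mono γ.left, Category.assoc, Category.assoc, ← Over.comp_left, ← hρ₁, Over.comp_left,
        ← Category.assoc, h, Category.assoc])
    (by
      rw [← cancel_mono γ.left, Category.assoc, Category.assoc, ← Over.comp_left, ← hρ₂, Over.comp_left,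
        ← Category.assoc, h, Category.assoc])⟩
  have : Mono (l.left ≫ z.left) := by rw [hl₁]; exact hρm
  have : Mono l.left := mono_of_mono l.left z.left
  have : IsOpenImmersion l.left := IsOpenImmersion.of_flat_of_mono l.left
  have hzc : IsClosedImmersion z.left := MorphismProperty.of_isPullback (P := @IsClosedImmersion) sqZ.flip inferInstance
  have hzs : Surjective z.left := MorphismProperty.of_isPullback (P := @Surjective) sqZ.flip inferInstance
  have hbij : Function.Bijective z.left := ⟨z.left.isClosedEmbedding.injective, z.left.surjective⟩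
  let O : P.left.Opens := ⟨z.left '' Set.range l.left, by
    rw [← isClosed_compl_iff, ← Set.image_compl_eq hbij]
    exact z.left.isClosedMap _ l.left.isOpenEmbedding.isOpen_range.isClosed_compl⟩
  have hO : ∀ q, q ∈ O ↔ ∃ r, ρ.left r = q := fun q => by
    constructor
    · rintro ⟨_, ⟨r, rfl⟩, rfl⟩
      exact ⟨r, by rw [← hl₁, Scheme.Hom.comp_apply]⟩
    · rintro ⟨r, rfl⟩
      exact ⟨_, ⟨r, rfl⟩, by rw [← hl₁, Scheme.Hom.comp_apply]⟩
  let R' : Over S := Over.mk (O.ι ≫ P.hom)
  let ι : R' ⟶ P := Over.homMk O.ι rfl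
  have hιmem : ∀ {T : Over S} (y : T ⟶ R') v, (y ≫ ι).left v ∈ O := fun y v => by
    rw [Over.comp_left, Scheme.Hom.comp_apply]
    exact (y.left v).2
  let t : R' ⟶ W' := ι ≫ t'
  let s : R' ⟶ W' := ι ≫ s'
  have hextP : ∀ {T : Over S} {x y : T ⟶ P}, x ≫ t' = y ≫ t' → x ≫ s' = y ≫ s' → x = y := fun h1 h2 =>
    (yon S).map_injective (sqP.hom_ext (by rw [← Functor.map_comp, ← Functor.map_comp, h1])
      (by rw [← Functor.map_comp, ← Functor.map_comp, h2]))
  have hR : IsEqvRel s t := by
    refine { injective := fun T x y h1 h2 => ?_, equivalence := fun T => ⟨fun x => ?_, ?_, ?_⟩ }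
    · have e : x ≫ ι = y ≫ ι := hextP (by simpa [t] using h1) (by simpa [s] using h2)
      exact Over.OverMorphism.ext ((cancel_mono O.ι).1 (congrArg (fun k => k.left) e))
    · obtain ⟨δ, hδ₁, hδ₂⟩ := exists_pair_lift sqP (𝟙 W') (𝟙 W') rfl
      let dR : W ⟶ R := pullback.lift (𝟙 W) (𝟙 W) rfl
      have e : γ ≫ δ = dR ≫ ρ := hextP
        (by rw [Category.assoc, hδ₁, Category.assoc, hρ₁, Category.comp_id, pullback.lift_fst_assoc, Category.id_comp])
        (by rw [Category.assoc, hδ₂, Category.assoc, hρ₂, Category.comp_id, pullback.lift_snd_assoc, Category.id_comp])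
      obtain ⟨y, hy⟩ := exists_factor_open O (x ≫ δ) fun v => by
        rw [Over.comp_left, Scheme.Hom.comp_apply]
        obtain ⟨w, hw⟩ := γ.left.surjective (x.left v)
        rw [← hw, ← Scheme.Hom.comp_apply, ← Over.comp_left, e, Over.comp_left, Scheme.Hom.comp_apply]
        exact (hO _).2 ⟨_, rfl⟩
      exact ⟨y, by rw [← Category.assoc, hy, Category.assoc, hδ₁, Category.comp_id],
        by rw [← Category.assoc, hy, Category.assoc, hδ₂, Category.comp_id]⟩
    · rintro _ _ ⟨r, rfl, rfl⟩
      obtain ⟨σ, hσ₁, hσ₂⟩ := exists_pair_lift sqP s' t' sqP.w.symm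
      let sw : R ⟶ R := pullback.lift r₂ r₁ pullback.condition.symm
      have e : ρ ≫ σ = sw ≫ ρ := hextP
        (by rw [Category.assoc, hσ₁, Category.assoc, hρ₁, hρ₂, pullback.lift_fst_assoc])
        (by rw [Category.assoc, hσ₂, Category.assoc, hρ₂, hρ₁, pullback.lift_snd_assoc])
      obtain ⟨y, hy⟩ := exists_factor_open O (r ≫ ι ≫ σ) fun v => by
        rw [Over.comp_left, Over.comp_left, Scheme.Hom.comp_apply, Scheme.Hom.comp_apply]
        obtain ⟨q, hq⟩ := (hO _).1 (r.left v).2
        rw [show ι.left (r.left v) = ρ.left q from hq.symm, ← Scheme.Hom.comp_apply, ← Over.comp_left, e,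
          Over.comp_left, Scheme.Hom.comp_apply]
        exact (hO _).2 ⟨_, rfl⟩
      exact ⟨y, by rw [← Category.assoc, hy, Category.assoc, Category.assoc, hσ₁],
        by rw [← Category.assoc, hy, Category.assoc, Category.assoc, hσ₂]⟩
    · rintro _ _ _ ⟨x, rfl, rfl⟩ ⟨y, hy, rfl⟩
      have hcomp : (yon S).map ((x ≫ ι) ≫ t') ≫ a' = (yon S).map ((y ≫ ι) ≫ s') ≫ a' := by
        have e : (yon S).map ((x ≫ ι) ≫ t') ≫ a' = (yon S).map ((x ≫ ι) ≫ s') ≫ a' := by
          rw [Functor.map_comp, Category.assoc, sqP.w, ← Category.assoc, ← Functor.map_comp]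
        rw [e, show (x ≫ ι) ≫ s' = (y ≫ ι) ≫ t' by simpa [t, s] using hy.symm, Functor.map_comp, Category.assoc,
          sqP.w, ← Category.assoc, ← Functor.map_comp]
      obtain ⟨m, hm₁, hm₂⟩ := exists_pair_lift sqP _ _ hcomp
      obtain ⟨n, hn⟩ := exists_factor_open O m fun v => by
        obtain ⟨q₁, hq₁⟩ := (hO _).1 (hιmem x v)
        obtain ⟨q₂, hq₂⟩ := (hO _).1 (hιmem y v)
        let M := pullback r₂ r₁
        let M' := pullback s t
        let cR : M ⟶ R := pullback.lift (pullback.fst r₂ r₁ ≫ r₁) (pullback.snd r₂ r₁ ≫ r₂) (by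
          rw [Category.assoc, show r₁ ≫ wU = r₂ ≫ wU from pullback.condition, ← Category.assoc,
            show pullback.fst r₂ r₁ ≫ r₂ = pullback.snd r₂ r₁ ≫ r₁ from pullback.condition, Category.assoc,
            show r₁ ≫ wU = r₂ ≫ wU from pullback.condition, ← Category.assoc])
        obtain ⟨ρO, hρO⟩ : ∃ g : R ⟶ R', g ≫ ι = ρ := exists_factor_open O ρ fun q => (hO _).2 ⟨q, rfl⟩
        have hρOs : Surjective ρO.left := ⟨fun o => by
          obtain ⟨q, hq⟩ := (hO _).1 o.2
          refine ⟨q, O.ι.isOpenEmbedding.injective ?_⟩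
          exact ((Scheme.Hom.comp_apply ρO.left O.ι q).symm.trans (congrArg (fun k => k.left q) hρO)).trans hq⟩
        have hxy : x ≫ s = y ≫ t := hy.symm
        let μ' : T ⟶ M' := pullback.lift x y hxy
        obtain ⟨cM, hcM₁, hcM₂⟩ := exists_pair_lift sqP (pullback.fst s t ≫ t) (pullback.snd s t ≫ s) (by
          have e₁ : ∀ {T₁ : Over S} (g : T₁ ⟶ R'), (yon S).map (g ≫ t) ≫ a' = (yon S).map (g ≫ s) ≫ a' := fun g => by
            simp only [t, s, Functor.map_comp, Category.assoc, sqP.w]
          rw [e₁, pullback.condition, e₁])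
        have hmc : m = μ' ≫ cM := hextP
          (by rw [hm₁]; simp only [μ', t, Category.assoc, hcM₁, pullback.lift_fst_assoc])
          (by rw [hm₂]; simp only [μ', s, Category.assoc, hcM₂, pullback.lift_snd_assoc])
        let μ : M ⟶ M' := pullback.lift (pullback.fst r₂ r₁ ≫ ρO) (pullback.snd r₂ r₁ ≫ ρO) (by
          simp only [t, s, Category.assoc]
          rw [reassoc_of% hρO, reassoc_of% hρO, hρ₂, hρ₁, pullback.condition_assoc])
        have hμ : μ ≫ cM = cR ≫ ρ := hextP
          (by rw [Category.assoc, hcM₁, Category.assoc, hρ₁, pullback.lift_fst_assoc, pullback.lift_fst_assoc]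
              simp only [t, Category.assoc, reassoc_of% hρO, hρ₁])
          (by rw [Category.assoc, hcM₂, Category.assoc, hρ₂, pullback.lift_snd_assoc, pullback.lift_snd_assoc]
              simp only [s, Category.assoc, reassoc_of% hρO, hρ₂])
        have hM' : IsPullback (pullback.fst s t).left (pullback.snd s t).left s.left t.left :=
          (IsPullback.of_hasPullback s t).map (Over.forget S)
        have hMs : IsPullback (pullback.fst r₂ r₁).left (pullback.snd r₂ r₁).left
            (ρO.left ≫ s.left) (ρO.left ≫ t.left) := by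
          have h₁ : ρO.left ≫ s.left = r₂.left ≫ γ.left := by
            rw [← Over.comp_left, ← Over.comp_left]
            simp only [s, reassoc_of% hρO, hρ₂]
          have h₂ : ρO.left ≫ t.left = r₁.left ≫ γ.left := by
            rw [← Over.comp_left, ← Over.comp_left]
            simp only [t, reassoc_of% hρO, hρ₁]
          rw [h₁, h₂]
          have h : IsPullback (pullback.fst r₂ r₁).left (pullback.snd r₂ r₁).left r₂.left r₁.left :=
            (IsPullback.of_hasPullback r₂ r₁).map (Over.forget S)
          exact ⟨⟨by rw [← Category.assoc, ← Category.assoc, h.w]⟩, ⟨PullbackCone.IsLimit.mk _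
            (fun c => h.lift c.fst c.snd ((cancel_mono γ.left).1
              (by rw [Category.assoc, Category.assoc]; exact c.condition)))
            (fun c => h.lift_fst _ _ _) (fun c => h.lift_snd _ _ _)
            (fun c m h1 h2 => h.hom_ext (by rw [h.lift_fst, h1]) (by rw [h.lift_snd, h2]))⟩⟩
        have hsurj : Surjective μ.left := by
          have hp1 : μ.left = hMs.isoPullback.hom ≫ pullback.map (ρO.left ≫ s.left) (ρO.left ≫ t.left) s.left t.left
              ρO.left ρO.left (𝟙 _) (Category.comp_id _) (Category.comp_id _) ≫ hM'.isoPullback.inv := by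
            refine hM'.hom_ext ?_ ?_
            · simp only [Category.assoc, IsPullback.isoPullback_inv_fst, pullback.lift_fst,
                IsPullback.isoPullback_hom_fst_assoc]
              rw [← Over.comp_left, pullback.lift_fst, Over.comp_left]
            · simp only [Category.assoc, IsPullback.isoPullback_inv_snd, pullback.lift_snd,
                IsPullback.isoPullback_hom_snd_assoc]
              rw [← Over.comp_left, pullback.lift_snd, Over.comp_left]
          rw [hp1]
          have : Surjective (pullback.map (ρO.left ≫ s.left) (ρO.left ≫ t.left) s.left t.left ρO.left ρO.left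
              (𝟙 _) (Category.comp_id _) (Category.comp_id _)) :=
            MorphismProperty.pullbackMap (P := @Surjective) hρOs hρOs rfl rfl
          infer_instance
        obtain ⟨μ₀, hμ₀⟩ := μ.left.surjective (μ'.left v)
        rw [hmc, Over.comp_left, Scheme.Hom.comp_apply, ← hμ₀, ← Scheme.Hom.comp_apply, ← Over.comp_left, hμ,
          Over.comp_left, Scheme.Hom.comp_apply]
        exact (hO _).2 ⟨_, rfl⟩
      exact ⟨n, by rw [← Category.assoc, hn, hm₁, Category.assoc], by rw [← Category.assoc, hn, hm₂, Category.assoc]⟩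
  have : Etale s.left := inferInstanceAs (Etale (O.ι ≫ s'.left))
  have : Etale t.left := inferInstanceAs (Etale (O.ι ≫ t'.left))
  -- the quotient
  obtain ⟨π, hπdef⟩ : ∃ π : (yon S).obj W' ⟶ QuotSh.quot Scheme.fppfPrecoverage s t,
      π = AlgSpPts.quotMap s t := ⟨_, rfl⟩
  have sqπ : IsPullback ((yon S).map t) ((yon S).map s) π π := by
    rw [hπdef]
    exact AlgSpPts.isPullback_quotMap hR
  have : Sheaf.IsLocallySurjective π := by
    rw [hπdef]
    have : Epi (QuotSh.quotπ Scheme.fppfPrecoverage s t) := by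
      unfold QuotSh.quotπ
      infer_instance
    exact (CategoryTheory.Sheaf.isLocallySurjective_iff_epi _).2 (epi_comp _ _)
  have hU' : IsAlgSpace (QuotSh.quot Scheme.fppfPrecoverage s t) := AlgSpDec.isAlgSpace_quot hR
  have hπr : Representable π := AlgSpDec.representable_of_kernelPair sqπ
  have hss : Surjective s.left := ⟨fun w => by
    obtain ⟨r, -, hr⟩ := (hR.equivalence W').refl (𝟙 W')
    exact ⟨r.left w, by rw [← Scheme.Hom.comp_apply, ← Over.comp_left, hr]; simp⟩⟩
  have := AlgSpPts.isLocalAtTarget_fppf (@Etale : MorphismProperty Scheme.{u})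
  have := AlgSpPts.isLocalAtTarget_fppf (@Surjective : MorphismProperty Scheme.{u})
  have hπe : RepWith @Etale π :=
    AlgSpPts.repWith_of_locallySurjective hπr _ sqπ @Etale ((repWith_yon_map_iff _ _).2 ‹Etale s.left›)
  have hπs : RepWith @Surjective π :=
    AlgSpPts.repWith_of_locallySurjective hπr _ sqπ @Surjective ((repWith_yon_map_iff _ _).2 hss)
  obtain ⟨b, hb⟩ : ∃ b : QuotSh.quot Scheme.fppfPrecoverage s t ⟶ X', π ≫ b = a' :=
    let r := Cofork.IsColimit.desc' (isColimitOfAtlas hπe hπs sqπ) a' (by
      simp only [t, s, Functor.map_comp, Category.assoc, sqP.w])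
    ⟨r.1, r.2⟩
  let Q := pullback i b
  let j : (yon S).obj W ⟶ Q := pullback.lift pW ((yon S).map γ ≫ π) (by rw [sqγ.w, Category.assoc, hb])
  have sqj : IsPullback ((yon S).map γ) j π (pullback.snd i b) := by
    refine IsPullback.of_bot (v₂₁ := pullback.fst i b) (v₂₂ := b) (h₃₁ := i) ?_ (pullback.lift_snd _ _ _).symm
      (IsPullback.of_hasPullback i b).flip
    rw [pullback.lift_fst, hb]
    exact sqγ.flip
  have hje : RepWith @Etale j := repWith_of_isPullback sqj hπe
  have hjs : RepWith @Surjective j := repWith_of_isPullback sqj hπs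
  obtain ⟨γR, hγR⟩ : ∃ g : R ⟶ R', g ≫ ι = ρ := exists_factor_open O ρ fun q => (hO _).2 ⟨q, rfl⟩
  have sqγR : IsPullback γR.left r₂.left s.left γ.left := by
    have sqO : IsPullback γR.left l.left O.ι z.left := by
      refine IsOpenImmersion.isPullback γR.left l.left O.ι z.left ?_ ?_
      · rw [hl₁]
        exact congrArg (fun k => k.left) hγR.symm
      · rw [Scheme.Opens.opensRange_ι]
        refine TopologicalSpace.Opens.ext (Set.ext fun q => ⟨?_, ?_⟩)
        · rintro ⟨q', hq', e⟩
          exact hbij.1 e ▸ hq'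
        · intro hq
          exact ⟨q, hq, rfl⟩
    have := sqO.paste_vert sqZ
    rw [show l.left ≫ zW.left = r₂.left by rw [← Over.comp_left, pullback.lift_snd]] at this
    exact this
  have sqR' : IsPullback ((yon S).map γR) ((yon S).map r₂) ((yon S).map s) ((yon S).map γ) :=
    (IsPullback.of_map (Over.forget S) (Over.OverMorphism.ext sqγR.w) sqγR).map (yon S)
  have hγRt : γR ≫ t = r₁ ≫ γ := by simp only [t, reassoc_of% hγR, hρ₁]
  have sqj' : IsPullback ((yon S).map r₁) ((yon S).map r₂) j j := by
    refine IsPullback.of_right (h₁₂ := (yon S).map γ) (v₁₃ := π) (h₂₂ := pullback.snd i b) ?_ ?_ sqj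
    · have e : (yon S).map γR ≫ (yon S).map t = (yon S).map r₁ ≫ (yon S).map γ :=
        ((yon S).map_comp _ _).symm.trans ((congrArg (fun k => (yon S).map k) hγRt).trans ((yon S).map_comp _ _))
      have hjπ : j ≫ pullback.snd i b = (yon S).map γ ≫ π := pullback.lift_snd _ _ _
      convert sqR'.paste_horiz sqπ using 1
      exact e.symm
    · apply pullback.hom_ext
      · rw [Category.assoc, pullback.lift_fst, Category.assoc, pullback.lift_fst, hpW, ← Category.assoc,
          ← Category.assoc, ← Functor.map_comp, ← Functor.map_comp, pullback.condition]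
      · have e₂ : r₂ ≫ γ = γR ≫ s := by simp only [s, reassoc_of% hγR, hρ₂]
        simp only [j, Category.assoc, pullback.lift_snd]
        refine (Category.assoc _ _ _).symm.trans (Eq.trans ?_ (Category.assoc _ _ _))
        refine (congrArg (· ≫ π) (((yon S).map_comp _ _).symm.trans (congrArg (fun k => (yon S).map k) hγRt.symm))).trans
          (Eq.trans ?_ (congrArg (· ≫ π) ((congrArg (fun k => (yon S).map k) e₂.symm).trans ((yon S).map_comp _ _))))
        simp only [Functor.map_comp, Category.assoc, sqπ.w]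
  have sqwU : IsPullback ((yon S).map r₁) ((yon S).map r₂) ((yon S).map wU) ((yon S).map wU) :=
    (IsPullback.of_hasPullback wU wU).map (yon S)
  have hwUe : RepWith @Etale ((yon S).map wU) := (repWith_yon_map_iff _ _).2 hwU
  have hwUs' : RepWith @Surjective ((yon S).map wU) := (repWith_yon_map_iff _ _).2 hwUs
  let c₁ := isColimitOfAtlas hwUe hwUs' sqwU
  let ε : (yon S).obj U ≅ Q := c₁.coconePointUniqueUpToIso (isColimitOfAtlas hje hjs sqj')
  have hε : (yon S).map wU ≫ ε.hom = j :=
    c₁.comp_coconePointUniqueUpToIso_hom (isColimitOfAtlas hje hjs sqj') WalkingParallelPair.one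
  have : Epi ((yon S).map wU) := epi_of_etale_surjective hwUe hwUs'
  have hεp : ε.hom ≫ pullback.fst i b = p := by
    rw [← cancel_epi ((yon S).map wU), ← Category.assoc, hε, pullback.lift_fst, hpW]
  -- the quotient is a scheme
  have hQ : IsAlgSpace Q := (IsAlgSpace.yon_obj U).of_iso ε
  obtain ⟨T, ⟨eT⟩⟩ := exists_scheme_of_thick hQ hU' (repWith_snd (P := thick) b hi) ε
  have hbe : IsEtaleMor b := (isEtaleMor_iff_locP hU' hX' b).2 (locP_of_chart hπe hπs ha'
    (show π ≫ b = (yon S).map (𝟙 W') ≫ a' by rw [hb, CategoryTheory.Functor.map_id, Category.id_comp])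
    (inferInstanceAs (Etale (𝟙 W'.left))))
  have hTe : RepWith @Etale (eT.hom ≫ b) := hbe eT.hom (repWith_of_isIso _ _)
  let sqT : pullback i b ≅ pullback i (eT.hom ≫ b) :=
    ⟨pullback.lift (pullback.fst i b) (pullback.snd i b ≫ eT.inv) (by simp [pullback.condition]),
      pullback.lift (pullback.fst _ _) (pullback.snd _ _ ≫ eT.hom) (by simp [pullback.condition]),
      by apply pullback.hom_ext <;> simp, by apply pullback.hom_ext <;> simp⟩
  exact ⟨T, eT.hom ≫ b, ε ≪≫ sqT, hTe, by simp [sqT, hεp]⟩

theorem bc_essSurj (hX : IsAlgSpace X) (hX' : IsAlgSpace X') (hi : IsThickMor i) :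
    (EtOver.bc hi.rep).EssSurj where
  mem_essImage E := by
    obtain ⟨T, b, ε, hb, hε⟩ := exists_lift hX hX' hi E.obj.hom E.property
    let E' : EtOver X' := EtOver.mk b hb
    let e := (hi.rep.isPullback b).isoPullback ≪≫ ε.symm
    refine ⟨E', ⟨(ObjectProperty.fullyFaithfulι _).preimageIso
      (CostructuredArrow.isoMk ((yon S).preimageIso e) ?_)⟩⟩
    change (yon S).map _ ≫ E.obj.hom = hi.rep.fst b
    rw [Functor.preimageIso_hom, Functor.map_preimage]
    simp [e, ← hε]

end Groth.Agent.AlgSpLib.EtLift
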