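import Groth.Prelude.Def_AlgSpEt
import Groth.Prelude.Def_AlgSpCov
import Groth.Agent.AlgSpLib.EtLocalInst
import Groth.Agent.AlgSpLib.EtaleSmoothLocal
import Groth.Agent.AlgSpLib.Points
import Mathlib.CategoryTheory.Sites.CoverLifting
import Mathlib.CategoryTheory.Sites.CoverPreserving

/-!
# The small etale site of a space in the big etale site
-/

set_option backward.isDefEq.respectTransparency false
set_option backward.isDefEq.respectTransparency.types false

universe u

open CategoryTheory CategoryTheory.Limits AlgebraicGeometry Opposite AlgSp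

namespace Groth.Agent.AlgSpLib.EtOverBig

variable {S : Scheme.{u}} {X Y : Space S}

/-- Coverings of the small etale site are jointly surjective. -/
theorem exists_mem_of_mem_etTop {X : Sp S} {E : EtOver X} {R : Sieve E} (hR : R ∈ etTop X E)
    (x : ↥E.obj.left.left) : ∃ (W : EtOver X) (h : W ⟶ E), R h ∧ x ∈ Set.range h.hom.left.left := by
  have hR' : (etPre X).Saturate E R := hR
  clear hR
  induction hR' with
  | of E P hP =>
    obtain ⟨ι, Y, g, rfl⟩ := P.exists_eq_ofArrows
    obtain ⟨i, hi⟩ := (ofArrows_mem_etPre_iff Y g).1 hP x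
    exact ⟨Y i, g i, Sieve.le_generate _ _ _ ⟨i⟩, hi⟩
  | top E => exact ⟨E, 𝟙 E, trivial, x, rfl⟩
  | pullback E R _ V g ih =>
    obtain ⟨W, h, hh, y, hy⟩ := ih (g.hom.left.left x)
    let P : Over S := pullback g.hom.left h.hom.left
    have sq : IsPullback (pullback.fst g.hom.left h.hom.left).left (pullback.snd g.hom.left h.hom.left).left
        g.hom.left.left h.hom.left.left := (IsPullback.of_hasPullback _ _).map (Over.forget S)
    have he : Etale (pullback.fst g.hom.left h.hom.left).left :=
      MorphismProperty.of_isPullback (P := @Etale) sq.flip (EtOver.etale_left h)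
    let E' : EtOver X := EtOver.mk ((yon S).map (pullback.fst g.hom.left h.hom.left) ≫ V.obj.hom)
      (repWith_comp ((repWith_yon_map_iff @Etale _).2 he) V.property)
    let p : E' ⟶ V := EtOver.homMk (pullback.fst g.hom.left h.hom.left) rfl
    let q : E' ⟶ W := EtOver.homMk (pullback.snd g.hom.left h.hom.left) (by
      show _ = (yon S).map _ ≫ V.obj.hom
      rw [← EtOver.w g, ← EtOver.w h, ← Category.assoc, ← Category.assoc, ← Functor.map_comp, ← Functor.map_comp,
        pullback.condition])
    refine ⟨E', p, ?_, ?_⟩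
    · show R (p ≫ g)
      have : p ≫ g = q ≫ h := EtOver.hom_ext _ _ pullback.condition
      rw [this]
      exact R.downward_closed hh q
    · obtain ⟨z, hz, -⟩ := Scheme.Pullback.exists_preimage_pullback x y hy.symm
      exact ⟨sq.isoPullback.inv z, by
        show (pullback.fst g.hom.left h.hom.left).left _ = x
        rw [← Scheme.Hom.comp_apply, sq.isoPullback_inv_fst, hz]⟩
  | transitive E R R' _ _ ih₁ ih₂ =>
    obtain ⟨W, h, hh, y, rfl⟩ := ih₁ x
    obtain ⟨W', h', hh', z, rfl⟩ := ih₂ hh y
    exact ⟨W', h' ≫ h, hh', z, rfl⟩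

/-- Coverings of spaces are refined etale locally on schemes. -/
theorem exists_mem_of_mem_spacesTop {X' : Space S} {R : Sieve X'} (hR : R ∈ spacesTop S IsEtaleMor X')
    (T : Over S) (t : (ofScheme S).obj T ⟶ X') (x : ↥T.left) :
    ∃ (W : Over S) (c : W ⟶ T), Etale c.left ∧ x ∈ Set.range c.left ∧ R ((ofScheme S).map c ≫ t) := by
  have hR' : (spacesPre S IsEtaleMor).Saturate X' R := hR
  clear hR
  induction hR' generalizing T with
  | of X' P hP =>
    obtain ⟨Y, g, hg, y, hy⟩ := hP.2 (Points.ofPt t.hom x)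
    let Q := pullback g.hom t.hom
    have hQ : IsAlgSpace Q := isAlgSpace_pullback Y.property (IsAlgSpace.yon_obj T) X'.property _ _
    have hsnd : IsEtaleMor (pullback.snd g.hom t.hom) :=
      isEtaleMor_of_isPullback (IsPullback.of_hasPullback _ _) Y.property X'.property (IsAlgSpace.yon_obj T)
        (hP.1 g hg)
    obtain ⟨z, -, hz⟩ := exists_point_of_isPullback (IsPullback.of_hasPullback g.hom t.hom)
      (hy.trans (Points.ofPt_eq_map_ofScheme t.hom x))
    obtain ⟨W, e, he, hes⟩ := hQ.atlas
    obtain ⟨w, rfl⟩ := surjective_ofPt hes z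
    obtain ⟨c, hc⟩ := (yon S).map_surjective (e ≫ pullback.snd g.hom t.hom)
    refine ⟨W, c, ?_, ⟨w, ?_⟩, ?_⟩
    · have h : IsEtaleMor ((yon S).map c) := by
        rw [hc]
        exact isEtaleMor_comp (IsAlgSpace.yon_obj W) hQ (IsAlgSpace.yon_obj T) (isEtaleMor_of_repWith he) hsnd
      exact (isEtaleMor_yon_map_iff c).1 h
    · rw [Points.map_ofPt, ← hc] at hz
      exact ((Points.toScheme_ofPt c w).symm.trans (congrArg (Points.toScheme T) hz)).trans
        (Points.toScheme_ofScheme T x)
    · refine ⟨Y, ObjectProperty.homMk (e ≫ pullback.fst g.hom t.hom), g, hg, ObjectProperty.hom_ext _ ?_⟩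
      show (e ≫ pullback.fst g.hom t.hom) ≫ g.hom = (yon S).map c ≫ t.hom
      rw [hc, Category.assoc, Category.assoc, pullback.condition]
  | top X' => exact ⟨T, 𝟙 T, inferInstanceAs (Etale (𝟙 T.left)), ⟨x, rfl⟩, trivial⟩
  | pullback X' R _ X'' g ih =>
    obtain ⟨W, c, hc, hx, hR⟩ := ih T (t ≫ g) x
    exact ⟨W, c, hc, hx, by rw [Sieve.pullback_apply, Category.assoc]; exact hR⟩
  | transitive X' R R' _ _ ih₁ ih₂ =>
    obtain ⟨W, c, hc, ⟨y, rfl⟩, hR⟩ := ih₁ T t x
    obtain ⟨W', c', hc', ⟨z, rfl⟩, hR'⟩ := ih₂ hR W (𝟙 _) y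
    refine ⟨W', c' ≫ c, inferInstanceAs (Etale (c'.left ≫ c.left)), ⟨z, rfl⟩, ?_⟩
    rw [Sieve.pullback_apply, Category.comp_id, ← Category.assoc, ← Functor.map_comp] at hR'
    exact hR'

variable (f : Y ⟶ X)

/-- The functor from the small etale site to the big one. -/
noncomputable abbrev bigFunctor : EtOver Y.obj ⥤ Over X :=
  EtOver.toEtSpOver Y ⋙ ObjectProperty.ι (fun E : Over Y => IsEtaleMor E.hom.hom) ⋙ Over.map f

theorem isCocontinuous : (bigFunctor f).IsCocontinuous (etTop Y.obj) (spacesTopOver IsEtaleMor X) where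
  cover_lift {U R} hR := by
    rw [GrothendieckTopology.mem_over_iff] at hR
    have key := exists_mem_of_mem_spacesTop hR U.obj.left (𝟙 _)
    choose W c hc hx hR' using key
    let E : ↥U.obj.left.left → EtOver Y.obj := fun x =>
      EtOver.mk ((yon S).map (c x) ≫ U.obj.hom) (repWith_comp ((repWith_yon_map_iff @Etale _).2 (hc x)) U.property)
    let g : ∀ x, E x ⟶ U := fun x => EtOver.homMk (c x) rfl
    refine (etTop Y.obj).superset_covering ?_ (ofArrows_mem_etTop E g fun x => ⟨x, hx x⟩)
    rw [Sieve.ofArrows, Sieve.generate_le_iff]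
    rintro _ _ ⟨x⟩
    show R ((bigFunctor f).map (g x))
    have h := (Sieve.overEquiv_iff _ _).1 (hR' x)
    rw [Category.comp_id] at h
    have e : (bigFunctor f).map (g x) =
        (Over.homMk (𝟙 _) (by
          apply ObjectProperty.hom_ext
          show 𝟙 _ ≫ (yon S).map (c x) ≫ U.obj.hom ≫ f.hom = ((yon S).map (c x) ≫ U.obj.hom) ≫ f.hom
          simp) : (bigFunctor f).obj (E x) ⟶ Over.mk ((ofScheme S).map (c x) ≫ ((bigFunctor f).obj U).hom)) ≫
          Over.homMk (V := (bigFunctor f).obj U) ((ofScheme S).map (c x)) := by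
      ext : 1
      exact (Category.id_comp _).symm
    rw [e]
    exact R.downward_closed h _

theorem coverPreserving : CoverPreserving (etTop Y.obj) (spacesTopOver IsEtaleMor X) (bigFunctor f) where
  cover_preserve {U R} hR := by
    rw [GrothendieckTopology.mem_over_iff]
    choose W h hh hx using exists_mem_of_mem_etTop hR
    let P : Presieve ((bigFunctor f).obj U).left :=
      Presieve.ofArrows _ fun x : ↥U.obj.left.left => ((bigFunctor f).map (h x)).left
    have hP : P ∈ spacesPre S IsEtaleMor ((bigFunctor f).obj U).left := by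
      refine ⟨?_, fun z => ?_⟩
      · rintro _ _ ⟨x⟩
        exact isEtaleMor_of_repWith ((repWith_yon_map_iff @Etale _).2 (EtOver.etale_left (h x)))
      · obtain ⟨x, rfl⟩ : ∃ x, Points.ofScheme U.obj.left x = z :=
          ⟨Points.toScheme U.obj.left z, Points.ofScheme_toScheme U.obj.left z⟩
        obtain ⟨w, hw⟩ := hx x
        refine ⟨_, _, ⟨x⟩, Points.ofScheme _ w, ?_⟩
        show Points.map ((yon S).map (h x).hom.left) _ = _
        rw [← Points.ofPt_eq_map_ofScheme, ← Category.comp_id ((yon S).map (h x).hom.left), ofPt_comp, hw]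
    refine GrothendieckTopology.superset_covering _ ?_ (Precoverage.generate_mem_toGrothendieck hP)
    rw [Sieve.generate_le_iff]
    rintro _ _ ⟨x⟩
    exact ⟨_, (bigFunctor f).map (h x), 𝟙 _, Sieve.image_mem_functorPushforward _ _ (hh x),
      (Category.id_comp _).symm⟩

theorem compatiblePreserving :
    CompatiblePreserving.{u + 2} (spacesTopOver IsEtaleMor X) (bigFunctor f) where
  compatible ℱ Z T x hx Y₁ Y₂ X' f₁ f₂ g₁ g₂ hg₁ hg₂ h := by
    let P : Over S := pullback g₁.hom.left g₂.hom.left
    have sq : IsPullback (pullback.fst g₁.hom.left g₂.hom.left) (pullback.snd g₁.hom.left g₂.hom.left)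
        g₁.hom.left g₂.hom.left := IsPullback.of_hasPullback _ _
    have he : Etale (pullback.fst g₁.hom.left g₂.hom.left).left :=
      MorphismProperty.of_isPullback (P := @Etale) (sq.map (Over.forget S)).flip (EtOver.etale_left g₂)
    let E' : EtOver Y.obj := EtOver.mk ((yon S).map (pullback.fst g₁.hom.left g₂.hom.left) ≫ Y₁.obj.hom)
      (repWith_comp ((repWith_yon_map_iff @Etale _).2 he) Y₁.property)
    let p₁ : E' ⟶ Y₁ := EtOver.homMk (pullback.fst g₁.hom.left g₂.hom.left) rfl
    let p₂ : E' ⟶ Y₂ := EtOver.homMk (pullback.snd g₁.hom.left g₂.hom.left) (by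
      show _ = (yon S).map _ ≫ Y₁.obj.hom
      rw [← EtOver.w g₁, ← EtOver.w g₂, ← Category.assoc, ← Category.assoc, ← Functor.map_comp,
        ← Functor.map_comp, pullback.condition])
    have hw : f₁.left.hom ≫ (yon S).map g₁.hom.left = f₂.left.hom ≫ (yon S).map g₂.hom.left :=
      congrArg (fun k : X' ⟶ (bigFunctor f).obj Z => k.left.hom) h
    let l : X'.left.obj ⟶ (yon S).obj P := (sq.map (yon S)).lift f₁.left.hom f₂.left.hom hw
    have hl₁ : l ≫ (yon S).map (pullback.fst g₁.hom.left g₂.hom.left) = f₁.left.hom := IsPullback.lift_fst _ _ _ _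
    have hl₂ : l ≫ (yon S).map (pullback.snd g₁.hom.left g₂.hom.left) = f₂.left.hom := IsPullback.lift_snd _ _ _ _
    let L : X' ⟶ (bigFunctor f).obj E' := Over.homMk (ObjectProperty.homMk l) (by
      apply ObjectProperty.hom_ext
      show l ≫ ((yon S).map _ ≫ Y₁.obj.hom) ≫ f.hom = X'.hom.hom
      rw [← Category.assoc, ← Category.assoc, hl₁, Category.assoc]
      exact congrArg InducedCategory.Hom.hom (Over.w f₁))
    have e₁ : f₁ = L ≫ (bigFunctor f).map p₁ := by ext : 2; exact hl₁.symm
    have e₂ : f₂ = L ≫ (bigFunctor f).map p₂ := by ext : 2; exact hl₂.symm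
    have hc : p₁ ≫ g₁ = p₂ ≫ g₂ := EtOver.hom_ext _ _ pullback.condition
    rw [e₁, e₂, op_comp, op_comp, Functor.map_comp_apply, Functor.map_comp_apply]
    exact congrArg _ (hx p₁ p₂ hg₁ hg₂ hc)

theorem isContinuous : (bigFunctor f).IsContinuous (etTop Y.obj) (spacesTopOver IsEtaleMor X) :=
  Functor.isContinuous_of_coverPreserving (compatiblePreserving f) (coverPreserving f)

end Groth.Agent.AlgSpLib.EtOverBig
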