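import Groth.Agent.EtFound.TopInv
import Groth.Prelude.Def_AlgSpOX2
import Groth.Agent.AlgSpLib.Points

/-!
# Base change of the small étale site along a universal homeomorphism is fully faithful
-/

set_option backward.isDefEq.respectTransparency false
set_option backward.isDefEq.respectTransparency.types false

universe u

open CategoryTheory CategoryTheory.Limits AlgebraicGeometry Opposite AlgSp

namespace Groth.Agent.AlgSpLib.EtTopInv

/-- Sections of an étale scheme over the source of a universal homeomorphism extend uniquely. -/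
theorem existsUnique_extend {T P Z : Scheme.{u}} (π : P ⟶ T) [Etale π] (c : Z ⟶ T) [IsIntegralHom c]
    [UniversallyInjective c] [Surjective c] (k : Z ⟶ P) (hk : k ≫ π = c) :
    ∃! σ : T ⟶ P, σ ≫ π = 𝟙 T ∧ c ≫ σ = k := by
  let Yo : Over T := Over.mk (𝟙 T)
  let Xo : Over T := Over.mk π
  have : Etale Xo.hom := inferInstanceAs (Etale π)
  let h : (CategoryTheory.Over.pullback c).obj Yo ⟶ (CategoryTheory.Over.pullback c).obj Xo :=
    CategoryTheory.Over.homMk (pullback.lift (pullback.snd Yo.hom c ≫ k) (pullback.snd Yo.hom c)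
      (by rw [Category.assoc]; exact congrArg (pullback.snd Yo.hom c ≫ ·) hk))
      (pullback.lift_snd _ _ _)
  let d : Z ⟶ pullback Yo.hom c := pullback.lift c (𝟙 Z) (by simp [Yo])
  have hd : d ≫ pullback.fst Yo.hom c = c := pullback.lift_fst _ _ _
  have key : ∀ φ : Yo ⟶ Xo, c ≫ φ.left = k ↔ (CategoryTheory.Over.pullback c).map φ = h := by
    intro φ
    constructor
    · intro hφ
      refine CategoryTheory.Over.OverMorphism.ext (pullback.hom_ext ?_ ?_)
      · refine (pullback.lift_fst _ _ _).trans (Eq.trans ?_ (pullback.lift_fst _ _ _).symm)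
        rw [← hφ, ← Category.assoc]
        congr 1
        have := pullback.condition (f := Yo.hom) (g := c)
        simpa [Yo] using this
      · exact (pullback.lift_snd _ _ _).trans (pullback.lift_snd _ _ _).symm
    · intro hφ
      have := congrArg (fun q => d ≫ q.left ≫ pullback.fst Xo.hom c) hφ
      simp only [CategoryTheory.Over.pullback_map_left, h, Over.homMk_left] at this
      erw [pullback.lift_fst, pullback.lift_fst] at this
      rw [← Category.assoc, hd] at this
      rw [this, ← Category.assoc, pullback.lift_snd, Category.id_comp]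
  obtain ⟨φ, hφ⟩ := EtFound.surjective_pullback_map c Xo Yo h
  refine ⟨φ.left, ⟨CategoryTheory.Over.w φ, (key φ).2 hφ⟩, fun σ hσ => ?_⟩
  let ψ : Yo ⟶ Xo := CategoryTheory.Over.homMk σ hσ.1
  exact congrArg (fun q => q.left) (EtFound.injective_pullback_map c Xo Yo (((key ψ).1 hσ.2).trans hφ.symm))

variable {S : Scheme.{u}} {X Y : Sp S} {f : X ⟶ Y}

theorem bc_faithful (hf : Representable f) (h1 : RepWith @IsIntegralHom f) (h2 : RepWith @UniversallyInjective f)
    (h3 : RepWith @Surjective f) : (EtOver.bc hf).Faithful where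
  map_injective {E E'} g g' h := by
    refine EtOver.hom_ext _ _ ?_
    let T := E.obj.left
    let c : hf.pullback E.obj.hom ⟶ T := hf.snd E.obj.hom
    have : IsIntegralHom c.left := h1.property _ _ _ (hf.isPullback E.obj.hom)
    have : UniversallyInjective c.left := h2.property _ _ _ (hf.isPullback E.obj.hom)
    have : Surjective c.left := h3.property _ _ _ (hf.isPullback E.obj.hom)
    let hr := E'.property.rep
    let π : hr.pullback E.obj.hom ⟶ T := hr.snd E.obj.hom
    have : Etale π.left := E'.property.property _ _ _ (hr.isPullback E.obj.hom)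
    let σ : (E ⟶ E') → (T ⟶ hr.pullback E.obj.hom) := fun g =>
      hr.lift' g.hom.left (𝟙 T) (by rw [EtOver.w g, CategoryTheory.Functor.map_id, Category.id_comp])
    have hc : ∀ g : E ⟶ E', c ≫ g.hom.left = (EtOver.bcMap hf g).hom.left ≫ hf.snd E'.obj.hom :=
      fun g => (EtOver.bcMap_snd hf g).symm
    have hb : (EtOver.bcMap hf g).hom.left = (EtOver.bcMap hf g').hom.left := congrArg (fun q => q.hom.left) h
    have e : c ≫ σ g = c ≫ σ g' := hr.hom_ext'
      (by rw [Category.assoc, Category.assoc, hr.lift'_fst, hr.lift'_fst, hc, hc, hb])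
      (by rw [Category.assoc, Category.assoc, hr.lift'_snd, hr.lift'_snd])
    obtain ⟨τ, -, hτ⟩ := existsUnique_extend π.left c.left (c ≫ σ g).left (by
      rw [← Over.comp_left, Category.assoc, hr.lift'_snd, Category.comp_id])
    have h₁ := hτ (σ g).left ⟨by rw [← Over.comp_left, hr.lift'_snd]; rfl, by rw [← Over.comp_left]⟩
    have h₂ := hτ (σ g').left ⟨by rw [← Over.comp_left, hr.lift'_snd]; rfl, by rw [← Over.comp_left, e]⟩
    have h₃ : σ g = σ g' := Over.OverMorphism.ext (h₁.trans h₂.symm)
    rw [← hr.lift'_fst g.hom.left (𝟙 T) (by rw [EtOver.w g, CategoryTheory.Functor.map_id, Category.id_comp])]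
    change σ g ≫ _ = _
    rw [h₃, hr.lift'_fst]

theorem bc_full (hf : Representable f) (h1 : RepWith @IsIntegralHom f) (h2 : RepWith @UniversallyInjective f)
    (h3 : RepWith @Surjective f) : (EtOver.bc hf).Full where
  map_surjective {E E'} ψ := by
    let T := E.obj.left
    let c : hf.pullback E.obj.hom ⟶ T := hf.snd E.obj.hom
    have : IsIntegralHom c.left := h1.property _ _ _ (hf.isPullback E.obj.hom)
    have : UniversallyInjective c.left := h2.property _ _ _ (hf.isPullback E.obj.hom)
    have : Surjective c.left := h3.property _ _ _ (hf.isPullback E.obj.hom)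
    let hr := E'.property.rep
    let π : hr.pullback E.obj.hom ⟶ T := hr.snd E.obj.hom
    have : Etale π.left := E'.property.property _ _ _ (hr.isPullback E.obj.hom)
    have hψ : (yon S).map ψ.hom.left ≫ hf.fst E'.obj.hom = hf.fst E.obj.hom := EtOver.w ψ
    let k : hf.pullback E.obj.hom ⟶ hr.pullback E.obj.hom := hr.lift' (ψ.hom.left ≫ hf.snd E'.obj.hom) c (by
      rw [Functor.map_comp, Category.assoc, ← hf.w E'.obj.hom]
      exact ((Category.assoc _ _ _).symm.trans (congrArg (· ≫ f) hψ)).trans (hf.w E.obj.hom))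
    have hk : k ≫ π = c := hr.lift'_snd _ _ _
    obtain ⟨τ, ⟨hτ₁, hτ₂⟩, -⟩ := existsUnique_extend π.left c.left k.left (by rw [← Over.comp_left, hk])
    let σ : T ⟶ hr.pullback E.obj.hom := CategoryTheory.Over.homMk τ (by
      rw [← Over.w π, ← Category.assoc, hτ₁, Category.id_comp])
    have hσπ : σ ≫ π = 𝟙 T := Over.OverMorphism.ext hτ₁
    have hσc : c ≫ σ = k := Over.OverMorphism.ext hτ₂
    refine ⟨EtOver.homMk (σ ≫ hr.fst' E.obj.hom) (by
      rw [Functor.map_comp, Category.assoc, (hr.isPullback' E.obj.hom).w, ← Category.assoc, ← Functor.map_comp, hσπ,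
        CategoryTheory.Functor.map_id, Category.id_comp]), EtOver.hom_ext _ _ (hf.hom_ext ?_ ?_)⟩
    · exact (EtOver.map_bcMap_fst hf _).trans hψ.symm
    · refine (EtOver.bcMap_snd hf _).trans ?_
      show c ≫ σ ≫ hr.fst' E.obj.hom = ψ.hom.left ≫ hf.snd E'.obj.hom
      rw [← Category.assoc, hσc, hr.lift'_fst]

end Groth.Agent.AlgSpLib.EtTopInv
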