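import Groth.Agent.AlgSpLib.FlatAt
import Groth.Agent.AlgSpDec.More
import Mathlib.AlgebraicGeometry.Noetherian
import Mathlib.AlgebraicGeometry.Properties

/-!
# The fibrewise criterion of flatness for locally Noetherian algebraic spaces
-/

set_option backward.isDefEq.respectTransparency false
set_option backward.isDefEq.respectTransparency.types false

universe u

open CategoryTheory CategoryTheory.Limits AlgebraicGeometry Opposite AlgSp IsLocalRing Groth.Agent.FibFlat

namespace Groth.Agent.AlgSpLib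

theorem maximalIdeal_stalk_spec_field (K : Type u) [Field K] (s : Spec (CommRingCat.of K)) :
    maximalIdeal ((Spec (CommRingCat.of K)).presheaf.stalk s) = ⊥ := by
  have : IsField ((Spec (CommRingCat.of K)).presheaf.stalk s) := by
    refine isField_stalk_of_closure_mem_irreducibleComponents _ s ?_
    have h : (closure {s} : Set (Spec (CommRingCat.of K))) = Set.univ :=
      Set.eq_univ_of_forall fun t => Subsingleton.elim s t ▸ subset_closure rfl
    rw [h, irreducibleComponents_eq_singleton]
    rfl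
  exact IsLocalRing.isField_iff_maximalIdeal_eq.1 this

theorem ff_of_flat_of_field {X Y : Scheme.{u}} (K : Type u) [Field K] (f : X ⟶ Y)
    (g : Y ⟶ Spec (CommRingCat.of K)) (x : X) (hf : (f.stalkMap x).hom.Flat) : FF f g x := by
  unfold FF FFl
  refine (quotientMap_flat_iff (sm f x (f x) rfl) (sm f x (f x) rfl) (RingHom.id _) (RingHom.id _)
    Function.surjective_id Function.surjective_id rfl (I := ⊥) (J := ⊥)
    (fun _ hz => RingHom.mem_ker.1 hz) (fun _ hz => RingHom.mem_ker.1 hz) ?_ ?_ bot_le _).1 ?_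
  · rw [maximalIdeal_stalk_spec_field, Ideal.map_bot, Ideal.map_bot]
  · rw [maximalIdeal_stalk_spec_field, Ideal.map_bot, Ideal.map_bot, Ideal.map_bot]
  · refine (flat_iff_of_bijective_square _ _ (Ideal.Quotient.mk ⊥) (Ideal.Quotient.mk ⊥)
      ⟨(RingHom.injective_iff_ker_eq_bot _).2 Ideal.mk_ker, Ideal.Quotient.mk_surjective⟩
      ⟨(RingHom.injective_iff_ker_eq_bot _).2 Ideal.mk_ker, Ideal.Quotient.mk_surjective⟩ ?_).1
      ((sm_flat_iff f x _ rfl).2 hf)
    rfl

theorem flatAt_of_flat_comp_of_ff {X Y Z : Scheme.{u}} [IsLocallyNoetherian X] [IsLocallyNoetherian Y]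
    [IsLocallyNoetherian Z] (f : X ⟶ Y) (g : Y ⟶ Z) (x : X) (hfl : ((f ≫ g).stalkMap x).hom.Flat)
    (hff : FF f g x) : (g.stalkMap (f x)).hom.Flat ∧ (f.stalkMap x).hom.Flat := by
  have h : ((sm f x (f x) rfl).comp (sm g (f x) (g (f x)) rfl)).Flat := by
    rw [← sm_comp f g x (f x) (g (f x)) rfl rfl, sm_flat_iff]
    exact hfl
  obtain ⟨h1, h2⟩ := noetherian_criterion _ _ h hff
  exact ⟨(sm_flat_iff _ _ _ rfl).1 h1, (sm_flat_iff _ _ _ rfl).1 h2⟩

variable {S : Scheme.{u}}

/-- The fibrewise criterion of flatness for locally Noetherian spaces. -/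
theorem flat_of_flat_fibres_noeth {X Y Z : Sp S} (hX : IsAlgSpace X) (hY : IsAlgSpace Y) (hZ : IsAlgSpace Z)
    (f : X ⟶ Y) (h : Y ⟶ Z) (hXn : IsLocNoethSp X) (hYn : IsLocNoethSp Y) (hZn : IsLocNoethSp Z)
    (hfl : LocP @Flat (f ≫ h))
    (hfib : ∀ (K : Type u) [Field K] (sK : Spec (CommRingCat.of K) ⟶ S)
      (z : (yon S).obj (Over.mk sK) ⟶ Z) (Xz Yz : Sp S)
      (pX : Xz ⟶ X) (qX : Xz ⟶ (yon S).obj (Over.mk sK))
      (pY : Yz ⟶ Y) (qY : Yz ⟶ (yon S).obj (Over.mk sK)) (fz : Xz ⟶ Yz),
      IsPullback pX qX (f ≫ h) z → IsPullback pY qY h z → fz ≫ pY = pX ≫ f → fz ≫ qY = qX →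
      LocP @Flat fz) :
    LocP @Flat f ∧ (Function.Surjective (Points.map f) → LocP @Flat h) := by
  obtain ⟨W, w, hw, hws⟩ := hZ.atlas
  obtain ⟨V, e, k, he, hes, hk⟩ := exists_chart_over hY hZ h w
  have hb : RepWith @Etale (e ≫ pullback.fst h w) := repWith_comp he (repWith_fst h hw)
  have hbs : RepWith @Surjective (e ≫ pullback.fst h w) := repWith_comp hes (repWith_fst h hws)
  obtain ⟨U, eX, m, heX, heXs, hm⟩ := exists_chart_over hX hY f (e ≫ pullback.fst h w)
  have ha : RepWith @Etale (eX ≫ pullback.fst f _) := repWith_comp heX (repWith_fst f hb)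
  have has : RepWith @Surjective (eX ≫ pullback.fst f _) := repWith_comp heXs (repWith_fst f hbs)
  have wk : (e ≫ pullback.fst h w) ≫ h = (yon S).map k ≫ w := by
    rw [Category.assoc, pullback.condition, ← Category.assoc, hk]
  have wm : (eX ≫ pullback.fst f _) ≫ f = (yon S).map m ≫ (e ≫ pullback.fst h w) := by
    rw [Category.assoc, pullback.condition, ← Category.assoc, hm]
  have wmk : (eX ≫ pullback.fst f _) ≫ f ≫ h = (yon S).map (m ≫ k) ≫ w := by
    rw [← Category.assoc, wm, Category.assoc, wk, Functor.map_comp, Category.assoc]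
  have hmfl : Flat (m.left ≫ k.left) := hfl _ w _ ha hw wmk
  have : IsLocallyNoetherian W.left := AlgSpDec.isLocallyNoetherian_chart hw hZn
  have : IsLocallyNoetherian V.left := AlgSpDec.isLocallyNoetherian_chart hb hYn
  have : IsLocallyNoetherian U.left := AlgSpDec.isLocallyNoetherian_chart ha hXn
  have main : ∀ u : U.left, (k.left.stalkMap (m.left u)).hom.Flat ∧ (m.left.stalkMap u).hom.Flat := by
    intro u
    let σ := W.left.fromSpecResidueField ((m.left ≫ k.left) u)
    let cW : Over.mk (σ ≫ W.hom) ⟶ W := Over.homMk σ rfl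
    let z : (yon S).obj (Over.mk (σ ≫ W.hom)) ⟶ Z := (yon S).map cW ≫ w
    let Yz := pullback h z
    let Xz := pullback (f ≫ h) z
    let fz : Xz ⟶ Yz := pullback.lift (pullback.fst (f ≫ h) z ≫ f) (pullback.snd (f ≫ h) z)
      ((Category.assoc _ _ _).trans pullback.condition)
    have hflz : LocP @Flat fz := hfib (W.left.residueField ((m.left ≫ k.left) u)) _ z Xz Yz _ _ _ _ fz
      (IsPullback.of_hasPullback (f ≫ h) z) (IsPullback.of_hasPullback h z) (pullback.lift_fst _ _ _)
      (pullback.lift_snd _ _ _)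
    have sY : IsPullback (pullback.fst h z) (pullback.snd h z) h z := IsPullback.of_hasPullback h z
    have sX : IsPullback (pullback.fst (f ≫ h) z) fz f (pullback.fst h z) := by
      refine IsPullback.of_bot ?_ (pullback.lift_fst _ _ _).symm sY
      rw [pullback.lift_snd]
      exact IsPullback.of_hasPullback (f ≫ h) z
    obtain ⟨V', cV, k', b', sV, hb', hbs', hbk', hbc⟩ :=
      exists_chart_baseChange sY (b' := 𝟙 _) (Category.id_comp _) hk he hes (repWith_id _ _) (repWith_id _ _)
    obtain ⟨U', cU, m', a', sU, ha', has', ham', hac⟩ :=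
      exists_chart_baseChange sX hbc hm heX heXs hb' hbs'
    have sUl : IsPullback cU.left m'.left m.left cV.left := sU.map (Over.forget S)
    have sVl : IsPullback cV.left k'.left k.left cW.left := sV.map (Over.forget S)
    obtain ⟨u', hu'⟩ : ∃ u' : U'.left, cU.left u' = u := by
      have sl := sUl.paste_vert sVl
      obtain ⟨y, hy, -⟩ := Scheme.Pullback.exists_preimage_pullback (f := m.left ≫ k.left) (g := cW.left) u
        (IsLocalRing.closedPoint (W.left.residueField ((m.left ≫ k.left) u)))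
        (W.left.fromSpecResidueField_apply _ _).symm
      refine ⟨sl.isoPullback.inv y, ?_⟩
      rw [← Scheme.Hom.comp_apply, sl.isoPullback_inv_fst, hy]
    have : Flat m'.left := hflz _ _ _ ha' hb' ham'
    subst hu'
    have hff : FF m.left k.left (cU.left u') :=
      ff_descend sVl sUl u' (ff_of_flat_of_field _ m'.left k'.left u' (Flat.stalkMap _ _))
    exact flatAt_of_flat_comp_of_ff m.left k.left _ (Flat.stalkMap (m.left ≫ k.left) _) hff
  refine ⟨locP_of_chart ha has hb wm (Flat.of_stalkMap _ fun u => (main u).2), fun hs => ?_⟩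
  refine locP_of_chart hb hbs hw wk (Flat.of_stalkMap _ fun v => ?_)
  obtain ⟨u, rfl⟩ : v ∈ Set.range m.left := by
    rw [range_chart_over (IsPullback.of_hasPullback f _) heXs hm]
    exact hs _
  exact (main u).1

end Groth.Agent.AlgSpLib
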