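import Mathlib.RingTheory.Unramified.Finite
import Mathlib.RingTheory.Etale.Basic
import Mathlib.RingTheory.Flat.EquationalCriterion
import Mathlib.RingTheory.RingHom.Flat
import Mathlib.RingTheory.RingHom.Unramified
import Mathlib.RingTheory.RingHom.FiniteType
import Mathlib.RingTheory.RingHom.Etale
import Mathlib.RingTheory.Nilpotent.Basic

/-!
# Flat and unramified algebras are formally etale
-/

set_option backward.isDefEq.respectTransparency false
set_option backward.isDefEq.respectTransparency.types false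

universe u

open TensorProduct

namespace Groth.Agent.AlgSpLib.FlatUnramFE

variable {C D : Type u} [CommRing C] [CommRing D] [Algebra C D]

/-- An element of a flat algebra killed by `c` and mapping to one modulo a square-zero ideal forces `c = 0`. -/
theorem eq_zero_of_smul_eq_zero [Module.Flat C D] (J : Ideal C) (hJ : J ^ 2 = ⊥)
    (s : D →ₐ[C] C ⧸ J) {c : C} {e : D} (he : s e = 1) (h : c • e = 0) : c = 0 := by
  obtain ⟨k, a, y, h1, h2⟩ := Module.Flat.isTrivialRelation_of_sum_smul_eq_zero (R := C) (M := D) (f := fun _ : Fin 1 => c)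
    (x := fun _ => e) (by simpa using h)
  choose d hd using fun j => Ideal.Quotient.mk_surjective (s (y j))
  have h3 : Ideal.Quotient.mk J (∑ j, a 0 j * d j) = 1 := by
    have h1' : e = ∑ j, a 0 j • y j := h1 0
    rw [← he, h1', map_sum, map_sum]
    refine Finset.sum_congr rfl fun j _ => ?_
    rw [map_mul, hd, map_smul, Algebra.smul_def, Ideal.Quotient.algebraMap_eq]
  have h4 : IsUnit (∑ j, a 0 j * d j) := by
    have hmem : 1 - ∑ j, a 0 j * d j ∈ J := by
      rw [← Ideal.Quotient.eq, map_one, h3]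
    have hn : IsNilpotent (-(1 - ∑ j, a 0 j * d j)) := by
      refine ⟨2, ?_⟩
      have := Ideal.pow_mem_pow hmem 2
      rw [hJ, Ideal.mem_bot] at this
      rw [neg_sq, this]
    simpa using hn.isUnit_one_add
  refine (h4.mul_left_eq_zero).1 ?_
  rw [Finset.mul_sum]
  exact Finset.sum_eq_zero fun j _ => by
    have : c * a 0 j = 0 := by simpa using h2 j
    rw [← mul_assoc, this, zero_mul]

/-- A section modulo a square-zero ideal of a flat unramified algebra lifts. -/
theorem exists_lift [Module.Flat C D] [Algebra.FormallyUnramified C D] [Algebra.EssFiniteType C D]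
    (J : Ideal C) (hJ : J ^ 2 = ⊥) (s : D →ₐ[C] C ⧸ J) :
    ∃ l : D →ₐ[C] C, (Ideal.Quotient.mkₐ C J).comp l = s := by
  obtain ⟨t, ht, ht1⟩ := Algebra.FormallyUnramified.iff_exists_tensorProduct.1
    (inferInstance : Algebra.FormallyUnramified C D)
  let JD : Ideal D := J.map (algebraMap C D)
  let ψ : C ⧸ J →ₐ[C] D ⧸ JD :=
    Ideal.Quotient.liftₐ J (Algebra.ofId C (D ⧸ JD)) fun c hc => by
      show Ideal.Quotient.mk JD (algebraMap C D c) = 0
      exact Ideal.Quotient.eq_zero_iff_mem.2 (Ideal.mem_map_of_mem _ hc)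
  let φ : D ⊗[C] D →ₐ[C] D ⧸ JD :=
    Algebra.TensorProduct.lift (Ideal.Quotient.mkₐ C JD) (ψ.comp s) fun _ _ => Commute.all _ _
  let sbar : D ⧸ JD →ₐ[C] C ⧸ J := Ideal.Quotient.liftₐ JD s fun d hd => by
    have : JD ≤ RingHom.ker s.toRingHom := Ideal.map_le_iff_le_comap.2 fun c hc => by
      show s (algebraMap C D c) = 0
      rw [AlgHom.commutes]
      exact Ideal.Quotient.eq_zero_iff_mem.2 hc
    exact this hd
  obtain ⟨e₀, he₀⟩ := Ideal.Quotient.mk_surjective (φ t)
  have hφ : ∀ x : D, φ t * Ideal.Quotient.mk JD x = φ t * ψ (s x) := fun x => by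
    have := congrArg φ (ht x)
    rw [map_mul, map_zero, map_sub] at this
    simp only [φ, Algebra.TensorProduct.lift_tmul, map_one, one_mul, mul_one, AlgHom.comp_apply] at this ⊢
    rw [sub_mul] at this
    rw [mul_comm _ (Ideal.Quotient.mk JD x), mul_comm _ (ψ (s x))]
    exact (sub_eq_zero.1 this).symm
  have hs0 : s e₀ = 1 := by
    have hcomp : sbar.comp φ = s.comp (Algebra.TensorProduct.lmul' C (S := D)) := by
      have hsψ : ∀ c, sbar (ψ c) = c := fun c => by
        obtain ⟨c, rfl⟩ := Ideal.Quotient.mk_surjective c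
        exact AlgHom.commutes sbar c |>.trans (by rfl)
      refine Algebra.TensorProduct.ext ?_ ?_
      · ext x
        simp [φ, sbar]
      · ext x
        simp [φ, hsψ]
    calc s e₀ = sbar (Ideal.Quotient.mk JD e₀) := rfl
      _ = 1 := by rw [he₀, ← AlgHom.comp_apply, hcomp, AlgHom.comp_apply, ht1, map_one]
  have hidem : e₀ ^ 2 - e₀ ∈ JD := by
    rw [← Ideal.Quotient.eq, map_pow, he₀, pow_two]
    conv_lhs => arg 2; rw [← he₀]
    rw [hφ, hs0, map_one, mul_one]
  let e : D := 3 * e₀ ^ 2 - 2 * e₀ ^ 3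
  have hJD : ∀ {a b : D}, a ∈ JD → b ∈ JD → a * b = 0 := fun {a b} ha hb => by
    have h := Ideal.mul_mem_mul ha hb
    rw [← Ideal.map_mul, ← pow_two, hJ, Ideal.map_bot, Ideal.mem_bot] at h
    exact h
  have he2 : e * e = e := by
    have hq := hJD hidem hidem
    simp only [e]
    linear_combination (4 * e₀ ^ 2 - 4 * e₀ - 3) * hq
  have he_mk : Ideal.Quotient.mk JD e = φ t := by
    rw [← he₀, Ideal.Quotient.eq]
    have : e - e₀ = (e₀ ^ 2 - e₀) * (1 - 2 * e₀) := by simp only [e]; ring
    exact this ▸ Ideal.mul_mem_right _ _ hidem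
  have hse : s e = 1 := by
    simp only [e, map_sub, map_mul, map_pow, hs0, map_ofNat]
    norm_num
  have hJc : ∀ x : D, ∀ c : C, Ideal.Quotient.mk J c = s x → (x - algebraMap C D c) * e ∈ JD := fun x c hc => by
    rw [← Ideal.Quotient.eq_zero_iff_mem, map_mul, he_mk, map_sub, mul_comm, mul_sub, hφ, ← hc, sub_eq_zero]
    congr 1
  have hsurj : ∀ x : D, ∃ c : C, x * e = c • e := by
    have key : ∀ j ∈ JD, ∃ c : C, j * e = c • e := by
      intro j hj
      have hj' : j ∈ (J • ⊤ : Submodule C D) := by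
        rw [Ideal.smul_top_eq_map]
        exact hj
      refine Submodule.smul_induction_on hj' (fun r hr d _ => ?_) fun a b ⟨c₁, h₁⟩ ⟨c₂, h₂⟩ =>
        ⟨c₁ + c₂, by rw [add_mul, h₁, h₂, add_smul]⟩
      obtain ⟨c, hc⟩ := Ideal.Quotient.mk_surjective (s d)
      refine ⟨r * c, ?_⟩
      have h := hJD (Ideal.mem_map_of_mem (algebraMap C D) hr) (hJc d c hc)
      simp only [Algebra.smul_def, map_mul]
      linear_combination h
    intro x
    obtain ⟨c, hc⟩ := Ideal.Quotient.mk_surjective (s x)
    obtain ⟨c', h'⟩ := key _ (hJc x c hc)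
    refine ⟨c + c', ?_⟩
    rw [mul_assoc, he2] at h'
    simp only [Algebra.smul_def, map_add] at h' ⊢
    linear_combination h'
  have hinj : ∀ {c c' : C}, c • e = c' • e → c = c' := fun {c c'} h =>
    sub_eq_zero.1 (eq_zero_of_smul_eq_zero J hJ s hse (by rw [sub_smul, h, sub_self]))
  choose l hl using hsurj
  refine ⟨
    { toFun := l
      map_one' := hinj (by rw [← hl, one_mul, one_smul])
      map_mul' := fun x y => hinj (by
        rw [← hl, mul_smul, ← hl, ← mul_smul_comm, ← hl]
        ring)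
      map_zero' := hinj (by rw [← hl, zero_mul, zero_smul])
      map_add' := fun x y => hinj (by rw [← hl, add_smul, ← hl, ← hl, add_mul])
      commutes' := fun c => hinj (by rw [← hl, Algebra.smul_def]; rfl) }, AlgHom.ext fun x => ?_⟩
  have := congrArg s (hl x)
  rw [map_mul, hse, mul_one, map_smul, hse] at this
  show Ideal.Quotient.mk J (l x) = s x
  rw [this, Algebra.smul_def, mul_one]
  rfl

variable (A B : Type u) [CommRing A] [CommRing B] [Algebra A B]

theorem formallyEtale [Module.Flat A B] [Algebra.FormallyUnramified A B] [Algebra.EssFiniteType A B] :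
    Algebra.FormallyEtale A B := by
  refine Algebra.FormallyEtale.iff_comp_bijective.2 fun C _ _ J hJ => ⟨
    Algebra.FormallyUnramified.comp_injective J hJ, fun g => ?_⟩
  let s : C ⊗[A] B →ₐ[C] C ⧸ J :=
    Algebra.TensorProduct.lift (Algebra.ofId C (C ⧸ J)) g fun _ _ => Commute.all _ _
  obtain ⟨l, hl⟩ := exists_lift J hJ s
  refine ⟨(l.restrictScalars A).comp Algebra.TensorProduct.includeRight, AlgHom.ext fun b => ?_⟩
  have := DFunLike.congr_fun hl ((1 : C) ⊗ₜ[A] b)
  simpa [s] using this

theorem ringHom_formallyEtale {A B : Type u} [CommRing A] [CommRing B] (φ : A →+* B) (hfl : φ.Flat)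
    (hfu : φ.FormallyUnramified) (hft : φ.FiniteType) : φ.FormallyEtale := by
  algebraize [φ]
  exact formallyEtale A B

end Groth.Agent.AlgSpLib.FlatUnramFE
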