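import Groth.Agent.AlgSpLib.FlatUnramFE
import Groth.Agent.MorLib.FormallyEtaleHom
import Mathlib.AlgebraicGeometry.Morphisms.Flat
import Mathlib.AlgebraicGeometry.Morphisms.FormallyUnramified
import Mathlib.AlgebraicGeometry.Morphisms.FiniteType

/-!
# Flat and unramified morphisms of schemes are formally etale
-/

set_option backward.isDefEq.respectTransparency false
set_option backward.isDefEq.respectTransparency.types false

universe u

open CategoryTheory AlgebraicGeometry

namespace Groth.Agent.AlgSpLib.FlatUnramFE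

theorem isFormallyEtaleHom {X Y : Scheme.{u}} (f : X ⟶ Y) [LocallyOfFiniteType f] [FormallyUnramified f] [Flat f] :
    MoreMor.IsFormallyEtaleHom f := by
  rw [Groth.Agent.MorLib.isFormallyEtaleHom_iff_appLE]
  intro U V hU hV e
  exact ringHom_formallyEtale _ (HasRingHomProperty.appLE (P := @Flat) f ‹_› ⟨V, hV⟩ ⟨U, hU⟩ e)
    (HasRingHomProperty.appLE (P := @FormallyUnramified) f ‹_› ⟨V, hV⟩ ⟨U, hU⟩ e)
    (HasRingHomProperty.appLE (P := @LocallyOfFiniteType) f ‹_› ⟨V, hV⟩ ⟨U, hU⟩ e)

end Groth.Agent.AlgSpLib.FlatUnramFE
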