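import Groth.Prelude.Def_AlgSpInf
import Groth.Agent.AlgSpLib.Rep

/-!
# Formal properties of morphisms of sheaves
-/

set_option backward.isDefEq.respectTransparency false
set_option backward.isDefEq.respectTransparency.types false

universe u

open CategoryTheory CategoryTheory.Limits AlgebraicGeometry Opposite AlgSp

namespace Groth.Agent.AlgSpLib

variable {S : Scheme.{u}} {F G H P : Sp S}

/-- The square for the first morphism with the same top and a given lift of the bottom. -/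
noncomputable def infSqFirst {a : F ⟶ G} {b : G ⟶ H} (sq : InfSq (a ≫ b)) (l : (yon S).obj sq.ptT' ⟶ G)
    (hl : (yon S).map sq.j ≫ l = sq.top ≫ a) : InfSq a :=
  { A := sq.A, I := sq.I, sq_zero := sq.sq_zero, str := sq.str, top := sq.top, bot := l, comm := hl.symm }

/-- The square for the second morphism. -/
noncomputable def infSqSecond {a : F ⟶ G} {b : G ⟶ H} (sq : InfSq (a ≫ b)) : InfSq b :=
  { A := sq.A, I := sq.I, sq_zero := sq.sq_zero, str := sq.str, top := sq.top ≫ a, bot := sq.bot,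
    comm := (Category.assoc _ _ _).trans sq.comm }

theorem isFormallySmoothMor_comp {a : F ⟶ G} {b : G ⟶ H} (ha : IsFormallySmoothMor a)
    (hb : IsFormallySmoothMor b) : IsFormallySmoothMor (a ≫ b) := fun sq => by
  obtain ⟨l, hl₁, hl₂⟩ := hb (infSqSecond sq)
  obtain ⟨m, hm₁, hm₂⟩ := ha (infSqFirst sq l hl₁)
  exact ⟨m, hm₁, by rw [← Category.assoc]; exact (congrArg (· ≫ b) hm₂).trans hl₂⟩

theorem isFormallyUnramifiedMor_comp {a : F ⟶ G} {b : G ⟶ H} (ha : IsFormallyUnramifiedMor a)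
    (hb : IsFormallyUnramifiedMor b) : IsFormallyUnramifiedMor (a ≫ b) := fun sq m m' h₁ h₂ h₁' h₂' => by
  have e : m ≫ a = m' ≫ a :=
    hb (infSqSecond sq) _ _ ((Category.assoc _ _ _).symm.trans (congrArg (· ≫ a) h₁))
      ((Category.assoc _ _ _).trans h₂) ((Category.assoc _ _ _).symm.trans (congrArg (· ≫ a) h₁'))
      ((Category.assoc _ _ _).trans h₂')
  exact ha (infSqFirst sq (m ≫ a) ((Category.assoc _ _ _).symm.trans (congrArg (· ≫ a) h₁))) m m' h₁
    rfl h₁' e.symm

theorem isFormallyEtaleMor_iff (a : F ⟶ G) :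
    IsFormallyEtaleMor a ↔ IsFormallySmoothMor a ∧ IsFormallyUnramifiedMor a :=
  ⟨fun h => ⟨fun sq => (h sq).exists, fun sq _ _ h₁ h₂ h₁' h₂' => (h sq).unique ⟨h₁, h₂⟩ ⟨h₁', h₂'⟩⟩,
    fun h sq => existsUnique_of_exists_of_unique (h.1 sq)
      fun _ _ e e' => h.2 sq _ _ e.1 e.2 e'.1 e'.2⟩

theorem isFormallyEtaleMor_comp {a : F ⟶ G} {b : G ⟶ H} (ha : IsFormallyEtaleMor a)
    (hb : IsFormallyEtaleMor b) : IsFormallyEtaleMor (a ≫ b) := by
  rw [isFormallyEtaleMor_iff] at *
  exact ⟨isFormallySmoothMor_comp ha.1 hb.1, isFormallyUnramifiedMor_comp ha.2 hb.2⟩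

/-- A square for a base change gives a square for the morphism. -/
noncomputable def infSqBase {a : F ⟶ G} {b : H ⟶ G} {b' : P ⟶ F} {a' : P ⟶ H} (hP : IsPullback b' a' a b)
    (sq : InfSq a') : InfSq a :=
  { A := sq.A, I := sq.I, sq_zero := sq.sq_zero, str := sq.str, top := sq.top ≫ b', bot := sq.bot ≫ b,
    comm := by rw [Category.assoc, hP.w, ← Category.assoc, sq.comm, Category.assoc] }

theorem isFormallySmoothMor_of_isPullback {a : F ⟶ G} {b : H ⟶ G} {b' : P ⟶ F} {a' : P ⟶ H}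
    (hP : IsPullback b' a' a b) (ha : IsFormallySmoothMor a) : IsFormallySmoothMor a' := fun sq => by
  obtain ⟨l, h₁, h₂⟩ := ha (infSqBase hP sq)
  refine ⟨hP.lift l sq.bot h₂, ?_, hP.lift_snd _ _ _⟩
  apply hP.hom_ext
  · rw [Category.assoc, hP.lift_fst]
    exact h₁
  · rw [Category.assoc, hP.lift_snd]
    exact sq.comm.symm

theorem isFormallyUnramifiedMor_of_isPullback {a : F ⟶ G} {b : H ⟶ G} {b' : P ⟶ F} {a' : P ⟶ H}
    (hP : IsPullback b' a' a b) (ha : IsFormallyUnramifiedMor a) : IsFormallyUnramifiedMor a' :=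
  fun sq l l' h₁ h₂ h₁' h₂' => by
  apply hP.hom_ext
  · refine ha (infSqBase hP sq) (l ≫ b') (l' ≫ b') ((Category.assoc _ _ _).symm.trans (congrArg (· ≫ b') h₁))
      ?_ ((Category.assoc _ _ _).symm.trans (congrArg (· ≫ b') h₁')) ?_
    · rw [Category.assoc, hP.w, ← Category.assoc, h₂]; rfl
    · rw [Category.assoc, hP.w, ← Category.assoc, h₂']; rfl
  · rw [h₂, h₂']

/-- A square for the first morphism gives a square for the composite. -/
noncomputable def infSqComp {a : F ⟶ G} (b : G ⟶ H) (sq : InfSq a) : InfSq (a ≫ b) :=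
  { A := sq.A, I := sq.I, sq_zero := sq.sq_zero, str := sq.str, top := sq.top, bot := sq.bot ≫ b,
    comm := by rw [← Category.assoc, sq.comm, Category.assoc] }

theorem isFormallyUnramifiedMor_of_comp {a : F ⟶ G} {b : G ⟶ H}
    (h : IsFormallyUnramifiedMor (a ≫ b)) : IsFormallyUnramifiedMor a := fun sq l l' h₁ h₂ h₁' h₂' =>
  h (infSqComp b sq) l l' h₁ ((Category.assoc _ _ _).symm.trans (congrArg (· ≫ b) h₂)) h₁'
    ((Category.assoc _ _ _).symm.trans (congrArg (· ≫ b) h₂'))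

theorem isFormallySmoothMor_of_comp {a : F ⟶ G} {b : G ⟶ H} (hb : IsFormallyUnramifiedMor b)
    (h : IsFormallySmoothMor (a ≫ b)) : IsFormallySmoothMor a := fun sq => by
  obtain ⟨l, h₁, h₂⟩ := h (infSqComp b sq)
  refine ⟨l, h₁, hb (infSqSecond (infSqComp b sq)) _ _ ((Category.assoc _ _ _).symm.trans (congrArg (· ≫ a) h₁))
    ((Category.assoc _ _ _).trans h₂) sq.comm.symm rfl⟩

end Groth.Agent.AlgSpLib
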