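import Groth.Agent.AlgSpLib.ClosedImmDesc
import Groth.Agent.AlgSpLib.FlatAt
import Groth.Agent.AlgSpLib.AffineDescProps
import Groth.Prelude.Def_AlgSpMor5
import Mathlib.RingTheory.Flat.Localization

/-!
# The fpqc covering of formal glueing
-/

set_option backward.isDefEq.respectTransparency false
set_option backward.isDefEq.respectTransparency.types false

universe u

open CategoryTheory CategoryTheory.Limits AlgebraicGeometry Opposite AlgSp

namespace Groth.Agent.AlgSpLib

/-- A morphism of affine spectra flat over a closed set has a flat localization meeting all fibres over it. -/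
theorem exists_flat_localization {A B : CommRingCat.{u}} (φ : A ⟶ B) (C : Set (Spec A)) (hC : IsClosed C)
    (h : ∀ y : Spec B, Spec.map φ y ∈ C → ((Spec.map φ).stalkMap y).hom.Flat) :
    ∃ (B' : CommRingCat.{u}) (ψ : B ⟶ B'), Flat (Spec.map ψ ≫ Spec.map φ) ∧
      ∀ y : Spec B, Spec.map φ y ∈ C → y ∈ Set.range (Spec.map ψ) := by
  let I : Ideal A := PrimeSpectrum.vanishingIdeal (C : Set (PrimeSpectrum A))
  have hI : PrimeSpectrum.zeroLocus (I : Set A) = (C : Set (PrimeSpectrum A)) := by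
    rw [PrimeSpectrum.zeroLocus_vanishingIdeal_eq_closure]
    exact hC.closure_eq
  let J : Ideal B := I.map φ.hom
  let M : Submonoid B :=
    { carrier := {x | x - 1 ∈ J}
      one_mem' := by simp
      mul_mem' := fun {x y} hx hy => by
        have e : x * y - 1 = (x - 1) * y + (y - 1) := by ring
        show x * y - 1 ∈ J
        rw [e]
        exact J.add_mem (J.mul_mem_right _ hx) hy }
  let L := Localization M
  let ψ : B ⟶ CommRingCat.of L := CommRingCat.ofHom (algebraMap B L)
  have hmax : ∀ (P : Ideal L), P.IsMaximal → J.map (algebraMap B L) ≤ P := fun P hP => by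
    refine Ideal.map_le_iff_le_comap.2 fun b hb => ?_
    by_contra hb'
    obtain ⟨y, n, hn, e⟩ := hP.exists_inv hb'
    obtain ⟨⟨c, d⟩, rfl⟩ := IsLocalization.mk'_surjective M y
    refine hP.ne_top (P.eq_top_of_isUnit_mem hn ?_)
    have hd : (d : B) - c * b ∈ M := by
      show (d : B) - c * b - 1 ∈ J
      have e' : (d : B) - c * b - 1 = ((d : B) - 1) - c * b := by ring
      rw [e']
      exact J.sub_mem d.2 (J.mul_mem_left _ hb)
    have hu : IsUnit (algebraMap B L d) := IsLocalization.map_units L d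
    have : algebraMap B L d * n = algebraMap B L ((d : B) - c * b) := by
      rw [show n = 1 - IsLocalization.mk' L c d * algebraMap B L b by rw [← e]; ring, mul_sub, mul_one,
        ← mul_assoc, IsLocalization.mk'_spec', map_sub, map_mul]
    exact (IsUnit.mul_iff.1 (this ▸ IsLocalization.map_units L (⟨_, hd⟩ : M))).2
  have key : ∀ (P : Ideal L) [P.IsMaximal], (Spec.map (φ ≫ ψ) ⟨P, inferInstance⟩ : Spec A) ∈ C := fun P hP => by
    show (_ : PrimeSpectrum A) ∈ (C : Set (PrimeSpectrum A))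
    rw [← hI]
    intro a ha
    exact hmax P hP (Ideal.mem_map_of_mem _ (Ideal.mem_map_of_mem _ ha))
  refine ⟨CommRingCat.of L, ψ, ?_, fun y hy => ?_⟩
  · rw [← Spec.map_comp, HasRingHomProperty.Spec_iff (P := @Flat)]
    let := (φ ≫ ψ).hom.toAlgebra
    show Module.Flat A L
    have : ∀ (P : Ideal L) [P.IsPrime], IsScalarTower A L (Localization.AtPrime P) := fun P _ => inferInstance
    refine Module.flat_of_isLocalized_maximal (R := A) L L (fun P _ => Localization.AtPrime P)
      (fun P _ => Algebra.linearMap L _) fun P hP => ?_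
    have hf : ((Spec.map (φ ≫ ψ)).stalkMap ⟨P, inferInstance⟩).hom.Flat := by
      rw [Spec.map_comp]
      refine (flatAt_comp_left_iff (Spec.map ψ) (Spec.map φ) (⟨P, inferInstance⟩ : PrimeSpectrum L) ?_).2 (h _ ?_)
      · have : Flat (Spec.map ψ) := (HasRingHomProperty.Spec_iff (P := @Flat)).2
          ((RingHom.flat_algebraMap_iff).2 (IsLocalization.flat L M))
        exact Flat.stalkMap _ _
      · exact key P
    let p : PrimeSpectrum A := PrimeSpectrum.comap (φ ≫ ψ).hom ⟨P, inferInstance⟩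
    have hf' : (Localization.localRingHom p.asIdeal P (φ ≫ ψ).hom rfl).Flat :=
      (RingHom.Flat.respectsIso.arrow_mk_iso_iff
        (Scheme.arrowStalkMapSpecIso (φ ≫ ψ) ⟨P, inferInstance⟩)).1 hf
    rw [← RingHom.flat_algebraMap_iff]
    have e : algebraMap A (Localization.AtPrime P) =
        (Localization.localRingHom p.asIdeal P (φ ≫ ψ).hom rfl).comp (algebraMap A _) := by
      ext x
      rw [RingHom.comp_apply, Localization.localRingHom_to_map, IsScalarTower.algebraMap_apply A L]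
      rfl
    rw [e]
    exact (RingHom.flat_algebraMap_iff.2 (IsLocalization.flat _ p.asIdeal.primeCompl)).comp hf'
  · let q : PrimeSpectrum B := y
    have hd : Disjoint (M : Set B) (q.asIdeal : Set B) := Set.disjoint_left.2 fun x hx hxq => by
      have hIq : J ≤ q.asIdeal := Ideal.map_le_iff_le_comap.2 fun a ha => by
        have hy' : (PrimeSpectrum.comap φ.hom q : PrimeSpectrum A) ∈ PrimeSpectrum.zeroLocus (I : Set A) := by
          rw [hI]; exact hy
        exact hy' ha
      apply q.isPrime.ne_top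
      rw [Ideal.eq_top_iff_one]
      have := q.asIdeal.sub_mem hxq (hIq hx)
      simpa using this
    exact (PrimeSpectrum.localization_comap_range L M).ge hd

/-- The complement of a finitely presented closed subscheme of an affine scheme is quasi-compact. -/
theorem isCompact_compl_range {Z V : Scheme.{u}} (j : Z ⟶ V) [IsAffine V] [IsClosedImmersion j]
    [LocallyOfFinitePresentation j] : IsCompact (Set.range j)ᶜ := by
  obtain ⟨hZ, hsurj⟩ := IsClosedImmersion.isAffine_surjective_of_isAffine j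
  let φ := j.appTop.hom
  have hfp : φ.FinitePresentation := HasRingHomProperty.appTop (P := @LocallyOfFinitePresentation) _ ‹_›
  let := φ.toAlgebra
  have : Algebra.FinitePresentation Γ(V, ⊤) Γ(Z, ⊤) := hfp
  have hfg : (RingHom.ker φ).FG :=
    Algebra.FinitePresentation.ker_fG_of_surjective (Algebra.ofId Γ(V, ⊤) Γ(Z, ⊤)) hsurj
  have hc : IsCompact ((PrimeSpectrum.zeroLocus (RingHom.ker φ : Set Γ(V, ⊤)))ᶜ :
      Set (PrimeSpectrum Γ(V, ⊤))) :=
    (PrimeSpectrum.isCompact_isOpen_iff_ideal.2 ⟨_, hfg, rfl⟩).1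
  have hr : Set.range (Spec.map j.appTop) = (PrimeSpectrum.zeroLocus (RingHom.ker φ : Set Γ(V, ⊤)) :
      Set (PrimeSpectrum Γ(V, ⊤))) := range_comap_of_surjective _ φ hsurj
  have he : Set.range j = V.isoSpec.hom ⁻¹' Set.range (Spec.map j.appTop) := by
    have hn := Scheme.isoSpec_hom_naturality j
    ext v
    refine ⟨?_, fun ⟨y, hy⟩ => ⟨Z.isoSpec.inv y, V.isoSpec.hom.homeomorph.injective ?_⟩⟩
    · rintro ⟨z, rfl⟩
      exact ⟨Z.isoSpec.hom z, by rw [← Scheme.Hom.comp_apply, hn, Scheme.Hom.comp_apply]⟩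
    · show V.isoSpec.hom (j (Z.isoSpec.inv y)) = V.isoSpec.hom v
      rw [← hy, ← Scheme.Hom.comp_apply, ← Scheme.Hom.comp_apply, ← hn, Iso.inv_hom_id_assoc]
  rw [he, ← Set.preimage_compl, hr]
  exact V.isoSpec.hom.homeomorph.isCompact_preimage.2 hc

/-- A morphism of affine schemes flat over a closed set has a flat affine localization meeting the fibres over it. -/
theorem exists_flat_nhd {Y V : Scheme.{u}} (h : Y ⟶ V) [IsAffine Y] [IsAffine V] (C : Set V) (hC : IsClosed C)
    (hflat : ∀ y, h y ∈ C → (h.stalkMap y).hom.Flat) :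
    ∃ (W : Scheme.{u}) (k : W ⟶ Y), IsAffine W ∧ Flat (k ≫ h) ∧ ∀ y, h y ∈ C → y ∈ Set.range k := by
  obtain ⟨φ, hφ⟩ := Spec.map_surjective (Y.isoSpec.inv ≫ h ≫ V.isoSpec.hom)
  have hy : ∀ y, V.isoSpec.inv (Spec.map φ y) = h (Y.isoSpec.inv y) := fun y => by
    rw [hφ, ← Scheme.Hom.comp_apply, ← Scheme.Hom.comp_apply, Category.assoc, Category.assoc, Iso.hom_inv_id,
      Category.comp_id]
  obtain ⟨B', ψ, hf, hr⟩ := exists_flat_localization φ (V.isoSpec.inv ⁻¹' C)
    (hC.preimage V.isoSpec.inv.continuous) fun y hyC => by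
      have h' := hflat (Y.isoSpec.inv y) (hy y ▸ hyC)
      rw [hφ]
      refine (flatAt_comp_left_iff Y.isoSpec.inv _ y (Flat.stalkMap _ _)).2 ?_
      rw [Scheme.Hom.stalkMap_comp]
      exact (Flat.stalkMap V.isoSpec.hom _).comp h'
  refine ⟨Spec B', Spec.map ψ ≫ Y.isoSpec.inv, inferInstance, ?_, fun y hyC => ?_⟩
  · have : (Spec.map ψ ≫ Y.isoSpec.inv) ≫ h = (Spec.map ψ ≫ Spec.map φ) ≫ V.isoSpec.inv := by
      rw [hφ]; simp
    rw [this]
    infer_instance
  · obtain ⟨x, hx⟩ := hr (Y.isoSpec.hom y) (by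
      show V.isoSpec.inv _ ∈ C
      rw [hy, ← Scheme.Hom.comp_apply Y.isoSpec.hom, Iso.hom_inv_id]
      exact hyC)
    refine ⟨x, ?_⟩
    rw [Scheme.Hom.comp_apply, hx, ← Scheme.Hom.comp_apply, Iso.hom_inv_id]
    rfl

variable {S : Scheme.{u}}

/-- Over an affine scheme, the complement of a closed subscheme and a space which is flat over it and isomorphic
above it are refined by an fpqc covering. -/
theorem exists_fpqcCover_affine {V Z : Over S} [IsAffine V.left] (j : Z ⟶ V) [IsClosedImmersion j.left]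
    [LocallyOfFinitePresentation j.left] {Y : Sp S} (hY : IsAlgSpace Y) (f : Y ⟶ (yon S).obj V)
    [IsIso (pullback.snd f ((yon S).map j))]
    (hflat : ∀ {U : Over S} (a : (yon S).obj U ⟶ Y) (g : U ⟶ V), RepWith @Etale a → a ≫ f = (yon S).map g →
      ∀ u, g.left u ∈ Set.range j.left → (g.left.stalkMap u).hom.Flat) :
    ∃ (ι : Type u) (W : ι → Over S) (w : ∀ k, W k ⟶ V),
      IsFpqcCover (fun k => (yon S).obj (W k)) (fun k => (yon S).map (w k)) ∧
        ∀ k, Set.range (w k).left ⊆ (Set.range j.left)ᶜ ∨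
          ∃ l : (yon S).obj (W k) ⟶ Y, l ≫ f = (yon S).map (w k) := by
  obtain ⟨U, e, he, hes⟩ := hY.atlas
  obtain ⟨g, hg⟩ := (yon S).map_surjective (e ≫ f)
  let T := pullback g j
  have sT : IsPullback ((yon S).map (pullback.fst g j)) ((yon S).map (pullback.snd g j)) (e ≫ f) ((yon S).map j) :=
    hg ▸ (IsPullback.of_hasPullback g j).map (yon S)
  let l : (yon S).obj T ⟶ pullback f ((yon S).map j) :=
    pullback.lift ((yon S).map (pullback.fst g j) ≫ e) ((yon S).map (pullback.snd g j))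
      (by rw [Category.assoc]; exact sT.w)
  have hls : l ≫ pullback.snd f ((yon S).map j) = (yon S).map (pullback.snd g j) := pullback.lift_snd _ _ _
  have sl : IsPullback ((yon S).map (pullback.fst g j)) l e (pullback.fst f ((yon S).map j)) := by
    refine IsPullback.of_bot ?_ (pullback.lift_fst _ _ _).symm (IsPullback.of_hasPullback _ _)
    rw [hls]
    exact sT
  have hTe : Etale (pullback.snd g j).left := (repWith_yon_map_iff _ _).1
    (hls ▸ repWith_comp (repWith_of_isPullback sl he) (repWith_of_isIso _ (pullback.snd f ((yon S).map j))))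
  have hTs : Surjective (pullback.snd g j).left := (repWith_yon_map_iff _ _).1
    (hls ▸ repWith_comp (repWith_of_isPullback sl hes) (repWith_of_isIso _ (pullback.snd f ((yon S).map j))))
  haveI : IsAffine Z.left := isAffine_of_isAffineHom j.left
  let 𝒪 := U.left.affineOpens
  let A : 𝒪 → Set Z.left := fun O => (pullback.snd g j).left '' ((pullback.fst g j).left ⁻¹' (O.1 : Set U.left))
  obtain ⟨F, hF⟩ := isCompact_univ.elim_finite_subcover A
    (fun O => (pullback.snd g j).left.isOpenMap _ (O.1.2.preimage (pullback.fst g j).left.continuous)) fun z _ => by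
      obtain ⟨t, rfl⟩ := (pullback.snd g j).left.surjective z
      obtain ⟨O, hO, ht, -⟩ := TopologicalSpace.Opens.isBasis_iff_nbhd.1 U.left.isBasis_affineOpens
        (TopologicalSpace.Opens.mem_top ((pullback.fst g j).left t))
      exact Set.mem_iUnion.2 ⟨⟨O, hO⟩, t, ht, rfl⟩
  have hjc : IsCompact (Set.range j.left)ᶜ := isCompact_compl_range j.left
  let 𝒱 := {O : V.left.Opens // IsAffineOpen O ∧ (O : Set V.left) ⊆ (Set.range j.left)ᶜ}
  obtain ⟨G, hG⟩ := hjc.elim_finite_subcover (fun O : 𝒱 => (O.1 : Set V.left)) (fun O => O.1.2) fun v hv => by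
    obtain ⟨O, hO, hv', hOsub⟩ := TopologicalSpace.Opens.isBasis_iff_nbhd.1 V.left.isBasis_affineOpens
      (show v ∈ (⟨(Set.range j.left)ᶜ, j.left.isClosedEmbedding.isClosed_range.isOpen_compl⟩ : V.left.Opens)
        from hv)
    exact Set.mem_iUnion.2 ⟨⟨O, hO, hOsub⟩, hv'⟩
  have hW : ∀ O : 𝒪, ∃ (W : Scheme.{u}) (k : W ⟶ U.left), IsAffine W ∧ Flat (k ≫ g.left) ∧
      ∀ u ∈ O.1, g.left u ∈ Set.range j.left → u ∈ Set.range k := fun O => by
    haveI : IsAffine O.1.toScheme := O.2
    obtain ⟨W, k, hWa, hWf, hWr⟩ := exists_flat_nhd (O.1.ι ≫ g.left) (Set.range j.left)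
      j.left.isClosedEmbedding.isClosed_range fun y hy =>
        (flatAt_comp_left_iff O.1.ι g.left y (Flat.stalkMap _ _)).2 (hflat e g he hg.symm _ hy)
    refine ⟨W, k ≫ O.1.ι, hWa, by rw [Category.assoc]; exact hWf, fun u hu hu' => ?_⟩
    obtain ⟨x, hx⟩ := hWr ⟨u, hu⟩ hu'
    exact ⟨x, by rw [Scheme.Hom.comp_apply, hx]; rfl⟩
  choose W k hWa hWf hWr using hW
  let en := (Fintype.equivFin (↥F ⊕ ↥G)).symm
  let W₀ : ↥F ⊕ ↥G → Over S := Sum.elim (fun O => Over.mk (k O.1 ≫ U.hom)) (fun O => Over.mk (O.1.1.ι ≫ V.hom))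
  let w₀ : ∀ n, W₀ n ⟶ V := fun n =>
    match n with
    | .inl O => (Over.homMk (k O.1) rfl : Over.mk (k O.1 ≫ U.hom) ⟶ U) ≫ g
    | .inr O => (Over.homMk O.1.1.ι rfl : Over.mk (O.1.1.ι ≫ V.hom) ⟶ V)
  have hsurj : ∀ v : V.left, ∃ n, v ∈ Set.range (w₀ n).left := fun v => by
    by_cases hv : v ∈ Set.range j.left
    · obtain ⟨z, rfl⟩ := hv
      obtain ⟨O, hO, t, ht, rfl⟩ := Set.mem_iUnion₂.1 (hF (Set.mem_univ z))
      obtain ⟨x, hx⟩ := hWr O _ ht ⟨(pullback.snd g j).left t, by
        rw [← Scheme.Hom.comp_apply, ← Scheme.Hom.comp_apply, ← Over.comp_left, ← Over.comp_left,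
          pullback.condition]⟩
      refine ⟨.inl ⟨O, hO⟩, x, ?_⟩
      show (k O ≫ g.left) x = _
      rw [Scheme.Hom.comp_apply, hx, ← Scheme.Hom.comp_apply, ← Scheme.Hom.comp_apply, ← Over.comp_left,
        ← Over.comp_left, pullback.condition]
    · obtain ⟨O, hO, hvO⟩ := Set.mem_iUnion₂.1 (hG hv)
      exact ⟨.inr ⟨O, hO⟩, ⟨v, hvO⟩, rfl⟩
  refine ⟨ULift.{u} (Fin (Fintype.card (↥F ⊕ ↥G))), fun n => W₀ (en n.down), fun n => w₀ (en n.down),
    isFpqcCover_of_affines (W := fun n => W₀ (en n)) ‹_› (fun n => w₀ (en n)) (fun n => ?_) (fun n => ?_)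
      (fun v => ?_), fun n => ?_⟩
  · match en n with
    | .inl O => exact hWa O.1
    | .inr O => exact O.1.2.1
  · match en n with
    | .inl O => exact hWf O.1
    | .inr O => exact inferInstanceAs (Flat O.1.1.ι)
  · obtain ⟨n, hn⟩ := hsurj v
    obtain ⟨m, rfl⟩ := en.surjective n
    exact ⟨m, hn⟩
  · have key : ∀ m, Set.range (w₀ m).left ⊆ (Set.range j.left)ᶜ ∨
        ∃ l : (yon S).obj (W₀ m) ⟶ Y, l ≫ f = (yon S).map (w₀ m) := fun m =>
      match m with
      | .inl O => by
        let k₁ : Over.mk (k O.1 ≫ U.hom) ⟶ U := Over.homMk (k O.1) rfl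
        refine Or.inr ⟨(yon S).map k₁ ≫ e, ?_⟩
        rw [Category.assoc, ← hg]
        exact ((yon S).map_comp k₁ g).symm
      | .inr O => Or.inl fun _ ⟨x, hx⟩ => hx ▸ O.1.2.2 (Subtype.prop x)
    exact key _

/-- A point of a scheme lies in the range of the projection of a fibre product as soon as its image lifts. -/
theorem mem_range_left_of_isPullback {F H : Sp S} {P T : Over S} {fst : (yon S).obj P ⟶ F} {snd : P ⟶ T}
    {f : F ⟶ H} {g : (yon S).obj T ⟶ H} (sq : IsPullback fst ((yon S).map snd) f g) {t : T.left}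
    (ht : Points.ofPt g t ∈ Set.range (Points.map f)) : t ∈ Set.range snd.left := by
  obtain ⟨x, hx⟩ := ht
  rw [Points.ofPt_eq_map_ofScheme g] at hx
  obtain ⟨z, -, hz⟩ := exists_point_of_isPullback sq hx
  rw [← Points.ofScheme_toScheme P z, Points.map_ofPt, Category.id_comp] at hz
  exact ⟨Points.toScheme P z, ((Points.toScheme_ofPt snd _).symm.trans (congrArg (Points.toScheme T) hz)).trans
    (Points.toScheme_ofScheme T t)⟩

/-- A chart landing in an open subspace factors through it. -/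
theorem exists_lift_of_mem_range {X U : Sp S} {W : Over S} (j : U ⟶ X) (hj : RepWith @IsOpenImmersion j)
    (b : (yon S).obj W ⟶ X) (h : ∀ x : W.left, Points.ofPt b x ∈ Set.range (Points.map j)) :
    ∃ l, l ≫ j = b := by
  let r := hj.rep.snd b
  have hs : Surjective r.left := ⟨fun x => mem_range_left_of_isPullback (hj.rep.isPullback b) (h x)⟩
  have hr : IsOpenImmersion r.left := hj.property_snd b
  haveI : Epi r.left.base := (TopCat.epi_iff_surjective _).2 hs.surj
  haveI : IsIso r.left := IsOpenImmersion.isIso r.left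
  haveI : IsIso ((Over.forget S).map r) := ‹IsIso r.left›
  haveI : IsIso r := isIso_of_reflects_iso _ (Over.forget S)
  refine ⟨(yon S).map (inv r) ≫ hj.rep.fst b, ?_⟩
  rw [Category.assoc, hj.rep.w, ← Category.assoc ((yon S).map (inv r)), ← Functor.map_comp, IsIso.inv_hom_id,
    CategoryTheory.Functor.map_id, Category.id_comp]

/-- The covering of formal glueing over an affine etale chart. -/
theorem exists_fpqcCover_glue_chart {X Y Z FZ U : Sp S} (hX : IsAlgSpace X) (hY : IsAlgSpace Y)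
    (hZ : IsAlgSpace Z) (f : Y ⟶ X) (i : Z ⟶ X) (hi : RepWith @IsClosedImmersion i)
    (hifp : LocP @LocallyOfFinitePresentation i) (iY : FZ ⟶ Y) (fZ : FZ ⟶ Z) (hFZ : IsPullback iY fZ f i)
    [IsIso fZ] (hflat : ∀ y ∈ Set.range (Points.map iY), IsFlatAtMor f y) (j : U ⟶ X)
    (hj : RepWith @IsOpenImmersion j) (hU : Set.range (Points.map j) = (Set.range (Points.map i))ᶜ)
    {V : Over S} (π : (yon S).obj V ⟶ X) (hπ : RepWith @Etale π) [IsAffine V.left] :
    ∃ (ι : Type u) (W : ι → Over S) (w : ∀ k, W k ⟶ V),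
      IsFpqcCover (fun k => (yon S).obj (W k)) (fun k => (yon S).map (w k)) ∧
        ∀ k, (∃ l, l ≫ j = (yon S).map (w k) ≫ π) ∨ (∃ l, l ≫ f = (yon S).map (w k) ≫ π) := by
  let jZ := hi.rep.snd π
  let aZ := hi.rep.fst π
  have sqZ : IsPullback aZ ((yon S).map jZ) i π := hi.rep.isPullback π
  haveI : IsClosedImmersion jZ.left := hi.property_snd π
  haveI : LocallyOfFinitePresentation jZ.left :=
    (locP_of_isPullback sqZ hZ hX (IsAlgSpace.yon_obj _) hifp) (𝟙 _) (𝟙 _) jZ
      (repWith_id _ _) (repWith_id _ _) (by simp)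
  let fV := pullback.snd f π
  haveI : IsIso (pullback.snd fV ((yon S).map jZ)) := by
    have sq₁ := (IsPullback.of_hasPullback fV ((yon S).map jZ)).paste_horiz (IsPullback.of_hasPullback f π)
    have sq₂ := (IsPullback.of_hasPullback fZ aZ).paste_horiz hFZ
    rw [sqZ.w] at sq₂
    rw [← sq₁.isoIsPullback_hom_snd _ _ sq₂]
    infer_instance
  obtain ⟨ι, W, w, hw, hor⟩ := exists_fpqcCover_affine jZ
    (isAlgSpace_pullback hY (IsAlgSpace.yon_obj _) hX f π) fV fun {T} a g ha hag u hu => by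
      have ha' : RepWith @Etale (a ≫ pullback.fst f π) := repWith_comp ha (repWith_fst f hπ)
      have hw' : (a ≫ pullback.fst f π) ≫ f = (yon S).map g ≫ π := by
        rw [Category.assoc, pullback.condition, reassoc_of% hag]
      refine hflat _ ?_ _ π g u ha' hπ hw' rfl
      obtain ⟨z, hz⟩ := hu
      have : Points.map f (Points.ofPt (a ≫ pullback.fst f π) u) = Points.map i (Points.ofPt aZ z) := by
        rw [Points.map_ofPt, Points.map_ofPt, hw', sqZ.w]
        exact (ofPt_comp _ _ _).trans ((congrArg (Points.ofPt π) hz.symm).trans (ofPt_comp _ _ _).symm)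
      obtain ⟨q, hq, -⟩ := exists_point_of_isPullback hFZ this
      exact ⟨q, hq⟩
  refine ⟨ι, W, w, hw, fun k => ?_⟩
  rcases hor k with hk | ⟨l, hl⟩
  · refine Or.inl (exists_lift_of_mem_range j hj _ fun x => ?_)
    rw [hU, ofPt_comp]
    exact fun hx => hk ⟨x, rfl⟩ (mem_range_left_of_isPullback sqZ hx)
  · refine Or.inr ⟨l ≫ pullback.fst f π, ?_⟩
    rw [Category.assoc, pullback.condition, reassoc_of% hl]

/-- The fpqc covering refining the two maps of a formal glueing datum. -/
theorem exists_fpqcCover_glue {X Y Z FZ U : Sp S} (hX : IsAlgSpace X) (hY : IsAlgSpace Y) (hZ : IsAlgSpace Z)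
    (f : Y ⟶ X) (i : Z ⟶ X) (hi : RepWith @IsClosedImmersion i) (hifp : LocP @LocallyOfFinitePresentation i)
    (iY : FZ ⟶ Y) (fZ : FZ ⟶ Z) (hFZ : IsPullback iY fZ f i) [IsIso fZ]
    (hflat : ∀ y ∈ Set.range (Points.map iY), IsFlatAtMor f y) (j : U ⟶ X)
    (hj : RepWith @IsOpenImmersion j) (hU : Set.range (Points.map j) = (Set.range (Points.map i))ᶜ) :
    ∃ (ι : Type u) (W : ι → Over S) (w : ∀ k, (yon S).obj (W k) ⟶ X),
      IsFpqcCover (fun k => (yon S).obj (W k)) w ∧
        ∀ k, (∃ l, l ≫ j = w k) ∨ (∃ l, l ≫ f = w k) := by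
  obtain ⟨U₀, p, hp, hps⟩ := hX.atlas
  let V : U₀.left.affineOpens → Over S := fun O => Over.mk (O.1.ι ≫ U₀.hom)
  let πV : ∀ O, (yon S).obj (V O) ⟶ X := fun O => (yon S).map (Over.homMk O.1.ι rfl : V O ⟶ U₀) ≫ p
  have hπ : ∀ O, RepWith @Etale (πV O) := fun O =>
    repWith_comp ((repWith_yon_map_iff @Etale _).2 (inferInstanceAs (Etale O.1.ι))) hp
  have hcov : IsFppfCover (fun O => (yon S).obj (V O)) πV := by
    refine ⟨fun O => ⟨?_, ?_⟩, fun x => ?_⟩
    · exact locP_mono (P := @Etale) (Q := @Flat) (fun _ _ f (_ : Etale f) => inferInstanceAs (Flat f))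
        (locP_of_repWith (hπ O))
    · exact locP_mono (P := @Etale) (Q := @LocallyOfFinitePresentation)
        (fun _ _ f (_ : Etale f) => inferInstanceAs (LocallyOfFinitePresentation f)) (locP_of_repWith (hπ O))
    · obtain ⟨u, rfl⟩ := surjective_ofPt hps x
      obtain ⟨O, hO, hu, -⟩ := TopologicalSpace.Opens.isBasis_iff_nbhd.1 U₀.left.isBasis_affineOpens
        (TopologicalSpace.Opens.mem_top u)
      refine ⟨⟨O, hO⟩, Points.ofScheme (V ⟨O, hO⟩) ⟨u, hu⟩, ?_⟩
      rw [← Points.ofPt_eq_map_ofScheme, ofPt_comp]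
      rfl
  have haff := fun O : U₀.left.affineOpens =>
    haveI : IsAffine (V O).left := O.2
    exists_fpqcCover_glue_chart hX hY hZ f i hi hifp iY fZ hFZ hflat j hj hU (πV O) (hπ O)
  choose ι W w hw hor using haff
  have hsig : IsFpqcCover (fun r : Σ O, ι O => (yon S).obj (W r.1 r.2))
      (fun r => (yon S).map (w r.1 r.2) ≫ πV r.1) :=
    isFpqcCover_sigma (Xi := fun O => (yon S).obj (V O)) (g := πV)
      (Xij := fun O k => (yon S).obj (W O k)) (gij := fun O k => (yon S).map (w O k)) hX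
      (fun O => IsAlgSpace.yon_obj (V O)) (fun O k => IsAlgSpace.yon_obj (W O k))
      (isFpqcCover_of_isFppfCover hX (fun O => IsAlgSpace.yon_obj (V O)) πV hcov) hw
  exact ⟨Σ O, ι O, fun r => W r.1 r.2, fun r => (yon S).map (w r.1 r.2) ≫ πV r.1, hsig, fun r => hor r.1 r.2⟩

end Groth.Agent.AlgSpLib
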