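import Groth.Agent.AlgSpDec.FppfDescent
import Groth.Agent.AlgSpLib.LocalBase

/-!
# Immersions of algebraic spaces are local on the base in the fppf topology
-/

set_option backward.isDefEq.respectTransparency false
set_option backward.isDefEq.respectTransparency.types false

universe u

open CategoryTheory CategoryTheory.Limits AlgebraicGeometry Opposite AlgSp Groth.Agent.AlgSpPts

namespace Groth.Agent.AlgSpLib

variable {S : Scheme.{u}}

theorem repWith_isImmersion_of_fppf_cover {F G : Sp S} {f : F ⟶ G} {V : Over S} {p : (yon S).obj V ⟶ G}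
    {P₀ : Sp S} {fst : P₀ ⟶ F} {snd : P₀ ⟶ (yon S).obj V} (hp : RepWith fppf p)
    (sq : IsPullback fst snd f p) (h : RepWith @IsImmersion snd) : RepWith @IsImmersion f := by
  refine AlgSpDec.Fppf.repWith_of_open_piece (P := @IsClosedImmersion)
    (fun _ _ e (_ : IsClosedImmersion e) => inferInstanceAs (IsAffineHom e))
    (fun U i (_ : IsClosedImmersion i) => inferInstanceAs (IsImmersion (i ≫ U.ι))) hp sq h ?_
  intro W T' T m e _ _ _ R hm hR
  have : IsImmersion m := hm
  have hcb : coborder (Set.range m) = e ⁻¹' coborder R := by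
    rw [hR]; exact coborder_preimage e.isOpenMap e.continuous R
  have hRo : IsOpen (coborder R) :=
    AlgSpDec.Fppf.isOpen_of_preimage e (hcb ▸ m.isLocallyClosed_range.isOpen_coborder)
  refine ⟨⟨coborder R, hRo⟩, subset_coborder, ?_⟩
  have : IsImmersion (m ∣_ e ⁻¹ᵁ ⟨coborder R, hRo⟩) :=
    IsZariskiLocalAtTarget.restrict (P := @IsImmersion) hm _
  refine IsClosedImmersion.of_isPreimmersion _ ?_
  have hr : Set.range (m ∣_ e ⁻¹ᵁ ⟨coborder R, hRo⟩) = (Subtype.val ⁻¹' Set.range m) := by
    rw [morphismRestrict_base]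
    exact Set.range_restrictPreimage _ m
  rw [hr]
  have hc : IsClosed ((Subtype.val : ↥(coborder (Set.range m)) → T') ⁻¹' Set.range m) :=
    isClosed_preimage_val_coborder
  have hcont : Continuous (fun x : ↥(e ⁻¹ᵁ ⟨coborder R, hRo⟩) =>
      (⟨x.1, hcb.symm ▸ x.2⟩ : ↥(coborder (Set.range m)))) := continuous_subtype_val.subtype_mk _
  exact hc.preimage hcont

/-- Immersions are local on the base in the fppf topology. -/
theorem isLocalOnBase_fppf_isImmersion :
    IsLocalOnBase (IsFppfCover (S := S)) (RepWith @IsImmersion) := by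
  intro ι Y Yi g hY hYi hg X f hX Xi p q hXi sq
  refine ⟨fun hf i => repWith_of_isPullback (sq i) hf, fun hp => ?_⟩
  obtain ⟨V₀, p₀, hp₀e, hp₀s⟩ := hY.atlas
  obtain ⟨U, l, v, hl, hfl, hfp, hs⟩ := exists_fppf_family hY hYi g hg p₀
  let Vc : Scheme.{u} := ∐ fun i => (U i).left
  let vc : Vc ⟶ V₀.left := Sigma.desc fun i => (v i).left
  have hvc : fppf vc := by
    have : Flat vc := IsZariskiLocalAtSource.sigmaDesc hfl
    have : LocallyOfFinitePresentation vc := IsZariskiLocalAtSource.sigmaDesc hfp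
    have : Surjective vc := ⟨fun z => by
      obtain ⟨i, y, rfl⟩ := hs z
      exact ⟨Sigma.ι (fun i => (U i).left) i y, by rw [← Scheme.Hom.comp_apply, Sigma.ι_desc]⟩⟩
    exact fppf_of vc
  let V : Over S := Over.mk (vc ≫ V₀.hom)
  let c : V ⟶ V₀ := Over.homMk vc rfl
  have hp₀f : RepWith fppf p₀ := by
    refine repWith_mono (P := @Etale ⊓ @Surjective) (fun _ _ k hk => ?_) _
      ((repWith_inf_iff p₀).2 ⟨hp₀e, hp₀s⟩)
    have : Etale k := hk.1
    have : Surjective k := hk.2
    exact fppf_of k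
  have hpf : RepWith fppf ((yon S).map c ≫ p₀) :=
    repWith_comp ((repWith_yon_map_iff _ c).2 hvc) hp₀f
  let ιU : ∀ i, U i ⟶ V := fun i => Over.homMk (Sigma.ι (fun i => (U i).left) i) (by
    simp only [V, Over.mk_hom, vc, Sigma.ι_desc_assoc]; exact Over.w (v i))
  have hιU : ∀ i, ιU i ≫ c = v i := fun i => by
    ext1
    exact Sigma.ι_desc _ _
  have hz : IsZarCover (fun i => (yon S).obj (U i)) (fun i => (yon S).map (ιU i)) := by
    refine ⟨fun i => (repWith_yon_map_iff _ _).2 (inferInstanceAs (IsOpenImmersion (Sigma.ι _ i))), fun x => ?_⟩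
    obtain ⟨t, rfl⟩ := (Points.schemeHomeo V).surjective x
    let 𝒰 := sigmaOpenCover (fun i => (U i).left)
    obtain ⟨y, hy⟩ := 𝒰.covers t
    generalize hi : 𝒰.idx t = i at y hy
    subst hy
    exact ⟨i, Points.ofScheme (U i) y, Points.map_yon_map_apply _ _⟩
  refine repWith_isImmersion_of_fppf_cover hpf (IsPullback.of_hasPullback f ((yon S).map c ≫ p₀)) ?_
  refine AlgSpDec.repWith_of_zarCover hz
    (fun i => IsPullback.of_hasPullback (pullback.snd f ((yon S).map c ≫ p₀)) ((yon S).map (ιU i))) fun i => ?_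
  have s1 := (IsPullback.of_hasPullback (pullback.snd f ((yon S).map c ≫ p₀)) ((yon S).map (ιU i))).paste_horiz
    (IsPullback.of_hasPullback f ((yon S).map c ≫ p₀))
  rw [← Functor.map_comp_assoc, hιU, ← hl i] at s1
  let b := (sq i).lift (pullback.fst _ _ ≫ pullback.fst f ((yon S).map c ≫ p₀))
    (pullback.snd (pullback.snd f ((yon S).map c ≫ p₀)) ((yon S).map (ιU i)) ≫ l i)
    (s1.w.trans (Category.assoc _ _ _).symm)
  refine repWith_of_isPullback (fst := b) (g := l i) (IsPullback.of_right ?_ ((sq i).lift_snd _ _ _) (sq i)) (hp i)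
  rw [IsPullback.lift_fst]
  exact s1

end Groth.Agent.AlgSpLib
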