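import Groth.Agent.AlgSpLib.InfGlue

/-!
# First order thickenings of algebraic spaces are stable under base change
-/

set_option backward.isDefEq.respectTransparency false
set_option backward.isDefEq.respectTransparency.types false

universe u

open CategoryTheory CategoryTheory.Limits AlgebraicGeometry Opposite AlgSp

namespace Groth.Agent.AlgSpLib

variable {S : Scheme.{u}}

/-- A global section killed by a jointly surjective family of flat morphisms is zero. -/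
theorem eq_zero_of_flat_cover {V : Scheme.{u}}
    (z : Γ(V, ⊤)) (H : ∀ x : V, ∃ (B : Scheme.{u}) (f : B ⟶ V) (b : B),
      Flat f ∧ f b = x ∧ f.appTop z = 0) : z = 0 := by
  refine TopCat.Presheaf.section_ext V.sheaf ⊤ _ _ fun x _ => ?_
  obtain ⟨B, f, b, hf, rfl, hz⟩ := H x
  have hflat : (f.stalkMap b).hom.Flat := (Flat.iff_flat_stalkMap f).1 hf b
  have hff : (f.stalkMap b).hom.FaithfullyFlat := by
    algebraize [(f.stalkMap b).hom]
    have : IsLocalHom (algebraMap (V.presheaf.stalk (f b)) (B.presheaf.stalk b)) :=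
      inferInstanceAs (IsLocalHom (f.stalkMap b).hom)
    exact Module.FaithfullyFlat.of_flat_of_isLocalHom
  apply hff.injective
  refine (Scheme.Hom.germ_stalkMap_apply f ⊤ b trivial z).trans ?_
  refine (congrArg _ hz).trans ((map_zero _).trans ?_)
  exact ((congrArg _ (map_zero _)).trans (map_zero _)).symm

/-- A pullback of a first order thickening of spaces to an affine scheme has kernel of square zero. -/
theorem sqZero_snd {T T' : Sp S} {j : T ⟶ T'} (hT' : IsAlgSpace T') (hj : IsFOThickMor j) {V W : Over S}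
    [IsAffine V.left] (g : (yon S).obj V ⟶ T') (fst : (yon S).obj W ⟶ T) (snd : W ⟶ V)
    (hP : IsPullback fst ((yon S).map snd) j g) : sqZero snd.left := by
  have hth : thick snd.left := hj.1.2 g fst snd hP
  have hcl : IsClosedImmersion snd.left := hth.1
  refine Groth.Agent.MorLib.ker_mul_ker_eq_bot_of_isAffine _ ?_
  rw [pow_two, eq_bot_iff, Ideal.mul_le]
  intro x hx y hy
  rw [Ideal.mem_bot]
  obtain ⟨U, p, hp, hp'⟩ := hT'.atlas
  refine eq_zero_of_flat_cover (x * y) fun v => ?_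
  have hR := hp.1.isPullback g
  have het : Etale (hp.1.snd g).left := hp.2 g _ _ hR
  have hsur : Surjective (hp.1.snd g).left := hp'.2 g _ _ hR
  obtain ⟨u, rfl⟩ := (hp.1.snd g).left.surjective v
  let 𝒰 := U.left.affineOpenCover
  obtain ⟨r₀, hr₀⟩ := (yon S).map_surjective (hp.1.fst g)
  let 𝒱 : (hp.1.pullback g).left.OpenCover := 𝒰.openCover.pullback₁ r₀.left
  obtain ⟨i, w, hw⟩ := 𝒱.exists_eq u
  let 𝒲 := (𝒱.X i).affineOpenCover.openCover
  obtain ⟨l, b, hb⟩ := 𝒲.exists_eq w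
  let Bs : Scheme.{u} := 𝒲.X l
  let k : Bs ⟶ (hp.1.pullback g).left := 𝒲.f l ≫ 𝒱.f i
  let Bo : Over S := Over.mk (k ≫ (hp.1.pullback g).hom)
  let kB : Bo ⟶ V := (Over.homMk k rfl : Bo ⟶ hp.1.pullback g) ≫ hp.1.snd g
  let Ci : Over S := Over.mk (𝒰.f i ≫ U.hom)
  let c : (yon S).obj Ci ⟶ T' := (yon S).map (Over.homMk (𝒰.f i) rfl : Ci ⟶ U) ≫ p
  have hc : RepWith @Etale c := repWith_comp ((repWith_yon_map_iff _ _).2 (by
    have : IsOpenImmersion (Over.homMk (𝒰.f i) rfl : Ci ⟶ U).left := 𝒰.openCover.map_prop i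
    infer_instance)) hp
  let φ₀ : Bs ⟶ Ci.left := 𝒲.f l ≫ pullback.snd r₀.left (𝒰.f i)
  have hφ₀ : φ₀ ≫ 𝒰.f i = k ≫ r₀.left := by
    simp only [φ₀, k, Category.assoc]
    exact congrArg (𝒲.f l ≫ ·) pullback.condition.symm
  let φ : Bo ⟶ Ci := Over.homMk φ₀ (by
    change φ₀ ≫ 𝒰.f i ≫ U.hom = k ≫ (hp.1.pullback g).hom
    rw [reassoc_of% hφ₀, Over.w r₀])
  have hφ : (yon S).map φ ≫ c = (yon S).map kB ≫ g := by
    have e : φ ≫ (Over.homMk (𝒰.f i) rfl : Ci ⟶ U) = (Over.homMk k rfl : Bo ⟶ hp.1.pullback g) ≫ r₀ :=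
      Over.OverMorphism.ext hφ₀
    rw [← Functor.map_comp_assoc, e, Functor.map_comp_assoc, hr₀, hR.w, Functor.map_comp_assoc]
  have hQ := hj.1.1.isPullback c
  have hCaff : IsAffine Ci.left := inferInstanceAs (IsAffine (Spec _))
  have hthC : thick (hj.1.1.snd c).left := hj.1.2 c _ _ hQ
  have hsqC : sqZero (hj.1.1.snd c).left := hj.2 c _ _ hCaff hc hQ
  obtain ⟨A, I, hI, e', e₀, he₀⟩ :=
    Groth.Agent.MorLib.exists_iso_quotientMk (hj.1.1.snd c).left ⟨hthC, hsqC⟩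
  let B : CommRingCat.{u} := (𝒱.X i).affineOpenCover.X l
  obtain ⟨ψ, hψ⟩ := Spec.map_surjective (φ₀ ≫ e'.inv : Spec B ⟶ Spec (CommRingCat.of A))
  let J : Ideal B := I.map ψ.hom
  have hJ : J ^ 2 = ⊥ := by rw [← Ideal.map_pow, hI, Ideal.map_bot]
  let μ : CommRingCat.of (A ⧸ I) ⟶ CommRingCat.of (B ⧸ J) :=
    CommRingCat.ofHom (Ideal.quotientMap J ψ.hom Ideal.le_comap_map)
  let q : Spec (CommRingCat.of (B ⧸ J)) ⟶ Spec B := Spec.map (CommRingCat.ofHom (Ideal.Quotient.mk J))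
  have hμ : Spec.map μ ≫ Spec.map (CommRingCat.ofHom (Ideal.Quotient.mk I)) = q ≫ φ₀ ≫ e'.inv := by
    rw [← hψ, ← Spec.map_comp, ← Spec.map_comp]
    rfl
  have hz : (Spec.map μ ≫ e₀.hom) ≫ (hj.1.1.snd c).left = q ≫ φ₀ := by
    rw [Category.assoc, he₀, reassoc_of% hμ, e'.inv_hom_id]
    exact congrArg (q ≫ ·) (Category.comp_id _)
  let Qo : Over S := Over.mk (q ≫ Bo.hom)
  let z : Qo ⟶ hj.1.1.pullback c := Over.homMk (Spec.map μ ≫ e₀.hom) (by
    rw [← Over.w (hj.1.1.snd c), ← Category.assoc, hz, Category.assoc]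
    exact congrArg (q ≫ ·) (Over.w φ))
  let qo : Qo ⟶ Bo := Over.homMk q rfl
  have hzq : z ≫ hj.1.1.snd c = qo ≫ φ := Over.OverMorphism.ext hz
  obtain ⟨m, hm⟩ := (yon S).map_surjective (hP.lift ((yon S).map z ≫ hj.1.1.fst c)
    ((yon S).map (qo ≫ kB)) (by
      rw [Category.assoc, hQ.w, ← Functor.map_comp_assoc, hzq, Functor.map_comp_assoc, hφ,
        ← Functor.map_comp_assoc]))
  have hms : m ≫ snd = qo ≫ kB := (yon S).map_injective (by rw [Functor.map_comp, hm, hP.lift_snd])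
  have hk : ∀ a : Γ(V.left, ⊤), a ∈ RingHom.ker snd.left.appTop.hom →
      (Scheme.ΓSpecIso B).hom (kB.left.appTop a) ∈ J := by
    intro a ha
    have h0 : q.appTop (kB.left.appTop a) = 0 := by
      have e := congrArg (fun f : Qo ⟶ V => f.left.appTop a) hms
      simp only [Over.comp_left, Scheme.Hom.comp_appTop, CommRingCat.comp_apply] at e
      rw [RingHom.mem_ker.1 ha, map_zero] at e
      exact e.symm
    rw [← Ideal.Quotient.eq_zero_iff_mem]
    have e2 := congrArg (fun f => f (kB.left.appTop a))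
      (Scheme.ΓSpecIso_naturality (CommRingCat.ofHom (Ideal.Quotient.mk J)))
    simp only [CommRingCat.comp_apply] at e2
    refine e2.symm.trans ?_
    change (Scheme.ΓSpecIso _).hom (q.appTop (kB.left.appTop a)) = 0
    rw [h0, map_zero]
  refine ⟨Bs, kB.left, b, ?_, ?_, ?_⟩
  · have : IsOpenImmersion k := by
      have h1 : IsOpenImmersion (𝒱.f i) := 𝒱.map_prop i
      have h2 : IsOpenImmersion (𝒲.f l) := 𝒲.map_prop l
      infer_instance
    change Flat (k ≫ (hp.1.snd g).left)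
    infer_instance
  · change (k ≫ (hp.1.snd g).left) b = _
    rw [Scheme.Hom.comp_apply, Scheme.Hom.comp_apply, hb, hw]
  · apply (ConcreteCategory.bijective_of_isIso (Scheme.ΓSpecIso B).hom).1
    refine Eq.trans ?_ (map_zero _).symm
    rw [map_mul]
    refine (map_mul _ _ _).trans (?_ : _ = (0 : B))
    have : _ ∈ J ^ 2 := pow_two J ▸ Ideal.mul_mem_mul (hk x hx) (hk y hy)
    rwa [hJ, Ideal.mem_bot] at this

/-- First order thickenings are stable under base change. -/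
theorem isFOThickMor_baseChange {T T' P P' : Sp S} {j : T ⟶ T'} (hT' : IsAlgSpace T') (hj : IsFOThickMor j)
    {fst : P ⟶ T} {j' : P ⟶ P'} {g : P' ⟶ T'} (hP : IsPullback fst j' j g) : IsFOThickMor j' := by
  refine ⟨MorphismProperty.of_isPullback (P := RepWith thick) hP hj.1, ?_⟩
  intro V W b f₁ snd hV _ hQ
  exact sqZero_snd hT' hj (b ≫ g) (f₁ ≫ fst) snd (hQ.paste_horiz hP)

end Groth.Agent.AlgSpLib

namespace Groth.Agent.AlgSpLib

variable {S : Scheme.{u}}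

theorem cancel_thick {Z Z' : Sp S} {i : Z ⟶ Z'} (hi : RepWith thick i) {D : Over S}
    (x y : (yon S).obj D ⟶ Z) (h : x ≫ i = y ≫ i) : x = y := by
  have hP := hi.1.isPullback (x ≫ i)
  have hcl : IsClosedImmersion (hi.1.snd (x ≫ i)).left := (hi.2 _ _ _ hP).1
  obtain ⟨σ, hσ⟩ := (yon S).map_surjective (hP.lift x (𝟙 _) (by rw [Category.id_comp]))
  obtain ⟨τ, hτ⟩ := (yon S).map_surjective (hP.lift y (𝟙 _) (by rw [Category.id_comp, h]))
  have hσs : σ ≫ hi.1.snd (x ≫ i) = 𝟙 D := (yon S).map_injective (by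
    rw [Functor.map_comp, hσ, hP.lift_snd, (yon S).map_id])
  have hτs : τ ≫ hi.1.snd (x ≫ i) = 𝟙 D := (yon S).map_injective (by
    rw [Functor.map_comp, hτ, hP.lift_snd, (yon S).map_id])
  have : σ = τ := Over.OverMorphism.ext ((cancel_mono (hi.1.snd (x ≫ i)).left).1
    ((congrArg CommaMorphism.left hσs).trans (congrArg CommaMorphism.left hτs).symm))
  have := congrArg (fun q => (yon S).map q ≫ hi.1.fst (x ≫ i)) this
  simpa [hσ, hτ] using this

theorem isFormallyUnramifiedMor_of_isUnivFOThick {Z Z' X : Sp S} (hZ' : IsAlgSpace Z') {h : Z ⟶ X}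
    (hh : IsFormallyUnramifiedMor h) {i : Z ⟶ Z'} {h' : Z' ⟶ X} (HU : IsUnivFOThick h i h') :
    IsFormallyUnramifiedMor h' := by
  intro sq l l' h₁ h₂ h₁' h₂'
  have hi := HU.1.1
  have hP₁ := hi.1.isPullback l
  let snd₁ := hi.1.snd l
  let y := (yon S).map snd₁ ≫ l'
  have hP₂ := hi.1.isPullback y
  let snd₂ := hi.1.snd y
  let α := (yon S).map snd₂ ≫ hi.1.fst l
  let β := hi.1.fst y
  have hαh : α ≫ h = (yon S).map snd₂ ≫ (yon S).map snd₁ ≫ sq.bot := by
    rw [← HU.2.1, Category.assoc, ← Category.assoc (hi.1.fst l), hP₁.w, Category.assoc, h₂]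
  have hβh : β ≫ h = (yon S).map snd₂ ≫ (yon S).map snd₁ ≫ sq.bot := by
    rw [← HU.2.1, ← Category.assoc, hP₂.w, Category.assoc, Category.assoc, h₂']
  have hαβ : α = β := by
    refine hom_ext_of_affines α β fun C p => ?_
    obtain ⟨J, hJ, z', hz', -⟩ := exists_piece sq (snd₂ ≫ snd₁) C p
    let P : Over.mk (p ≫ (hi.1.pullback y).hom) ⟶ hi.1.pullback y := Over.homMk p rfl
    let q : Over.mk (Spec.map (CommRingCat.ofHom (Ideal.Quotient.mk J)) ≫ p ≫ (hi.1.pullback y).hom) ⟶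
        Over.mk (p ≫ (hi.1.pullback y).hom) :=
      Over.homMk (Spec.map (CommRingCat.ofHom (Ideal.Quotient.mk J))) rfl
    have hz : q ≫ P ≫ snd₂ ≫ snd₁ = z' ≫ sq.j := hz'
    have hq : (yon S).map q ≫ (yon S).map P ≫ α = (yon S).map q ≫ (yon S).map P ≫ β := by
      refine cancel_thick hi _ _ ?_
      have eα : α ≫ i = (yon S).map (snd₂ ≫ snd₁) ≫ l := by
        rw [Category.assoc, hP₁.w, Functor.map_comp, Category.assoc]
      have eβ : β ≫ i = (yon S).map (snd₂ ≫ snd₁) ≫ l' := by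
        rw [hP₂.w, Functor.map_comp, Category.assoc]
      simp only [Category.assoc, eα, eβ, ← Functor.map_comp_assoc, hz]
      rw [Functor.map_comp_assoc, Functor.map_comp_assoc, h₁, h₁']
    let sq' : InfSq h :=
      { A := C, I := J, sq_zero := hJ, str := p ≫ (hi.1.pullback y).hom
        top := (yon S).map q ≫ (yon S).map P ≫ α
        bot := (yon S).map P ≫ α ≫ h
        comm := by simp only [Category.assoc]; rfl }
    exact hh sq' _ _ rfl (Category.assoc _ _ _) hq.symm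
      ((Category.assoc _ _ _).trans (congrArg ((yon S).map P ≫ ·) (hβh.trans hαh.symm)))
  have hy : y = (yon S).map snd₁ ≫ l := by
    refine (HU.2.2 (IsAlgSpace.yon_obj _) (IsAlgSpace.yon_obj _) _ β ((yon S).map snd₁ ≫ sq.bot)
      (isFOThickMor_baseChange hZ' HU.1 hP₂) hβh.symm).unique ⟨hP₂.w.symm, ?_⟩ ⟨?_, ?_⟩
    · rw [Category.assoc, h₂']
    · rw [← hP₁.w, ← Category.assoc]
      exact congrArg (· ≫ i) hαβ
    · rw [Category.assoc, h₂]
  refine (HU.2.2 (IsAlgSpace.yon_obj _) (IsAlgSpace.yon_obj _) _ (hi.1.fst l) sq.bot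
    (isFOThickMor_baseChange hZ' HU.1 hP₁) ?_).unique ⟨hP₁.w.symm, h₂⟩ ⟨hy.trans hP₁.w.symm, h₂'⟩
  rw [← HU.2.1, ← Category.assoc, hP₁.w, Category.assoc, h₂]

theorem isUnivFOThick_etale {Z Y Y' Z' X : Sp S} (hY' : IsAlgSpace Y') (hZ' : IsAlgSpace Z') (e : Z ⟶ Y)
    (hY : Y ⟶ X) (iY : Y ⟶ Y') (hY'X : Y' ⟶ X) (HU : IsUnivFOThick hY iY hY'X) (iZ : Z ⟶ Z') (e' : Z' ⟶ Y')
    (he' : IsEtaleMor e') (sq : IsPullback e iZ iY e') : IsUnivFOThick (e ≫ hY) iZ (e' ≫ hY'X) := by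
  refine ⟨isFOThickMor_baseChange hY' HU.1 sq, by rw [← Category.assoc, ← sq.w, Category.assoc, HU.2.1], ?_⟩
  intro T T' hT hT' j a b hj hw
  have hwa : j ≫ b = (a ≫ e) ≫ hY := by rw [hw, Category.assoc]
  obtain ⟨c, ⟨hc₁, hc₂⟩, hc⟩ := HU.2.2 hT hT' j (a ≫ e) b hj hwa
  obtain ⟨m, ⟨hm₁, hm₂⟩, hm⟩ := existsUnique_lift_of_formallyEtale (isFormallyEtaleMor_of_isEtaleMor hZ' he')
    hT' hj (a ≫ iZ) c (by rw [hc₁, Category.assoc, ← sq.w, Category.assoc])
  refine ⟨m, ⟨hm₁, by rw [← Category.assoc, hm₂, hc₂]⟩, fun y hy => hm y ⟨hy.1, hc (y ≫ e') ⟨?_, ?_⟩⟩⟩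
  · rw [← Category.assoc, hy.1, Category.assoc, ← sq.w, Category.assoc]
  · rw [Category.assoc]; exact hy.2

theorem isUnivFOThick_baseChange {Z X W Y W' P : Sp S} (hW' : IsAlgSpace W') (h : Z ⟶ X) (f : Z ⟶ W)
    (g : X ⟶ Y) (h' : W ⟶ Y) (sq : IsPullback h f g h') (iW : W ⟶ W') (hW'Y : W' ⟶ Y)
    (HU : IsUnivFOThick h' iW hW'Y) (pX : P ⟶ X) (pW : P ⟶ W') (sq' : IsPullback pX pW g hW'Y)
    (iZ : Z ⟶ P) (w1 : iZ ≫ pX = h) (w2 : iZ ≫ pW = f ≫ iW) : IsUnivFOThick h iZ pX := by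
  have hbc : IsPullback iZ f pW iW := by
    refine IsPullback.of_right ?_ w2 sq'
    rw [w1, HU.2.1]; exact sq
  refine ⟨isFOThickMor_baseChange hW' HU.1 hbc.flip, w1, ?_⟩
  intro T T' hT hT' j a b hj hw
  have hwa : j ≫ (b ≫ g) = (a ≫ f) ≫ h' := by
    rw [← Category.assoc, hw, Category.assoc, sq.w, Category.assoc]
  obtain ⟨c, ⟨hc₁, hc₂⟩, hc⟩ := HU.2.2 hT hT' j (a ≫ f) (b ≫ g) hj hwa
  refine ⟨sq'.lift b c hc₂.symm, ⟨?_, sq'.lift_fst _ _ _⟩, fun y hy => ?_⟩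
  · apply sq'.hom_ext
    · rw [Category.assoc, sq'.lift_fst, Category.assoc, w1, hw]
    · rw [Category.assoc, sq'.lift_snd, hc₁, Category.assoc, Category.assoc, w2]
  · apply sq'.hom_ext
    · rw [sq'.lift_fst, hy.2]
    · rw [sq'.lift_snd]
      refine hc _ ⟨?_, ?_⟩
      · rw [← Category.assoc, hy.1, Category.assoc, w2, Category.assoc]
      · rw [Category.assoc, ← sq'.w, ← Category.assoc, hy.2]

end Groth.Agent.AlgSpLib
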