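import Groth.Agent.AlgSpLib.InfSpace

/-!
# Gluing lifts given on affine etale charts of a thickening
-/

set_option backward.isDefEq.respectTransparency false
set_option backward.isDefEq.respectTransparency.types false

universe u

open CategoryTheory CategoryTheory.Limits AlgebraicGeometry Opposite AlgSp

namespace Groth.Agent.AlgSpLib

variable {S : Scheme.{u}} {X Y T T' : Sp S}

/-- Unique lifts on every affine etale chart of the bigger space. -/
def HasAffineLifts (f : X ⟶ Y) (j : T ⟶ T') (a : T ⟶ X) (b : T' ⟶ Y) : Prop :=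
  ∀ ⦃W W' : Over S⦄ (q : W ⟶ W') (t : (yon S).obj W ⟶ T) (e : (yon S).obj W' ⟶ T'),
    IsAffine W'.left → RepWith @Etale e → IsPullback t ((yon S).map q) j e →
      ∃! l : (yon S).obj W' ⟶ X, (yon S).map q ≫ l = t ≫ a ∧ l ≫ f = e ≫ b

theorem chart_unique' {f : X ⟶ Y} {j : T ⟶ T'} (hj : IsFOThickMor j) {a : T ⟶ X} {b : T' ⟶ Y}
    (hL : HasAffineLifts f j a b) {V : Over S} (e : (yon S).obj V ⟶ T') (he : RepWith @Etale e)
    (l l' : (yon S).obj V ⟶ X) (h2 : l ≫ f = e ≫ b) (h4 : l' ≫ f = e ≫ b)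
    (h1 : ∀ ⦃W : Over S⦄ (q : W ⟶ V) (t : (yon S).obj W ⟶ T), t ≫ j = (yon S).map q ≫ e →
      (yon S).map q ≫ l = t ≫ a)
    (h3 : ∀ ⦃W : Over S⦄ (q : W ⟶ V) (t : (yon S).obj W ⟶ T), t ≫ j = (yon S).map q ≫ e →
      (yon S).map q ≫ l' = t ≫ a) : l = l' := by
  refine AlgSpDec.hom_ext_of_openCover V.left.affineOpenCover.openCover l l' fun i => ?_
  let C : CommRingCat.{u} := V.left.affineOpenCover.X i
  let p : Spec C ⟶ V.left := V.left.affineOpenCover.f i
  let P : Over.mk (p ≫ V.hom) ⟶ V := Over.homMk p rfl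
  change (yon S).map P ≫ l = (yon S).map P ≫ l'
  have hPe : RepWith @Etale ((yon S).map P ≫ e) := repWith_comp ((repWith_yon_map_iff _ P).2 (by
    have : IsOpenImmersion P.left := V.left.affineOpenCover.openCover.map_prop i
    infer_instance)) he
  have hP := hj.1.1.isPullback ((yon S).map P ≫ e)
  have hw : hj.1.1.fst ((yon S).map P ≫ e) ≫ j =
      (yon S).map (hj.1.1.snd ((yon S).map P ≫ e) ≫ P) ≫ e := by
    rw [hP.w, Functor.map_comp_assoc]
  exact (hL _ _ _ (inferInstanceAs (IsAffine (Spec C))) hPe hP).unique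
    ⟨(Functor.map_comp_assoc _ _ _ _).symm.trans (h1 _ _ hw), by rw [Category.assoc, h2, Category.assoc]⟩
    ⟨(Functor.map_comp_assoc _ _ _ _).symm.trans (h3 _ _ hw), by rw [Category.assoc, h4, Category.assoc]⟩

theorem existsUnique_lift_of_hasAffineLifts {f : X ⟶ Y} {j : T ⟶ T'}
    (hT' : IsAlgSpace T') (hj : IsFOThickMor j) (a : T ⟶ X) (b : T' ⟶ Y)
    (hL : HasAffineLifts f j a b) : ∃! l : T' ⟶ X, j ≫ l = a ∧ l ≫ f = b := by
  suffices h : ∃ l : T' ⟶ X, j ≫ l = a ∧ l ≫ f = b by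
    obtain ⟨l, h1, h2⟩ := h
    refine ⟨l, ⟨h1, h2⟩, fun l' h' => ?_⟩
    obtain ⟨U, p, hp, hp'⟩ := hT'.atlas
    have := epi_of_etale_surjective hp hp'
    rw [← cancel_epi p]
    refine chart_unique' hj hL p hp _ _ (by rw [Category.assoc, h'.2]) (by rw [Category.assoc, h2])
      (fun W q t ht => ?_) (fun W q t ht => ?_)
    · rw [← Category.assoc, ← ht, Category.assoc, h'.1]
    · rw [← Category.assoc, ← ht, Category.assoc, h1]
  obtain ⟨U₀, p₀, hp₀, hp₀'⟩ := hT'.atlas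
  -- a chart by affines
  let 𝒰 := U₀.left.affineOpenCover
  let Z : 𝒰.I₀ → Over S := fun i => Over.mk (𝒰.f i ≫ U₀.hom)
  let c : ∀ i, (yon S).obj (Z i) ⟶ T' := fun i => (yon S).map (Over.homMk (𝒰.f i) rfl : Z i ⟶ U₀) ≫ p₀
  have hc : ∀ i, RepWith @Etale (c i) := fun i => repWith_comp ((repWith_yon_map_iff _ _).2 (by
    have : IsOpenImmersion (Over.homMk (𝒰.f i) rfl : Z i ⟶ U₀).left := 𝒰.openCover.map_prop i
    infer_instance)) hp₀
  have piece : ∀ i, ∃ l : (yon S).obj (Z i) ⟶ X, l ≫ f = c i ≫ b ∧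
      ∀ ⦃W : Over S⦄ (q : W ⟶ Z i) (t : (yon S).obj W ⟶ T), t ≫ j = (yon S).map q ≫ c i →
        (yon S).map q ≫ l = t ≫ a := by
    intro i
    have hP := hj.1.1.isPullback (c i)
    obtain ⟨l, ⟨h1, h2⟩, -⟩ := hL (hj.1.1.snd (c i)) (hj.1.1.fst (c i)) (c i)
      (inferInstanceAs (IsAffine (Spec _))) (hc i) hP
    refine ⟨l, h2, fun W q t ht => ?_⟩
    obtain ⟨r, hr⟩ := (yon S).map_surjective (hP.lift t ((yon S).map q) ht)
    have hrq : r ≫ hj.1.1.snd (c i) = q := (yon S).map_injective (by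
      rw [Functor.map_comp, hr, hP.lift_snd])
    rw [← hrq, Functor.map_comp_assoc, h1, hr, hP.lift_fst_assoc]
  choose L hL₁ hL₂ using piece
  -- the atlas by affines
  let p : (yon S).obj (AlgSpDec.sigmaOver Z) ⟶ T' :=
    (yon S).map (Over.homMk (Sigma.desc 𝒰.f) (Sigma.hom_ext _ _ fun i => by
      rw [← Category.assoc, Sigma.ι_desc]
      exact (Sigma.ι_desc (fun i => (Z i).hom) i).symm) : AlgSpDec.sigmaOver Z ⟶ U₀) ≫ p₀
  have hdesc : Etale (Sigma.desc 𝒰.f) := IsZariskiLocalAtSource.sigmaDesc (P := @Etale) fun i => by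
    have : IsOpenImmersion (𝒰.f i) := 𝒰.openCover.map_prop i
    infer_instance
  have hpe : RepWith @Etale p := repWith_comp ((repWith_yon_map_iff _ _).2 hdesc) hp₀
  have hps : RepWith @Surjective p := repWith_comp ((repWith_yon_map_iff _ _).2 ⟨fun x => by
    obtain ⟨i, y, hy⟩ := 𝒰.openCover.exists_eq x
    refine ⟨(AlgSpDec.sigmaι Z i).left y, ?_⟩
    refine Eq.trans ?_ hy
    exact congrArg (fun q : Spec _ ⟶ U₀.left => q y) (Sigma.ι_desc 𝒰.f i)⟩) hp₀'
  have hιp : ∀ i, (yon S).map (AlgSpDec.sigmaι Z i) ≫ p = c i := fun i => by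
    refine (Functor.map_comp_assoc _ _ _ _).symm.trans (congrArg (fun q => (yon S).map q ≫ p₀) ?_)
    exact Over.OverMorphism.ext (Sigma.ι_desc 𝒰.f i)
  obtain ⟨lU, hlU⟩ : ∃ lU : (yon S).obj (AlgSpDec.sigmaOver Z) ⟶ X,
      ∀ i, (yon S).map (AlgSpDec.sigmaι Z i) ≫ lU = L i := AlgSpDec.exists_hom_sigma Z L
  have hlUf : lU ≫ f = p ≫ b := AlgSpDec.hom_ext_sigma Z fun i => by
    rw [← Category.assoc, hlU, hL₁, ← hιp, Category.assoc]
  have hlUj : ∀ ⦃W : Over S⦄ (q : W ⟶ AlgSpDec.sigmaOver Z) (t : (yon S).obj W ⟶ T),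
      t ≫ j = (yon S).map q ≫ p → (yon S).map q ≫ lU = t ≫ a := by
    intro W q t ht
    refine AlgSpDec.hom_ext_of_openCover
      ((sigmaOpenCover fun i => (Z i).left).pullback₁ q.left) _ _ fun i => ?_
    let g : Over.mk (((sigmaOpenCover fun i => (Z i).left).pullback₁ q.left).f i ≫ W.hom) ⟶ W :=
      Over.homMk (((sigmaOpenCover fun i => (Z i).left).pullback₁ q.left).f i) rfl
    change (yon S).map g ≫ (yon S).map q ≫ lU = (yon S).map g ≫ t ≫ a
    let g' : Over.mk (((sigmaOpenCover fun i => (Z i).left).pullback₁ q.left).f i ≫ W.hom) ⟶ Z i :=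
      Over.homMk (pullback.snd q.left ((sigmaOpenCover fun i => (Z i).left).f i)) (by
        change pullback.snd _ _ ≫ (Z i).hom = pullback.fst q.left _ ≫ W.hom
        rw [← Over.w q, pullback.condition_assoc, ← Over.w (AlgSpDec.sigmaι Z i)]
        rfl)
    have hg : g ≫ q = g' ≫ AlgSpDec.sigmaι Z i := Over.OverMorphism.ext pullback.condition
    rw [← Functor.map_comp_assoc, hg, Functor.map_comp_assoc, hlU, ← Category.assoc _ t a]
    refine hL₂ i g' _ ?_
    rw [Category.assoc, ht, ← Functor.map_comp_assoc, hg, Functor.map_comp_assoc, hιp]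
  have hepi := epi_of_etale_surjective hpe hps
  have : EffectiveEpi p := (isRegularEpi_iff_effectiveEpi p).1 (IsRegularEpiCategory.regularEpiOfEpi p)
  have hagree : ∀ {Q : Sp S} (g₁ g₂ : Q ⟶ (yon S).obj (AlgSpDec.sigmaOver Z)),
      g₁ ≫ p = g₂ ≫ p → g₁ ≫ lU = g₂ ≫ lU := by
    intro Q g₁ g₂ hg
    have hR := hpe.1.isPullback p
    have he : RepWith @Etale (hpe.1.fst p ≫ p) := by
      rw [hR.w]
      exact repWith_comp ((repWith_yon_map_iff _ _).2 (hpe.2 p _ _ hR)) hpe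
    obtain ⟨r₁, hr₁⟩ := (yon S).map_surjective (hpe.1.fst p)
    have key : hpe.1.fst p ≫ lU = (yon S).map (hpe.1.snd p) ≫ lU := by
      refine chart_unique' hj hL _ he _ _ (by rw [Category.assoc, hlUf]; exact (Category.assoc _ _ _).symm)
        (by rw [Category.assoc, hlUf, ← Category.assoc, ← hR.w]) (fun W q t ht => ?_) (fun W q t ht => ?_)
      · rw [← hr₁, ← Functor.map_comp_assoc]
        exact hlUj _ t (by rw [ht, Functor.map_comp_assoc, hr₁])
      · rw [← Functor.map_comp_assoc]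
        exact hlUj _ t (by rw [ht, Functor.map_comp_assoc, hR.w])
    have h := congrArg (hR.lift g₁ g₂ hg ≫ ·) key
    simpa using h
  refine ⟨EffectiveEpi.desc p lU hagree, ?_, ?_⟩
  · have hsnd : RepWith @Etale (pullback.fst j p) := repWith_fst j hpe
    have hsnd' : RepWith @Surjective (pullback.fst j p) := repWith_fst j hps
    have := epi_of_etale_surjective hsnd hsnd'
    rw [← cancel_epi (pullback.fst j p), ← Category.assoc, pullback.condition, Category.assoc,
      EffectiveEpi.fac]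
    have hR := hj.1.1.isPullback p
    have hiso := hR.isoPullback_hom_fst
    rw [← cancel_epi hR.isoPullback.hom, ← Category.assoc, ← Category.assoc, hR.isoPullback_hom_fst,
      hR.isoPullback_hom_snd]
    exact hlUj _ _ hR.w
  · rw [← cancel_epi p, ← Category.assoc, EffectiveEpi.fac, hlUf]


theorem isFOThickMor_of_isPullback {j : T ⟶ T'} (hj : IsFOThickMor j) {W W' : Over S} {q : W ⟶ W'}
    {t : (yon S).obj W ⟶ T} {e : (yon S).obj W' ⟶ T'} (he : RepWith @Etale e)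
    (hP : IsPullback t ((yon S).map q) j e) : IsFOThickMor ((yon S).map q) := by
  refine ⟨MorphismProperty.of_isPullback (P := RepWith thick) hP hj.1, ?_⟩
  intro V V' b fst snd hV hb hQ
  exact hj.2 (b ≫ e) (fst ≫ t) snd hV (repWith_comp hb he) (hQ.paste_horiz hP)

theorem isUnivFOThick_iff {Z Z' : Sp S} {X : Sp S} (h : Z ⟶ X) (i : Z ⟶ Z') (h' : Z' ⟶ X)
    (hi : IsFOThickMor i) (w : i ≫ h' = h) :
    IsUnivFOThick h i h' ↔
      ∀ (T T' : Over S) (j : T ⟶ T'), IsAffine T'.left → IsFOThickMor ((yon S).map j) →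
        ∀ (a : (yon S).obj T ⟶ Z) (b : (yon S).obj T' ⟶ X), (yon S).map j ≫ b = a ≫ h →
          ∃! a' : (yon S).obj T' ⟶ Z', (yon S).map j ≫ a' = a ≫ i ∧ a' ≫ h' = b := by
  refine ⟨fun H T T' j _ hj a b hw => H.2.2 (IsAlgSpace.yon_obj T) (IsAlgSpace.yon_obj T') _ a b hj hw,
    fun H => ⟨hi, w, fun T T' _ hT' j a b hj hw => ?_⟩⟩
  refine existsUnique_lift_of_hasAffineLifts hT' hj (a ≫ i) b fun W W' q t e hW he hP => ?_
  have := H W W' q hW (isFOThickMor_of_isPullback hj he hP) (t ≫ a) (e ≫ b) (by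
    rw [← Category.assoc, ← hP.w, Category.assoc, hw, Category.assoc])
  simpa only [Category.assoc] using this

end Groth.Agent.AlgSpLib
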