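import Groth.Agent.AlgSpLib.InfCharts
import Mathlib.CategoryTheory.Sites.RegularEpi

/-!
# Infinitesimal lifting along thickenings of algebraic spaces
-/

set_option backward.isDefEq.respectTransparency false
set_option backward.isDefEq.respectTransparency.types false

universe u

open CategoryTheory CategoryTheory.Limits AlgebraicGeometry Opposite AlgSp

namespace Groth.Agent.AlgSpLib

variable {S : Scheme.{u}}

/-- A first order thickening of sheaves restricts on affine etale charts to a standard square. -/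
theorem exists_chart_piece {T T' : Sp S} {j : T ⟶ T'} (hj : IsFOThickMor j) {V : Over S} [IsAffine V.left]
    (e : (yon S).obj V ⟶ T') (he : RepWith @Etale e) :
    ∃ (A : Type u) (_ : CommRing A) (I : Ideal A) (_ : I ^ 2 = ⊥) (str : Spec (CommRingCat.of A) ⟶ S)
      (ε : Over.mk str ⟶ V) (_ : IsIso ε)
      (t : (yon S).obj (Over.mk (Spec.map (CommRingCat.ofHom (Ideal.Quotient.mk I)) ≫ str)) ⟶ T),
      t ≫ j = (yon S).map (Over.homMk (V := Over.mk str)
        (Spec.map (CommRingCat.ofHom (Ideal.Quotient.mk I))) rfl :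
          Over.mk (Spec.map (CommRingCat.ofHom (Ideal.Quotient.mk I)) ≫ str) ⟶ Over.mk str) ≫
        (yon S).map ε ≫ e := by
  have hP := hj.1.1.isPullback e
  have hth : thick (hj.1.1.snd e).left := hj.1.2 e _ _ hP
  have hsq : sqZero (hj.1.1.snd e).left := hj.2 e _ _ inferInstance he hP
  obtain ⟨A, I, hI, e', e₀, he₀⟩ :=
    Groth.Agent.MorLib.exists_iso_quotientMk (hj.1.1.snd e).left ⟨hth, hsq⟩
  let str : Spec (CommRingCat.of A) ⟶ S := e'.hom ≫ V.hom
  let ε : Over.mk str ⟶ V := Over.homMk e'.hom rfl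
  have : IsIso ε := (Over.isoMk (f := Over.mk str) (g := V) e' rfl).isIso_hom
  let η : Over.mk (Spec.map (CommRingCat.ofHom (Ideal.Quotient.mk I)) ≫ str) ⟶ hj.1.1.pullback e :=
    Over.homMk e₀.hom (by
      change e₀.hom ≫ (hj.1.1.pullback e).hom = Spec.map _ ≫ e'.hom ≫ V.hom
      rw [← Over.w (hj.1.1.snd e), reassoc_of% he₀])
  refine ⟨A, inferInstance, I, hI, str, ε, ‹_›, (yon S).map η ≫ hj.1.1.fst e, ?_⟩
  rw [Category.assoc, hP.w, ← Functor.map_comp_assoc, ← Functor.map_comp_assoc]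
  exact congrArg (fun q => (yon S).map q ≫ e) (Over.OverMorphism.ext he₀)

variable {X Y T T' : Sp S}

/-- Restricted to an affine etale chart, there is at most one dotted arrow. -/
theorem chart_unique {f : X ⟶ Y} (hf : IsFormallyUnramifiedMor f) {j : T ⟶ T'} (hj : IsFOThickMor j)
    (a : T ⟶ X) (b : T' ⟶ Y) (w : a ≫ f = j ≫ b) {V : Over S} (e : (yon S).obj V ⟶ T')
    (he : RepWith @Etale e) (l l' : (yon S).obj V ⟶ X)
    (h2 : l ≫ f = e ≫ b) (h4 : l' ≫ f = e ≫ b)
    (h1 : ∀ ⦃W : Over S⦄ (q : W ⟶ V) (t : (yon S).obj W ⟶ T), t ≫ j = (yon S).map q ≫ e →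
      (yon S).map q ≫ l = t ≫ a)
    (h3 : ∀ ⦃W : Over S⦄ (q : W ⟶ V) (t : (yon S).obj W ⟶ T), t ≫ j = (yon S).map q ≫ e →
      (yon S).map q ≫ l' = t ≫ a) : l = l' := by
  refine AlgSpDec.hom_ext_of_openCover V.left.affineOpenCover.openCover l l' fun i => ?_
  let C : CommRingCat.{u} := V.left.affineOpenCover.X i
  let p : Spec C ⟶ V.left := V.left.affineOpenCover.f i
  let P : Over.mk (p ≫ V.hom) ⟶ V := Over.homMk p rfl
  change (yon S).map P ≫ l = (yon S).map P ≫ l'
  have : IsAffine (Over.mk (p ≫ V.hom)).left := inferInstanceAs (IsAffine (Spec C))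
  have hPe : RepWith @Etale ((yon S).map P ≫ e) := repWith_comp ((repWith_yon_map_iff _ P).2 (by
    have : IsOpenImmersion P.left := V.left.affineOpenCover.openCover.map_prop i
    infer_instance)) he
  obtain ⟨A, _, I, hI, str, ε, _, t, ht⟩ := exists_chart_piece hj _ hPe
  let jI : Over.mk (Spec.map (CommRingCat.ofHom (Ideal.Quotient.mk I)) ≫ str) ⟶ Over.mk str :=
    Over.homMk (Spec.map (CommRingCat.ofHom (Ideal.Quotient.mk I))) rfl
  have ht' : t ≫ j = (yon S).map (jI ≫ ε ≫ P) ≫ e := by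
    rw [ht, Functor.map_comp, Functor.map_comp, Category.assoc, Category.assoc]
  let sq : InfSq f :=
    { A := A, I := I, sq_zero := hI, str := str, top := t ≫ a, bot := (yon S).map (ε ≫ P) ≫ e ≫ b
      comm := by
        rw [Category.assoc, w, ← Category.assoc, ht', Category.assoc]
        exact Functor.map_comp_assoc _ _ _ _ }
  have key : (yon S).map (ε ≫ P) ≫ l = (yon S).map (ε ≫ P) ≫ l' := hf sq _ _
    ((Functor.map_comp_assoc _ _ _ _).symm.trans (h1 _ t ht'))
    ((Category.assoc _ _ _).trans (congrArg (_ ≫ ·) h2))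
    ((Functor.map_comp_assoc _ _ _ _).symm.trans (h3 _ t ht'))
    ((Category.assoc _ _ _).trans (congrArg (_ ≫ ·) h4))
  rw [Functor.map_comp, Category.assoc, Category.assoc, cancel_epi] at key
  exact key

theorem lift_unique_of_formallyUnramified {f : X ⟶ Y} (hf : IsFormallyUnramifiedMor f) {j : T ⟶ T'}
    (hT' : IsAlgSpace T') (hj : IsFOThickMor j) (a : T ⟶ X) (b : T' ⟶ Y) (w : a ≫ f = j ≫ b)
    (l l' : T' ⟶ X) (h1 : j ≫ l = a) (h2 : l ≫ f = b) (h3 : j ≫ l' = a) (h4 : l' ≫ f = b) : l = l' := by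
  obtain ⟨U, p, hp, hp'⟩ := hT'.atlas
  have := epi_of_etale_surjective hp hp'
  rw [← cancel_epi p]
  refine chart_unique hf hj a b w p hp _ _ (by rw [Category.assoc, h2]) (by rw [Category.assoc, h4])
    (fun W q t ht => ?_) (fun W q t ht => ?_)
  · rw [← Category.assoc, ← ht, Category.assoc, h1]
  · rw [← Category.assoc, ← ht, Category.assoc, h3]

theorem existsUnique_lift_of_formallyEtale {f : X ⟶ Y} (hf : IsFormallyEtaleMor f) {j : T ⟶ T'}
    (hT' : IsAlgSpace T') (hj : IsFOThickMor j) (a : T ⟶ X) (b : T' ⟶ Y) (w : a ≫ f = j ≫ b) :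
    ∃! l : T' ⟶ X, j ≫ l = a ∧ l ≫ f = b := by
  have hu := ((isFormallyEtaleMor_iff f).1 hf).2
  suffices h : ∃ l : T' ⟶ X, j ≫ l = a ∧ l ≫ f = b by
    obtain ⟨l, h1, h2⟩ := h
    exact ⟨l, ⟨h1, h2⟩, fun l' h' => lift_unique_of_formallyUnramified hu hT' hj a b w l' l h'.1 h'.2 h1 h2⟩
  obtain ⟨U₀, p₀, hp₀, hp₀'⟩ := hT'.atlas
  -- a chart by affines
  let 𝒰 := U₀.left.affineOpenCover
  let Z : 𝒰.I₀ → Over S := fun i => Over.mk (𝒰.f i ≫ U₀.hom)
  let c : ∀ i, (yon S).obj (Z i) ⟶ T' := fun i => (yon S).map (Over.homMk (𝒰.f i) rfl : Z i ⟶ U₀) ≫ p₀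
  have hc : ∀ i, RepWith @Etale (c i) := fun i => repWith_comp ((repWith_yon_map_iff _ _).2 (by
    have : IsOpenImmersion (Over.homMk (𝒰.f i) rfl : Z i ⟶ U₀).left := 𝒰.openCover.map_prop i
    infer_instance)) hp₀
  have piece : ∀ i, ∃ l : (yon S).obj (Z i) ⟶ X, l ≫ f = c i ≫ b ∧
      ∀ ⦃W : Over S⦄ (q : W ⟶ Z i) (t : (yon S).obj W ⟶ T), t ≫ j = (yon S).map q ≫ c i →
        (yon S).map q ≫ l = t ≫ a := by
    intro i
    have : IsAffine (Z i).left := inferInstanceAs (IsAffine (Spec _))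
    have hP := hj.1.1.isPullback (c i)
    have hth : thick (hj.1.1.snd (c i)).left := hj.1.2 (c i) _ _ hP
    have hsq : sqZero (hj.1.1.snd (c i)).left := hj.2 (c i) _ _ inferInstance (hc i) hP
    obtain ⟨A, I, hI, e', e₀, he₀⟩ :=
      Groth.Agent.MorLib.exists_iso_quotientMk (hj.1.1.snd (c i)).left ⟨hth, hsq⟩
    let str : Spec (CommRingCat.of A) ⟶ S := e'.hom ≫ (Z i).hom
    let εi : Over.mk str ≅ Z i := Over.isoMk e' rfl
    have hη : e₀.hom ≫ (hj.1.1.pullback (c i)).hom =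
        Spec.map (CommRingCat.ofHom (Ideal.Quotient.mk I)) ≫ str := by
      rw [← Over.w (hj.1.1.snd (c i)), reassoc_of% he₀]
    let ηi : Over.mk (Spec.map (CommRingCat.ofHom (Ideal.Quotient.mk I)) ≫ str) ≅ hj.1.1.pullback (c i) :=
      Over.isoMk e₀ hη
    have hηε : ηi.hom ≫ hj.1.1.snd (c i) = (Over.homMk (V := Over.mk str)
        (Spec.map (CommRingCat.ofHom (Ideal.Quotient.mk I))) rfl :
          Over.mk (Spec.map (CommRingCat.ofHom (Ideal.Quotient.mk I)) ≫ str) ⟶ Over.mk str) ≫ εi.hom :=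
      Over.OverMorphism.ext he₀
    let sq : InfSq f :=
      { A := A, I := I, sq_zero := hI, str := str
        top := ((yon S).map ηi.hom ≫ hj.1.1.fst (c i)) ≫ a, bot := (yon S).map εi.hom ≫ c i ≫ b
        comm := by
          refine (Category.assoc _ _ _).trans ((congrArg (_ ≫ ·) w).trans ((Category.assoc _ _ _).symm.trans ?_))
          refine (congrArg (· ≫ b) ((Category.assoc _ _ _).trans ((congrArg (_ ≫ ·) hP.w).trans
            (Functor.map_comp_assoc _ _ _ _).symm))).trans ((Category.assoc _ _ _).trans ?_)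
          exact (congrArg (fun q => (yon S).map q ≫ c i ≫ b) hηε).trans (Functor.map_comp_assoc _ _ _ _) }
    obtain ⟨m, ⟨hm₁, hm₂⟩, -⟩ := hf sq
    refine ⟨(yon S).map εi.inv ≫ m, ?_, fun W q t ht => ?_⟩
    · rw [Category.assoc, show m ≫ f = (yon S).map εi.hom ≫ c i ≫ b from hm₂, ← Functor.map_comp_assoc,
        εi.inv_hom_id, (yon S).map_id, Category.id_comp]
    · obtain ⟨r, hr⟩ := (yon S).map_surjective (hP.lift t ((yon S).map q) ht)
      have hrq : r ≫ hj.1.1.snd (c i) = q := (yon S).map_injective (by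
        rw [Functor.map_comp, hr, hP.lift_snd])
      have e1 : q ≫ εi.inv = (r ≫ ηi.inv) ≫ (Over.homMk (V := Over.mk str)
          (Spec.map (CommRingCat.ofHom (Ideal.Quotient.mk I))) rfl :
          Over.mk (Spec.map (CommRingCat.ofHom (Ideal.Quotient.mk I)) ≫ str) ⟶ Over.mk str) := by
        rw [Category.assoc, ← cancel_mono εi.hom, Category.assoc, εi.inv_hom_id, Category.comp_id,
          Category.assoc, Category.assoc, ← hηε, ηi.inv_hom_id_assoc, hrq]
      rw [← Functor.map_comp_assoc, e1, Functor.map_comp_assoc]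
      refine (congrArg (_ ≫ ·) hm₁).trans ?_
      change (yon S).map (r ≫ ηi.inv) ≫ ((yon S).map ηi.hom ≫ hj.1.1.fst (c i)) ≫ a = _
      rw [Category.assoc, ← Functor.map_comp_assoc, Category.assoc, ηi.inv_hom_id, Category.comp_id, hr,
        hP.lift_fst_assoc]
  choose L hL₁ hL₂ using piece
  -- the atlas by affines
  let p : (yon S).obj (AlgSpDec.sigmaOver Z) ⟶ T' :=
    (yon S).map (Over.homMk (Sigma.desc 𝒰.f) (Sigma.hom_ext _ _ fun i => by
      rw [← Category.assoc, Sigma.ι_desc]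
      exact (Sigma.ι_desc (fun i => (Z i).hom) i).symm) : AlgSpDec.sigmaOver Z ⟶ U₀) ≫ p₀
  have hdesc : Etale (Sigma.desc 𝒰.f) := IsZariskiLocalAtSource.sigmaDesc (P := @Etale) fun i => by
    have : IsOpenImmersion (𝒰.f i) := 𝒰.openCover.map_prop i
    infer_instance
  have hpe : RepWith @Etale p := repWith_comp ((repWith_yon_map_iff _ _).2 hdesc) hp₀
  have hps : RepWith @Surjective p := repWith_comp ((repWith_yon_map_iff _ _).2 ⟨fun x => by
    obtain ⟨i, y, hy⟩ := 𝒰.openCover.exists_eq x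
    refine ⟨(AlgSpDec.sigmaι Z i).left y, ?_⟩
    refine Eq.trans ?_ hy
    exact congrArg (fun q : Spec _ ⟶ U₀.left => q y) (Sigma.ι_desc 𝒰.f i)⟩) hp₀'
  have hιp : ∀ i, (yon S).map (AlgSpDec.sigmaι Z i) ≫ p = c i := fun i => by
    refine (Functor.map_comp_assoc _ _ _ _).symm.trans (congrArg (fun q => (yon S).map q ≫ p₀) ?_)
    exact Over.OverMorphism.ext (Sigma.ι_desc 𝒰.f i)
  obtain ⟨lU, hlU⟩ : ∃ lU : (yon S).obj (AlgSpDec.sigmaOver Z) ⟶ X,
      ∀ i, (yon S).map (AlgSpDec.sigmaι Z i) ≫ lU = L i := AlgSpDec.exists_hom_sigma Z L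
  have hlUf : lU ≫ f = p ≫ b := AlgSpDec.hom_ext_sigma Z fun i => by
    rw [← Category.assoc, hlU, hL₁, ← hιp, Category.assoc]
  have hlUj : ∀ ⦃W : Over S⦄ (q : W ⟶ AlgSpDec.sigmaOver Z) (t : (yon S).obj W ⟶ T),
      t ≫ j = (yon S).map q ≫ p → (yon S).map q ≫ lU = t ≫ a := by
    intro W q t ht
    refine AlgSpDec.hom_ext_of_openCover
      ((sigmaOpenCover fun i => (Z i).left).pullback₁ q.left) _ _ fun i => ?_
    let g : Over.mk (((sigmaOpenCover fun i => (Z i).left).pullback₁ q.left).f i ≫ W.hom) ⟶ W :=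
      Over.homMk (((sigmaOpenCover fun i => (Z i).left).pullback₁ q.left).f i) rfl
    change (yon S).map g ≫ (yon S).map q ≫ lU = (yon S).map g ≫ t ≫ a
    let g' : Over.mk (((sigmaOpenCover fun i => (Z i).left).pullback₁ q.left).f i ≫ W.hom) ⟶ Z i :=
      Over.homMk (pullback.snd q.left ((sigmaOpenCover fun i => (Z i).left).f i)) (by
        change pullback.snd _ _ ≫ (Z i).hom = pullback.fst q.left _ ≫ W.hom
        rw [← Over.w q, pullback.condition_assoc, ← Over.w (AlgSpDec.sigmaι Z i)]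
        rfl)
    have hg : g ≫ q = g' ≫ AlgSpDec.sigmaι Z i := Over.OverMorphism.ext pullback.condition
    rw [← Functor.map_comp_assoc, hg, Functor.map_comp_assoc, hlU, ← Category.assoc _ t a]
    refine hL₂ i g' _ ?_
    rw [Category.assoc, ht, ← Functor.map_comp_assoc, hg, Functor.map_comp_assoc, hιp]
  have hepi := epi_of_etale_surjective hpe hps
  have : EffectiveEpi p := (isRegularEpi_iff_effectiveEpi p).1 (IsRegularEpiCategory.regularEpiOfEpi p)
  have hagree : ∀ {Q : Sp S} (g₁ g₂ : Q ⟶ (yon S).obj (AlgSpDec.sigmaOver Z)),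
      g₁ ≫ p = g₂ ≫ p → g₁ ≫ lU = g₂ ≫ lU := by
    intro Q g₁ g₂ hg
    have hR := hpe.1.isPullback p
    have he : RepWith @Etale (hpe.1.fst p ≫ p) := by
      rw [hR.w]
      exact repWith_comp ((repWith_yon_map_iff _ _).2 (hpe.2 p _ _ hR)) hpe
    obtain ⟨r₁, hr₁⟩ := (yon S).map_surjective (hpe.1.fst p)
    have key : hpe.1.fst p ≫ lU = (yon S).map (hpe.1.snd p) ≫ lU := by
      refine chart_unique hu hj a b w _ he _ _ (by rw [Category.assoc, hlUf]; exact (Category.assoc _ _ _).symm)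
        (by rw [Category.assoc, hlUf, ← Category.assoc, ← hR.w]) (fun W q t ht => ?_) (fun W q t ht => ?_)
      · rw [← hr₁, ← Functor.map_comp_assoc]
        exact hlUj _ t (by rw [ht, Functor.map_comp_assoc, hr₁])
      · rw [← Functor.map_comp_assoc]
        exact hlUj _ t (by rw [ht, Functor.map_comp_assoc, hR.w])
    have h := congrArg (hR.lift g₁ g₂ hg ≫ ·) key
    simpa using h
  refine ⟨EffectiveEpi.desc p lU hagree, ?_, ?_⟩
  · have hsnd : RepWith @Etale (pullback.fst j p) := repWith_fst j hpe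
    have hsnd' : RepWith @Surjective (pullback.fst j p) := repWith_fst j hps
    have := epi_of_etale_surjective hsnd hsnd'
    rw [← cancel_epi (pullback.fst j p), ← Category.assoc, pullback.condition, Category.assoc,
      EffectiveEpi.fac]
    have hR := hj.1.1.isPullback p
    have hiso := hR.isoPullback_hom_fst
    rw [← cancel_epi hR.isoPullback.hom, ← Category.assoc, ← Category.assoc, hR.isoPullback_hom_fst,
      hR.isoPullback_hom_snd]
    exact hlUj _ _ hR.w
  · rw [← cancel_epi p, ← Category.assoc, EffectiveEpi.fac, hlUf]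

end Groth.Agent.AlgSpLib
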