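import Groth.Agent.AlgSpLib.LargestOpenTop
import Groth.Prelude.Def_AlgSpGpd

/-!
# Invariance of largest opens in groupoids of algebraic spaces
-/

set_option backward.isDefEq.respectTransparency false
set_option backward.isDefEq.respectTransparency.types false
set_option autoImplicit false

universe u

open CategoryTheory CategoryTheory.Limits AlgebraicGeometry Opposite AlgSp

namespace Groth.Agent.AlgSpLib

variable {S : Scheme.{u}} {P Q : MorphismProperty (Sp S)}

/-- A property local on the base is invariant under isomorphisms of the source over the base. -/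
theorem P_of_iso (hQ : OpenTopology Q) (hP : IsLocalOnBase (fun _ _ Z g => IsCover Q Z g) P) {A A' Z : Sp S}
    (hA : IsAlgSpace A) (hA' : IsAlgSpace A') (hZ : IsAlgSpace Z) {a : A ⟶ Z} {a' : A' ⟶ Z} (e : A' ≅ A)
    (he : e.hom ≫ a = a') (h : P a) : P a' := by
  refine (hP (fun _ : PUnit.{u + 1} => Z) (fun _ => 𝟙 Z) hZ (fun _ => hZ)
    ⟨fun _ => hQ.of_openImmersion hZ hZ _ (repWith_id_openImmersion Z), fun x => ⟨⟨⟩, x, Points.map_id x⟩⟩
    a hA (fun _ => A') (fun _ => a') (fun _ => e.hom) (fun _ => hA')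
    (fun _ => IsPullback.of_horiz_isIso ⟨by rw [he, Category.comp_id]⟩)).1 h ⟨⟩

theorem goodOn_congr (hQ : OpenTopology Q) (hP : IsLocalOnBase (fun _ _ Z g => IsCover Q Z g) P)
    {A A' Y : Space S} {f : A ⟶ Y} {f' : A' ⟶ Y} (e : A.obj ≅ A'.obj) (he : e.hom ≫ f'.hom = f.hom)
    {V : Set (Points Y.obj)} (h : GoodOn P f V) : GoodOn P f' V := by
  intro W₁ X₁ j₁ j₁' f₁ hj₁ hr₁ sq₁
  refine h W₁ X₁ j₁ (ObjectProperty.homMk (j₁'.hom ≫ e.inv)) f₁ hj₁ hr₁ ?_
  exact IsPullback.of_iso sq₁ (Iso.refl _) e.symm (Iso.refl _) (Iso.refl _) (by simp) (by simp)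
    (by simp [← he]) (by simp)

/-- If the base changes of `f` along `s` and `t` agree, the largest good open of `f` is invariant. -/
theorem isInvariant_of_iso (hQ : OpenTopology Q) (hP : IsLocalOnBase (fun _ _ Z g => IsCover Q Z g) P)
    {B : Sp S} (G : GroupoidSp B) (hU : IsAlgSpace G.U) (hR : IsAlgSpace G.R) (hs : Q G.s) (ht : Q G.t)
    {Z : Sp S} (hZ : IsAlgSpace Z) (f : Z ⟶ G.U) (e : pullback f G.t ≅ pullback f G.s)
    (he : e.hom ≫ pullback.snd f G.s = pullback.snd f G.t)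
    {W : Sp S} (hW : IsAlgSpace W) (w : W ⟶ G.U) [Mono w] (hw : RepWith @IsOpenImmersion w)
    (hmax : ∀ (W' : Sp S) (w' : W' ⟶ G.U), IsAlgSpace W' → RepWith @IsOpenImmersion w' →
      (P (pullback.snd f w') ↔ ∃ k : W' ⟶ W, k ≫ w = w')) :
    G.IsInvariant w := by
  let Y : Space S := ⟨G.U, hU⟩
  let Y' : Space S := ⟨G.R, hR⟩
  let X : Space S := ⟨Z, hZ⟩
  let fX : X ⟶ Y := ObjectProperty.homMk f
  obtain ⟨M, hM, hMmax, -, hMbc⟩ := exists_largest_open hQ hP fX
  have hrange : Set.range (Points.map w) = (M : Set (Points G.U)) := by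
    refine Set.Subset.antisymm ?_ ?_
    · have hopen : IsOpen (Set.range (Points.map w)) :=
        (hQ.isOpenMap hW hU w (hQ.of_openImmersion hW hU w hw)).isOpen_range
      refine hMmax ⟨_, hopen⟩ fun W₁ X₁ j₁ j₁' f₁ hj₁ hr₁ sq₁ => ?_
      obtain ⟨k, hk⟩ := exists_lift_openImmersion W₁.property hW hU hw j₁.hom hr₁.le
      exact P_of_iso hQ hP (isAlgSpace_pullback hZ W₁.property hU f j₁.hom) X₁.property W₁.property
        sq₁.isoPullback (sq₁.isoPullback_hom_snd) ((hmax _ j₁.hom W₁.property hj₁).2 ⟨k, hk⟩)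
    · obtain ⟨W', j', hW', hj', hr'⟩ := AlgSpPts.exists_open_subspace hU M.2
      have hX' := isAlgSpace_pullback hZ hW' hU f j'
      have h1 : P (pullback.snd f j') := hM ⟨W', hW'⟩ ⟨_, hX'⟩ (ObjectProperty.homMk j')
        (ObjectProperty.homMk (pullback.fst f j')) (ObjectProperty.homMk (pullback.snd f j')) hj' hr'
        (IsPullback.of_hasPullback _ _)
      obtain ⟨k, hk⟩ := (hmax W' j' hW' hj').1 h1
      rw [show (M : Set (Points G.U)) = Set.range (Points.map j') from hr'.symm, ← hk]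
      rintro _ ⟨x, rfl⟩
      exact ⟨_, (Points.map_comp k w x).symm⟩
  let At : Space S := ⟨_, isAlgSpace_pullback hZ hR hU f G.t⟩
  let As : Space S := ⟨_, isAlgSpace_pullback hZ hR hU f G.s⟩
  let fs : As ⟶ Y' := ObjectProperty.homMk (pullback.snd f G.s)
  let ft : At ⟶ Y' := ObjectProperty.homMk (pullback.snd f G.t)
  obtain ⟨M', hM', hM'max, -, -⟩ := exists_largest_open hQ hP fs
  have hes : (M' : Set (Points G.R)) = Points.map G.s ⁻¹' (M : Set (Points G.U)) :=
    hMbc Y' As (ObjectProperty.homMk G.s) (ObjectProperty.homMk (pullback.fst f G.s)) fs hs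
      (IsPullback.of_hasPullback _ _) M' hM' hM'max
  have het : (M' : Set (Points G.R)) = Points.map G.t ⁻¹' (M : Set (Points G.U)) :=
    hMbc Y' At (ObjectProperty.homMk G.t) (ObjectProperty.homMk (pullback.fst f G.t)) ft ht
      (IsPullback.of_hasPullback _ _) M'
      (goodOn_congr hQ hP (A := As) (A' := At) (f := fs) (f' := ft) e.symm
        (show e.inv ≫ pullback.snd f G.t = pullback.snd f G.s by rw [Iso.inv_comp_eq, he]) hM')
      fun V hV => hM'max V (goodOn_congr hQ hP (A := At) (A' := As) (f := ft) (f' := fs) e he hV)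
  have key : ∀ {T : Over S} (x : (yon S).obj T ⟶ G.U),
      (∃ a : (yon S).obj T ⟶ W, a ≫ w = x) ↔ Set.range (Points.map x) ⊆ (M : Set (Points G.U)) := by
    intro T x
    rw [← hrange]
    refine ⟨?_, exists_lift_openImmersion (IsAlgSpace.yon_obj T) hW hU hw x⟩
    rintro ⟨a, rfl⟩ _ ⟨y, rfl⟩
    exact ⟨_, (Points.map_comp a w y).symm⟩
  intro T r
  rw [key, key]
  simp only [Set.range_subset_iff, Points.map_comp]
  refine forall_congr' fun y => ?_
  exact ((Set.ext_iff.1 het (Points.map r y)).symm.trans (Set.ext_iff.1 hes (Points.map r y)))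

theorem c_congr {B : Sp S} (G : GroupoidSp B) {T : Sp S} {α α' β β' : T ⟶ G.R} (h : α ≫ G.s = β ≫ G.t)
    (hα : α = α') (hβ : β = β') :
    pullback.lift α β h ≫ G.c = pullback.lift α' β' (hα ▸ hβ ▸ h) ≫ G.c := by
  subst hα hβ; rfl

theorem lift_comp_c {B : Sp S} (G : GroupoidSp B) {T T' : Sp S} (q : T' ⟶ T) {α β : T ⟶ G.R}
    (h : α ≫ G.s = β ≫ G.t) :
    q ≫ pullback.lift α β h ≫ G.c =
      pullback.lift (q ≫ α) (q ≫ β) (by rw [Category.assoc, h, Category.assoc]) ≫ G.c := by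
  rw [← Category.assoc]
  congr 1
  apply pullback.hom_ext <;> simp

/-- The two base changes of `s` are isomorphic. -/
theorem exists_iso_source {B : Sp S} (G : GroupoidSp B) :
    ∃ e : pullback G.s G.t ≅ pullback G.s G.s, e.hom ≫ pullback.snd G.s G.s = pullback.snd G.s G.t := by
  let ρ := pullback.snd G.s G.t
  let Φ : pullback G.s G.t ⟶ pullback G.s G.s :=
    pullback.lift (pullback.lift (pullback.fst G.s G.t) ρ pullback.condition ≫ G.c) ρ (G.comp_s _ _ _)
  let ρ₂ := pullback.snd G.s G.s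
  have h₂ : pullback.fst G.s G.s ≫ G.s = (ρ₂ ≫ G.i) ≫ G.t := by
    rw [Category.assoc, G.i_t]; exact pullback.condition
  let Ψ : pullback G.s G.s ⟶ pullback G.s G.t :=
    pullback.lift (pullback.lift (pullback.fst G.s G.s) (ρ₂ ≫ G.i) h₂ ≫ G.c) ρ₂
      (by rw [G.comp_s, Category.assoc, G.i_s])
  refine ⟨⟨Φ, Ψ, ?_, ?_⟩, pullback.lift_snd _ _ _⟩
  · apply pullback.hom_ext
    · simp only [Ψ, Category.assoc, pullback.lift_fst, Category.id_comp]
      rw [lift_comp_c]
      refine (c_congr G _ (α' := pullback.lift (pullback.fst G.s G.t) ρ pullback.condition ≫ G.c) ?_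
        (β' := ρ ≫ G.i) ?_).trans ?_
      · exact pullback.lift_fst _ _ _
      · rw [← Category.assoc]; exact congrArg (· ≫ G.i) (pullback.lift_snd _ _ _)
      · rw [G.assoc _ _ _ _ (by rw [Category.assoc ρ G.i, G.i_t])]
        refine (c_congr G _ rfl (G.comp_i ρ)).trans ((c_congr G _ rfl ?_).trans (G.comp_e _))
        rw [← Category.assoc, ← pullback.condition, Category.assoc]
    · simp [Φ, Ψ, ρ, ρ₂]
  · apply pullback.hom_ext
    · simp only [Φ, Category.assoc, pullback.lift_fst, Category.id_comp]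
      rw [lift_comp_c]
      refine (c_congr G _ (α' := pullback.lift (pullback.fst G.s G.s) (ρ₂ ≫ G.i) h₂ ≫ G.c) ?_ (β' := ρ₂) ?_).trans ?_
      · exact pullback.lift_fst _ _ _
      · exact pullback.lift_snd _ _ _
      · rw [G.assoc _ _ _ _ (by rw [Category.assoc ρ₂ G.i, G.i_s])]
        refine (c_congr G _ rfl (G.i_comp ρ₂)).trans ((c_congr G _ rfl ?_).trans (G.comp_e _))
        rw [← Category.assoc, ← pullback.condition, Category.assoc]
    · simp [Φ, Ψ, ρ, ρ₂]

theorem exists_iso_stabilizer {B : Sp S} (G : GroupoidSp B) :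
    ∃ e : pullback G.stabilizerToU G.t ≅ pullback G.stabilizerToU G.s,
      e.hom ≫ pullback.snd G.stabilizerToU G.s = pullback.snd G.stabilizerToU G.t := by
  have hst : G.stabilizerι ≫ G.t = G.stabilizerToU := by
    have h : G.stabilizerι ≫ G.j = G.stabilizerToU ≫ G.diag := pullback.condition (f := G.j) (g := G.diag)
    have := congrArg (· ≫ pullback.fst G.pU G.pU) h
    simpa [GroupoidSp.diag] using this
  have hss : G.stabilizerι ≫ G.s = G.stabilizerToU := by
    have h : G.stabilizerι ≫ G.j = G.stabilizerToU ≫ G.diag := pullback.condition (f := G.j) (g := G.diag)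
    have := congrArg (· ≫ pullback.snd G.pU G.pU) h
    simpa [GroupoidSp.diag] using this
  have mk : ∀ {T : Sp S} (x : T ⟶ G.R), x ≫ G.t = x ≫ G.s →
      ∃ σ : T ⟶ G.stabilizer, σ ≫ G.stabilizerι = x ∧ σ ≫ G.stabilizerToU = x ≫ G.s := fun x hx =>
    ⟨pullback.lift x (x ≫ G.s) (by apply pullback.hom_ext <;> simp [GroupoidSp.diag, hx]),
      pullback.lift_fst _ _ _, pullback.lift_snd _ _ _⟩
  have ext' : ∀ {T : Sp S} {a b : T ⟶ G.stabilizer}, a ≫ G.stabilizerι = b ≫ G.stabilizerι → a = b := by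
    intro T a b h
    refine pullback.hom_ext h ?_
    show a ≫ G.stabilizerToU = b ≫ G.stabilizerToU
    rw [← hss, ← Category.assoc, h, Category.assoc]
  have uext : ∀ {T : Sp S} {a b c : T ⟶ G.R}, a = b → b = c → a = c := fun h h' => h.trans h'
  let ρ := pullback.snd G.stabilizerToU G.t
  let g := pullback.fst G.stabilizerToU G.t ≫ G.stabilizerι
  have hg₁ : g ≫ G.s = ρ ≫ G.t := by rw [Category.assoc, hss]; exact pullback.condition
  have hg₂ : (ρ ≫ G.i) ≫ G.s = (pullback.lift g ρ hg₁ ≫ G.c) ≫ G.t := by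
    rw [G.comp_t, Category.assoc ρ G.i, G.i_s, Category.assoc, hst]
    exact pullback.condition.symm
  obtain ⟨σ, hσ, hσ'⟩ := mk (pullback.lift (ρ ≫ G.i) (pullback.lift g ρ hg₁ ≫ G.c) hg₂ ≫ G.c)
    (by rw [G.comp_t, G.comp_s, G.comp_s, Category.assoc, G.i_t])
  let Φ : pullback G.stabilizerToU G.t ⟶ pullback G.stabilizerToU G.s := pullback.lift σ ρ (by rw [hσ', G.comp_s, G.comp_s])
  let ρ₂ := pullback.snd G.stabilizerToU G.s
  let g₂ := pullback.fst G.stabilizerToU G.s ≫ G.stabilizerι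
  have hk₁ : g₂ ≫ G.s = (ρ₂ ≫ G.i) ≫ G.t := by
    rw [Category.assoc, hss, Category.assoc, G.i_t]; exact pullback.condition
  have hk₂ : ρ₂ ≫ G.s = (pullback.lift g₂ (ρ₂ ≫ G.i) hk₁ ≫ G.c) ≫ G.t := by
    rw [G.comp_t, Category.assoc, hst]
    exact pullback.condition.symm
  obtain ⟨τ, hτ, hτ'⟩ := mk (pullback.lift ρ₂ (pullback.lift g₂ (ρ₂ ≫ G.i) hk₁ ≫ G.c) hk₂ ≫ G.c)
    (by rw [G.comp_t, G.comp_s, G.comp_s, Category.assoc, G.i_s])
  let Ψ : pullback G.stabilizerToU G.s ⟶ pullback G.stabilizerToU G.t :=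
    pullback.lift τ ρ₂ (by rw [hτ', G.comp_s, G.comp_s, Category.assoc, G.i_s])
  have hΦ : Φ ≫ g₂ = pullback.lift (ρ ≫ G.i) (pullback.lift g ρ hg₁ ≫ G.c) hg₂ ≫ G.c := by
    rw [← hσ, ← Category.assoc]; exact congrArg (· ≫ G.stabilizerι) (pullback.lift_fst _ _ _)
  have hΦρ : Φ ≫ ρ₂ = ρ := pullback.lift_snd _ _ _
  have hΨ : Ψ ≫ g = pullback.lift ρ₂ (pullback.lift g₂ (ρ₂ ≫ G.i) hk₁ ≫ G.c) hk₂ ≫ G.c := by
    rw [← hτ, ← Category.assoc]; exact congrArg (· ≫ G.stabilizerι) (pullback.lift_fst _ _ _)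
  have hΨρ : Ψ ≫ ρ = ρ₂ := pullback.lift_snd _ _ _
  have hgl : g ≫ G.t = ρ ≫ G.t := by rw [Category.assoc, hst]; exact pullback.condition
  have hkl : g₂ ≫ G.t = ρ₂ ≫ G.s := by rw [Category.assoc, hst]; exact pullback.condition
  have hkl' : g₂ ≫ G.s = ρ₂ ≫ G.s := by rw [Category.assoc, hss]; exact pullback.condition
  refine ⟨⟨Φ, Ψ, ?_, ?_⟩, pullback.lift_snd _ _ _⟩
  · apply pullback.hom_ext
    · refine ext' ?_
      simp only [Ψ, Category.assoc, pullback.lift_fst_assoc, Category.id_comp, hτ]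
      rw [lift_comp_c]
      refine (c_congr G _ hΦρ (β' := pullback.lift (Φ ≫ g₂) (Φ ≫ ρ₂ ≫ G.i) (by
        rw [Category.assoc, hk₁, ← Category.assoc Φ, Category.assoc Φ]) ≫ G.c) (lift_comp_c G Φ hk₁)).trans ?_
      refine (c_congr G _ rfl (c_congr G _ hΦ (β' := ρ ≫ G.i) (by rw [← Category.assoc, hΦρ]))).trans ?_
      refine (c_congr G _ rfl (G.assoc _ _ _ _ (by rw [G.comp_s, Category.assoc ρ G.i, G.i_t]))).trans ?_
      rw [← G.assoc _ _ _ (by rw [Category.assoc, G.i_t]) (by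
        rw [G.comp_t, Category.assoc ρ G.i, G.i_s, G.comp_t]; exact hgl.symm)]
      refine (c_congr G _ (G.comp_i ρ) (G.assoc _ _ _ _ (by rw [Category.assoc ρ G.i, G.i_t]))).trans ?_
      refine (c_congr G _ rfl (c_congr G _ rfl (G.comp_i ρ))).trans ?_
      refine (c_congr G _ rfl ((c_congr G _ rfl ?_).trans (G.comp_e g))).trans
        ((c_congr G _ ?_ rfl).trans (G.e_comp g))
      · rw [← Category.assoc, ← hg₁, Category.assoc]
      · rw [← Category.assoc, ← hgl, Category.assoc]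
    · simp [Φ, Ψ, ρ, ρ₂]
  · apply pullback.hom_ext
    · refine ext' ?_
      simp only [Φ, Category.assoc, pullback.lift_fst_assoc, Category.id_comp, hσ]
      rw [lift_comp_c]
      refine (c_congr G _ (α' := ρ₂ ≫ G.i) (by rw [← Category.assoc, hΨρ])
        (β' := pullback.lift (Ψ ≫ g) (Ψ ≫ ρ) (by rw [Category.assoc, hg₁, Category.assoc]) ≫ G.c)
        (lift_comp_c G Ψ hg₁)).trans ?_
      refine (c_congr G _ rfl (c_congr G _ hΨ hΨρ)).trans ?_
      refine (c_congr G _ rfl (G.assoc _ _ _ _ (by rw [G.comp_s, Category.assoc ρ₂ G.i, G.i_s]))).trans ?_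
      rw [← G.assoc _ _ _ (by rw [Category.assoc, G.i_s]) (by
        rw [G.comp_t, G.comp_t]; exact hkl.symm)]
      refine (c_congr G _ (G.i_comp ρ₂) (G.assoc _ _ _ _ (by rw [Category.assoc ρ₂ G.i, G.i_s]))).trans ?_
      refine (c_congr G _ rfl (c_congr G _ rfl (G.i_comp ρ₂))).trans ?_
      refine (c_congr G _ rfl ((c_congr G _ rfl ?_).trans (G.comp_e g₂))).trans
        ((c_congr G _ ?_ rfl).trans (G.e_comp g₂))
      · rw [← Category.assoc, ← hkl', Category.assoc]
      · rw [← Category.assoc, ← hkl, Category.assoc]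
    · simp [Φ, Ψ, ρ, ρ₂]

end Groth.Agent.AlgSpLib
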