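import Groth.Agent.SrcDescent.SchemeFppf
import Groth.Agent.AlgSpLib.EtLocalInst
import Mathlib.AlgebraicGeometry.Morphisms.Finite
import Mathlib.AlgebraicGeometry.Morphisms.Etale
import Mathlib.AlgebraicGeometry.Morphisms.QuasiFinite
import Mathlib.AlgebraicGeometry.Fiber
import Mathlib.AlgebraicGeometry.Noetherian

/-!
# Closed points and the Jacobson property along etale morphisms
-/

set_option backward.isDefEq.respectTransparency false
set_option backward.isDefEq.respectTransparency.types false

universe u

open CategoryTheory CategoryTheory.Limits AlgebraicGeometry Topology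

namespace Groth.Agent.AlgSpLib.JacobsonEt

variable {P W : Scheme.{u}}

theorem isClosed_image_of_etale (q : P ⟶ W) [Etale q] [Surjective q] [JacobsonSpace P] {p : ↥P}
    (hp : IsClosed ({p} : Set ↥P)) : IsClosed ({q p} : Set ↥W) := by
  have hl : LocallyOfFiniteType (W.fromSpecResidueField (q p)) := by
    have h1 : LocallyOfFiniteType (P.fromSpecResidueField p) :=
      isClosed_singleton_iff_locallyOfFiniteType.1 hp
    have h2 : LocallyOfFiniteType (Spec.map (q.residueFieldMap p) ≫ W.fromSpecResidueField (q p)) := by
      rw [q.SpecMap_residueFieldMap_fromSpecResidueField]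
      infer_instance
    have : LocallyOfFiniteType (Spec.map (q.residueFieldMap p)) :=
      locallyOfFiniteType_of_comp _ (W.fromSpecResidueField (q p))
    have : LocallyOfFinitePresentation (Spec.map (q.residueFieldMap p)) :=
      LocallyOfFinitePresentation.iff_locallyOfFiniteType.2 ‹_›
    have : Flat (Spec.map (q.residueFieldMap p)) := by
      rw [HasRingHomProperty.Spec_iff (P := @Flat)]
      algebraize [(q.residueFieldMap p).hom]
      exact (inferInstance : Module.Flat (W.residueField (q p)) (P.residueField p))
    have : Surjective (Spec.map (q.residueFieldMap p)) :=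
      ⟨fun y => ⟨IsLocalRing.closedPoint (P.residueField p), Subsingleton.elim (α := PrimeSpectrum _) _ _⟩⟩
    exact Groth.Agent.SrcDescent.locallyOfFiniteType_of_fppf_comp (Spec.map (q.residueFieldMap p))
      (W.fromSpecResidueField (q p))
  have hfib : LocallyOfFiniteType (q.fiberι (q p)) := MorphismProperty.pullback_fst _ _ hl
  have key : ∀ p'' : ↥P, q p'' = q p → IsClosed ({p''} : Set ↥P) := by
    intro p'' hp''
    let z : ↥(q.fiber (q p)) := (q.fiberHomeo (q p)).symm ⟨p'', hp''⟩
    have : LocallyQuasiFinite q := AlgSpLib.locallyQuasiFinite_of_formallyUnramified q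
    have : DiscreteTopology ↥(q.fiber (q p)) := by
      have := (q.isDiscrete_preimage_singleton (q p)).to_subtype
      exact (q.fiberHomeo (q p)).isEmbedding.discreteTopology
    have h := Scheme.Hom.closePoints_subset_preimage_closedPoints (q.fiberι (q p)) (isClosed_discrete {z})
    rw [Set.mem_preimage, mem_closedPoints_iff, Scheme.Hom.fiberι_fiberHomeo_symm] at h
    exact h
  refine isClosed_of_closure_subset fun w' hw' => ?_
  by_contra hne
  have hsp : q p ⤳ w' := specializes_iff_mem_closure.2 hw'
  obtain ⟨p', rfl⟩ := q.surjective w'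
  obtain ⟨p'', hp'', he⟩ := Flat.generalizingMap q hsp
  have : p' ∈ ({p''} : Set ↥P) := by
    have := hp''.mem_closure
    rwa [(key p'' he).closure_eq] at this
  exact hne (by rw [this, he]; rfl)

theorem jacobsonSpace_of_etale_surjective (q : P ⟶ W) [Etale q] [Surjective q] [JacobsonSpace P] :
    JacobsonSpace W := by
  rw [jacobsonSpace_iff_locallyClosed]
  intro Z hZ hZ'
  obtain ⟨w, hw⟩ := hZ
  obtain ⟨p₀, rfl⟩ := q.surjective w
  obtain ⟨p, hp, hpc⟩ := nonempty_inter_closedPoints (Z := q ⁻¹' Z) ⟨p₀, hw⟩ (hZ'.preimage q.continuous)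
  exact ⟨q p, hp, isClosed_image_of_etale q hpc⟩

end Groth.Agent.AlgSpLib.JacobsonEt
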