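import Groth.Agent.AlgSpLib.LargestOpen
import Groth.Agent.AlgSpLib.SmoothLocalInst

/-!
# The fppf, smooth and etale topologies as open topologies
-/

set_option backward.isDefEq.respectTransparency false
set_option backward.isDefEq.respectTransparency.types false
set_option autoImplicit false

universe u

open CategoryTheory CategoryTheory.Limits AlgebraicGeometry AlgSp

namespace Groth.Agent.AlgSpLib

variable {S : Scheme.{u}}

theorem locP_of_openImmersion {R : MorphismProperty Scheme.{u}} [IsEtLocal R]
    (h : ∀ {A B : Scheme.{u}} (f : A ⟶ B), IsOpenImmersion f → R f) {X Y : Sp S} (j : X ⟶ Y)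
    (hj : RepWith @IsOpenImmersion j) : LocP R j :=
  locP_of_repWith (repWith_mono (P := @IsOpenImmersion) (Q := R) (fun _ _ f hf => h f hf) _ hj)

theorem openTopology_fppf :
    OpenTopology (fun _ _ f => LocP @Flat f ∧ LocP @LocallyOfFinitePresentation f : MorphismProperty (Sp S)) where
  of_openImmersion _ _ j hj := ⟨locP_of_openImmersion (fun f _ => inferInstanceAs (Flat f)) j hj,
    locP_of_openImmersion (fun f _ => inferInstanceAs (LocallyOfFinitePresentation f)) j hj⟩
  comp hX hY hZ _ _ hf hg := ⟨locP_comp hX hY hZ hf.1 hg.1, locP_comp hX hY hZ hf.2 hg.2⟩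
  baseChange _ _ _ _ hX hY hY' sq hf := ⟨locP_of_isPullback sq hX hY hY' hf.1, locP_of_isPullback sq hX hY hY' hf.2⟩
  isOpenMap hX hY f hf := isOpenMap_map_of_fppf hX hY f hf.1 hf.2

theorem openTopology_smooth : OpenTopology (LocP @Smooth : MorphismProperty (Sp S)) where
  of_openImmersion _ _ j hj := locP_of_openImmersion (fun f _ => inferInstanceAs (Smooth f)) j hj
  comp hX hY hZ _ _ hf hg := locP_comp hX hY hZ hf hg
  baseChange _ _ _ _ hX hY hY' sq hf := locP_of_isPullback sq hX hY hY' hf
  isOpenMap hX hY f hf := isOpenMap_map_of_fppf hX hY f (locP_mono smooth_le_flat hf) (locP_mono smooth_le_lfp hf)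

theorem openTopology_etale : OpenTopology (IsEtaleMor : MorphismProperty (Sp S)) where
  of_openImmersion _ _ j hj := isEtaleMor_of_repWith_isOpenImmersion hj
  comp hX hY hZ _ _ hf hg := isEtaleMor_comp hX hY hZ hf hg
  baseChange _ _ _ _ hX hY hY' sq hf := isEtaleMor_of_isPullback sq hX hY hY' hf
  isOpenMap hX hY f hf :=
    isOpenMap_map_of_fppf hX hY f (locP_mono smooth_le_flat (locP_smooth_of_isEtaleMor hf))
      (locP_mono smooth_le_lfp (locP_smooth_of_isEtaleMor hf))

end Groth.Agent.AlgSpLib
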