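import Groth.Agent.AlgSpLib.LocP
import Groth.Agent.AlgSpLib.Points
import Groth.Agent.GrpSchLib.UnramifiedFibre
import Groth.Agent.S9938
import Groth.Agent.S10613

/-!
# Monomorphisms of algebraic spaces detected over fields
-/

set_option backward.isDefEq.respectTransparency false
set_option backward.isDefEq.respectTransparency.types false

universe u

open CategoryTheory CategoryTheory.Limits AlgebraicGeometry Opposite AlgSp

namespace Groth.Agent.AlgSpLib

theorem isNilpotent_ker_specMap {R R' : CommRingCat.{u}} (φ : R ⟶ R') (h : RingHom.ker φ.hom ^ 2 = ⊥) :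
    IsNilpotent (Spec.map φ).ker := by
  refine ⟨2, Scheme.IdealSheafData.ext_of_isAffine ?_⟩
  show ((Spec.map φ).ker ^ 2).ideal _ = (⊥ : Ideal _)
  rw [Scheme.IdealSheafData.ideal_pow, Scheme.ker_of_isAffine, Pi.pow_apply]
  simp only [Scheme.IdealSheafData.ofIdealTop_ideal]
  refine eq_bot_iff.2 ?_
  rw [sq, Ideal.mul_le]
  intro a ha b hb
  have key : ∀ c ∈ RingHom.ker (Spec.map φ).appTop.hom,
      (Scheme.ΓSpecIso R).hom.hom c ∈ RingHom.ker φ.hom := fun c hc => by
    have e := congrArg (fun t => t.hom c) (Scheme.ΓSpecIso_naturality φ)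
    simp only [CommRingCat.hom_comp, RingHom.coe_comp, Function.comp_apply] at e
    rw [RingHom.mem_ker] at hc ⊢
    rw [← e, hc, map_zero]
  have hab : (Scheme.ΓSpecIso R).hom.hom a * (Scheme.ΓSpecIso R).hom.hom b ∈ RingHom.ker φ.hom ^ 2 :=
    (sq (RingHom.ker φ.hom)) ▸ Ideal.mul_mem_mul (key a (by simpa using ha)) (key b (by simpa using hb))
  rw [h, Ideal.mem_bot, ← map_mul] at hab
  exact (map_eq_zero_iff _ (Scheme.ΓSpecIso R).commRingCatIsoToRingEquiv.injective).1 hab

variable {S : Scheme.{u}}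

/-- A morphism locally of finite type with at most one lift of every point with values in a scheme over a field
is a monomorphism. -/
theorem mono_of_fieldPt {F G : Space S} (f : F ⟶ G) (hf : LocP @LocallyOfFiniteType f.hom)
    (H : ∀ (k : Type u) [Field k] (s : Spec (CommRingCat.of k) ⟶ S) (T : Over S) (t : T ⟶ Over.mk s)
      (g : (yon S).obj (Over.mk s) ⟶ G.obj) (a b : (yon S).obj T ⟶ F.obj),
      a ≫ f.hom = (yon S).map t ≫ g → b ≫ f.hom = (yon S).map t ≫ g → a = b) :
    Mono f.hom := by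
  have hui : IsUnivInjectiveMor f.hom := (Groth.Agent.S9938.result f).1.1 fun K _ str a b hab => by
    refine H K str _ (𝟙 _) (a ≫ f.hom) a b ?_ ?_
    · rw [CategoryTheory.Functor.map_id, Category.id_comp]
    · rw [CategoryTheory.Functor.map_id, Category.id_comp]; exact hab.symm
  refine ((Groth.Agent.S10613.result f).1.2 ⟨?_, hui⟩).2
  intro U V a b h ha hb w
  have hlft : LocallyOfFiniteType h.left := hf a b h ha hb w
  refine ⟨hlft, Groth.Agent.GrpSchLib.formallyUnramified_of_fibres h.left fun y => ?_⟩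
  refine FormallyUnramified.of_hom_ext _ fun R R' φ hφ hker g₁ g₂ hg hgq => pullback.hom_ext ?_ hgq
  let k := V.left.residueField y
  let s : Spec k ⟶ S := V.left.fromSpecResidueField y ≫ V.hom
  let q := h.left.fiberToSpecResidueField y
  let T : Over S := Over.mk ((g₁ ≫ q) ≫ s)
  let t : T ⟶ Over.mk s := Over.homMk (g₁ ≫ q) rfl
  let jy : Over.mk s ⟶ V := Over.homMk (V.left.fromSpecResidueField y) rfl
  have hcond : ∀ g' : Spec R ⟶ h.left.fiber y, (g' ≫ pullback.fst _ _) ≫ h.left =
      (g' ≫ q) ≫ V.left.fromSpecResidueField y := fun g' => by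
    simp only [Category.assoc]
    exact congrArg (g' ≫ ·) pullback.condition
  have hu : ∀ g' : Spec R ⟶ h.left.fiber y, g' ≫ q = g₁ ≫ q →
      (g' ≫ pullback.fst _ _) ≫ U.hom = T.hom := fun g' e => by
    rw [← Over.w h, ← Category.assoc, hcond, e]
    simp [T, s]
  let u₁ : T ⟶ U := Over.homMk (g₁ ≫ pullback.fst _ _) (hu g₁ rfl)
  let u₂ : T ⟶ U := Over.homMk (g₂ ≫ pullback.fst _ _) (hu g₂ hgq.symm)
  have hh : ∀ g' (e : g' ≫ q = g₁ ≫ q),
      ((Over.homMk (g' ≫ pullback.fst _ _) (hu g' e)) : T ⟶ U) ≫ h = t ≫ jy := fun g' e => by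
    ext1
    exact (hcond g').trans (congrArg (· ≫ V.left.fromSpecResidueField y) e)
  have hab : (yon S).map u₁ ≫ a = (yon S).map u₂ ≫ a := by
    refine H k s T t ((yon S).map jy ≫ b) _ _ ?_ ?_
    · rw [Category.assoc, w, ← Category.assoc, ← Functor.map_comp, ← Category.assoc, ← Functor.map_comp,
        hh g₁ rfl]
    · rw [Category.assoc, w, ← Category.assoc, ← Functor.map_comp, ← Category.assoc, ← Functor.map_comp,
        hh g₂ hgq.symm]
  let p := ha.rep.snd a
  have hp : Etale p.left := ha.property_snd a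
  let l₁ : T ⟶ ha.rep.pullback a := ha.rep.lift ((yon S).map u₁) u₂ hab
  let l₂ : T ⟶ ha.rep.pullback a := ha.rep.lift ((yon S).map u₂) u₂ rfl
  have e₁ : l₁ ≫ p = u₂ := ha.rep.lift_snd _ _ _
  have e₂ : l₂ ≫ p = u₂ := ha.rep.lift_snd _ _ _
  have key : l₁.left = l₂.left := by
    let T' : Over S := Over.mk (Spec.map φ ≫ T.hom)
    let i : T' ⟶ T := Over.homMk (Spec.map φ) rfl
    have hi : i ≫ u₁ = i ≫ u₂ := by
      ext1
      exact ((Category.assoc _ _ _).symm.trans (congrArg (· ≫ pullback.fst _ _) hg)).trans (Category.assoc _ _ _)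
    have hil : i ≫ l₁ = i ≫ l₂ := by
      refine ha.rep.hom_ext ?_ ?_
      · simp only [Functor.map_comp, Category.assoc]
        rw [ha.rep.lift_fst, ha.rep.lift_fst, ← Functor.map_comp, hi, Functor.map_comp]
      · rw [Category.assoc, Category.assoc, e₁, e₂]
    have : IsClosedImmersion (Spec.map φ) := IsClosedImmersion.spec_of_surjective φ hφ
    exact FormallyUnramified.hom_ext (Spec.map φ) (isNilpotent_ker_specMap φ hker) p.left
      (congrArg (·.left) hil) ((congrArg (·.left) e₁).trans (congrArg (·.left) e₂).symm)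
  have h12 : (yon S).map u₁ = (yon S).map u₂ :=
    ((ha.rep.lift_fst _ _ _).symm.trans (congrArg (fun l => (yon S).map l ≫ _) (Over.OverMorphism.ext key))).trans
      (ha.rep.lift_fst _ _ _)
  exact congrArg (·.left) ((yon S).map_injective h12)

end Groth.Agent.AlgSpLib
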