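import Mathlib.AlgebraicGeometry.Morphisms.Smooth
import Mathlib.AlgebraicGeometry.Morphisms.ClosedImmersion
import Mathlib.RingTheory.Smooth.Basic
import Mathlib.RingTheory.FinitePresentation
import Mathlib.RingTheory.Noetherian.Nilpotent

/-!
# Smooth morphisms lift Zariski locally along arbitrary thickenings
-/

set_option backward.isDefEq.respectTransparency false
set_option backward.isDefEq.respectTransparency.types false

universe u

open CategoryTheory CategoryTheory.Limits AlgebraicGeometry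

namespace Groth.Agent.AlgSpLib

/-- A smooth algebra lifts along an ideal of nilpotent elements. -/
theorem exists_algHom_lift_nil {R S A : Type u} [CommRing R] [CommRing S] [CommRing A] [Algebra R S]
    [Algebra R A] [Algebra.Smooth R S] (I : Ideal A) (hI : I ≤ nilradical A) (g : S →ₐ[R] A ⧸ I) :
    ∃ l : S →ₐ[R] A, (Ideal.Quotient.mkₐ R I).comp l = g := by
  have : Algebra.FinitePresentation R S := inferInstance
  obtain ⟨n, π, hπ, hfg⟩ := (Algebra.FinitePresentation.out : ∃ (n : ℕ) (f : MvPolynomial (Fin n) R →ₐ[R] S),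
    Function.Surjective f ∧ (RingHom.ker f.toRingHom).FG)
  choose a ha using fun i : Fin n => Ideal.Quotient.mk_surjective (g (π (MvPolynomial.X i)))
  let F : MvPolynomial (Fin n) R →ₐ[R] A := MvPolynomial.aeval a
  have hF : (Ideal.Quotient.mkₐ R I).comp F = g.comp π :=
    MvPolynomial.algHom_ext fun i => by simp [F, ha]
  let I₀ : Ideal A := (RingHom.ker π.toRingHom).map F.toRingHom
  have hI₀ : I₀ ≤ I := by
    refine Ideal.map_le_iff_le_comap.2 fun x (hx : π x = 0) => ?_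
    rw [Ideal.mem_comap, ← Ideal.Quotient.eq_zero_iff_mem]
    have := congrArg (fun f => f x) hF
    simp only [AlgHom.comp_apply, Ideal.Quotient.mkₐ_eq_mk] at this
    exact this.trans (by rw [hx, map_zero])
  obtain ⟨N, hN⟩ : IsNilpotent I₀ := (Ideal.FG.isNilpotent_iff_le_nilradical (Ideal.FG.map hfg F.toRingHom)).2 (hI₀.trans hI)
  let g₀ : S →ₐ[R] A ⧸ I₀ := AlgHom.liftOfSurjective π hπ ((Ideal.Quotient.mkₐ R I₀).comp F) (fun x hx => by
    rw [RingHom.mem_ker]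
    exact Ideal.Quotient.eq_zero_iff_mem.2 (Ideal.mem_map_of_mem F.toRingHom hx))
  let l := Algebra.FormallySmooth.lift (R := R) (A := S) I₀ ⟨N, hN⟩ g₀
  refine ⟨l, AlgHom.ext fun s => ?_⟩
  obtain ⟨x, rfl⟩ := hπ s
  have h1 : Ideal.Quotient.mk I₀ (l (π x)) = Ideal.Quotient.mk I₀ (F x) :=
    (Algebra.FormallySmooth.mk_lift I₀ ⟨N, hN⟩ g₀ (π x)).trans (AlgHom.liftOfSurjective_apply _ _ _ _ x)
  have h2 : Ideal.Quotient.mk I (l (π x)) = Ideal.Quotient.mk I (F x) :=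
    Ideal.Quotient.eq.2 (hI₀ (Ideal.Quotient.eq.1 h1))
  exact h2.trans (congrArg (fun f => f x) hF)

/-- Smooth morphisms lift Zariski locally along thickenings. -/
theorem exists_local_lift_thick {Z W U V : Scheme.{u}} (q : Z ⟶ W) [IsClosedImmersion q] [Surjective q]
    (h : U ⟶ V) [Smooth h] (a : Z ⟶ U) (b : W ⟶ V) (w : q ≫ b = a ≫ h) (z : Z) :
    ∃ (W' : W.Opens) (l : (W' : Scheme.{u}) ⟶ U), q z ∈ W' ∧
      (q ∣_ W') ≫ l = (q ⁻¹ᵁ W').ι ≫ a ∧ l ≫ h = W'.ι ≫ b := by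
  obtain ⟨V', hV', hzV, -⟩ := exists_isAffineOpen_mem_and_subset (x := h (a z)) (U := (⊤ : V.Opens)) trivial
  obtain ⟨U', hU', hzU, hUV⟩ := exists_isAffineOpen_mem_and_subset (x := a z) (U := h ⁻¹ᵁ V') hzV
  have hopen : IsOpen (q '' (a ⁻¹ᵁ U' : Set _)) :=
    (q.isClosedEmbedding.toIsEmbedding.toHomeomorphOfSurjective q.surjective).isOpenMap _ (a ⁻¹ᵁ U').isOpen
  have hzb : q z ∈ b ⁻¹ᵁ V' := by
    show b (q z) ∈ V'
    rw [← Scheme.Hom.comp_apply, w]
    exact hzV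
  obtain ⟨W', hW', hzW, hW'le⟩ := exists_isAffineOpen_mem_and_subset (x := q z)
    (U := (⟨_, hopen⟩ : W.Opens) ⊓ b ⁻¹ᵁ V') ⟨⟨z, hzU, rfl⟩, hzb⟩
  have hqa : q ⁻¹ᵁ W' ≤ a ⁻¹ᵁ U' := fun y hy => by
    obtain ⟨y', hy', he⟩ := (hW'le hy).1
    rwa [q.isClosedEmbedding.injective he] at hy'
  have hbW : W' ≤ b ⁻¹ᵁ V' := fun y hy => (hW'le hy).2
  have hUV' : U' ≤ h ⁻¹ᵁ V' := hUV
  let A : CommRingCat.{u} := Γ(W, W')
  let q' : (q ⁻¹ᵁ W' : Scheme.{u}) ⟶ Spec A := (q ∣_ W') ≫ hW'.isoSpec.hom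
  have hcl : IsClosedImmersion (q ∣_ W') := IsZariskiLocalAtTarget.restrict ‹_› W'
  have hsr : Surjective (q ∣_ W') := IsZariskiLocalAtTarget.restrict ‹_› W'
  obtain ⟨I, e, he⟩ := (IsClosedImmersion.Spec_iff (f := q')).1 inferInstance
  have hnil : I ≤ nilradical A := by
    intro x hx
    rw [mem_nilradical, nilpotent_iff_mem_prime]
    intro p hp
    have hs' : Surjective q' := by dsimp only [q']; infer_instance
    obtain ⟨y, hy⟩ := hs'.surj (⟨p, hp⟩ : PrimeSpectrum A)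
    rw [he, Scheme.Hom.comp_apply] at hy
    have hr : (⟨p, hp⟩ : PrimeSpectrum A) ∈ PrimeSpectrum.zeroLocus (I : Set A) := by
      rw [← Ideal.mk_ker (I := I), ← range_comap_of_surjective _ _ Ideal.Quotient.mk_surjective]
      exact ⟨e.hom y, hy⟩
    exact hr hx
  let R : CommRingCat.{u} := Γ(V, V')
  let T : CommRingCat.{u} := Γ(U, U')
  let φ : R ⟶ T := h.appLE V' U' hUV'
  let β : R ⟶ A := b.appLE V' W' hbW
  have hsm : φ.hom.Smooth := HasRingHomProperty.appLE @Smooth h inferInstance ⟨V', hV'⟩ ⟨U', hU'⟩ hUV'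
  let a' : (q ⁻¹ᵁ W' : Scheme.{u}) ⟶ Spec T := a.resLE U' (q ⁻¹ᵁ W') hqa ≫ hU'.isoSpec.hom
  have ha' : a' ≫ hU'.fromSpec = (q ⁻¹ᵁ W').ι ≫ a := by
    simp only [a', Category.assoc, IsAffineOpen.isoSpec_hom, IsAffineOpen.toSpecΓ_fromSpec,
      Scheme.Hom.resLE_comp_ι]
  have hq' : q' ≫ hW'.fromSpec = (q ⁻¹ᵁ W').ι ≫ q := by
    simp only [q', Category.assoc, IsAffineOpen.isoSpec_hom, IsAffineOpen.toSpecΓ_fromSpec,
      morphismRestrict_ι]
  have hsq : q' ≫ Spec.map β = a' ≫ Spec.map φ := by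
    rw [← cancel_mono hV'.fromSpec, Category.assoc q', Category.assoc a',
      hV'.SpecMap_appLE_fromSpec b hW' hbW, hV'.SpecMap_appLE_fromSpec h hU' hUV', reassoc_of% ha',
      reassoc_of% hq', w]
  obtain ⟨α, hα⟩ := Spec.map_surjective (e.inv ≫ a' : Spec (CommRingCat.of (A ⧸ I)) ⟶ Spec T)
  have hcomm : φ ≫ α = β ≫ CommRingCat.ofHom (Ideal.Quotient.mk I) := by
    apply Spec.map_injective
    rw [Spec.map_comp, Spec.map_comp, hα, Category.assoc, ← hsq, he, Category.assoc, e.inv_hom_id_assoc]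
  algebraize [φ.hom]
  letI : Algebra R A := β.hom.toAlgebra
  obtain ⟨l, hl⟩ := exists_algHom_lift_nil (R := R) (S := T) I hnil
    ⟨α.hom, fun r => congr($hcomm r)⟩
  let L : T ⟶ A := CommRingCat.ofHom l.toRingHom
  have hL₁ : φ ≫ L = β := by ext r; exact l.commutes r
  have hL₂ : L ≫ CommRingCat.ofHom (Ideal.Quotient.mk I) = α := by
    ext x; exact congrArg (fun f => f x) hl
  refine ⟨W', hW'.isoSpec.hom ≫ Spec.map L ≫ hU'.fromSpec, hzW, ?_, ?_⟩
  · rw [← Category.assoc, show (q ∣_ W') ≫ hW'.isoSpec.hom = q' from rfl, he, Category.assoc,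
      ← Spec.map_comp_assoc]
    erw [hL₂]
    rw [hα, Category.assoc, e.hom_inv_id_assoc, ha']
  · rw [Category.assoc, Category.assoc, ← hV'.SpecMap_appLE_fromSpec h hU' hUV', ← Spec.map_comp_assoc,
      show φ ≫ L = β from hL₁, hV'.SpecMap_appLE_fromSpec b hW' hbW, IsAffineOpen.isoSpec_hom,
      IsAffineOpen.toSpecΓ_fromSpec_assoc]

end Groth.Agent.AlgSpLib
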