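import Groth.Agent.AlgSpLib.Formal
import Groth.Agent.MorLib.FSmoothSection
import Groth.Agent.MorLib.FormallyEtaleHom
import Mathlib.AlgebraicGeometry.Morphisms.Smooth
import Mathlib.AlgebraicGeometry.Morphisms.Etale
import Mathlib.AlgebraicGeometry.Morphisms.FormallyUnramified

/-!
# Representable smooth, etale, unramified morphisms and infinitesimal lifting
-/

set_option backward.isDefEq.respectTransparency false
set_option backward.isDefEq.respectTransparency.types false

universe u

open CategoryTheory CategoryTheory.Limits AlgebraicGeometry Opposite AlgSp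

namespace Groth.Agent.AlgSpLib

variable {S : Scheme.{u}} {F G : Sp S}

theorem isNilpotent_ker_of_sq_eq_bot {X Y : Scheme.{u}} (i : X ⟶ Y) (h : i.ker * i.ker = ⊥) :
    IsNilpotent i.ker := ⟨2, by rw [pow_two]; exact h⟩

theorem isFormallyUnramifiedMor_of_repWith {a : F ⟶ G}
    (h : RepWith (@FormallyUnramified : MorphismProperty Scheme.{u}) a) :
    IsFormallyUnramifiedMor a := by
  intro sq l l' h₁ h₂ h₁' h₂'
  have hP := h.1.isPullback sq.bot
  haveI hu : FormallyUnramified (h.1.snd sq.bot).left := h.2 sq.bot (h.1.fst sq.bot) (h.1.snd sq.bot) hP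
  obtain ⟨g, hg⟩ : ∃ g : sq.ptT' ⟶ h.1.pullback sq.bot,
      (yon S).map g = hP.lift l (𝟙 _) (by rw [h₂]; exact (Category.id_comp _).symm) :=
    (yon S).map_surjective _
  obtain ⟨g', hg'⟩ : ∃ g : sq.ptT' ⟶ h.1.pullback sq.bot,
      (yon S).map g = hP.lift l' (𝟙 _) (by rw [h₂']; exact (Category.id_comp _).symm) :=
    (yon S).map_surjective _
  have hgs : g ≫ h.1.snd sq.bot = 𝟙 _ := (yon S).map_injective (by
    rw [Functor.map_comp, hg, hP.lift_snd, (yon S).map_id])
  have hg's : g' ≫ h.1.snd sq.bot = 𝟙 _ := (yon S).map_injective (by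
    rw [Functor.map_comp, hg', hP.lift_snd, (yon S).map_id])
  have hj : sq.j ≫ g = sq.j ≫ g' := (yon S).map_injective (hP.hom_ext
    (by
      rw [Functor.map_comp, Functor.map_comp, hg, hg', Category.assoc, Category.assoc, hP.lift_fst,
        hP.lift_fst, h₁, h₁'])
    (by
      rw [Functor.map_comp, Functor.map_comp, hg, hg', Category.assoc, Category.assoc, hP.lift_snd,
        hP.lift_snd]))
  have hthick := Groth.Agent.MorLib.isFirstOrderThickening_quotientMk sq.A sq.I sq.sq_zero
  have hcl : IsClosedImmersion sq.j.left := hthick.1.1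
  have hgg : g = g' := Over.OverMorphism.ext (FormallyUnramified.hom_ext sq.j.left
    (isNilpotent_ker_of_sq_eq_bot _ hthick.2) (h.1.snd sq.bot).left
    (congrArg CommaMorphism.left hj) (congrArg CommaMorphism.left (hgs.trans hg's.symm)))
  have := congrArg (fun g => (yon S).map g ≫ h.1.fst sq.bot) hgg
  simpa [hg, hg'] using this

theorem isFormallySmoothMor_of_repWith {a : F ⟶ G}
    (h : RepWith (@Smooth : MorphismProperty Scheme.{u}) a) : IsFormallySmoothMor a := by
  intro sq
  have hP := h.1.isPullback sq.bot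
  have hs : Smooth (h.1.snd sq.bot).left := h.2 sq.bot (h.1.fst sq.bot) (h.1.snd sq.bot) hP
  have hfs : MoreMor.IsFormallySmoothHom (h.1.snd sq.bot).left :=
    Groth.Agent.MorLib.isFormallySmoothHom_of_appLE _ fun U V hU hV hUV => by
      have := HasRingHomProperty.appLE @Smooth (h.1.snd sq.bot).left hs ⟨V, hV⟩ ⟨U, hU⟩ hUV
      exact @Algebra.Smooth.formallySmooth _ _ _ _ _ this
  obtain ⟨g₀, hg₀⟩ : ∃ g : sq.ptT ⟶ h.1.pullback sq.bot,
      (yon S).map g = hP.lift sq.top ((yon S).map sq.j) sq.comm :=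
    (yon S).map_surjective _
  have hg₀s : g₀ ≫ h.1.snd sq.bot = sq.j := (yon S).map_injective (by
    rw [Functor.map_comp, hg₀, hP.lift_snd])
  obtain ⟨m, hm₁, hm₂⟩ := hfs sq.A sq.I sq.sq_zero g₀.left (𝟙 _) (by
    rw [Category.comp_id]
    exact (congrArg CommaMorphism.left hg₀s).symm)
  have hw : m ≫ (h.1.pullback sq.bot).hom = sq.ptT'.hom := by
    rw [← Over.w (h.1.snd sq.bot), ← Category.assoc, hm₂]
    exact Category.id_comp _
  refine ⟨(yon S).map (Over.homMk m hw : sq.ptT' ⟶ _) ≫ h.1.fst sq.bot, ?_, ?_⟩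
  · rw [← Category.assoc, ← Functor.map_comp,
      show sq.j ≫ (Over.homMk m hw : sq.ptT' ⟶ _) = g₀ from Over.OverMorphism.ext hm₁, hg₀, hP.lift_fst]
  · rw [Category.assoc, hP.w, ← Category.assoc, ← Functor.map_comp,
      show (Over.homMk m hw : sq.ptT' ⟶ _) ≫ h.1.snd sq.bot = 𝟙 _ from Over.OverMorphism.ext hm₂,
      (yon S).map_id, Category.id_comp]

theorem formal_of_repWith (a : F ⟶ G) :
    (RepWith (@Smooth : MorphismProperty Scheme.{u}) a → IsFormallySmoothMor a) ∧
    (RepWith (@Etale : MorphismProperty Scheme.{u}) a → IsFormallyEtaleMor a) ∧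
    (RepWith (@LocallyOfFiniteType ⊓ @FormallyUnramified : MorphismProperty Scheme.{u}) a →
      IsFormallyUnramifiedMor a) :=
  ⟨isFormallySmoothMor_of_repWith,
    fun h => (isFormallyEtaleMor_iff a).2
      ⟨isFormallySmoothMor_of_repWith
          (repWith_mono (fun _ _ f (hf : Etale f) => (inferInstance : Smooth f)) _ h),
        isFormallyUnramifiedMor_of_repWith
          (repWith_mono (fun _ _ f (hf : Etale f) => (inferInstance : FormallyUnramified f)) _ h)⟩,
    fun h => isFormallyUnramifiedMor_of_repWith (repWith_mono inf_le_right _ h)⟩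

end Groth.Agent.AlgSpLib
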