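import Groth.Agent.AlgSpLib.NilLift
import Groth.Agent.AlgSpLib.LocP
import Groth.Agent.AlgSpLib.Points
import Groth.Agent.EtFound.LiftEtale
import Groth.Prelude.Def_AlgSpInf

/-!
# Smooth morphisms of algebraic spaces lift etale locally along thickenings
-/

set_option backward.isDefEq.respectTransparency false
set_option backward.isDefEq.respectTransparency.types false

universe u

open CategoryTheory CategoryTheory.Limits AlgebraicGeometry Opposite AlgSp

namespace Groth.Agent.AlgSpLib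

variable {S : Scheme.{u}} {X Y T T' : Sp S}

theorem exists_lift_etale_locally (hX : IsAlgSpace X) (hY : IsAlgSpace Y) (hT' : IsAlgSpace T') (f : X ⟶ Y)
    (hf : LocP @Smooth f) (i : T ⟶ T') (hi : IsThickMor i) (a : T ⟶ X) (b : T' ⟶ Y) (w : a ≫ f = i ≫ b)
    (t' : Points T') :
    ∃ (V : Over S) (e : (yon S).obj V ⟶ T') (ℓ : (yon S).obj V ⟶ X),
      RepWith @Etale e ∧ t' ∈ Set.range (Points.ofPt e) ∧ ℓ ≫ f = e ≫ b ∧
      ∀ (P : Sp S) (p₁ : P ⟶ T) (p₂ : P ⟶ (yon S).obj V),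
        IsPullback p₁ p₂ i e → p₂ ≫ ℓ = p₁ ≫ a := by
  obtain ⟨U, V₀, aU, bV, h, haU, haU', hbV, hbV', wh⟩ := exists_chart hX hY f
  have hsm : Smooth h.left := hf aU bV h haU hbV wh
  obtain ⟨U₀, p₀, hp₀, hp₀'⟩ := hT'.atlas
  -- a chart of the thickening over the chart of `Y`
  have hB := hbV.1.isPullback (p₀ ≫ b)
  let W₁ := hbV.1.pullback (p₀ ≫ b)
  obtain ⟨β₁, hβ₁⟩ := (yon S).map_surjective (hbV.1.fst (p₀ ≫ b))
  let e₁ : (yon S).obj W₁ ⟶ T' := (yon S).map (hbV.1.snd (p₀ ≫ b)) ≫ p₀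
  have he₁ : RepWith @Etale e₁ := repWith_comp ((repWith_yon_map_iff _ _).2 (hbV.2 _ _ _ hB)) hp₀
  have he₁' : RepWith @Surjective e₁ := repWith_comp ((repWith_yon_map_iff _ _).2 (hbV'.2 _ _ _ hB)) hp₀'
  have hb₁ : e₁ ≫ b = (yon S).map β₁ ≫ bV := by rw [hβ₁, hB.w, Category.assoc]
  obtain ⟨t₁, ht₁⟩ := surjective_ofPt he₁' t'
  -- the thickening on the chart
  have hQ := hi.1.isPullback e₁
  let Z₁ := hi.1.pullback e₁
  let q₁ := hi.1.snd e₁
  have hth : thick q₁.left := hi.2 _ _ _ hQ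
  have hq₁c : IsClosedImmersion q₁.left := hth.1
  have hq₁s : Surjective q₁.left := hth.2
  obtain ⟨z₁, hz₁⟩ := q₁.left.surjective t₁
  -- lifting the top to the chart of `X`
  have hR := haU.1.isPullback (hi.1.fst e₁ ≫ a)
  let R := haU.1.pullback (hi.1.fst e₁ ≫ a)
  let r := haU.1.snd (hi.1.fst e₁ ≫ a)
  obtain ⟨α, hα⟩ := (yon S).map_surjective (haU.1.fst (hi.1.fst e₁ ≫ a))
  have hre : Etale r.left := haU.2 _ _ _ hR
  have hrs : Surjective r.left := haU'.2 _ _ _ hR
  obtain ⟨z₂, hz₂⟩ := r.left.surjective z₁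
  -- the square `R ⟶ U`, `W₁ ⟶ V₀`
  have hPb := hbV.1.isPullback (((yon S).map r ≫ hi.1.fst e₁) ≫ a ≫ f)
  have hRw : (yon S).map (α ≫ h) ≫ bV = (yon S).map (r ≫ q₁ ≫ β₁) ≫ bV := by
    rw [Functor.map_comp, Category.assoc, ← wh, hα, ← Category.assoc, hR.w, Category.assoc, Category.assoc, w,
      ← Category.assoc (hi.1.fst e₁), hQ.w, Category.assoc, hb₁, Functor.map_comp, Functor.map_comp,
      Category.assoc, Category.assoc]
  -- correct the chart of the thickening by the self-product of the chart of `Y`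
  have hD := hbV.1.isPullback bV
  obtain ⟨d₁, hd₁⟩ := (yon S).map_surjective (hbV.1.fst bV)
  obtain ⟨δ, hδ⟩ := (yon S).map_surjective (hD.lift ((yon S).map (α ≫ h)) ((yon S).map (r ≫ q₁ ≫ β₁)) hRw)
  have hδ₁ : δ ≫ d₁ = α ≫ h := (yon S).map_injective (by rw [Functor.map_comp, hδ, hd₁, hD.lift_fst])
  have hδ₂ : δ ≫ hbV.1.snd bV = r ≫ q₁ ≫ β₁ := (yon S).map_injective (by rw [Functor.map_comp, hδ, hD.lift_snd])
  have hd₂e : Etale (hbV.1.snd bV).left := hbV.2 _ _ _ hD
  let W₂₀ : Scheme.{u} := pullback β₁.left (hbV.1.snd bV).left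
  let c : R.left ⟶ pullback q₁.left (pullback.fst β₁.left (hbV.1.snd bV).left) :=
    pullback.lift r.left (pullback.lift (r ≫ q₁).left δ.left
      (by
        rw [← Over.comp_left, ← Over.comp_left]
        exact congrArg CommaMorphism.left ((Category.assoc _ _ _).trans hδ₂.symm)))
      (by rw [pullback.lift_fst]; rfl)
  have hce : Etale c := by
    have : Etale (pullback.fst q₁.left (pullback.fst β₁.left (hbV.1.snd bV).left)) := inferInstance
    have hcf : c ≫ pullback.fst q₁.left (pullback.fst β₁.left (hbV.1.snd bV).left) = r.left :=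
      pullback.lift_fst _ _ _
    exact MorphismProperty.of_postcomp (W := @Etale) c (pullback.fst q₁.left _)
      (inferInstance : Etale (pullback.fst q₁.left (pullback.fst β₁.left (hbV.1.snd bV).left)))
      (by rw [hcf]; exact hre)
  let iZ := pullback.snd q₁.left (pullback.fst β₁.left (hbV.1.snd bV).left)
  have hiZ : IsClosedImmersion iZ := inferInstance
  have hiZs : Surjective iZ := inferInstance
  obtain ⟨V, χ, hχ, hχo, hχr⟩ := Groth.Agent.EtFound.exists_etale_lift iZ c z₂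
  obtain ⟨v, hv⟩ := hχr
  -- the scheme level lift
  let qV := pullback.fst V.hom iZ
  have hqVc : IsClosedImmersion qV := inferInstance
  have hqVs : Surjective qV := inferInstance
  obtain ⟨Vo, l, hvVo, hl₁, hl₂⟩ := exists_local_lift_thick qV h.left (χ ≫ α.left)
    (V.hom ≫ pullback.snd β₁.left (hbV.1.snd bV).left ≫ d₁.left) (by
      rw [Category.assoc]
      have e : χ ≫ (α ≫ h).left = χ ≫ c ≫ iZ ≫ pullback.snd β₁.left (hbV.1.snd bV).left ≫ d₁.left := by
        rw [← hδ₁]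
        simp only [c, iZ, pullback.lift_snd_assoc, Over.comp_left]
      refine Eq.trans ?_ e.symm
      rw [reassoc_of% hχ, pullback.condition_assoc]) v
  -- assemble
  let ω : (Vo : Scheme.{u}) ⟶ W₁.left := Vo.ι ≫ V.hom ≫ pullback.fst β₁.left (hbV.1.snd bV).left
  let Wf : Over S := Over.mk (ω ≫ W₁.hom)
  let Ω : Wf ⟶ W₁ := Over.homMk ω rfl
  have hωe : Etale ω := by
    have : Etale V.hom := V.prop
    infer_instance
  let δV : Wf ⟶ hbV.1.pullback bV :=
    Over.homMk (Vo.ι ≫ V.hom ≫ pullback.snd β₁.left (hbV.1.snd bV).left) (by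
      simp only [Category.assoc]
      rw [← Over.w (hbV.1.snd bV), ← pullback.condition_assoc, Over.w β₁]
      simp only [Wf, Over.mk_hom, ω, Category.assoc]; rfl)
  have hδV₂ : δV ≫ hbV.1.snd bV = Ω ≫ β₁ := Over.OverMorphism.ext (by
    change (Vo.ι ≫ V.hom ≫ pullback.snd _ _) ≫ _ = ω ≫ β₁.left
    simp only [ω, Category.assoc, pullback.condition])
  have hlw : l ≫ U.hom = Wf.hom := by
    rw [← Over.w h, reassoc_of% hl₂, Over.w d₁, ← Over.w (hbV.1.snd bV), ← pullback.condition_assoc, Over.w β₁]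
    simp only [Wf, Over.mk_hom, ω, Category.assoc]
    rfl
  let L : Wf ⟶ U := Over.homMk l hlw
  have hLh : L ≫ h = δV ≫ d₁ := Over.OverMorphism.ext (by
    change l ≫ h.left = (Vo.ι ≫ V.hom ≫ pullback.snd _ _) ≫ d₁.left
    simp only [hl₂, Category.assoc])
  refine ⟨Wf, (yon S).map Ω ≫ e₁, (yon S).map L ≫ aU, repWith_comp ((repWith_yon_map_iff _ _).2 hωe) he₁,
    ⟨⟨qV v, hvVo⟩, ?_⟩, ?_, fun P p₁ p₂ hP => ?_⟩
  · rw [ofPt_comp, ← ht₁]
    refine congrArg _ ?_
    change (Vo.ι ≫ V.hom ≫ pullback.fst β₁.left _) ⟨qV v, hvVo⟩ = t₁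
    rw [Scheme.Hom.comp_apply]
    change (V.hom ≫ pullback.fst β₁.left (hbV.1.snd bV).left) (qV v) = t₁
    rw [← Scheme.Hom.comp_apply]
    have e : qV ≫ V.hom ≫ pullback.fst β₁.left (hbV.1.snd bV).left = χ ≫ r.left ≫ q₁.left := by
      rw [pullback.condition_assoc, ← reassoc_of% hχ]
      simp only [c, iZ, pullback.lift_snd_assoc, pullback.lift_fst, Over.comp_left]
    rw [e, Scheme.Hom.comp_apply, Scheme.Hom.comp_apply, hv, hz₂, hz₁]
  · rw [Category.assoc, wh, ← Functor.map_comp_assoc, hLh, Functor.map_comp_assoc, hd₁, hD.w,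
      ← Functor.map_comp_assoc, hδV₂, Functor.map_comp_assoc, Category.assoc, hb₁]
  · -- maps from schemes into the pullback
    have key : ∀ ⦃D : Over S⦄ (d : (yon S).obj D ⟶ P), d ≫ p₂ ≫ (yon S).map L ≫ aU = d ≫ p₁ ≫ a := by
      intro D d
      obtain ⟨g, hg⟩ := (yon S).map_surjective (d ≫ p₂)
      obtain ⟨ζ, hζ⟩ := (yon S).map_surjective (hQ.lift (d ≫ p₁) ((yon S).map (g ≫ Ω)) (by
        rw [Category.assoc, hP.w, ← Category.assoc, ← hg, Functor.map_comp, Category.assoc]))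
      have hζ₂ : ζ ≫ q₁ = g ≫ Ω := (yon S).map_injective (by rw [Functor.map_comp, hζ, hQ.lift_snd])
      let z : D.left ⟶ pullback V.hom iZ := pullback.lift (g.left ≫ Vo.ι)
        (pullback.lift ζ.left (g.left ≫ Vo.ι ≫ V.hom) (by
          rw [Category.assoc, Category.assoc]
          exact congrArg CommaMorphism.left hζ₂))
        (by simp only [iZ, pullback.lift_snd, Category.assoc])
      have hzqV : z ≫ qV = g.left ≫ Vo.ι := pullback.lift_fst _ _ _
      have hrange : Set.range z ⊆ Set.range (qV ⁻¹ᵁ Vo).ι := by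
        rintro _ ⟨x, rfl⟩
        rw [Scheme.Opens.range_ι]
        show qV (z x) ∈ Vo
        rw [← Scheme.Hom.comp_apply, hzqV]
        exact (g.left x).2
      let z' := IsOpenImmersion.lift (qV ⁻¹ᵁ Vo).ι z hrange
      have hz' : z' ≫ (qV ⁻¹ᵁ Vo).ι = z := IsOpenImmersion.lift_fac _ _ _
      have hz'' : z' ≫ (qV ∣_ Vo) = g.left := by
        rw [← cancel_mono Vo.ι, Category.assoc, morphismRestrict_ι, reassoc_of% hz', hzqV]
      have hgl : g.left ≫ l = z ≫ χ ≫ α.left := by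
        rw [← hz'', Category.assoc, hl₁, reassoc_of% hz']
      have hzr : z ≫ χ ≫ r.left = ζ.left := by
        have : χ ≫ r.left = pullback.snd V.hom iZ ≫ pullback.fst q₁.left _ := by
          rw [← hχ, Category.assoc, pullback.lift_fst]
        rw [this, pullback.lift_snd_assoc, pullback.lift_fst]
      let Zd : D ⟶ R := Over.homMk (z ≫ χ) (by
        rw [← Over.w r, ← Category.assoc, Category.assoc z χ, hzr, Over.w ζ])
      have hZr : Zd ≫ r = ζ := Over.OverMorphism.ext ((Category.assoc _ _ _).trans hzr)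
      have hgL : g ≫ L = Zd ≫ α := Over.OverMorphism.ext (hgl.trans (Category.assoc _ _ _).symm)
      rw [← Category.assoc, ← hg, ← Functor.map_comp_assoc, hgL, Functor.map_comp_assoc, hα, hR.w,
        ← Functor.map_comp_assoc, hZr, hζ, hQ.lift_fst_assoc, Category.assoc]
    apply Sheaf.hom_ext
    ext D x
    have h2 := congrArg (fun m => (J S).uliftYonedaEquiv m) (key ((J S).uliftYonedaEquiv.symm x))
    simp only [GrothendieckTopology.uliftYonedaEquiv_comp, Equiv.apply_symm_apply] at h2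
    exact h2

end Groth.Agent.AlgSpLib
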