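import Groth.Agent.AlgSpLib.LocalSourceInst
import Groth.Agent.AlgSpLib.Points
import Groth.Agent.AlgSpLib.LocalBaseTop

/-!
# Properties smooth local on the source and target
-/

set_option backward.isDefEq.respectTransparency false
set_option backward.isDefEq.respectTransparency.types false

universe u

open CategoryTheory CategoryTheory.Limits AlgebraicGeometry Opposite AlgSp

namespace Groth.Agent.AlgSpLib

variable {S : Scheme.{u}}

instance isMultiplicative_smooth : MorphismProperty.IsMultiplicative (@Smooth : MorphismProperty Scheme.{u}) where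

theorem locP_smooth_of_isIso {X Y : Sp S} (φ : X ⟶ Y) [IsIso φ] : LocP @Smooth φ :=
  locP_of_repWith (repWith_of_isIso @Smooth φ)

theorem isSurjectiveMor_of_isIso {X Y : Sp S} (φ : X ⟶ Y) [IsIso φ] : IsSurjectiveMor φ :=
  surjective_map_of_repWith (repWith_of_isIso @Surjective φ)

section Family

variable {X : Sp S}

/-- A family indexed by a type in the base universe chosen through a chart. -/
theorem exists_index_of_points (hX : IsAlgSpace X) (C : Points X → ∀ U : Sp S, (U ⟶ X) → Prop)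
    (h : ∀ x : Points X, ∃ (U : Sp S) (a : U ⟶ X) (v : Points U), Points.map a v = x ∧ C x U a) :
    ∃ (ι : Type u) (Xi : ι → Sp S) (g : ∀ i, Xi i ⟶ X),
      (∀ i, ∃ x, C x (Xi i) (g i)) ∧ ∀ x : Points X, ∃ i, x ∈ Set.range (Points.map (g i)) := by
  obtain ⟨T, p, -, hp⟩ := hX.atlas
  choose U a v hv hC using h
  refine ⟨↥T.left, fun t => U (Points.ofPt p t), fun t => a _, fun t => ⟨_, hC _⟩, fun x => ?_⟩
  obtain ⟨t, rfl⟩ := surjective_ofPt hp x
  exact ⟨t, v _, hv _⟩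

end Family

variable {P : MorphismProperty (Sp S)}

theorem isLocalOnSource_sm (hP : IsSmoothLocalST P) : IsLocalOnSource (IsSmCover (S := S)) P := by
  intro ι X Xi g hX hXi hg Y f hY
  refine ⟨fun hf i => hP.precomp (hXi i) hX hY _ _ (hg.1 i) hf, fun hf => (hP.locality hX hY f).2 fun x => ?_⟩
  obtain ⟨i, v, hv⟩ := hg.2 x
  exact ⟨Xi i, Y, g i, 𝟙 Y, g i ≫ f, v, hXi i, hY, hg.1 i, locP_smooth_of_isIso _, (Category.comp_id _).symm,
    hv, hf i⟩

theorem isLocalOnBase_sm (hP : IsSmoothLocalST P) : IsLocalOnBase (IsSmCover (S := S)) P := by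
  intro ι Y Yi g hY hYi hg X f hX Xi p q hXi sq
  refine ⟨fun hf i => hP.baseChange hX hY (hXi i) (hYi i) f (g i) (p i) (q i) (sq i) (hg.1 i) hf, fun hp => ?_⟩
  refine (hP.locality hX hY f).2 fun x => ?_
  obtain ⟨i, y, hy⟩ := hg.2 (Points.map f x)
  obtain ⟨z, hz, -⟩ := exists_point_of_isPullback (sq i) hy.symm
  exact ⟨Xi i, Yi i, q i, g i, p i, z, hXi i, hYi i,
    locP_of_isPullback (sq i).flip (hYi i) hY hX (hg.1 i), hg.1 i, (sq i).w, hz, hp i⟩

theorem postcomp_sm (hP : IsSmoothLocalST P) {X Y Z : Sp S} (hX : IsAlgSpace X) (hY : IsAlgSpace Y)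
    (hZ : IsAlgSpace Z) (f : X ⟶ Y) (g : Y ⟶ Z) (hf : P f) (hg : LocP @Smooth g) : P (f ≫ g) :=
  (hP.locality hX hZ _).2 fun x => ⟨X, Y, 𝟙 X, g, f, x, hX, hY, locP_smooth_of_isIso _, hg,
    Category.id_comp _, by simp, hf⟩

theorem stablePrecompIso (hP : IsSmoothLocalST P) {X' X Y : Sp S} (hX : IsAlgSpace X) (hY : IsAlgSpace Y)
    (φ : X' ⟶ X) [IsIso φ] (f : X ⟶ Y) (hf : P f) : P (φ ≫ f) :=
  hP.precomp (hX.of_iso (asIso φ).symm) hX hY φ f (locP_smooth_of_isIso φ) hf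

theorem isSmoothLocalST_of_local (h1 : IsLocalOnSource (IsSmCover (S := S)) P)
    (h2 : IsLocalOnBase (IsSmCover (S := S)) P)
    (h3 : ∀ ⦃X Y Z : Sp S⦄, IsAlgSpace X → IsAlgSpace Y → IsAlgSpace Z → ∀ (f : X ⟶ Y) (g : Y ⟶ Z),
      P f → LocP @Smooth g → P (f ≫ g)) : IsSmoothLocalST P where
  precomp X Y Z hX hY hZ f g hf hg := by
    let W : ULift.{u} Bool → Sp S := fun b => Bool.rec Y X b.down
    let q : ∀ b, W b ⟶ Y := fun b => Bool.rec (motive := fun b => (Bool.rec Y X b : Sp S) ⟶ Y) (𝟙 Y) f b.down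
    have hW : ∀ b, IsAlgSpace (W b) := fun ⟨b⟩ => by cases b; exacts [hY, hX]
    have hq : IsSmCover W q :=
      ⟨fun ⟨b⟩ => by cases b; exacts [locP_smooth_of_isIso (𝟙 Y), hf], fun y => ⟨⟨false⟩, y, Points.map_id y⟩⟩
    exact (h1 W q hY hW hq g hZ).1 hg ⟨true⟩
  baseChange X Y X' Y' hX hY hX' hY' f g f' g' sq hg hf := by
    let W : ULift.{u} Bool → Sp S := fun b => Bool.rec Y Y' b.down
    let W' : ULift.{u} Bool → Sp S := fun b => Bool.rec X X' b.down
    let k : ∀ b, W b ⟶ Y := fun b => Bool.rec (motive := fun b => (Bool.rec Y Y' b : Sp S) ⟶ Y) (𝟙 Y) g b.down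
    let p : ∀ b, W' b ⟶ W b := fun b =>
      Bool.rec (motive := fun b => (Bool.rec X X' b : Sp S) ⟶ (Bool.rec Y Y' b : Sp S)) f f' b.down
    let q : ∀ b, W' b ⟶ X := fun b => Bool.rec (motive := fun b => (Bool.rec X X' b : Sp S) ⟶ X) (𝟙 X) g' b.down
    have hk : IsSmCover W k :=
      ⟨fun ⟨b⟩ => by cases b; exacts [locP_smooth_of_isIso (𝟙 Y), hg], fun y => ⟨⟨false⟩, y, Points.map_id y⟩⟩
    refine (h2 W k hY (fun ⟨b⟩ => by cases b; exacts [hY, hY']) hk f hX W' p q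
      (fun ⟨b⟩ => by cases b; exacts [hX, hX']) fun ⟨b⟩ => ?_).1 hf ⟨true⟩
    cases b
    · exact IsPullback.of_horiz_isIso ⟨(Category.id_comp f).trans (Category.comp_id f).symm⟩
    · exact sq
  locality X Y hX hY f := by
    refine ⟨fun hf x => ⟨X, Y, 𝟙 X, 𝟙 Y, f, x, hX, hY, locP_smooth_of_isIso _, locP_smooth_of_isIso _,
      by simp, by simp, hf⟩, fun h => ?_⟩
    obtain ⟨ι, Xi, g, hC, hsurj⟩ := exists_index_of_points hX
      (fun _ U a => ∃ (V : Sp S) (b : V ⟶ Y) (k : U ⟶ V), IsAlgSpace U ∧ IsAlgSpace V ∧ LocP @Smooth a ∧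
        LocP @Smooth b ∧ a ≫ f = k ≫ b ∧ P k)
      (fun x => by
        obtain ⟨U, V, a, b, k, v, hU, hV, ha, hb, w, hv, hk⟩ := h x
        exact ⟨U, a, v, hv, V, b, k, hU, hV, ha, hb, w, hk⟩)
    choose _x V b k hU hV ha hb w hk using hC
    exact (h1 Xi g hX hU ⟨ha, hsurj⟩ f hY).2 fun i => w i ▸ h3 (hU i) (hV i) hY _ _ (hk i) (hb i)

theorem isLocalOnBase_smCover_of_fppf (h : IsLocalOnBase (IsFppfCover (S := S)) P) :
    IsLocalOnBase (IsSmCover (S := S)) P := fun _ _ Yi g hY hYi hg => h Yi g hY hYi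
  ⟨fun i => ⟨locP_mono (Q := @Flat) (fun _ _ f (_ : Smooth f) => inferInstanceAs (Flat f)) (hg.1 i),
    locP_mono (Q := @LocallyOfFinitePresentation)
      (fun _ _ f (_ : Smooth f) => inferInstanceAs (LocallyOfFinitePresentation f)) (hg.1 i)⟩, hg.2⟩

theorem isLocalOnBase_fppfCover_of_fpqc (h : IsLocalOnBase (IsFpqcCover (S := S)) P) :
    IsLocalOnBase (IsFppfCover (S := S)) P := fun _ _ Yi g hY hYi hg =>
  h Yi g hY hYi (isFpqcCover_of_isFppfCover hY hYi g hg)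

end Groth.Agent.AlgSpLib
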