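import Groth.Agent.AlgSpLib.ThickFactor
import Groth.Agent.AlgSpLib.LocP
import Groth.Agent.AlgSpLib.Descends
import Groth.Prelude.Def_AlgSpInf
import Groth.Agent.AlgSpLib.Points

/-!
# Charts of cartesian morphisms of thickenings
-/

set_option backward.isDefEq.respectTransparency false
set_option backward.isDefEq.respectTransparency.types false

universe u

open CategoryTheory CategoryTheory.Limits AlgebraicGeometry Opposite AlgSp Topology

namespace Groth.Agent.AlgSpLib.ThickCart

variable {S : Scheme.{u}} {X X' Y Y' : Sp S} {i : X ⟶ X'} {j : Y ⟶ Y'} {f : X ⟶ Y} {f' : X' ⟶ Y'}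

theorem ideal_eq_bot_of_appTop {U V : Scheme.{u}} (g : U ⟶ V) [QuasiCompact g] (W : V.affineOpens) (n : ℕ)
    (h : (g ∣_ W.1).ker ^ n = ⊥) : (g.ker.ideal W) ^ n = ⊥ := by
  have hW : IsAffine W.1.toScheme := W.2
  let T : W.1.toScheme.affineOpens := ⟨⊤, isAffineOpen_top _⟩
  have h0 : (g ∣_ W.1).ker.ideal T ^ n = ⊥ := by
    simpa [Scheme.IdealSheafData.ideal_pow] using congr(($h).ideal T)
  rw [Scheme.ker_morphismRestrict_ideal] at h0
  have e : (⟨W.1.ι ''ᵁ T.1, T.2.image_of_isOpenImmersion _⟩ : V.affineOpens) = W :=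
    Subtype.ext (Scheme.Opens.ι_image_top _)
  exact (congrArg (fun W' : V.affineOpens => (g.ker.ideal W') ^ n = ⊥) e).mp h0

/-- The pullback of a finite order thickening to an étale chart is a finite order thickening. -/
theorem isFiniteOrder_chart (hi : IsFinThickMor i) {U U' : Over S} {a' : (yon S).obj U' ⟶ X'}
    (ha : RepWith @Etale a') {fst : (yon S).obj U ⟶ X} {iU : U ⟶ U'}
    (sq : IsPullback fst ((yon S).map iU) i a') : MoreMor.IsFiniteOrderThickening iU.left := by
  obtain ⟨n, hi, hn⟩ := hi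
  have hth : thick iU.left := hi.2 a' fst iU sq
  have : IsClosedImmersion iU.left := hth.1
  refine ⟨hth, n + 1, ?_⟩
  rw [Scheme.IdealSheafData.zero_eq_bot]
  ext1
  funext W
  rw [Scheme.IdealSheafData.ideal_pow, Pi.pow_apply, Scheme.IdealSheafData.ideal_bot, Pi.bot_apply]
  let WS : Over S := Over.mk (W.1.ι ≫ U'.hom)
  let inc : WS ⟶ U' := Over.homMk W.1.ι rfl
  let UW : Over S := Over.mk ((iU.left ⁻¹ᵁ W.1).ι ≫ U.hom)
  let r : UW ⟶ WS := Over.homMk (iU.left ∣_ W.1) (by
    change _ ≫ W.1.ι ≫ U'.hom = _ ≫ U.hom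
    rw [← Category.assoc, (isPullback_morphismRestrict iU.left W.1).w, Category.assoc, Over.w iU])
  let k : UW ⟶ U := Over.homMk (iU.left ⁻¹ᵁ W.1).ι rfl
  have hw : k ≫ iU = r ≫ inc := Over.OverMorphism.ext (isPullback_morphismRestrict iU.left W.1).w.symm
  have sqk : IsPullback k r iU inc :=
    IsPullback.of_map (Over.forget S) hw (isPullback_morphismRestrict iU.left W.1).flip
  refine ideal_eq_bot_of_appTop iU.left W (n + 1) (hn ((yon S).map inc ≫ a') ((yon S).map k ≫ fst) r W.2 ?_
    ((sqk.map (yon S)).paste_horiz sq))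
  exact repWith_comp ((repWith_yon_map_iff _ inc).2 (inferInstanceAs (Etale W.1.ι))) ha

/-- A chart of the thickened morphism restricts to a cartesian chart. -/
theorem exists_cart_chart (hi : IsThickMor i) (hj : IsThickMor j) (hc : IsPullback i f f' j) {U' V' : Over S}
    {a' : (yon S).obj U' ⟶ X'} {b' : (yon S).obj V' ⟶ Y'} {h' : U' ⟶ V'}
    (w : a' ≫ f' = (yon S).map h' ≫ b') :
    ∃ (U V : Over S) (a : (yon S).obj U ⟶ X) (b : (yon S).obj V ⟶ Y) (iU : U ⟶ U') (jV : V ⟶ V') (h : U ⟶ V),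
      MoreMor.IsThickening jV.left ∧ MoreMor.IsThickening iU.left ∧
      IsPullback iU.left h.left h'.left jV.left ∧ IsPullback a ((yon S).map iU) i a' ∧
      IsPullback b ((yon S).map jV) j b' ∧ a ≫ f = (yon S).map h ≫ b ∧
      (IsPullback a' ((yon S).map h') f' b' → IsPullback a ((yon S).map h) f b) := by
  let U := hi.rep.pullback a'
  let iU : U ⟶ U' := hi.rep.snd a'
  let a := hi.rep.fst a'
  have sqU : IsPullback a ((yon S).map iU) i a' := hi.rep.isPullback a'
  let V := hj.rep.pullback b'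
  let jV : V ⟶ V' := hj.rep.snd b'
  let b := hj.rep.fst b'
  have sqV : IsPullback b ((yon S).map jV) j b' := hj.rep.isPullback b'
  have s0 : IsPullback (a ≫ f) ((yon S).map iU) j ((yon S).map h' ≫ b') := by
    rw [← w]
    exact sqU.paste_horiz hc.flip
  let h : U ⟶ V := (yon S).preimage (sqV.lift (a ≫ f) ((yon S).map iU ≫ (yon S).map h')
    (s0.w.trans (Category.assoc _ _ _).symm))
  have hh₁ : (yon S).map h ≫ b = a ≫ f := by rw [Functor.map_preimage, sqV.lift_fst]
  have hh₂ : (yon S).map h ≫ (yon S).map jV = (yon S).map iU ≫ (yon S).map h' := by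
    rw [Functor.map_preimage, sqV.lift_snd]
  have sqUV : IsPullback ((yon S).map h) ((yon S).map iU) ((yon S).map jV) ((yon S).map h') :=
    IsPullback.of_right (by rw [hh₁]; exact s0) hh₂ sqV
  refine ⟨U, V, a, b, iU, jV, h, hj.property_snd b', hi.property_snd a', ?_, sqU, sqV, hh₁.symm, fun hfull => ?_⟩
  · exact ((IsPullback.of_map (yon S) ((yon S).map_injective
      (by rw [Functor.map_comp, Functor.map_comp, hh₂])) sqUV).map (Over.forget S)).flip
  · refine IsPullback.of_right ?_ hh₁.symm hc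
    rw [sqU.w, sqV.w]
    exact sqUV.flip.paste_horiz hfull

/-- A property of the restricted chart of a morphism with the property. -/
theorem locP_lift {P : MorphismProperty Scheme.{u}} [IsEtLocal P] (hX' : IsAlgSpace X') (hY' : IsAlgSpace Y')
    (hi : IsThickMor i) (hj : IsThickMor j) (hc : IsPullback i f f' j) (hf : LocP P f)
    (H : ∀ {U V U' V' : Over S} (a' : (yon S).obj U' ⟶ X') (b' : (yon S).obj V' ⟶ Y') (h' : U' ⟶ V')
      (a : (yon S).obj U ⟶ X) (iU : U ⟶ U') (jV : V ⟶ V') (h : U ⟶ V), RepWith @Etale a' → RepWith @Etale b' →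
      a' ≫ f' = (yon S).map h' ≫ b' → MoreMor.IsThickening jV.left → IsPullback a ((yon S).map iU) i a' →
      IsPullback iU.left h.left h'.left jV.left → P h.left → P h'.left) : LocP P f' := by
  obtain ⟨U', V', a', b', h', ha, ha', hb, -, w⟩ := exists_chart hX' hY' f'
  obtain ⟨U, V, a, b, iU, jV, h, hjV, -, sq, sqU, sqV, w', -⟩ := exists_cart_chart hi hj hc w
  exact locP_of_chart ha ha' hb w (H a' b' h' a iU jV h ha hb w hjV sqU sq
    (hf a b h (repWith_of_isPullback sqU.flip ha) (repWith_of_isPullback sqV.flip hb) w'))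

end Groth.Agent.AlgSpLib.ThickCart
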