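import Groth.Agent.AlgSpLib.ThickProps
import Groth.Agent.AlgSpLib.FlatAt
import Groth.Agent.Triage.CMMor
import Groth.Agent.S1382
import Groth.Agent.S1384
import Groth.Agent.S1385

/-!
# Charts of flat deformations of morphisms of algebraic spaces
-/

set_option backward.isDefEq.respectTransparency false
set_option backward.isDefEq.respectTransparency.types false

universe u

open CategoryTheory CategoryTheory.Limits AlgebraicGeometry Opposite AlgSp Topology

namespace Groth.Agent.AlgSpLib.ThickFlat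

open ThickCart

variable {S : Scheme.{u}} {X X' Y Y' B B' : Sp S} {iX : X ⟶ X'} {iY : Y ⟶ Y'} {iB : B ⟶ B'}
  {f : X ⟶ Y} {f' : X' ⟶ Y'} {g : Y ⟶ B} {g' : Y' ⟶ B'}

/-- The two situations in which a flat deformation is controlled by its restriction: a thickening of finite order,
or any thickening with finiteness of the morphisms. -/
def Deform (iB : B ⟶ B') (f' : X' ⟶ Y') (g' : Y' ⟶ B') : Prop :=
  IsThickMor iB ∧ (IsFinThickMor iB ∨
    (LocP @LocallyOfFiniteType g' ∧ LocP @LocallyOfFinitePresentation (f' ≫ g')))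

/-- The same situations for schemes. -/
def DeformScheme {W W' U' V' : Scheme.{u}} (jW : W ⟶ W') (h' : U' ⟶ V') (k' : V' ⟶ W') : Prop :=
  MoreMor.IsThickening jW ∧ (MoreMor.IsFiniteOrderThickening jW ∨
    (LocallyOfFiniteType k' ∧ LocallyOfFinitePresentation (h' ≫ k')))

/-- A property checked on restrictions to thickened charts. -/
theorem locP_lift {P : MorphismProperty Scheme.{u}} [IsEtLocal P] (hX' : IsAlgSpace X') (hY' : IsAlgSpace Y')
    (hB' : IsAlgSpace B') (hcX : IsPullback iX (f ≫ g) (f' ≫ g') iB) (hcY : IsPullback iY g g' iB)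
    (w : iX ≫ f' = f ≫ iY) (hD : Deform iB f' g') (hflat : LocP @Flat (f' ≫ g')) (hf : LocP P f)
    (H : ∀ {U V W U' V' W' : Scheme.{u}} (iU : U ⟶ U') (iV : V ⟶ V') (jW : W ⟶ W') (h : U ⟶ V) (h' : U' ⟶ V')
      (k : V ⟶ W) (k' : V' ⟶ W'), DeformScheme jW h' k' → IsPullback iU (h ≫ k) (h' ≫ k') jW →
      IsPullback iV k k' jW → iU ≫ h' = h ≫ iV → Flat (h' ≫ k') → P h → P h') : LocP P f' := by
  have hc : IsPullback iX f f' iY := IsPullback.of_bot hcX w hcY
  have hiY : IsThickMor iY := repWith_of_isPullback hcY.flip hD.1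
  have hiX : IsThickMor iX := repWith_of_isPullback hc.flip hiY
  obtain ⟨W', w', hw, hws⟩ := hB'.atlas
  obtain ⟨V', e, k', he, hes, hk⟩ := exists_chart_over hY' hB' g' w'
  have hb : RepWith @Etale (e ≫ pullback.fst g' w') := repWith_comp he (repWith_fst g' hw)
  have hbs : RepWith @Surjective (e ≫ pullback.fst g' w') := repWith_comp hes (repWith_fst g' hws)
  obtain ⟨U', eX, h', heX, heXs, hm⟩ := exists_chart_over hX' hY' f' (e ≫ pullback.fst g' w')
  have ha : RepWith @Etale (eX ≫ pullback.fst f' _) := repWith_comp heX (repWith_fst f' hb)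
  have has : RepWith @Surjective (eX ≫ pullback.fst f' _) := repWith_comp heXs (repWith_fst f' hbs)
  have wk : (e ≫ pullback.fst g' w') ≫ g' = (yon S).map k' ≫ w' := by
    rw [Category.assoc, pullback.condition, ← Category.assoc, hk]
  have wm : (eX ≫ pullback.fst f' _) ≫ f' = (yon S).map h' ≫ (e ≫ pullback.fst g' w') := by
    rw [Category.assoc, pullback.condition, ← Category.assoc, hm]
  have wmk : (eX ≫ pullback.fst f' _) ≫ f' ≫ g' = (yon S).map (h' ≫ k') ≫ w' := by
    rw [← Category.assoc, wm, Category.assoc, wk, Functor.map_comp, Category.assoc]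
  obtain ⟨V, W, b, c, iV, jW, k, hjW, -, sqV₀, sqV, sqW, wk₀, -⟩ := exists_cart_chart hiY hD.1 hcY wk
  obtain ⟨U, V₁, a, b₁, iU, jV, h, -, -, sqU₀, sqU, sqV₁, wm₀, -⟩ := exists_cart_chart hiX hiY hc wm
  let ε : V₁ ≅ V := (yon S).preimageIso (sqV₁.isoIsPullback _ _ sqV)
  have hε₁ : (yon S).map ε.hom ≫ b = b₁ := by
    simp only [ε, Functor.preimageIso_hom, Functor.map_preimage]
    exact sqV₁.isoIsPullback_hom_fst _ _ sqV
  have hε₂ : ε.hom ≫ iV = jV := (yon S).map_injective (by
    rw [Functor.map_comp]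
    simp only [ε, Functor.preimageIso_hom, Functor.map_preimage]
    exact sqV₁.isoIsPullback_hom_snd _ _ sqV)
  have sq1 : IsPullback iU.left (h ≫ ε.hom).left h'.left iV.left :=
    sqU₀.of_iso (Iso.refl _) (Iso.refl _) ((Over.forget S).mapIso ε) (Iso.refl _) (by simp) (by simp)
      (by simp) (by
        simp only [Iso.refl_hom, Category.comp_id, Functor.mapIso_hom, Over.forget_map, ← hε₂, Over.comp_left])
  have hP : P (h ≫ ε.hom).left := hf a b (h ≫ ε.hom) (repWith_of_isPullback sqU.flip ha)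
    (repWith_of_isPullback sqV.flip hb) (by rw [wm₀, Functor.map_comp, Category.assoc, hε₁])
  have hfl : Flat (h'.left ≫ k'.left) := hflat _ w' _ ha hw wmk
  refine locP_of_chart ha has hb wm (H iU.left iV.left jW.left _ h'.left k.left k'.left ⟨hjW, ?_⟩
    (sq1.paste_vert sqV₀) sqV₀ sq1.w hfl hP)
  rcases hD.2 with hfin | ⟨hft, hfp⟩
  · exact Or.inl (isFiniteOrder_chart hfin hw sqW)
  · exact Or.inr ⟨hft _ _ _ hb hw wk, hfp _ w' _ ha hw wmk⟩

section Scheme

variable {U V W U' V' W' : Scheme.{u}} {iU : U ⟶ U'} {iV : V ⟶ V'} {jW : W ⟶ W'} {h : U ⟶ V} {h' : U' ⟶ V'}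
  {k : V ⟶ W} {k' : V' ⟶ W'} (hD : DeformScheme jW h' k') (s₁ : IsPullback iU (h ≫ k) (h' ≫ k') jW)
  (s₂ : IsPullback iV k k' jW) (w : iU ≫ h' = h ≫ iV) [Flat (h' ≫ k')]
include hD s₁ s₂ w

theorem flat_lift [Flat h] : Flat h' := by
  rcases hD.2 with hfin | ⟨_, _⟩
  · exact ThickFin.flat_lift hfin s₁ s₂ w
  · exact FlatMisc.flat_of_flat_fibres k' h' fun s' =>
      ThickDeform.fibres_lift (@Flat : MorphismProperty Scheme.{u}) hD.1 s₁ s₂ w inferInstance s'

theorem lft_lift [LocallyOfFiniteType h] : LocallyOfFiniteType h' := by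
  rcases hD.2 with hfin | ⟨_, _⟩
  · exact ThickFin.locallyOfFiniteType_lift (ThickFin.isFiniteOrderThickening_baseChange hfin s₂)
      (IsPullback.of_bot s₁ w s₂)
  · exact locallyOfFiniteType_of_comp h' k'

theorem lfp_lift [LocallyOfFinitePresentation h] : LocallyOfFinitePresentation h' := by
  rcases hD.2 with hfin | ⟨_, _⟩
  · exact ThickFin.locallyOfFinitePresentation_lift hfin s₁ s₂ w
  · exact AlgSpPts.locallyOfFinitePresentation_of_comp h' k'

theorem lqf_lift [LocallyOfFiniteType h] [LocallyQuasiFinite h] : LocallyQuasiFinite h' :=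
  have := lft_lift hD s₁ s₂ w
  ThickFactor.locallyQuasiFinite_lift (ThickDeform.isThickening_baseChange hD.1 s₂) (IsPullback.of_bot s₁ w s₂)

theorem unram_lift [LocallyOfFiniteType h] [FormallyUnramified h] : FormallyUnramified h' :=
  have := lft_lift hD s₁ s₂ w
  ThickDeform.formallyUnramified_lift (ThickDeform.isThickening_baseChange hD.1 s₂) (IsPullback.of_bot s₁ w s₂)

theorem smooth_lift [Smooth h] : Smooth h' := by
  rcases hD.2 with hfin | ⟨_, _⟩
  · exact ThickFin.smooth_lift hfin s₁ s₂ w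
  · exact (Groth.Agent.S1384.result iU iV jW h h' k k' hD.1 s₁ s₂ w).1 inferInstance

theorem etale_lift [Etale h] : Etale h' := by
  rcases hD.2 with hfin | ⟨_, _⟩
  · exact ThickFin.etale_lift hfin s₁ s₂ w
  · exact (Groth.Agent.S1385.result iU iV jW h h' k k' hD.1 s₁ s₂ w).1 inferInstance

end Scheme

end Groth.Agent.AlgSpLib.ThickFlat
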