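import Groth.Agent.ThickFin.Scheme
import Groth.Agent.FComplLib.IdealComap
import Groth.Agent.AlgSpDec.FibreDimEtale
import Groth.Agent.FibDim.RelDim
import Groth.Prelude.Def_MoreMor

/-!
# Cartesian morphisms of thickenings of schemes with finite order source
-/

set_option backward.isDefEq.respectTransparency false
set_option backward.isDefEq.respectTransparency.types false

universe u

open CategoryTheory CategoryTheory.Limits AlgebraicGeometry

namespace Groth.Agent.AlgSpLib.ThickFactor

variable {X X' Y Y' : Scheme.{u}} {iX : X ⟶ X'} {iY : Y ⟶ Y'} {f : X ⟶ Y} {f' : X' ⟶ Y'}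

/-- A cartesian map of thickenings with finite order source factors over a finite order thickening. -/
theorem exists_factor (hY : MoreMor.IsThickening iY) (hc : IsPullback iX f f' iY) (hn : IsNilpotent iX.ker) :
    ∃ (Y'' : Scheme.{u}) (ι : Y'' ⟶ Y') (f'' : X' ⟶ Y'') (iY'' : Y ⟶ Y''), IsClosedImmersion ι ∧ f'' ≫ ι = f' ∧
      MoreMor.IsFiniteOrderThickening iY'' ∧ IsPullback iX f f'' iY'' := by
  have := hY.1
  have := hY.2
  obtain ⟨n, hn⟩ := hn
  let I := iY.ker ^ (n + 1)
  have hle : I ≤ iY.ker := fun U => by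
    simp only [I, Scheme.IdealSheafData.ideal_pow, Pi.pow_apply]
    exact Ideal.pow_le_self (by omega)
  have hf' : I ≤ f'.ker := by
    rw [← Scheme.IdealSheafData.map_bot, Scheme.IdealSheafData.le_map_iff_comap_le, FComplLib.comap_pow,
      ← FComplLib.ker_of_isPullback hc, pow_succ, hn, zero_mul, Scheme.IdealSheafData.zero_eq_bot]
  let ι := I.subschemeι
  let f'' := IsClosedImmersion.lift ι f' (by rw [Scheme.IdealSheafData.ker_subschemeι]; exact hf')
  let iY'' := IsClosedImmersion.lift ι iY (by rw [Scheme.IdealSheafData.ker_subschemeι]; exact hle)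
  have hι'' : iY'' ≫ ι = iY := IsClosedImmersion.lift_fac _ _ _
  have hf'' : f'' ≫ ι = f' := IsClosedImmersion.lift_fac _ _ _
  have hbot : IsPullback iY'' (𝟙 Y) ι iY :=
    ⟨⟨by rw [hι'', Category.id_comp]⟩, ⟨PullbackCone.IsLimit.mk _ (fun s => s.snd)
      (fun s => by rw [← cancel_mono ι, Category.assoc, hι'']; exact s.condition.symm)
      (fun s => Category.comp_id _)
      (fun s m _ h => by rw [← h, Category.comp_id])⟩⟩
  have : IsClosedImmersion (iY'' ≫ ι) := by rw [hι'']; infer_instance
  have : IsClosedImmersion iY'' := IsClosedImmersion.of_comp iY'' ι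
  have : Surjective iY'' := ⟨fun y => by
    obtain ⟨z, hz⟩ := iY.surjective (ι y)
    exact ⟨z, ι.isClosedEmbedding.injective (by rw [← Scheme.Hom.comp_apply, hι'', hz])⟩⟩
  refine ⟨_, ι, f'', iY'', inferInstance, hf'', ⟨⟨‹_›, ‹_›⟩, n + 1, ?_⟩, ?_⟩
  · rw [FComplLib.ker_of_isPullback hbot, ← FComplLib.comap_pow, Scheme.IdealSheafData.zero_eq_bot,
      eq_bot_iff, ← Scheme.IdealSheafData.le_map_iff_comap_le, Scheme.IdealSheafData.map_bot,
      Scheme.IdealSheafData.ker_subschemeι]
  · refine IsPullback.of_bot ?_ ?_ hbot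
    · rw [Category.comp_id, hf'']
      exact hc
    · rw [← cancel_mono ι, Category.assoc, Category.assoc, hf'', hι'', hc.w]

theorem locallyOfFiniteType_lift (hY : MoreMor.IsThickening iY) (hc : IsPullback iX f f' iY)
    (hn : IsNilpotent iX.ker) [LocallyOfFiniteType f] : LocallyOfFiniteType f' := by
  obtain ⟨Y'', ι, f'', iY'', _, rfl, hY'', hc''⟩ := exists_factor hY hc hn
  have := ThickFin.locallyOfFiniteType_lift hY'' hc''
  infer_instance

theorem fibreDimAt_eq (hY : MoreMor.IsThickening iY) (hc : IsPullback iX f f' iY) [LocallyOfFiniteType f']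
    (x : X) : FlatMor.fibreDimAt f' (iX x) = FlatMor.fibreDimAt f x := by
  have := hY.1
  have : LocallyOfFiniteType f := MorphismProperty.of_isPullback (P := @LocallyOfFiniteType) hc inferInstance
  exact (FibDim.fibreDimAt_baseChange hc x).symm

theorem locallyQuasiFinite_lift (hY : MoreMor.IsThickening iY) (hc : IsPullback iX f f' iY)
    [LocallyOfFiniteType f'] [LocallyQuasiFinite f] : LocallyQuasiFinite f' := by
  have : LocallyOfFiniteType f := MorphismProperty.of_isPullback (P := @LocallyOfFiniteType) hc inferInstance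
  refine (AlgSpDec.lqf_iff_fibreDimAt f').2 fun x' => ?_
  obtain ⟨x, rfl⟩ := (ThickDeform.isThickening_baseChange hY hc).2.surj x'
  rw [fibreDimAt_eq hY hc x, (AlgSpDec.lqf_iff_fibreDimAt f).1 inferInstance x]

theorem isFinite_lift (hY : MoreMor.IsThickening iY) (hc : IsPullback iX f f' iY) [LocallyOfFiniteType f']
    [IsFinite f] : IsFinite f' := by
  have hX := ThickDeform.isThickening_baseChange hY hc
  have := hX.1
  have := hX.2
  have := hY.1
  have : IsIntegralHom f' := (MorLib.Thick.isIntegralHom_iff iX iY f f' hc.w).1 inferInstance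
  exact (IsFinite.iff_isIntegralHom_and_locallyOfFiniteType f').mpr ⟨inferInstance, inferInstance⟩

end Groth.Agent.AlgSpLib.ThickFactor
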