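import Groth.Agent.AlgSpLib.ThickDeformChart
import Groth.Agent.AlgSpLib.ClosedImmDesc
import Groth.Agent.Pi1X.FEtFull
import Groth.Prelude.Def_AlgSpMor5

/-!
# Flat deformations of morphisms of algebraic spaces
-/

set_option backward.isDefEq.respectTransparency false
set_option backward.isDefEq.respectTransparency.types false

universe u

open CategoryTheory CategoryTheory.Limits AlgebraicGeometry Opposite AlgSp Topology

namespace Groth.Agent.AlgSpLib.ThickFlat

variable {S : Scheme.{u}} {X X' Y Y' B B' : Sp S} {iX : X ⟶ X'} {iY : Y ⟶ Y'} {iB : B ⟶ B'}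
  {f : X ⟶ Y} {f' : X' ⟶ Y'} {g : Y ⟶ B} {g' : Y' ⟶ B'}

/-- A flat deformation. -/
structure Datum (iX : X ⟶ X') (iY : Y ⟶ Y') (iB : B ⟶ B') (f : X ⟶ Y) (f' : X' ⟶ Y') (g : Y ⟶ B)
    (g' : Y' ⟶ B') : Prop where
  hX : IsAlgSpace X
  hX' : IsAlgSpace X'
  hY : IsAlgSpace Y
  hY' : IsAlgSpace Y'
  hB' : IsAlgSpace B'
  hcX : IsPullback iX (f ≫ g) (f' ≫ g') iB
  hcY : IsPullback iY g g' iB
  w : iX ≫ f' = f ≫ iY
  hD : Deform iB f' g'
  hflat : LocP @Flat (f' ≫ g')

/-- The squares of a cartesian square. -/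
theorem isPullback_map_fst {A A' C C' : Sp S} {i : A ⟶ A'} {j : C ⟶ C'} {m : A ⟶ C} {m' : A' ⟶ C'}
    (hc : IsPullback i m m' j) :
    IsPullback (pullback.map m m m' m' i i j hc.w.symm hc.w.symm) (pullback.fst m m) (pullback.fst m' m') i := by
  refine IsPullback.of_right (h₁₂ := pullback.snd m' m') (v₁₃ := m') (h₂₂ := m') ?_
    (pullback.lift_fst _ _ _) (IsPullback.of_hasPullback m' m').flip
  rw [show pullback.map m m m' m' i i j hc.w.symm hc.w.symm ≫ pullback.snd m' m' = pullback.snd m m ≫ i from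
    pullback.lift_snd _ _ _, hc.w]
  exact (IsPullback.of_hasPullback m m).flip.paste_horiz hc

variable (D : Datum iX iY iB f f' g g')
include D

theorem Datum.hc : IsPullback iX f f' iY := IsPullback.of_bot D.hcX D.w D.hcY

theorem Datum.hiY : IsThickMor iY := repWith_of_isPullback D.hcY.flip D.hD.1

theorem Datum.hiX : IsThickMor iX := repWith_of_isPullback D.hc.flip D.hiY

theorem Datum.down {P : MorphismProperty Scheme.{u}} [IsEtLocal P] (h : LocP P f') : LocP P f :=
  ThickProps.locP_cart_down D.hX' D.hY D.hY' D.hc h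

theorem Datum.lift {P : MorphismProperty Scheme.{u}} [IsEtLocal P] (hf : LocP P f)
    (H : ∀ {U V W U' V' W' : Scheme.{u}} (iU : U ⟶ U') (iV : V ⟶ V') (jW : W ⟶ W') (h : U ⟶ V) (h' : U' ⟶ V')
      (k : V ⟶ W) (k' : V' ⟶ W'), DeformScheme jW h' k' → IsPullback iU (h ≫ k) (h' ≫ k') jW →
      IsPullback iV k k' jW → iU ≫ h' = h ≫ iV → Flat (h' ≫ k') → P h → P h') : LocP P f' :=
  locP_lift D.hX' D.hY' D.hB' D.hcX D.hcY D.w D.hD D.hflat hf H

theorem Datum.flat_iff : LocP @Flat f ↔ LocP @Flat f' :=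
  ⟨fun hf => D.lift hf fun _ _ _ h _ _ _ hd s₁ s₂ w _hfl (_ : Flat h) => ThickFlat.flat_lift hd s₁ s₂ w, D.down⟩

theorem Datum.lft_iff : LocP @LocallyOfFiniteType f ↔ LocP @LocallyOfFiniteType f' :=
  ⟨fun hf => D.lift hf fun _ _ _ h _ _ _ hd s₁ s₂ w _hfl (_ : LocallyOfFiniteType h) =>
    ThickFlat.lft_lift hd s₁ s₂ w, D.down⟩

theorem Datum.lfp_iff : LocP @LocallyOfFinitePresentation f ↔ LocP @LocallyOfFinitePresentation f' :=
  ⟨fun hf => D.lift hf fun _ _ _ h _ _ _ hd s₁ s₂ w _hfl (_ : LocallyOfFinitePresentation h) =>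
    ThickFlat.lfp_lift hd s₁ s₂ w, D.down⟩

theorem Datum.smooth_iff : LocP @Smooth f ↔ LocP @Smooth f' :=
  ⟨fun hf => D.lift hf fun _ _ _ h _ _ _ hd s₁ s₂ w _hfl (_ : Smooth h) => ThickFlat.smooth_lift hd s₁ s₂ w, D.down⟩

theorem Datum.etale_iff : IsEtaleMor f ↔ IsEtaleMor f' := by
  rw [isEtaleMor_iff_locP D.hX D.hY, isEtaleMor_iff_locP D.hX' D.hY']
  exact ⟨fun hf => D.lift hf fun _ _ _ h _ _ _ hd s₁ s₂ w _hfl (_ : Etale h) =>
    ThickFlat.etale_lift hd s₁ s₂ w, D.down⟩

theorem Datum.lqf_iff : LocP (@LocallyQuasiFinite ⊓ @LocallyOfFiniteType) f ↔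
    LocP (@LocallyQuasiFinite ⊓ @LocallyOfFiniteType) f' :=
  ⟨fun hf => (ThickProps.lqf_iff_of_lft D.hX' D.hY D.hY' D.hiX D.hiY D.hc
    (D.lft_iff.1 (locP_mono inf_le_right hf))).1 hf, D.down⟩

theorem Datum.unram_iff : LocP (@LocallyOfFiniteType ⊓ @FormallyUnramified) f ↔
    LocP (@LocallyOfFiniteType ⊓ @FormallyUnramified) f' :=
  ⟨fun hf => (ThickProps.unram_iff_of_lft D.hX' D.hY D.hY' D.hiX D.hiY D.hc
    (D.lft_iff.1 (locP_mono inf_le_left hf))).1 hf, D.down⟩

theorem Datum.relDim_iff (d : WithBot ℕ∞) :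
    (LocP @LocallyOfFiniteType f ∧ ∀ x, HasAtMor (fun _ _ h u => FlatMor.fibreDimAt h u = d) f x) ↔
      (LocP @LocallyOfFiniteType f' ∧ ∀ x', HasAtMor (fun _ _ h u => FlatMor.fibreDimAt h u = d) f' x') :=
  ⟨fun h => ⟨D.lft_iff.1 h.1, (ThickProps.relDim_iff_of_lft D.hX D.hX' D.hY D.hY' D.hiX D.hiY D.hc
    (D.lft_iff.1 h.1) d).1 h.2⟩,
   fun h => ⟨D.down h.1, (ThickProps.relDim_iff_of_lft D.hX D.hX' D.hY D.hY' D.hiX D.hiY D.hc h.1 d).2 h.2⟩⟩

omit D in
/-- The target is flat at the images of a flat map with flat composite. -/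
theorem isFlatAtMor_of_flat (hX' : IsAlgSpace X') (hY' : IsAlgSpace Y') (hf : LocP @Flat f')
    (hflat : LocP @Flat (f' ≫ g')) (x' : Points X') : IsFlatAtMor g' (Points.map f' x') := by
  intro V W b c k v hb hc wk hv
  obtain ⟨U, e, m, he, hes, hm⟩ := exists_chart_over hX' hY' f' b
  have wm : (e ≫ pullback.fst f' b) ≫ f' = (yon S).map m ≫ b := by
    rw [Category.assoc, pullback.condition, ← Category.assoc, hm]
  obtain ⟨z, -, hz⟩ := exists_point_of_isPullback (IsPullback.of_hasPullback f' b) (x := x')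
    (y := Points.ofScheme V v) (by rw [← hv, Points.ofPt_eq_map_ofScheme])
  obtain ⟨u, rfl⟩ := surjective_ofPt hes z
  have hmu : m.left u = v := by
    rw [Points.map_ofPt, hm] at hz
    have := congrArg (Points.toScheme V) hz
    rw [Points.toScheme_ofPt, Points.toScheme_ofScheme] at this
    exact this
  subst hmu
  have ha : RepWith @Etale (e ≫ pullback.fst f' b) := repWith_comp he (repWith_fst f' hb)
  have h1 : Flat m.left := hf _ b m ha hb wm
  have h2 : Flat (m.left ≫ k.left) := hflat _ c (m ≫ k) ha hc (by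
    rw [← Category.assoc, wm, Category.assoc, wk, Functor.map_comp, Category.assoc])
  have h3 := Flat.stalkMap (m.left ≫ k.left) u
  rw [Scheme.Hom.stalkMap_comp, CommRingCat.hom_comp] at h3
  exact Triage.CMMor.flat_of_comp _ _ (Flat.stalkMap m.left u) h3

/-- An open immersion deforms to an open immersion, once known to be a monomorphism. -/
theorem Datum.isOpenImmersion_of_mono [Mono f'] (hf : RepWith @IsOpenImmersion f) :
    RepWith @IsOpenImmersion f' := by
  have hr : Representable f' := (representable_iff_of_thick D.hX D.hX' D.hY D.hY' D.hiX D.hiY D.w).1 hf.rep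
  have he : LocP @Etale f' := (isEtaleMor_iff_locP D.hX' D.hY' f').1 (D.etale_iff.1
    (isEtaleMor_of_repWith (repWith_mono (fun _ _ k (_ : IsOpenImmersion k) => inferInstanceAs (Etale k)) _ hf)))
  have he' := repWith_of_locP D.hY' hr he
  have hm := AlgSpPts.repWith_monomorphisms_of_mono (f := f') hr
  refine repWith_mono (fun _ _ k hk => ?_) _ ((repWith_inf_iff f').2 ⟨he', hm⟩)
  have : Etale k := hk.1
  have : Mono k := hk.2
  exact Pi1X.isOpenImmersion_of_etale_universallyInjective k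

theorem Datum.isIso_of_mono [Mono f'] [IsIso f] : IsIso f' := by
  have ho : RepWith @IsOpenImmersion f' := D.isOpenImmersion_of_mono (repWith_of_isIso _ f)
  have hs : IsSurjectiveMor f' := (isSurjectiveMor_iff D.hX' D.hY' D.hiX D.hiY D.w).1 (fun y => by
    refine ⟨Points.map (inv f) y, ?_⟩
    rw [← Points.map_comp, IsIso.inv_hom_id, Points.map_id])
  have hs' := repWith_surjective_of_surjective ho.rep hs
  refine (repWith_isomorphisms_iff f').1 (repWith_mono (fun _ _ k hk => ?_) _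
    ((repWith_inf_iff f').2 ⟨ho, hs'⟩))
  exact (isIso_iff_isOpenImmersion_and_surjective k).mpr hk

theorem Datum.mono_lift [Mono f] : Mono f' := by
  let k := pullback.map f f f' f' iX iX iY D.w.symm D.w.symm
  let γ := pullback.fst f f ≫ f ≫ g
  let γ' := pullback.fst f' f' ≫ f' ≫ g'
  have wd : iX ≫ pullback.diagonal f' = pullback.diagonal f ≫ k := by
    apply pullback.hom_ext <;> simp [k]
  have hk : IsPullback k γ γ' iB := by
    refine IsPullback.paste_vert ?_ D.hcX
    exact isPullback_map_fst D.hc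
  have D' : Datum iX k iB (pullback.diagonal f) (pullback.diagonal f') γ γ' := {
    hX := D.hX
    hX' := D.hX'
    hY := isAlgSpace_pullback D.hX D.hX D.hY f f
    hY' := isAlgSpace_pullback D.hX' D.hX' D.hY' f' f'
    hB' := D.hB'
    hcX := by simpa [γ, γ'] using D.hcX
    hcY := hk
    w := wd
    hD := ⟨D.hD.1, D.hD.2.imp id fun h => ⟨?_, ?_⟩⟩
    hflat := by simpa [γ'] using D.hflat }
  · have : Mono (pullback.diagonal f') := inferInstance
    have : IsIso (pullback.diagonal f') := D'.isIso_of_mono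
    exact (pullback.isIso_diagonal_iff f').1 inferInstance
  · have hft : LocP @LocallyOfFiniteType f' := locP_mono (fun _ _ k (_ : LocallyOfFinitePresentation k) =>
      inferInstanceAs (LocallyOfFiniteType k)) (locP_lofp_of_comp D.hX' D.hY' D.hB' f' g' h.2 h.1)
    exact locP_comp (isAlgSpace_pullback D.hX' D.hX' D.hY' f' f') D.hX' D.hB'
      (locP_of_isPullback (IsPullback.of_hasPullback f' f').flip D.hX' D.hY' D.hX' hft)
      (locP_comp D.hX' D.hY' D.hB' hft h.1)
  · simpa [γ'] using h.2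

theorem Datum.mono_iff : Mono f ↔ Mono f' :=
  ⟨fun _ => D.mono_lift, fun h =>
    MorphismProperty.of_isPullback (P := MorphismProperty.monomorphisms (Sp S)) D.hc h⟩

theorem Datum.isOpenImmersion_iff : RepWith @IsOpenImmersion f ↔ RepWith @IsOpenImmersion f' := by
  refine ⟨fun hf => ?_, fun h => repWith_of_isPullback D.hc h⟩
  have : Mono f := AlgSpDec.mono_of_openImmersion hf
  have : Mono f' := D.mono_lift
  exact D.isOpenImmersion_of_mono hf

theorem Datum.isIso_iff : IsIso f ↔ IsIso f' := by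
  refine ⟨fun _ => ?_, fun h =>
    MorphismProperty.of_isPullback (P := MorphismProperty.isomorphisms (Sp S)) D.hc h⟩
  have : Mono f' := D.mono_lift
  exact D.isIso_of_mono

theorem Datum.finLocFree_lift (hf : IsFinLocFreeMor f) : IsFinLocFreeMor f' := by
  have h2 : RepWith @Flat f := repWith_mono (fun _ _ k hk => hk.2.1) _ hf
  have h3 : RepWith @LocallyOfFinitePresentation f := repWith_mono (fun _ _ k hk => hk.2.2) _ hf
  have hlfp := D.lfp_iff.1 (locP_of_repWith h3)
  have hfl := D.flat_iff.1 (locP_of_repWith h2)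
  have hfin := AlgSpDec.isFiniteMor_iff_repWith.1 ((ThickProps.isFiniteMor_iff_of_lft D.hX D.hX' D.hY D.hY'
    D.hiX D.hiY D.hc (locP_mono (fun _ _ k (_ : LocallyOfFinitePresentation k) =>
      inferInstanceAs (LocallyOfFiniteType k)) hlfp)).1
      (AlgSpDec.isFiniteMor_iff_repWith.2 (repWith_mono (fun _ _ k hk => hk.1) _ hf)))
  exact repWith_mono (P := @IsFinite ⊓ (@Flat ⊓ @LocallyOfFinitePresentation))
    (fun _ _ k hk => ⟨hk.1, hk.2.1, hk.2.2⟩) _ ((repWith_inf_iff f').2 ⟨hfin, (repWith_inf_iff f').2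
      ⟨repWith_of_locP D.hY' hfin.rep hfl, repWith_of_locP D.hY' hfin.rep hlfp⟩⟩)

theorem Datum.finLocFree_iff : IsFinLocFreeMor f ↔ IsFinLocFreeMor f' :=
  ⟨D.finLocFree_lift, fun h => repWith_of_isPullback D.hc h⟩

theorem Datum.finLocFreeOfDeg_iff (d : ℕ) : IsFinLocFreeOfDegMor d f ↔ IsFinLocFreeOfDegMor d f' := by
  refine ⟨fun hf => ?_, fun h => repWith_of_isPullback D.hc h⟩
  have hflf := D.finLocFree_lift (repWith_mono (fun _ _ k hk => hk.1) _ hf)
  refine ⟨hflf.rep, fun Z' D₁ gz fst snd sq => ⟨hflf.property gz fst snd sq, fun y => ?_⟩⟩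
  obtain ⟨h1', h2', -⟩ := hflf.property gz fst snd sq
  have h1 : IsFinite snd.left := h1'
  have h2 : Flat snd.left := h2'
  have hrY := D.hiY.rep
  let Z := hrY.pullback gz
  let c : Z ⟶ Z' := hrY.snd gz
  have sqg : IsPullback (hrY.fst gz) ((yon S).map c) iY gz := hrY.isPullback gz
  have hc : thick c.left := D.hiY.property_snd gz
  let T : Over S := Over.mk (pullback.fst snd.left c.left ≫ D₁.hom)
  let a₁ : T ⟶ D₁ := CategoryTheory.Over.homMk (pullback.fst _ _) rfl
  let a₂ : T ⟶ Z := CategoryTheory.Over.homMk (pullback.snd snd.left c.left) (by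
    show _ ≫ Z.hom = pullback.fst _ _ ≫ D₁.hom
    rw [← Over.w snd, ← Over.w c, ← Category.assoc, ← Category.assoc, pullback.condition])
  have sqa : IsPullback ((yon S).map a₁) ((yon S).map a₂) ((yon S).map snd) ((yon S).map c) :=
    (IsPullback.of_map (Over.forget S) (f := a₁) (g := a₂) (h := snd) (i := c)
      (Over.OverMorphism.ext pullback.condition) (IsPullback.of_hasPullback snd.left c.left)).map (yon S)
  have s1 : IsPullback ((yon S).map a₁ ≫ fst) ((yon S).map a₂) f' (hrY.fst gz ≫ iY) := by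
    rw [sqg.w]
    exact sqa.paste_horiz sq
  let l : (yon S).obj T ⟶ X := D.hc.lift ((yon S).map a₁ ≫ fst) ((yon S).map a₂ ≫ hrY.fst gz)
    (s1.w.trans (Category.assoc _ _ _).symm)
  have s2 : IsPullback l ((yon S).map a₂) f (hrY.fst gz) :=
    IsPullback.of_right (by rw [D.hc.lift_fst]; exact s1) (D.hc.lift_snd _ _ _) D.hc
  have hdeg := (hf.property _ _ _ s2).2
  obtain ⟨z, rfl⟩ := hc.2.surj y
  show Scheme.Hom.finrank snd.left (c.left z) = d
  rw [← Scheme.Hom.finrank_of_isPullback _ _ _ _ (IsPullback.of_hasPullback snd.left c.left) z]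
  exact hdeg z

end Groth.Agent.AlgSpLib.ThickFlat
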