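import Groth.Agent.AlgSpLib.ThickRep
import Groth.Agent.AlgSpPts.Sep
import Groth.Agent.ThickDeform.Basic
import Groth.Agent.MorLib.Thickening

/-!
# Separatedness of morphisms of thickenings
-/

set_option backward.isDefEq.respectTransparency false
set_option backward.isDefEq.respectTransparency.types false

universe u

open CategoryTheory CategoryTheory.Limits AlgebraicGeometry Opposite AlgSp Topology

namespace Groth.Agent.AlgSpLib

variable {S : Scheme.{u}} {X X' Y Y' : Sp S} {i : X ⟶ X'} {j : Y ⟶ Y'} {f : X ⟶ Y} {f' : X' ⟶ Y'}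

/-- The map of fibre squares of a morphism of thickenings is a thickening. -/
theorem isThickMor_pullback_map (hi : IsThickMor i) (hj : IsThickMor j) (w : i ≫ f' = f ≫ j) :
    IsThickMor (pullback.map f f f' f' i i j w.symm w.symm) := by
  have := mono_of_thick hj
  have hd : RepWith thick (pullback.map f f f' f' i i j w.symm w.symm) := by
    let m₁ : pullback f f ⟶ pullback (i ≫ f') f' := pullback.lift (pullback.fst f f) (pullback.snd f f ≫ i)
      (by rw [w, ← Category.assoc, pullback.condition, Category.assoc, Category.assoc, w])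
    let m₂ : pullback (i ≫ f') f' ⟶ pullback f' f' := pullback.lift (pullback.fst (i ≫ f') f' ≫ i) (pullback.snd _ _)
      (by rw [Category.assoc, pullback.condition])
    have hm : m₁ ≫ m₂ = pullback.map f f f' f' i i j w.symm w.symm := by
      apply pullback.hom_ext <;> simp [m₁, m₂]
    rw [← hm]
    refine repWith_comp (repWith_of_isPullback (fst := pullback.snd f f) (g := pullback.snd (i ≫ f') f') ?_ hi)
      (repWith_of_isPullback (fst := pullback.fst (i ≫ f') f') (g := pullback.fst f' f') ?_ hi)
    · refine ⟨⟨(pullback.lift_snd _ _ _).symm⟩, ⟨PullbackCone.IsLimit.mk _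
        (fun s => pullback.lift (s.snd ≫ pullback.fst (i ≫ f') f') s.fst (by
          rw [← cancel_mono j, Category.assoc, Category.assoc, Category.assoc, ← w, pullback.condition,
            ← Category.assoc, ← s.condition, Category.assoc]))
        (fun s => pullback.lift_snd _ _ _) (fun s => ?_) (fun s m h1 h2 => ?_)⟩⟩
      · apply pullback.hom_ext
        · rw [Category.assoc, pullback.lift_fst, pullback.lift_fst]
        · rw [Category.assoc, pullback.lift_snd, pullback.lift_snd_assoc, s.condition]
      · apply pullback.hom_ext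
        · rw [pullback.lift_fst, ← h2, Category.assoc, pullback.lift_fst]
        · rw [pullback.lift_snd, h1]
    · refine IsPullback.of_bot ?_ (pullback.lift_fst _ _ _).symm (IsPullback.of_hasPullback f' f')
      rw [pullback.lift_snd]
      exact IsPullback.of_hasPullback (i ≫ f') f'
  exact hd

/-- Chartwise comparison of the diagonals of a morphism of thickenings. -/
theorem exists_diag_compare (hi : IsThickMor i) (hj : IsThickMor j)
    (w : i ≫ f' = f ≫ j) {Z' D' : Over S} {g' : (yon S).obj Z' ⟶ pullback f' f'}
    {fst' : (yon S).obj D' ⟶ X'} {p' : D' ⟶ Z'}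
    (sq' : IsPullback fst' ((yon S).map p') (pullback.diagonal f') g') :
    ∃ (Z D : Over S) (c : Z ⟶ Z') (t : D ⟶ D') (p : D ⟶ Z) (g : (yon S).obj Z ⟶ pullback f f)
      (fst : (yon S).obj D ⟶ X), thick c.left ∧ thick t.left ∧ t.left ≫ p'.left = p.left ≫ c.left ∧
      IsPullback fst ((yon S).map p) (pullback.diagonal f) g := by
  let k := pullback.map f f f' f' i i j w.symm w.symm
  have hk : IsThickMor k := isThickMor_pullback_map hi hj w
  have wd : i ≫ pullback.diagonal f' = pullback.diagonal f ≫ k := by
    apply pullback.hom_ext <;> simp [k]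
  let Z := hk.rep.pullback g'
  let c : Z ⟶ Z' := hk.rep.snd g'
  let g := hk.rep.fst g'
  have sqg : IsPullback g ((yon S).map c) k g' := hk.rep.isPullback g'
  let V'' : Over S := Over.mk (pullback.fst p'.left c.left ≫ D'.hom)
  let a₁ : V'' ⟶ D' := CategoryTheory.Over.homMk (pullback.fst _ _) rfl
  let a₂ : V'' ⟶ Z := CategoryTheory.Over.homMk (pullback.snd p'.left c.left) (by
    show _ ≫ Z.hom = pullback.fst _ _ ≫ D'.hom
    rw [← Over.w p', ← Over.w c, ← Category.assoc, ← Category.assoc, pullback.condition])
  have sqa : IsPullback ((yon S).map a₁) ((yon S).map a₂) ((yon S).map p') ((yon S).map c) :=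
    (IsPullback.of_map (Over.forget S) (f := a₁) (g := a₂) (h := p') (i := c)
      (Over.OverMorphism.ext pullback.condition) (IsPullback.of_hasPullback p'.left c.left)).map (yon S)
  have sq'' : IsPullback ((yon S).map a₁ ≫ fst') ((yon S).map a₂) (pullback.diagonal f') (g ≫ k) := by
    rw [sqg.w]
    exact sqa.paste_horiz sq'
  obtain ⟨V, t, fst, ht, sq⟩ := exists_thick_down hi hk wd g sq''
  have hc : thick c.left := hk.property_snd g'
  refine ⟨Z, V, c, t ≫ a₁, t ≫ a₂, g, fst, hc, ?_, ?_, sq⟩
  · exact thick.comp_mem _ _ ht (MorphismProperty.pullback_fst _ _ hc)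
  · simp only [Over.comp_left, Category.assoc]
    exact congrArg (t.left ≫ ·) pullback.condition

theorem isSeparatedMor_iff_of_thick (hX : IsAlgSpace X) (hX' : IsAlgSpace X') (hY : IsAlgSpace Y)
    (hY' : IsAlgSpace Y') (hi : IsThickMor i) (hj : IsThickMor j) (w : i ≫ f' = f ≫ j) :
    IsSeparatedMor f ↔ IsSeparatedMor f' := by
  constructor
  · intro hf
    obtain ⟨hr', hl', -, -, hm'⟩ := AlgSpPts.diagonal_package hX' hY' f'
    refine ⟨hr', fun Z' D' g' fst' p' sq' => ?_⟩
    obtain ⟨Z, D, c, t, p, g, fst, hc, ht, wl, sq⟩ := exists_diag_compare hi hj w sq'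
    have : IsClosedImmersion p.left := hf.property g fst p sq
    have : Mono p'.left := hm'.property g' fst' p' sq'
    have : LocallyOfFiniteType p'.left := hl'.property g' fst' p' sq'
    have : QuasiCompact p'.left := (MorLib.thickening_quasiCompact_iff ht hc wl).1 inferInstance
    have : UniversallyClosed p'.left := (MorLib.thickening_universallyClosed_iff ht hc wl).1 inferInstance
    have : IsProper p'.left := {}
    exact (IsClosedImmersion.iff_isProper_and_mono p'.left).2 ⟨inferInstance, inferInstance⟩
  · intro hf'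
    have hk := isThickMor_pullback_map hi hj w
    obtain ⟨hr, -, -, -, -⟩ := AlgSpPts.diagonal_package hX hY f
    refine ⟨hr, fun Z D g fst p sq => ?_⟩
    let k := pullback.map f f f' f' i i j w.symm w.symm
    have wd : i ≫ pullback.diagonal f' = pullback.diagonal f ≫ k := by
      apply pullback.hom_ext <;> simp [k]
    obtain ⟨D', fst', p', sq'⟩ : ∃ (D' : Over S) (fst' : (yon S).obj D' ⟶ X') (p' : D' ⟶ Z),
        IsPullback fst' ((yon S).map p') (pullback.diagonal f') (g ≫ k) :=
      ⟨_, _, _, hf'.rep.isPullback (g ≫ k)⟩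
    obtain ⟨V, t, fst₂, ht, sq₂⟩ := exists_thick_down hi hk wd g sq'
    let e := (yon S).preimageIso (sq.isoIsPullback _ _ sq₂)
    have he : e.hom ≫ t ≫ p' = p := (yon S).map_injective (by
      rw [Functor.map_comp]
      simp only [e, Functor.preimageIso_hom, Functor.map_preimage]
      exact sq.isoIsPullback_hom_snd _ _ sq₂)
    have : IsClosedImmersion p'.left := hf'.property _ _ _ sq'
    have : IsClosedImmersion t.left := ht.1
    show IsClosedImmersion p.left
    rw [← he]
    exact inferInstanceAs (IsClosedImmersion (e.hom.left ≫ t.left ≫ p'.left))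

theorem isQuasiSeparatedMor_iff_of_thick (hX : IsAlgSpace X) (hX' : IsAlgSpace X') (hY : IsAlgSpace Y)
    (hY' : IsAlgSpace Y') (hi : IsThickMor i) (hj : IsThickMor j) (w : i ≫ f' = f ≫ j) :
    IsQuasiSeparatedMor f ↔ IsQuasiSeparatedMor f' := by
  constructor
  · intro hf
    obtain ⟨hr', -, -, -, -⟩ := AlgSpPts.diagonal_package hX' hY' f'
    refine ⟨hr', fun Z' D' g' fst' p' sq' => ?_⟩
    obtain ⟨Z, D, c, t, p, g, fst, hc, ht, wl, sq⟩ := exists_diag_compare hi hj w sq'
    have : QuasiCompact p.left := hf.property g fst p sq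
    exact (MorLib.thickening_quasiCompact_iff ht hc wl).1 inferInstance
  · intro hf'
    have hk := isThickMor_pullback_map hi hj w
    obtain ⟨hr, -, -, -, -⟩ := AlgSpPts.diagonal_package hX hY f
    refine ⟨hr, fun Z D g fst p sq => ?_⟩
    let k := pullback.map f f f' f' i i j w.symm w.symm
    have wd : i ≫ pullback.diagonal f' = pullback.diagonal f ≫ k := by
      apply pullback.hom_ext <;> simp [k]
    obtain ⟨D', fst', p', sq'⟩ : ∃ (D' : Over S) (fst' : (yon S).obj D' ⟶ X') (p' : D' ⟶ Z),
        IsPullback fst' ((yon S).map p') (pullback.diagonal f') (g ≫ k) :=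
      ⟨_, _, _, hf'.rep.isPullback (g ≫ k)⟩
    obtain ⟨V, t, fst₂, ht, sq₂⟩ := exists_thick_down hi hk wd g sq'
    let e := (yon S).preimageIso (sq.isoIsPullback _ _ sq₂)
    have he : e.hom ≫ t ≫ p' = p := (yon S).map_injective (by
      rw [Functor.map_comp]
      simp only [e, Functor.preimageIso_hom, Functor.map_preimage]
      exact sq.isoIsPullback_hom_snd _ _ sq₂)
    have : QuasiCompact p'.left := hf'.property _ _ _ sq'
    have : IsClosedImmersion t.left := ht.1
    show QuasiCompact p.left
    rw [← he]
    exact inferInstanceAs (QuasiCompact (e.hom.left ≫ t.left ≫ p'.left))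

end Groth.Agent.AlgSpLib
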