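import Groth.Agent.AlgSpLib.ThickCart
import Groth.Agent.AlgSpLib.ThickRep
import Groth.Agent.AlgSpLib.ThickSep
import Groth.Agent.AlgSpLib.ThickMor
import Groth.Agent.AlgSpLib.EtLocalInst
import Groth.Agent.AlgSpLib.ImmDesc
import Groth.Agent.AlgSpDec.AffineLocal
import Groth.Agent.AlgSpDec.AffineRep
import Groth.Agent.AlgSpDec.RelDimSp
import Groth.Agent.EtFound.Descent
import Groth.Prelude.Def_AlgSp4

/-!
# Properties of cartesian morphisms of thickenings
-/

set_option backward.isDefEq.respectTransparency false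
set_option backward.isDefEq.respectTransparency.types false

universe u

open CategoryTheory CategoryTheory.Limits AlgebraicGeometry Opposite AlgSp Topology

namespace Groth.Agent.AlgSpLib.ThickProps

open ThickCart

variable {S : Scheme.{u}} {X X' Y Y' : Sp S} {i : X ⟶ X'} {j : Y ⟶ Y'} {f : X ⟶ Y} {f' : X' ⟶ Y'}

theorem locP_cart_down {P : MorphismProperty Scheme.{u}} [IsEtLocal P] (hX' : IsAlgSpace X') (hY : IsAlgSpace Y)
    (hY' : IsAlgSpace Y') (hc : IsPullback i f f' j) (hf' : LocP P f') : LocP P f :=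
  locP_of_isPullback hc hX' hY' hY hf'

theorem lft_iff (hX' : IsAlgSpace X') (hY : IsAlgSpace Y) (hY' : IsAlgSpace Y') (hi : IsFinThickMor i)
    (hj : IsThickMor j) (hc : IsPullback i f f' j) :
    LocP @LocallyOfFiniteType f ↔ LocP @LocallyOfFiniteType f' := by
  have hi' : IsThickMor i := hi.elim fun _ h => h.1
  refine ⟨fun hf => locP_lift hX' hY' hi' hj hc hf fun a' b' h' a iU jV h ha _ _ hjV sqU sq hh => ?_,
    locP_cart_down hX' hY hY' hc⟩
  have : LocallyOfFiniteType h.left := hh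
  exact ThickFactor.locallyOfFiniteType_lift hjV sq (isFiniteOrder_chart hi ha sqU).2

theorem lqf_iff_of_lft (hX' : IsAlgSpace X') (hY : IsAlgSpace Y) (hY' : IsAlgSpace Y') (hi : IsThickMor i)
    (hj : IsThickMor j) (hc : IsPullback i f f' j) (hft' : LocP @LocallyOfFiniteType f') :
    LocP (@LocallyQuasiFinite ⊓ @LocallyOfFiniteType) f ↔ LocP (@LocallyQuasiFinite ⊓ @LocallyOfFiniteType) f' := by
  refine ⟨fun hf => locP_lift hX' hY' hi hj hc hf fun a' b' h' a iU jV h ha hb w hjV _ sq hh => ?_,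
    locP_cart_down hX' hY hY' hc⟩
  have : LocallyOfFiniteType h'.left := hft' a' b' h' ha hb w
  have : LocallyQuasiFinite h.left := hh.1
  exact ⟨ThickFactor.locallyQuasiFinite_lift hjV sq, inferInstance⟩

theorem unram_iff_of_lft (hX' : IsAlgSpace X') (hY : IsAlgSpace Y) (hY' : IsAlgSpace Y') (hi : IsThickMor i)
    (hj : IsThickMor j) (hc : IsPullback i f f' j) (hft' : LocP @LocallyOfFiniteType f') :
    LocP (@LocallyOfFiniteType ⊓ @FormallyUnramified) f ↔
      LocP (@LocallyOfFiniteType ⊓ @FormallyUnramified) f' := by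
  refine ⟨fun hf => locP_lift hX' hY' hi hj hc hf fun a' b' h' a iU jV h ha hb w hjV _ sq hh => ?_,
    locP_cart_down hX' hY hY' hc⟩
  have : LocallyOfFiniteType h'.left := hft' a' b' h' ha hb w
  have : FormallyUnramified h.left := hh.2
  exact ⟨‹_›, ThickDeform.formallyUnramified_lift hjV sq⟩

theorem relDim_iff_of_lft (hX : IsAlgSpace X) (hX' : IsAlgSpace X') (hY : IsAlgSpace Y) (hY' : IsAlgSpace Y')
    (hi : IsThickMor i) (hj : IsThickMor j) (hc : IsPullback i f f' j) (hft' : LocP @LocallyOfFiniteType f')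
    (d : WithBot ℕ∞) :
    (∀ x, HasAtMor (fun _ _ h u => FlatMor.fibreDimAt h u = d) f x) ↔
      ∀ x', HasAtMor (fun _ _ h u => FlatMor.fibreDimAt h u = d) f' x' := by
  refine ⟨fun H x' => ?_, fun H x => AlgSpDec.RelDimSp.baseChange hc hX' hY' hY hft' x d (H _)⟩
  have hft : LocP @LocallyOfFiniteType f := locP_cart_down hX' hY hY' hc hft'
  obtain ⟨U', V', a', b', h', ha, ha', hb, -, w⟩ := exists_chart hX' hY' f'
  obtain ⟨u', rfl⟩ := surjective_ofPt ha' x'
  obtain ⟨U, V, a, b, iU, jV, h, hjV, hiU, sq, sqU, sqV, w', -⟩ := exists_cart_chart hi hj hc w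
  obtain ⟨u, rfl⟩ := hiU.2.surj u'
  refine ⟨U', V', a', b', h', iU.left u, ha, hb, w, rfl, ?_⟩
  have : LocallyOfFiniteType h'.left := hft' a' b' h' ha hb w
  show FlatMor.fibreDimAt h'.left (iU.left u) = d
  rw [ThickFactor.fibreDimAt_eq hjV sq u]
  obtain ⟨U₀, V₀, a₀, b₀, h₀, u₀, ha₀, hb₀, w₀, hx, hu⟩ := H (Points.ofPt a u)
  rw [← hu]
  exact AlgSpDec.RelDimSp.fibreDimAt_congr hft (repWith_of_isPullback sqU.flip ha)
    (repWith_of_isPullback sqV.flip hb) w' ha₀ hb₀ w₀ hx.symm

/-- Lifting a property of representable morphisms to an atlas of the thickened target. -/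
theorem exists_atlas_lift {P P' : MorphismProperty Scheme.{u}} [P.IsStableUnderBaseChange]
    [P'.IsStableUnderBaseChange] (hX : IsAlgSpace X) (hX' : IsAlgSpace X') (hY : IsAlgSpace Y) (hY' : IsAlgSpace Y')
    (hi : IsThickMor i) (hj : IsThickMor j) (hc : IsPullback i f f' j) (hft' : LocP @LocallyOfFiniteType f')
    (hf : RepWith P f)
    (H : ∀ {U V U' V' : Scheme.{u}} (iU : U ⟶ U') (jV : V ⟶ V') (h : U ⟶ V) (h' : U' ⟶ V'),
      MoreMor.IsThickening jV → IsPullback iU h h' jV → LocallyOfFiniteType h' → P h → P' h') :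
    ∃ (V' : Over S) (b' : (yon S).obj V' ⟶ Y') (U' : Over S) (a' : (yon S).obj U' ⟶ X') (h' : U' ⟶ V'),
      RepWith @Etale b' ∧ RepWith @Surjective b' ∧ IsPullback a' ((yon S).map h') f' b' ∧
      RepWith P' ((yon S).map h') := by
  have hr' : Representable f' := (representable_iff_of_thick hX hX' hY hY' hi hj hc.w).1 hf.rep
  obtain ⟨V', b', hb, hb'⟩ := hY'.atlas
  have sq' := hr'.isPullback b'
  obtain ⟨U, V, a, b, iU, jV, h, hjV, -, sq, sqU, sqV, w, hfull⟩ := exists_cart_chart hi hj hc sq'.w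
  refine ⟨V', b', _, _, hr'.snd b', hb, hb', sq', (repWith_yon_map_iff _ _).2 ?_⟩
  refine H iU.left jV.left h.left _ hjV sq ?_ (hf.property b a h (hfull sq'))
  exact hft' _ b' _ (repWith_of_isPullback sq'.flip hb) hb sq'.w

theorem isClosedImmersion_iff_of_lft (hX : IsAlgSpace X) (hX' : IsAlgSpace X') (hY : IsAlgSpace Y)
    (hY' : IsAlgSpace Y') (hi : IsThickMor i) (hj : IsThickMor j) (hc : IsPullback i f f' j)
    (hft' : LocP @LocallyOfFiniteType f') :
    RepWith @IsClosedImmersion f ↔ RepWith @IsClosedImmersion f' := by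
  refine ⟨fun hf => ?_, fun hf' => repWith_of_isPullback hc hf'⟩
  obtain ⟨V', b', U', a', h', hb, hb', sq, hh⟩ := exists_atlas_lift (P' := @IsClosedImmersion) hX hX' hY hY' hi
    hj hc hft' hf fun iU jV h h' hjV sq _ (_ : IsClosedImmersion h) => ThickDeform.isClosedImmersion_lift hjV sq
  have := EtFound.fpqc_isClosedImmersion.{u}
  exact AlgSpDec.repWith_of_etale_cover (fun _ _ e (_ : IsClosedImmersion e) => inferInstanceAs (IsAffineHom e))
    hb hb' sq hh

theorem isFiniteMor_iff_of_lft (hX : IsAlgSpace X) (hX' : IsAlgSpace X') (hY : IsAlgSpace Y)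
    (hY' : IsAlgSpace Y') (hi : IsThickMor i) (hj : IsThickMor j) (hc : IsPullback i f f' j)
    (hft' : LocP @LocallyOfFiniteType f') : IsFiniteMor f ↔ IsFiniteMor f' := by
  rw [AlgSpDec.isFiniteMor_iff_repWith, AlgSpDec.isFiniteMor_iff_repWith]
  refine ⟨fun hf => ?_, fun hf' => repWith_of_isPullback hc hf'⟩
  obtain ⟨V', b', U', a', h', hb, hb', sq, hh⟩ := exists_atlas_lift (P' := @IsFinite) hX hX' hY hY' hi
    hj hc hft' hf fun iU jV h h' hjV sq _ (_ : IsFinite h) => ThickFactor.isFinite_lift hjV sq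
  have := EtFound.fpqc_isFinite.{u}
  exact AlgSpDec.repWith_of_etale_cover (fun _ _ e (_ : IsFinite e) => inferInstanceAs (IsAffineHom e))
    hb hb' sq hh

theorem isImmersion_iff_of_lft (hX : IsAlgSpace X) (hX' : IsAlgSpace X') (hY : IsAlgSpace Y)
    (hY' : IsAlgSpace Y') (hi : IsThickMor i) (hj : IsThickMor j) (hc : IsPullback i f f' j)
    (hft' : LocP @LocallyOfFiniteType f') : RepWith @IsImmersion f ↔ RepWith @IsImmersion f' := by
  refine ⟨fun hf => ?_, fun hf' => repWith_of_isPullback hc hf'⟩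
  obtain ⟨V', b', U', a', h', hb, hb', sq, hh⟩ := exists_atlas_lift (P' := @IsImmersion) hX hX' hY hY' hi
    hj hc hft' hf fun iU jV h h' hjV sq _ (_ : IsImmersion h) => ThickDeform.isImmersion_lift hjV sq
  refine repWith_isImmersion_of_fppf_cover (repWith_mono (P := @Etale ⊓ @Surjective) (fun _ _ k hk => ?_) _
    ((repWith_inf_iff b').2 ⟨hb, hb'⟩)) sq hh
  have : Etale k := hk.1
  have : Surjective k := hk.2
  exact fppf_of_etale k

theorem isProperMor_iff_of_lft (hX : IsAlgSpace X) (hX' : IsAlgSpace X') (hY : IsAlgSpace Y)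
    (hY' : IsAlgSpace Y') (hi : IsThickMor i) (hj : IsThickMor j) (hc : IsPullback i f f' j)
    (hft' : LocP @LocallyOfFiniteType f') : IsProperMor f ↔ IsProperMor f' := by
  have hft : LocP @LocallyOfFiniteType f := locP_cart_down hX' hY hY' hc hft'
  refine and_congr (isSeparatedMor_iff_of_thick hX hX' hY hY' hi hj hc.w)
    (and_congr (and_congr (iff_of_true hft hft') (isQuasiCompactMor_iff hX hX' hY hY' hi hj hc.w)) ?_)
  exact univSp_iff homeoInvariant_isClosedMap hX' hY hY' hi hj hc.w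

end Groth.Agent.AlgSpLib.ThickProps
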