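import Groth.Prelude.Def_AlgSpInf
import Groth.Agent.AlgSpLib.LargestOpen
import Groth.Agent.AlgSpPts.OpenSub
import Groth.Agent.AlgSpPts.Sep

/-!
# Thickenings are homeomorphisms on points; open subspaces of thickenings
-/

set_option backward.isDefEq.respectTransparency false
set_option backward.isDefEq.respectTransparency.types false

universe u

open CategoryTheory CategoryTheory.Limits AlgebraicGeometry Opposite AlgSp Topology

namespace Groth.Agent.AlgSpLib

variable {S : Scheme.{u}}

theorem mono_of_thick {X X' : Sp S} {i : X ⟶ X'} (hi : IsThickMor i) : Mono i :=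
  AlgSpPts.mono_of_repWith (repWith_mono (P := thick) (fun _ _ h hh => by
    have : IsClosedImmersion h := hh.1
    exact inferInstanceAs (Mono h)) _ hi)

/-- A thickening is a homeomorphism on points. -/
theorem isHomeomorph_map_of_thick {X X' : Sp S} (hX' : IsAlgSpace X') {i : X ⟶ X'} (hi : IsThickMor i) :
    IsHomeomorph (Points.map i) := by
  have := mono_of_thick hi
  have hs : Function.Surjective (Points.map i) :=
    surjective_map_of_repWith (repWith_mono (P := thick) (fun _ _ h hh => hh.2) _ hi)
  refine ⟨Points.continuous_map i, fun A hA => ?_, ⟨fun a b hab => ?_, hs⟩⟩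
  · obtain ⟨V, p, hp, hps⟩ := hX'.atlas
    refine (isOpen_iff_chart hp hps).2 ?_
    let hr := hi.rep
    have : IsClosedImmersion (hr.snd p).left := (hi.property_snd p).1
    have : Surjective (hr.snd p).left := (hi.property_snd p).2
    have heq : Points.ofPt p ⁻¹' (Points.map i '' A) =
        (hr.snd p).left '' (Points.ofPt (hr.fst p) ⁻¹' A) := by
      ext v
      constructor
      · rintro ⟨x, hx, hxv⟩
        rw [Points.ofPt_eq_map_ofScheme] at hxv
        obtain ⟨z, hz₁, hz₂⟩ := exists_point_of_isPullback (hr.isPullback p) hxv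
        refine ⟨Points.toScheme _ z, ?_, ?_⟩
        · rw [Set.mem_preimage, Points.ofPt_eq_map_ofScheme, Points.ofScheme_toScheme, hz₁]
          exact hx
        · rw [← Points.ofScheme_toScheme _ z, Points.map_ofPt, Category.id_comp] at hz₂
          exact ((Points.toScheme_ofPt _ _).symm.trans (congrArg (Points.toScheme V) hz₂)).trans
            (Points.toScheme_ofScheme V v)
      · rintro ⟨w, hw, rfl⟩
        exact ⟨_, hw, by rw [Points.map_ofPt, hr.w p, ofPt_comp]⟩
    rw [heq]
    have hh : IsHomeomorph (hr.snd p).left :=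
      ⟨(hr.snd p).left.continuous,
        IsOpenMap.of_inverse (f := (hr.snd p).left)
          (f' := (Equiv.ofBijective _ ⟨(hr.snd p).left.isClosedEmbedding.injective,
            (hr.snd p).left.surjective⟩).symm) (by
            rw [continuous_iff_isClosed]
            intro B hB
            rw [← Equiv.image_eq_preimage_symm]
            exact (hr.snd p).left.isClosedEmbedding.isClosedMap B hB)
          (fun y => Equiv.ofBijective_apply_symm_apply _ _ y)
          (fun y => Equiv.ofBijective_symm_apply_apply _ _ y),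
        ⟨(hr.snd p).left.isClosedEmbedding.injective, (hr.snd p).left.surjective⟩⟩
    exact hh.isOpenMap _ (hA.preimage (Points.continuous_ofPt _))
  · obtain ⟨z, h1, h2⟩ := exists_point_of_isPullback (IsKernelPair.id_of_mono i) hab
    rw [← h1, h2]

/-- Open subspaces of a thickened space are those of the thickening. -/
theorem exists_open_thickening {X X' U : Sp S} (hX : IsAlgSpace X) (hX' : IsAlgSpace X') (hU : IsAlgSpace U)
    {i : X ⟶ X'} (hi : IsThickMor i) {u : U ⟶ X} (hu : RepWith @IsOpenImmersion u) :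
    ∃ (U' : Sp S) (u' : U' ⟶ X') (k : U ⟶ U'), IsAlgSpace U' ∧
      RepWith @IsOpenImmersion u' ∧ IsPullback u k i u' := by
  have h := isHomeomorph_map_of_thick hX' hi
  have hWo : IsOpen (Set.range (Points.map u)) := by
    have := mono_of_thick hi
    obtain ⟨V, p, hp, hps⟩ := hX.atlas
    refine (isOpen_iff_chart hp hps).2 ?_
    have : IsOpenImmersion (hu.rep.snd p).left := hu.property_snd p
    convert (hu.rep.snd p).left.opensRange.isOpen using 1
    ext v
    constructor
    · rintro ⟨x, hx⟩
      rw [Points.ofPt_eq_map_ofScheme] at hx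
      obtain ⟨z, -, hz⟩ := exists_point_of_isPullback (hu.rep.isPullback p) hx
      refine ⟨Points.toScheme _ z, ?_⟩
      rw [← Points.ofScheme_toScheme _ z, Points.map_ofPt, Category.id_comp] at hz
      exact ((Points.toScheme_ofPt _ _).symm.trans (congrArg (Points.toScheme V) hz)).trans
        (Points.toScheme_ofScheme V v)
    · rintro ⟨w, rfl⟩
      exact ⟨Points.ofPt (hu.rep.fst p) w, by rw [Points.map_ofPt, hu.rep.w p, ofPt_comp]⟩
  obtain ⟨U', u', hU', hu', hr⟩ := AlgSpPts.exists_open_subspace hX' (h.isOpenMap _ hWo)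
  obtain ⟨k, hk⟩ := exists_lift_openImmersion hU hU' hX' hu' (u ≫ i) (by
    rintro _ ⟨z, rfl⟩
    rw [hr, Points.map_comp]
    exact ⟨_, ⟨z, rfl⟩, rfl⟩)
  refine ⟨U', u', k, hU', hu', ?_⟩
  have hp : RepWith @IsOpenImmersion (pullback.fst i u') := repWith_fst i hu'
  have hP : IsAlgSpace (pullback i u') := isAlgSpace_pullback hX hU' hX' i u'
  have := AlgSpDec.mono_of_openImmersion hp
  have := AlgSpDec.mono_of_openImmersion hu
  obtain ⟨l, hl⟩ := exists_lift_openImmersion hP hU hX hu (pullback.fst i u') (by
    rw [range_map_snd_of_isPullback (IsPullback.of_hasPullback i u').flip, hr,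
      Set.preimage_image_eq _ h.bijective.1])
  let l' : U ⟶ pullback i u' := pullback.lift u k hk.symm
  have h1 : l' ≫ pullback.fst i u' = u := pullback.lift_fst _ _ _
  let e : pullback i u' ≅ U := ⟨l, l',
    by rw [← cancel_mono (pullback.fst i u'), Category.assoc, h1, hl, Category.id_comp],
    by rw [← cancel_mono u, Category.assoc, hl, h1, Category.id_comp]⟩
  refine (IsPullback.of_hasPullback i u').of_iso e (Iso.refl _) (Iso.refl _) (Iso.refl _) ?_ ?_ (by simp) (by simp)
  · rw [Iso.refl_hom, Category.comp_id]; exact hl.symm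
  · rw [Iso.refl_hom, Category.comp_id]
    have := AlgSpDec.mono_of_openImmersion hu'
    rw [← cancel_mono u', Category.assoc, hk, ← pullback.condition, ← Category.assoc, hl]

/-- Two such open subspaces are isomorphic. -/
theorem exists_iso_open_thickening {X X' U U₁ U₂ : Sp S} (hX' : IsAlgSpace X') (hU₁ : IsAlgSpace U₁)
    (hU₂ : IsAlgSpace U₂) {i : X ⟶ X'} (hi : IsThickMor i) {u : U ⟶ X} {u₁ : U₁ ⟶ X'} {u₂ : U₂ ⟶ X'}
    {k₁ : U ⟶ U₁} {k₂ : U ⟶ U₂} (h₁ : RepWith @IsOpenImmersion u₁) (s₁ : IsPullback u k₁ i u₁)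
    (h₂ : RepWith @IsOpenImmersion u₂) (s₂ : IsPullback u k₂ i u₂) :
    ∃ e : U₁ ≅ U₂, e.hom ≫ u₂ = u₁ := by
  have hs := (isHomeomorph_map_of_thick hX' hi).bijective.2
  have key : Set.range (Points.map u₁) = Set.range (Points.map u₂) := hs.preimage_injective
    ((range_map_snd_of_isPullback s₁.flip).symm.trans (range_map_snd_of_isPullback s₂.flip))
  obtain ⟨a, ha⟩ := exists_lift_openImmersion hU₁ hU₂ hX' h₂ u₁ key.subset
  obtain ⟨b, hb⟩ := exists_lift_openImmersion hU₂ hU₁ hX' h₁ u₂ key.symm.subset
  have := AlgSpDec.mono_of_openImmersion h₁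
  have := AlgSpDec.mono_of_openImmersion h₂
  exact ⟨⟨a, b, by rw [← cancel_mono u₁, Category.assoc, hb, ha, Category.id_comp],
    by rw [← cancel_mono u₂, Category.assoc, ha, hb, Category.id_comp]⟩, ha⟩

end Groth.Agent.AlgSpLib
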