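import Groth.Agent.AlgSpLib.EtTopInv
import Groth.Agent.AlgSpDec.RelNorm.GlueHom
import Groth.Agent.AlgSpDec.LqfQuot
import Groth.Agent.AlgSpLib.EtLocalInst
import Groth.Agent.EtFound.IntegralSplit
import Groth.Agent.AlgSpPts.Quot
import Groth.Agent.AlgSpPts.Misc

/-!
# Etale spaces do not see universal homeomorphisms

For an integral universally injective surjective `f : X ⟶ Y`, base change of etale spaces is fully
faithful and essentially surjective.
-/

set_option autoImplicit false
set_option backward.isDefEq.respectTransparency false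
set_option backward.isDefEq.respectTransparency.types false

universe u

open CategoryTheory CategoryTheory.Limits AlgebraicGeometry Opposite AlgSp
open Groth.Agent.AlgSpPts Groth.Agent.AlgSpDec

namespace Groth.Agent.AlgSpLib.UHDesc

variable {S : Scheme.{u}} {X Y E B : Sp S}

/-- Representable, integral, universally injective and surjective. -/
structure IsUH (f : X ⟶ Y) : Prop where
  integral : RepWith @IsIntegralHom f
  inj : RepWith @UniversallyInjective f
  surj : RepWith @Surjective f

theorem IsUH.rep {f : X ⟶ Y} (hf : IsUH f) : Representable f := hf.integral.rep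

theorem IsUH.of_isPullback {P Z : Sp S} {fst : P ⟶ X} {snd : P ⟶ Z} {f : X ⟶ Y} {g : Z ⟶ Y}
    (sq : IsPullback fst snd f g) (hf : IsUH f) : IsUH snd :=
  ⟨repWith_of_isPullback sq hf.integral, repWith_of_isPullback sq hf.inj, repWith_of_isPullback sq hf.surj⟩

/-- The diagonal of an etale morphism of spaces is an open immersion. -/
theorem repWith_openImmersion_diagonal (hE : IsAlgSpace E) (hB : IsAlgSpace B) {a : E ⟶ B}
    (ha : IsEtaleMor a) : RepWith @IsOpenImmersion (pullback.diagonal a) := by
  have hP := isAlgSpace_pullback hE hE hB a a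
  have he := (isEtaleMor_iff_locP hE hB _).1 ha
  refine repWith_isOpenImmersion_of_mono_of_etale hE hP _ (locP_of_comp' (Q := @Etale) (fun f g hfg hg => ?_) hE
    (g := pullback.fst a a) (by rw [pullback.diagonal_fst]; exact locP_id _)
    (locP_of_isPullback (IsPullback.of_hasPullback a a).flip hE hB hE he))
  have : Etale (f ≫ g) := hfg
  have : Etale g := hg
  exact Etale.of_comp f g

/-- Sections of an etale space are determined after a surjective base change. -/
theorem lift_unique (hE : IsAlgSpace E) (hB : IsAlgSpace B) {a : E ⟶ B} (ha : IsEtaleMor a)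
    {T Z : Over S} (c : Z ⟶ T) [Surjective c.left] {σ σ' : (yon S).obj T ⟶ E} (h : σ ≫ a = σ' ≫ a)
    (h' : (yon S).map c ≫ σ = (yon S).map c ≫ σ') : σ = σ' := by
  have hd := repWith_openImmersion_diagonal hE hB ha
  let z : (yon S).obj T ⟶ pullback a a := pullback.lift σ σ' h
  let i : hd.rep.pullback z ⟶ T := hd.rep.snd z
  let k : Z ⟶ hd.rep.pullback z := hd.rep.lift ((yon S).map c ≫ σ) c (by
    apply pullback.hom_ext <;> simp [z, h'])
  have hk : k ≫ i = c := hd.rep.lift_snd _ _ _
  have : IsOpenImmersion i.left := hd.property_snd z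
  have : Surjective i.left := ⟨fun t => by
    obtain ⟨v, hv⟩ := c.left.surjective t
    exact ⟨k.left v, by rw [← Scheme.Hom.comp_apply, ← Over.comp_left, hk]; exact hv⟩⟩
  have hi : IsIso i.left := (isIso_iff_isOpenImmersion_and_surjective _).2 ⟨inferInstance, inferInstance⟩
  have : IsIso ((Over.forget S).map i) := hi
  have : IsIso i := isIso_of_reflects_iso i (Over.forget S)
  have w := hd.rep.w z
  have e1 := w =≫ pullback.fst a a
  have e2 := w =≫ pullback.snd a a
  simp only [Category.assoc, pullback.diagonal_fst, pullback.diagonal_snd, Category.comp_id, z,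
    pullback.lift_fst, pullback.lift_snd] at e1 e2
  exact (cancel_epi ((yon S).map i)).1 (e1.symm.trans e2)

/-- Sections of an etale space extend along universal homeomorphisms. -/
theorem exists_lift (hE : IsAlgSpace E) (hB : IsAlgSpace B) {a : E ⟶ B} (ha : IsEtaleMor a) {T Z : Over S}
    (c : Z ⟶ T) [IsIntegralHom c.left] [UniversallyInjective c.left] [Surjective c.left]
    (x : (yon S).obj T ⟶ B) (k : (yon S).obj Z ⟶ E) (hk : k ≫ a = (yon S).map c ≫ x) :
    ∃ σ, σ ≫ a = x ∧ (yon S).map c ≫ σ = k := by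
  obtain ⟨U₀, q, hq, hqs⟩ := hE.atlas
  let P := hq.rep.pullback k
  let p : P ⟶ Z := hq.rep.snd k
  let p₀ : P ⟶ U₀ := hq.rep.fst' k
  have sqP : IsPullback ((yon S).map p₀) ((yon S).map p) q k := hq.rep.isPullback' k
  have : Etale p.left := hq.property _ _ _ sqP
  have : Surjective p.left := hqs.property _ _ _ sqP
  have hqa : RepWith @Etale (q ≫ a) := ha q hq
  have key : ∀ t : ↥T.left, ∃ (V : Over S) (v : V ⟶ T) (σ : (yon S).obj V ⟶ E), Etale v.left ∧
      (∃ w, v.left w = t) ∧ σ ≫ a = (yon S).map v ≫ x ∧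
      (yon S).map (pullback.snd c v) ≫ σ = (yon S).map (pullback.fst c v) ≫ k := by
    intro t
    obtain ⟨Vs, vl, hvl, ⟨w, hw⟩, h, hh⟩ := EtFound.exists_split' c.left p.left t
      (fun z _ => p.left.surjective z)
    let V : Over S := Over.mk (vl ≫ T.hom)
    let v : V ⟶ T := CategoryTheory.Over.homMk vl rfl
    have sqV : IsPullback (pullback.fst c v).left (pullback.snd c v).left c.left v.left :=
      (IsPullback.of_hasPullback c v).map (Over.forget S)
    have hcomp : (sqV.isoPullback.hom ≫ h) ≫ p.left = (pullback.fst c v).left := by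
      rw [Category.assoc, hh]
      exact sqV.isoPullback_hom_fst
    let h' : pullback c v ⟶ P := CategoryTheory.Over.homMk (sqV.isoPullback.hom ≫ h) (by
      rw [← Over.w p, ← Category.assoc, hcomp]
      exact Over.w (pullback.fst c v))
    have hh' : h' ≫ p = pullback.fst c v := Over.OverMorphism.ext hcomp
    let x' := (yon S).map v ≫ x
    let π : hqa.rep.pullback x' ⟶ V := hqa.rep.snd x'
    have : Etale π.left := hqa.property _ _ _ (hqa.rep.isPullback' x')
    let cV : pullback c v ⟶ V := pullback.snd c v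
    have : IsIntegralHom cV.left := MorphismProperty.of_isPullback (P := @IsIntegralHom) sqV inferInstance
    have : UniversallyInjective cV.left :=
      MorphismProperty.of_isPullback (P := @UniversallyInjective) sqV inferInstance
    have : Surjective cV.left := MorphismProperty.of_isPullback (P := @Surjective) sqV inferInstance
    let kk : pullback c v ⟶ hqa.rep.pullback x' := hqa.rep.lift' (h' ≫ p₀) cV (by
      rw [Functor.map_comp, Category.assoc, reassoc_of% sqP.w, hk, ← Functor.map_comp_assoc,
        ← Functor.map_comp_assoc, hh', pullback.condition, Functor.map_comp, Category.assoc])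
    have hkk : kk ≫ π = cV := hqa.rep.lift'_snd _ _ _
    obtain ⟨τ, ⟨hτ₁, hτ₂⟩, -⟩ := EtTopInv.existsUnique_extend π.left cV.left kk.left
      (by rw [← Over.comp_left, hkk])
    let τ' : V ⟶ hqa.rep.pullback x' := CategoryTheory.Over.homMk τ (by
      rw [← Over.w π, ← Category.assoc, hτ₁, Category.id_comp])
    have hτπ : τ' ≫ π = 𝟙 V := Over.OverMorphism.ext hτ₁
    have hτc : cV ≫ τ' = kk := Over.OverMorphism.ext hτ₂
    refine ⟨V, v, (yon S).map (τ' ≫ hqa.rep.fst' x') ≫ q, hvl, ⟨w, hw⟩, ?_, ?_⟩
    · rw [Category.assoc, Functor.map_comp, Category.assoc, (hqa.rep.isPullback' x').w,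
        ← Category.assoc, ← Functor.map_comp, hτπ, CategoryTheory.Functor.map_id, Category.id_comp]
    · rw [← Category.assoc, ← Functor.map_comp, ← Category.assoc cV, hτc, hqa.rep.lift'_fst,
        Functor.map_comp, Category.assoc, sqP.w, ← Category.assoc, ← Functor.map_comp, hh']
  choose V v σ hv hvt hσ₁ hσ₂ using key
  have hve : ∀ t, RepWith @Etale ((yon S).map (v t)) := fun t => (repWith_yon_map_iff _ _).2 (hv t)
  have hsv : ∀ p : Points ((yon S).obj T), ∃ t w, Points.ofPt ((yon S).map (v t)) w = p := fun p => by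
    obtain ⟨t, rfl⟩ := (Points.schemeHomeo T).surjective p
    obtain ⟨w, hw⟩ := hvt t
    refine ⟨t, w, ?_⟩
    rw [Points.ofPt_eq_map_ofScheme]
    exact (Points.map_yon_map_apply _ _).trans (congrArg (Points.schemeHomeo T) hw)
  obtain ⟨σT, hσT⟩ := RelNorm.exists_glue (IsAlgSpace.yon_obj T) (fun t => (yon S).map (v t)) hve hsv σ
    (fun i j W y₁ y₂ e => by
      have e' : y₁ ≫ v i = y₂ ≫ v j := (yon S).map_injective (by
        rw [Functor.map_comp, Functor.map_comp]; exact e)
      let cW : pullback c (y₁ ≫ v i) ⟶ W := pullback.snd c (y₁ ≫ v i)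
      have : Surjective cW.left := MorphismProperty.of_isPullback (P := @Surjective)
        ((IsPullback.of_hasPullback c (y₁ ≫ v i)).map (Over.forget S)) ‹Surjective c.left›
      refine lift_unique hE hB ha cW ?_ ?_
      · rw [Category.assoc, Category.assoc, hσ₁, hσ₁, ← Category.assoc, ← Category.assoc, e]
      · let li : pullback c (y₁ ≫ v i) ⟶ pullback c (v i) := pullback.lift (pullback.fst _ _) (cW ≫ y₁)
          (by rw [Category.assoc]; exact pullback.condition)
        let lj : pullback c (y₁ ≫ v i) ⟶ pullback c (v j) := pullback.lift (pullback.fst _ _) (cW ≫ y₂)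
          (by rw [Category.assoc, ← e']; exact pullback.condition)
        have hi : li ≫ pullback.snd c (v i) = cW ≫ y₁ := pullback.lift_snd _ _ _
        have hj : lj ≫ pullback.snd c (v j) = cW ≫ y₂ := pullback.lift_snd _ _ _
        rw [← Category.assoc, ← Functor.map_comp, ← hi, ← Category.assoc, ← Functor.map_comp, ← hj,
          Functor.map_comp, Functor.map_comp, Category.assoc, Category.assoc, hσ₂, hσ₂, ← Category.assoc,
          ← Category.assoc, ← Functor.map_comp, ← Functor.map_comp, pullback.lift_fst, pullback.lift_fst])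
  have hsq : ∀ t, IsPullback ((yon S).map (pullback.fst c (v t))) ((yon S).map (pullback.snd c (v t)))
      ((yon S).map c) ((yon S).map (v t)) := fun t => (IsPullback.of_hasPullback c (v t)).map (yon S)
  refine ⟨σT, RelNorm.hom_ext_of_family (IsAlgSpace.yon_obj T) _ hve hsv (fun t => ?_), ?_⟩
  · rw [← Category.assoc, hσT, hσ₁]
  · refine RelNorm.hom_ext_of_family (IsAlgSpace.yon_obj Z) (fun t => (yon S).map (pullback.fst c (v t)))
      (fun t => repWith_of_isPullback (hsq t).flip (hve t)) (fun p => ?_) (fun t => ?_)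
    · obtain ⟨z, rfl⟩ := (Points.schemeHomeo Z).surjective p
      obtain ⟨w, hw⟩ := hvt (c.left z)
      obtain ⟨r, hr, -⟩ := Scheme.exists_preimage_of_isPullback
        ((IsPullback.of_hasPullback c (v (c.left z))).map (Over.forget S)) z w hw.symm
      refine ⟨c.left z, r, ?_⟩
      rw [Points.ofPt_eq_map_ofScheme]
      exact (Points.map_yon_map_apply _ _).trans (congrArg (Points.schemeHomeo Z) hr)
    · rw [reassoc_of% (hsq t).w, hσT, hσ₂]

/-- Maps to an etale space extend uniquely along universal homeomorphisms. -/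
theorem existsUnique_hom {E' F : Sp S} (hE' : IsAlgSpace E') (hF : IsAlgSpace F) (hB : IsAlgSpace B)
    {a : F ⟶ B} (ha : IsEtaleMor a) {c : E ⟶ E'} (hc : IsUH c) (x : E' ⟶ B) (k : E ⟶ F)
    (hk : k ≫ a = c ≫ x) : ∃! φ : E' ⟶ F, φ ≫ a = x ∧ c ≫ φ = k := by
  obtain ⟨U, q, hq, hqs⟩ := hE'.atlas
  let Z := hc.rep.pullback q
  let cZ : Z ⟶ U := hc.rep.snd q
  have sqZ : IsPullback (hc.rep.fst q) ((yon S).map cZ) c q := hc.rep.isPullback q
  have : IsIntegralHom cZ.left := hc.integral.property _ _ _ sqZ
  have : UniversallyInjective cZ.left := hc.inj.property _ _ _ sqZ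
  have : Surjective cZ.left := hc.surj.property _ _ _ sqZ
  have : Epi q := epi_of_etale_surjective hq hqs
  have : Epi (hc.rep.fst q) := epi_of_etale_surjective (repWith_of_isPullback sqZ.flip hq)
    (repWith_of_isPullback sqZ.flip hqs)
  obtain ⟨σ, hσ₁, hσ₂⟩ := exists_lift hF hB ha cZ (q ≫ x) (hc.rep.fst q ≫ k) (by
    rw [Category.assoc, hk, reassoc_of% sqZ.w])
  have := isLocallySurjective_of_etale_surjective hq hqs
  let R := hq.rep.pullback q
  let t : R ⟶ U := hq.rep.fst' q
  let s : R ⟶ U := hq.rep.snd q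
  have sqR : IsPullback ((yon S).map t) ((yon S).map s) q q := hq.rep.isPullback' q
  obtain ⟨φ, hφ⟩ := exists_desc_of_kernelPair sqR σ (by
    let cR : hc.rep.pullback ((yon S).map t ≫ q) ⟶ R := hc.rep.snd _
    have sqW : IsPullback (hc.rep.fst ((yon S).map t ≫ q)) ((yon S).map cR) c ((yon S).map t ≫ q) :=
      hc.rep.isPullback _
    have : Surjective cR.left := hc.surj.property _ _ _ sqW
    refine lift_unique hF hB ha cR ?_ ?_
    · rw [Category.assoc, Category.assoc, hσ₁, reassoc_of% sqR.w]
    · let lt : hc.rep.pullback ((yon S).map t ≫ q) ⟶ Z := hc.rep.lift (hc.rep.fst _) (cR ≫ t)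
        (by rw [Functor.map_comp, Category.assoc]; exact sqW.w)
      let ls : hc.rep.pullback ((yon S).map t ≫ q) ⟶ Z := hc.rep.lift (hc.rep.fst _) (cR ≫ s)
        (by rw [Functor.map_comp, Category.assoc, ← sqR.w]; exact sqW.w)
      have ht : lt ≫ cZ = cR ≫ t := hc.rep.lift_snd _ _ _
      have hs : ls ≫ cZ = cR ≫ s := hc.rep.lift_snd _ _ _
      rw [← Category.assoc, ← Functor.map_comp, ← ht, ← Category.assoc, ← Functor.map_comp, ← hs,
        Functor.map_comp, Functor.map_comp, Category.assoc, Category.assoc, hσ₂, ← Category.assoc,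
        ← Category.assoc, hc.rep.lift_fst, hc.rep.lift_fst])
  refine ⟨φ, ⟨?_, ?_⟩, fun ψ ⟨hψ₁, hψ₂⟩ => ?_⟩
  · rw [← cancel_epi q, ← Category.assoc, hφ, hσ₁]
  · rw [← cancel_epi (hc.rep.fst q), reassoc_of% sqZ.w, hφ, hσ₂]
  · rw [← cancel_epi q]
    refine lift_unique hF hB ha cZ ?_ ?_
    · rw [Category.assoc, hψ₁, hφ, hσ₁]
    · rw [← Category.assoc, ← sqZ.w, Category.assoc, hψ₂, hφ, hσ₂]

end Groth.Agent.AlgSpLib.UHDesc
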