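import Groth.Agent.AlgSpLib.UHDesc
import Groth.Agent.AlgSpLib.EtLift

/-!
# Etale spaces descend along universal homeomorphisms
-/

set_option autoImplicit false
set_option backward.isDefEq.respectTransparency false
set_option backward.isDefEq.respectTransparency.types false

universe u

open CategoryTheory CategoryTheory.Limits AlgebraicGeometry Opposite AlgSp
open Groth.Agent.AlgSpPts Groth.Agent.AlgSpDec

namespace Groth.Agent.AlgSpLib.UHDesc

variable {S : Scheme.{u}} {X Y V : Sp S}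

/-- A chart of an etale space over `X` by the pullback of a scheme etale over `Y`. -/
theorem exists_chart_pullback (hX : IsAlgSpace X) (hY : IsAlgSpace Y) (hV : IsAlgSpace V) {f : X ⟶ Y}
    (hf : IsUH f) {b : V ⟶ X} (hb : IsEtaleMor b) :
    ∃ (W' : Over S) (a' : (yon S).obj W' ⟶ Y) (W : Over S) (γ : W ⟶ W') (pW : (yon S).obj W ⟶ X)
      (m : (yon S).obj W ⟶ V), RepWith @Etale a' ∧ IsPullback pW ((yon S).map γ) f a' ∧
      RepWith @Etale m ∧ RepWith @Surjective m ∧ m ≫ b = pW := by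
  obtain ⟨Y₀, ya, hya, hyas⟩ := hY.atlas
  let X₀ := hf.rep.pullback ya
  let c₀ : X₀ ⟶ Y₀ := hf.rep.snd ya
  let xa : (yon S).obj X₀ ⟶ X := hf.rep.fst ya
  have sq₀ : IsPullback xa ((yon S).map c₀) f ya := hf.rep.isPullback ya
  have : IsIntegralHom c₀.left := hf.integral.property _ _ _ sq₀
  have : UniversallyInjective c₀.left := hf.inj.property _ _ _ sq₀
  have hxa : RepWith @Etale xa := repWith_of_isPullback sq₀.flip hya
  have hxas : RepWith @Surjective xa := repWith_of_isPullback sq₀.flip hyas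
  obtain ⟨U₀, q, hq, hqs⟩ := hV.atlas
  have hqb : RepWith @Etale (q ≫ b) := hb q hq
  let U := hqb.rep.pullback xa
  let g : U ⟶ X₀ := hqb.rep.snd xa
  let g₀ : U ⟶ U₀ := hqb.rep.fst' xa
  have sqU : IsPullback ((yon S).map g₀) ((yon S).map g) (q ≫ b) xa := hqb.rep.isPullback' xa
  have : Etale g.left := hqb.property _ _ _ sqU
  let mU : (yon S).obj U ⟶ V := (yon S).map g₀ ≫ q
  have hmU : mU ≫ b = (yon S).map g ≫ xa := by rw [Category.assoc]; exact sqU.w
  have hmUs : ∀ p : Points V, ∃ u, Points.ofPt mU u = p := fun p => by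
    obtain ⟨u₀, rfl⟩ := surjective_ofPt hqs p
    obtain ⟨x₀, hx₀⟩ := surjective_ofPt hxas (Points.ofPt (q ≫ b) u₀)
    obtain ⟨u, hu, -⟩ := exists_ofPt_of_eq sqU hx₀.symm
    exact ⟨u, by rw [ofPt_comp, hu]⟩
  have key : ∀ u : ↥U.left, ∃ (Vu : Over S) (v : Vu ⟶ Y₀) (h : pullback c₀ v ⟶ U),
      Etale v.left ∧ h ≫ g = pullback.fst c₀ v ∧ ∃ r, h.left r = u := fun u => by
    obtain ⟨Vs, vl, hvl, z, hz, h, hh, hu⟩ := EtFound.exists_split c₀.left g.left (c₀.left (g.left u))
      (fun x hx => ⟨u, (c₀.left.injective hx).symm⟩) u rfl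
    let Vu : Over S := Over.mk (vl ≫ Y₀.hom)
    let v : Vu ⟶ Y₀ := CategoryTheory.Over.homMk vl rfl
    have sqV : IsPullback (pullback.fst c₀ v).left (pullback.snd c₀ v).left c₀.left v.left :=
      (IsPullback.of_hasPullback c₀ v).map (Over.forget S)
    have hcomp : (sqV.isoPullback.hom ≫ h) ≫ g.left = (pullback.fst c₀ v).left := by
      rw [Category.assoc, hh]
      exact sqV.isoPullback_hom_fst
    let h' : pullback c₀ v ⟶ U := CategoryTheory.Over.homMk (sqV.isoPullback.hom ≫ h) (by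
      rw [← Over.w g, ← Category.assoc, hcomp]
      exact Over.w (pullback.fst c₀ v))
    refine ⟨Vu, v, h', hvl, Over.OverMorphism.ext hcomp, ?_⟩
    obtain ⟨r, rfl⟩ := hu
    refine ⟨sqV.isoPullback.inv r, ?_⟩
    show (sqV.isoPullback.hom ≫ h) (sqV.isoPullback.inv r) = h r
    rw [← Scheme.Hom.comp_apply, Iso.inv_hom_id_assoc]
    rfl
  choose Vu v h hv hh hhr using key
  let W' := sigmaOver Vu
  let w' : W' ⟶ Y₀ := CategoryTheory.Over.homMk (Sigma.desc fun u => (v u).left) (by
    refine Sigma.hom_ext _ _ fun u => ?_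
    rw [Sigma.ι_desc_assoc]
    exact (Over.w (v u)).trans (Sigma.ι_desc (fun u => (Vu u).hom) u).symm)
  have hw' : ∀ u, sigmaι Vu u ≫ w' = v u := fun u => Over.OverMorphism.ext (Sigma.ι_desc _ _)
  have : Etale w'.left := IsZariskiLocalAtSource.sigmaDesc (P := @Etale) hv
  let a' : (yon S).obj W' ⟶ Y := (yon S).map w' ≫ ya
  have ha' : RepWith @Etale a' := repWith_comp ((repWith_yon_map_iff _ _).2 ‹Etale w'.left›) hya
  let W := pullback c₀ w'
  let γ : W ⟶ W' := pullback.snd c₀ w'
  let pW : (yon S).obj W ⟶ X := (yon S).map (pullback.fst c₀ w') ≫ xa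
  have sqγ : IsPullback pW ((yon S).map γ) f a' :=
    (((IsPullback.of_hasPullback c₀ w').map (yon S)).flip.paste_vert sq₀.flip).flip
  let ε : ∀ u, pullback c₀ (v u) ⟶ W := fun u => pullback.lift (pullback.fst _ _)
    (pullback.snd _ _ ≫ sigmaι Vu u) (by rw [Category.assoc, hw']; exact pullback.condition)
  have sqε : ∀ u, IsPullback (ε u) (pullback.snd c₀ (v u)) γ (sigmaι Vu u) := fun u => by
    refine IsPullback.of_right (h₁₂ := pullback.fst c₀ w') (v₁₃ := c₀) (h₂₂ := w') ?_ ?_
      (IsPullback.of_hasPullback c₀ w')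
    · rw [pullback.lift_fst, hw']
      exact IsPullback.of_hasPullback c₀ (v u)
    · exact pullback.lift_snd _ _ _
  have hεo : ∀ u, IsOpenImmersion (ε u).left := fun u =>
    MorphismProperty.of_isPullback (P := @IsOpenImmersion) ((sqε u).map (Over.forget S)).flip
      (inferInstanceAs (IsOpenImmersion (sigmaι Vu u).left))
  have hεe : ∀ u, RepWith @Etale ((yon S).map (ε u)) := fun u => (repWith_yon_map_iff _ _).2 (by
    have := hεo u
    infer_instance)
  have hεs : ∀ p : Points ((yon S).obj W), ∃ u r, Points.ofPt ((yon S).map (ε u)) r = p := fun p => by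
    obtain ⟨w, rfl⟩ := (Points.schemeHomeo W).surjective p
    obtain ⟨u, t, ht⟩ := exists_sigmaι Vu (γ.left w)
    obtain ⟨r, hr, -⟩ := Scheme.exists_preimage_of_isPullback ((sqε u).map (Over.forget S)) w t ht.symm
    refine ⟨u, r, ?_⟩
    rw [Points.ofPt_eq_map_ofScheme]
    exact (Points.map_yon_map_apply _ _).trans (congrArg (Points.schemeHomeo W) hr)
  obtain ⟨m, hm⟩ := RelNorm.exists_glue (IsAlgSpace.yon_obj W) (fun u => (yon S).map (ε u)) hεe hεs
    (fun u => (yon S).map (h u) ≫ mU) (fun i j T x y e => by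
      have e' : x ≫ ε i = y ≫ ε j :=
        (yon S).map_injective (by rw [Functor.map_comp, Functor.map_comp]; exact e)
      by_cases hT : IsEmpty ↥T.left
      · exact hom_ext_of_isEmpty _ _
      obtain ⟨τ⟩ := not_isEmpty_iff.1 hT
      have hij : i = j := sigmaι_injective Vu (v := (pullback.snd c₀ (v i)).left (x.left τ))
        (w := (pullback.snd c₀ (v j)).left (y.left τ)) (by
          have := congrArg (fun k => (k ≫ γ).left τ) e'
          simpa [ε, γ] using this)
      subst hij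
      have : Mono (ε i) := (Over.forget S).mono_of_mono_map
        (have := hεo i; inferInstanceAs (Mono (ε i).left))
      rw [(cancel_mono (ε i)).1 e'])
  have hmb : m ≫ b = pW := by
    refine RelNorm.hom_ext_of_family (IsAlgSpace.yon_obj W) _ hεe hεs fun u => ?_
    rw [← Category.assoc, hm, Category.assoc, hmU, ← Category.assoc, ← Functor.map_comp, hh]
    simp only [pW, ← Category.assoc, ← Functor.map_comp, ε, pullback.lift_fst]
  have hpW : RepWith @Etale pW := repWith_of_isPullback sqγ.flip ha'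
  have hmr : Representable m := hV.representable_from_yon _
  have hme : RepWith @Etale m := by
    refine repWith_of_locP hV hmr (locP_of_comp' (Q := @Etale) (fun k l hkl hl => ?_) hX
      (g := b) (hmb ▸ locP_of_repWith hpW) ((isEtaleMor_iff_locP hV hX b).1 hb))
    have : Etale (k ≫ l) := hkl
    have : Etale l := hl
    exact Etale.of_comp k l
  refine ⟨W', a', W, γ, pW, m, ha', sqγ, hme, repWith_surjective_of_surjective hmr fun p => ?_, hmb⟩
  obtain ⟨u, rfl⟩ := hmUs p
  obtain ⟨r, hr⟩ := hhr u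
  refine ⟨Points.ofScheme W ((ε u).left r), ?_⟩
  rw [← Points.ofPt_eq_map_ofScheme, ← ofPt_comp, hm, ofPt_comp, hr]

/-- An etale space over `X` descends to `Y`. -/
theorem exists_descent (hX : IsAlgSpace X) (hY : IsAlgSpace Y) (hV : IsAlgSpace V) {f : X ⟶ Y}
    (hf : IsUH f) {b : V ⟶ X} (hb : IsEtaleMor b) :
    ∃ V' : Sp S, IsAlgSpace V' ∧ ∃ (a : V' ⟶ Y) (c : V ⟶ V'), IsEtaleMor a ∧ IsPullback b c f a := by
  obtain ⟨W', a', W, γ, pW, m, ha', sqγ, hme, hms, hmb⟩ := exists_chart_pullback hX hY hV hf hb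
  have : IsIntegralHom γ.left := hf.integral.property _ _ _ sqγ
  have : UniversallyInjective γ.left := hf.inj.property _ _ _ sqγ
  have : Surjective γ.left := hf.surj.property _ _ _ sqγ
  have hd := repWith_openImmersion_diagonal hV hX hb
  let P := ha'.rep.pullback a'
  let t' : P ⟶ W' := ha'.rep.fst' a'
  let s' : P ⟶ W' := ha'.rep.snd a'
  have sqP : IsPullback ((yon S).map t') ((yon S).map s') a' a' := ha'.rep.isPullback' a'
  have : Etale s'.left := ha'.property _ _ _ sqP
  have : Etale t'.left := ha'.property _ _ _ sqP.flip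
  let Z := pullback s' γ
  let z : Z ⟶ P := pullback.fst s' γ
  let z₂ : Z ⟶ W := pullback.snd s' γ
  have hz2 : z ≫ s' = z₂ ≫ γ := pullback.condition
  obtain ⟨z₁, hz₁γ, hz₁p⟩ : ∃ z₁ : Z ⟶ W, z₁ ≫ γ = z ≫ t' ∧
      (yon S).map z₁ ≫ pW = (yon S).map z₂ ≫ pW := by
    refine ⟨(yon S).preimage (sqγ.lift ((yon S).map z₂ ≫ pW) ((yon S).map (z ≫ t')) ?_), ?_, ?_⟩
    · rw [Category.assoc, sqγ.w, ← Category.assoc, ← Functor.map_comp, ← hz2, Functor.map_comp,
        Functor.map_comp, Category.assoc, Category.assoc, sqP.w]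
    · exact (yon S).map_injective (by rw [Functor.map_comp, Functor.map_preimage, sqγ.lift_snd])
    · rw [Functor.map_preimage, sqγ.lift_fst]
  have extW : ∀ {T : Over S} {x y : T ⟶ W}, x ≫ γ = y ≫ γ → (yon S).map x ≫ pW = (yon S).map y ≫ pW →
      x = y := fun h1 h2 => (yon S).map_injective
    (sqγ.hom_ext h2 (by rw [← Functor.map_comp, ← Functor.map_comp, h1]))
  have sqZ : IsPullback z.left z₂.left s'.left γ.left := (IsPullback.of_hasPullback s' γ).map (Over.forget S)
  have : IsIntegralHom z.left := MorphismProperty.of_isPullback (P := @IsIntegralHom) sqZ.flip inferInstance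
  have : UniversallyInjective z.left :=
    MorphismProperty.of_isPullback (P := @UniversallyInjective) sqZ.flip inferInstance
  have : Surjective z.left := MorphismProperty.of_isPullback (P := @Surjective) sqZ.flip inferInstance
  have hbij : Function.Bijective z.left := ⟨z.left.injective, z.left.surjective⟩
  let δ : (yon S).obj Z ⟶ pullback b b := pullback.lift ((yon S).map z₁ ≫ m) ((yon S).map z₂ ≫ m)
    (by rw [Category.assoc, Category.assoc, hmb, hz₁p])
  let l : hd.rep.pullback δ ⟶ Z := hd.rep.snd δ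
  have : IsOpenImmersion l.left := hd.property_snd δ
  have hl : (yon S).map (l ≫ z₁) ≫ m = (yon S).map (l ≫ z₂) ≫ m := by
    have w := hd.rep.w δ
    have e1 := w =≫ pullback.fst b b
    have e2 := w =≫ pullback.snd b b
    simp only [Category.assoc, pullback.diagonal_fst, pullback.diagonal_snd, Category.comp_id, δ,
      pullback.lift_fst, pullback.lift_snd] at e1 e2
    rw [Functor.map_comp, Functor.map_comp, Category.assoc, Category.assoc, ← e1, ← e2]
  let O : P.left.Opens := ⟨z.left '' Set.range l.left, by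
    rw [← isClosed_compl_iff, ← Set.image_compl_eq hbij]
    exact z.left.isClosedMap _ l.left.isOpenEmbedding.isOpen_range.isClosed_compl⟩
  -- a pair lies in `O` iff its lifts have the same image in `V`
  have keyA : ∀ {T T₁ : Over S} (g : T ⟶ P) (c : T₁ ⟶ T) (e : T₁ ⟶ Z), Surjective c.left → e ≫ z = c ≫ g →
      (yon S).map (e ≫ z₁) ≫ m = (yon S).map (e ≫ z₂) ≫ m → ∀ w, g.left w ∈ O := by
    intro T T₁ g c e hc he hem w
    obtain ⟨w₁, rfl⟩ := c.left.surjective w
    let k : T₁ ⟶ hd.rep.pullback δ := hd.rep.lift ((yon S).map (e ≫ z₁) ≫ m) e (by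
      apply pullback.hom_ext
      · simp [δ]
      · simp only [δ, Category.assoc, pullback.diagonal_snd, Category.comp_id, pullback.lift_snd]
        rw [hem, Functor.map_comp, Category.assoc])
    have hk : k ≫ l = e := hd.rep.lift_snd _ _ _
    refine ⟨e.left w₁, ⟨k.left w₁, by rw [← Scheme.Hom.comp_apply, ← Over.comp_left, hk]⟩, ?_⟩
    rw [← Scheme.Hom.comp_apply, ← Over.comp_left, he, Over.comp_left, Scheme.Hom.comp_apply]
  have keyB : ∀ {T₁ : Over S} (e : T₁ ⟶ Z), (∀ w, (e ≫ z).left w ∈ O) →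
      (yon S).map (e ≫ z₁) ≫ m = (yon S).map (e ≫ z₂) ≫ m := by
    intro T₁ e he
    have hr : Set.range e.left ⊆ Set.range l.left := by
      rintro _ ⟨w, rfl⟩
      obtain ⟨q, hq, hqe⟩ := he w
      rw [Over.comp_left, Scheme.Hom.comp_apply] at hqe
      exact hbij.1 hqe ▸ hq
    obtain ⟨k, hk⟩ : ∃ k : T₁ ⟶ hd.rep.pullback δ, k ≫ l = e :=
      ⟨CategoryTheory.Over.homMk (IsOpenImmersion.lift l.left e.left hr) (by
        rw [← Over.w l, IsOpenImmersion.lift_fac_assoc]
        exact Over.w e), Over.OverMorphism.ext (IsOpenImmersion.lift_fac _ _ _)⟩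
    rw [← hk, Category.assoc, Category.assoc, Functor.map_comp, Category.assoc, hl, ← Category.assoc,
      ← Functor.map_comp]
  let R : Over S := Over.mk (O.ι ≫ P.hom)
  let ι : R ⟶ P := CategoryTheory.Over.homMk O.ι rfl
  have hιmem : ∀ {T : Over S} (r : T ⟶ R) w, (r ≫ ι).left w ∈ O := fun r w => by
    rw [Over.comp_left, Scheme.Hom.comp_apply]
    exact (r.left w).2
  let t : R ⟶ W' := ι ≫ t'
  let s : R ⟶ W' := ι ≫ s'
  have extP : ∀ {T : Over S} {x y : T ⟶ P}, x ≫ t' = y ≫ t' → x ≫ s' = y ≫ s' → x = y := fun h1 h2 =>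
    (yon S).map_injective (sqP.hom_ext (by rw [← Functor.map_comp, ← Functor.map_comp, h1])
      (by rw [← Functor.map_comp, ← Functor.map_comp, h2]))
  have factO : ∀ {T : Over S} (x : T ⟶ P), (∀ w, x.left w ∈ O) → ∃ y : T ⟶ R, y ≫ ι = x := fun x hx =>
    EtLift.exists_factor_open O x hx
  have hp : ∀ {T : Over S} (k : T ⟶ Z), (yon S).map (k ≫ z₁) ≫ pW = (yon S).map (k ≫ z₂) ≫ pW :=
    fun k => by simp only [Functor.map_comp, Category.assoc, hz₁p]
  have hR : IsEqvRel s t := by
    refine { injective := fun T x y h1 h2 => ?_, equivalence := fun T => ⟨fun x => ?_, ?_, ?_⟩ }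
    · have e : x ≫ ι = y ≫ ι := extP (by simpa [t] using h1) (by simpa [s] using h2)
      exact Over.OverMorphism.ext ((cancel_mono O.ι).1 (congrArg (fun k => k.left) e))
    · obtain ⟨d, hd₁, hd₂⟩ := exists_pair_lift sqP x x rfl
      let c : pullback x γ ⟶ T := pullback.fst x γ
      have hc : Surjective c.left := MorphismProperty.of_isPullback (P := @Surjective)
        ((IsPullback.of_hasPullback x γ).map (Over.forget S)).flip ‹Surjective γ.left›
      let e : pullback x γ ⟶ Z := pullback.lift (c ≫ d) (pullback.snd x γ)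
        (by rw [Category.assoc, hd₂]; exact pullback.condition)
      have he : e ≫ z = c ≫ d := pullback.lift_fst _ _ _
      have he12 : e ≫ z₁ = e ≫ z₂ := extW
        (by rw [Category.assoc, hz₁γ, reassoc_of% he, hd₁, Category.assoc, ← hz2, reassoc_of% he, hd₂])
        (by simp only [Functor.map_comp, Category.assoc, hz₁p])
      obtain ⟨r, hr⟩ := factO d (keyA d c e hc he (by rw [he12]))
      exact ⟨r, by simp only [t, reassoc_of% hr, hd₁], by simp only [s, reassoc_of% hr, hd₂]⟩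
    · rintro _ _ ⟨r, rfl, rfl⟩
      obtain ⟨σ, hσ₁, hσ₂⟩ := exists_pair_lift sqP s' t' sqP.w.symm
      let T₁ := pullback (r ≫ ι) z
      let c : T₁ ⟶ T := pullback.fst (r ≫ ι) z
      let e : T₁ ⟶ Z := pullback.snd (r ≫ ι) z
      have hc : Surjective c.left := MorphismProperty.of_isPullback (P := @Surjective)
        ((IsPullback.of_hasPullback (r ≫ ι) z).map (Over.forget S)).flip ‹Surjective z.left›
      have he : c ≫ r ≫ ι = e ≫ z := pullback.condition
      have hem := keyB e fun w => by rw [← he, ← Category.assoc]; exact hιmem _ w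
      let e' : T₁ ⟶ Z := pullback.lift (c ≫ r ≫ ι ≫ σ) (e ≫ z₁)
        (by simp only [Category.assoc, hσ₂, hz₁γ]; rw [← reassoc_of% he])
      have he' : e' ≫ z = c ≫ r ≫ ι ≫ σ := pullback.lift_fst _ _ _
      have he₂ : e' ≫ z₂ = e ≫ z₁ := pullback.lift_snd _ _ _
      have he₁ : e' ≫ z₁ = e ≫ z₂ := extW
        (by simp only [Category.assoc, hz₁γ, ← hz2, reassoc_of% he', hσ₁]; rw [← reassoc_of% he])
        (by rw [hp, he₂, hp])
      obtain ⟨y, hy⟩ := factO (r ≫ ι ≫ σ) (keyA _ c e' hc he' (by rw [he₁, he₂, hem]))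
      exact ⟨y, by simp only [t, s, reassoc_of% hy, hσ₁], by simp only [t, s, reassoc_of% hy, hσ₂]⟩
    · rintro _ _ _ ⟨r, rfl, rfl⟩ ⟨y, hy, rfl⟩
      have hy' : y ≫ ι ≫ t' = r ≫ ι ≫ s' := hy
      obtain ⟨g, hg₁, hg₂⟩ := exists_pair_lift sqP (r ≫ ι ≫ t') (y ≫ ι ≫ s') (by
        have e1 : ∀ q : T ⟶ R, (yon S).map (q ≫ ι ≫ t') ≫ a' = (yon S).map (q ≫ ι ≫ s') ≫ a' := fun q => by
          simp only [Functor.map_comp, Category.assoc, sqP.w]
        rw [e1, ← hy', e1])
      let T₁ := pullback g z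
      let c : T₁ ⟶ T := pullback.fst g z
      let e : T₁ ⟶ Z := pullback.snd g z
      have hc : Surjective c.left := MorphismProperty.of_isPullback (P := @Surjective)
        ((IsPullback.of_hasPullback g z).map (Over.forget S)).flip ‹Surjective z.left›
      have he : c ≫ g = e ≫ z := pullback.condition
      obtain ⟨wb, hwbγ, hwbp⟩ : ∃ wb : T₁ ⟶ W, wb ≫ γ = c ≫ r ≫ ι ≫ s' ∧
          (yon S).map wb ≫ pW = (yon S).map (e ≫ z₁) ≫ pW := by
        refine ⟨(yon S).preimage (sqγ.lift ((yon S).map (e ≫ z₁) ≫ pW)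
          ((yon S).map (c ≫ r ≫ ι ≫ s')) ?_), ?_, ?_⟩
        · rw [Category.assoc, sqγ.w, ← Category.assoc, ← Functor.map_comp, Category.assoc, hz₁γ,
            ← reassoc_of% he, hg₁]
          simp only [Functor.map_comp, Category.assoc, sqP.w]
        · exact (yon S).map_injective (by rw [Functor.map_comp, Functor.map_preimage, sqγ.lift_snd])
        · rw [Functor.map_preimage, sqγ.lift_fst]
      let e₁ : T₁ ⟶ Z := pullback.lift (c ≫ r ≫ ι) wb (by rw [hwbγ]; simp only [Category.assoc])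
      let e₂ : T₁ ⟶ Z := pullback.lift (c ≫ y ≫ ι) (e ≫ z₂)
        (by simp only [Category.assoc, ← hz2]; rw [← reassoc_of% he, hg₂])
      have he₁ : e₁ ≫ z = c ≫ r ≫ ι := pullback.lift_fst _ _ _
      have he₁' : e₁ ≫ z₂ = wb := pullback.lift_snd _ _ _
      have he₂ : e₂ ≫ z = c ≫ y ≫ ι := pullback.lift_fst _ _ _
      have he₂' : e₂ ≫ z₂ = e ≫ z₂ := pullback.lift_snd _ _ _
      have hA : e₁ ≫ z₁ = e ≫ z₁ := extW
        (by simp only [Category.assoc, hz₁γ, reassoc_of% he₁]; rw [← reassoc_of% he, hg₁])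
        (by rw [hp, he₁', hwbp])
      have hB : e₂ ≫ z₁ = wb := extW
        (by simp only [Category.assoc, hz₁γ, reassoc_of% he₂]; rw [hy', hwbγ])
        (by rw [hwbp, hp, he₂', hp])
      have h1 := keyB e₁ fun w => by rw [he₁, ← Category.assoc]; exact hιmem _ w
      have h2 := keyB e₂ fun w => by rw [he₂, ← Category.assoc]; exact hιmem _ w
      rw [hA, he₁'] at h1
      rw [hB, he₂'] at h2
      obtain ⟨n, hn⟩ := factO g (keyA g c e hc he.symm (h1.trans h2))
      exact ⟨n, by simp only [t, reassoc_of% hn, hg₁], by simp only [s, reassoc_of% hn, hg₂]⟩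
  have : Etale s.left := inferInstanceAs (Etale (O.ι ≫ s'.left))
  have : Etale t.left := inferInstanceAs (Etale (O.ι ≫ t'.left))
  obtain ⟨π, hπdef⟩ : ∃ π : (yon S).obj W' ⟶ QuotSh.quot Scheme.fppfPrecoverage s t,
      π = AlgSpPts.quotMap s t := ⟨_, rfl⟩
  have sqπ : IsPullback ((yon S).map t) ((yon S).map s) π π := by
    rw [hπdef]
    exact AlgSpPts.isPullback_quotMap hR
  have : Sheaf.IsLocallySurjective π := by
    rw [hπdef]
    have : Epi (QuotSh.quotπ Scheme.fppfPrecoverage s t) := by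
      unfold QuotSh.quotπ
      infer_instance
    exact (CategoryTheory.Sheaf.isLocallySurjective_iff_epi _).2 (epi_comp _ _)
  have hQ : IsAlgSpace (QuotSh.quot Scheme.fppfPrecoverage s t) := AlgSpDec.isAlgSpace_quot hR
  have hπr : Representable π := AlgSpDec.representable_of_kernelPair sqπ
  have hss : Surjective s.left := ⟨fun w => by
    obtain ⟨r, -, hr⟩ := (hR.equivalence W').refl (𝟙 W')
    exact ⟨r.left w, by rw [← Scheme.Hom.comp_apply, ← Over.comp_left, hr]; simp⟩⟩
  have := AlgSpPts.isLocalAtTarget_fppf (@Etale : MorphismProperty Scheme.{u})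
  have := AlgSpPts.isLocalAtTarget_fppf (@Surjective : MorphismProperty Scheme.{u})
  have hπe : RepWith @Etale π :=
    AlgSpPts.repWith_of_locallySurjective hπr _ sqπ @Etale ((repWith_yon_map_iff _ _).2 ‹Etale s.left›)
  have hπs : RepWith @Surjective π :=
    AlgSpPts.repWith_of_locallySurjective hπr _ sqπ @Surjective ((repWith_yon_map_iff _ _).2 hss)
  obtain ⟨a, ha⟩ := exists_desc_of_kernelPair sqπ a' (by
    simp only [t, s, Functor.map_comp, Category.assoc, sqP.w])
  have hae : IsEtaleMor a := (isEtaleMor_iff_locP hQ hY a).2 (locP_of_chart hπe hπs ha'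
    (show π ≫ a = (yon S).map (𝟙 W') ≫ a' by rw [ha, CategoryTheory.Functor.map_id, Category.id_comp])
    (inferInstanceAs (Etale (𝟙 W'.left))))
  -- the map from `V`
  let Rm := hme.rep.pullback m
  let tm : Rm ⟶ W := hme.rep.fst' m
  let sm : Rm ⟶ W := hme.rep.snd m
  have sqm : IsPullback ((yon S).map tm) ((yon S).map sm) m m := hme.rep.isPullback' m
  have := isLocallySurjective_of_etale_surjective hme hms
  have hpm : (yon S).map tm ≫ pW = (yon S).map sm ≫ pW := by rw [← hmb, reassoc_of% sqm.w]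
  obtain ⟨c, hc⟩ := exists_desc_of_kernelPair sqm ((yon S).map γ ≫ π) (by
    obtain ⟨g, hg₁, hg₂⟩ := exists_pair_lift sqP (tm ≫ γ) (sm ≫ γ) (by
      simp only [Functor.map_comp, Category.assoc, ← sqγ.w]; rw [reassoc_of% hpm])
    let e : Rm ⟶ Z := pullback.lift g sm hg₂
    have he : e ≫ z = g := pullback.lift_fst _ _ _
    have he₂ : e ≫ z₂ = sm := pullback.lift_snd _ _ _
    have he₁ : e ≫ z₁ = tm := extW (by rw [Category.assoc, hz₁γ, reassoc_of% he, hg₁])
      (by rw [hpm, ← he₂, Functor.map_comp, Functor.map_comp, Category.assoc, Category.assoc, hz₁p])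
    obtain ⟨n, hn⟩ := factO g (keyA g (𝟙 Rm) e (inferInstanceAs (Surjective (𝟙 Rm.left)))
      (by rw [he, Category.id_comp]) (by rw [he₁, he₂]; exact sqm.w))
    rw [← Category.assoc, ← Category.assoc, ← Functor.map_comp, ← Functor.map_comp, ← hg₁, ← hg₂]
    have hnt : n ≫ t = g ≫ t' := by simp only [t, reassoc_of% hn]
    have hns : n ≫ s = g ≫ s' := by simp only [s, reassoc_of% hn]
    rw [← hnt, ← hns, Functor.map_comp _ n t, Functor.map_comp _ n s, Category.assoc, Category.assoc, sqπ.w])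
  have : Epi m := epi_of_etale_surjective hme hms
  have hbc : b ≫ f = c ≫ a := by
    rw [← cancel_epi m, reassoc_of% hc, reassoc_of% hmb, ha, sqγ.w]
  let θ : V ⟶ pullback f a := pullback.lift b c hbc
  let j : (yon S).obj W ⟶ pullback f a := pullback.lift pW ((yon S).map γ ≫ π)
    (by rw [sqγ.w, Category.assoc, ha])
  have hmθ : m ≫ θ = j := by apply pullback.hom_ext <;> simp [θ, j, hmb, hc]
  have sqj : IsPullback ((yon S).map γ) j π (pullback.snd f a) := by
    refine IsPullback.of_bot (v₂₁ := pullback.fst f a) (v₂₂ := a) (h₃₁ := f) ?_ (pullback.lift_snd _ _ _).symm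
      (IsPullback.of_hasPullback f a).flip
    rw [pullback.lift_fst, ha]
    exact sqγ.flip
  have : Epi j := epi_of_etale_surjective (repWith_of_isPullback sqj hπe) (repWith_of_isPullback sqj hπs)
  have : Epi θ := by
    have : Epi (m ≫ θ) := by rw [hmθ]; infer_instance
    exact epi_of_epi m θ
  have : Mono θ := ⟨fun {G} x y h => by
    refine ObjectProperty.hom_ext _ (NatTrans.ext (funext fun T => ?_))
    obtain ⟨T⟩ := T
    ext a₀
    obtain ⟨q, rfl⟩ : ∃ q : (yon S).obj T ⟶ G, (J S).uliftYonedaEquiv q = a₀ :=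
      ⟨(J S).uliftYonedaEquiv.symm a₀, Equiv.apply_symm_apply _ _⟩
    refine Eq.trans ((J S).uliftYonedaEquiv_comp q x).symm
      (Eq.trans (congrArg _ ?_) ((J S).uliftYonedaEquiv_comp q y))
    have hxb : (q ≫ x) ≫ b = (q ≫ y) ≫ b := by
      simpa [θ] using congrArg (fun k => (q ≫ k) ≫ pullback.fst f a) h
    have hxc : (q ≫ x) ≫ c = (q ≫ y) ≫ c := by
      simpa [θ] using congrArg (fun k => (q ≫ k) ≫ pullback.snd f a) h
    let T₁ := hme.rep.pullback (q ≫ x)
    let c₁ : T₁ ⟶ T := hme.rep.snd (q ≫ x)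
    let x₁ : T₁ ⟶ W := hme.rep.fst' (q ≫ x)
    have sq₁ : IsPullback ((yon S).map x₁) ((yon S).map c₁) m (q ≫ x) := hme.rep.isPullback' _
    let T₂ := hme.rep.pullback ((yon S).map c₁ ≫ q ≫ y)
    let c₂ : T₂ ⟶ T₁ := hme.rep.snd _
    let y₂ : T₂ ⟶ W := hme.rep.fst' _
    have sq₂ : IsPullback ((yon S).map y₂) ((yon S).map c₂) m ((yon S).map c₁ ≫ q ≫ y) :=
      hme.rep.isPullback' _
    have : Etale c₁.left := hme.property _ _ _ sq₁
    have : Surjective c₁.left := hms.property _ _ _ sq₁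
    have : Etale c₂.left := hme.property _ _ _ sq₂
    have : Surjective c₂.left := hms.property _ _ _ sq₂
    refine hom_ext_of_fppf (c₂ ≫ c₁) (fppf_of_etale (c₂.left ≫ c₁.left)) _ _ ?_
    let x₂ := c₂ ≫ x₁
    have hx : (yon S).map (c₂ ≫ c₁) ≫ q ≫ x = (yon S).map x₂ ≫ m := by
      simp only [x₂, Functor.map_comp, Category.assoc, sq₁.w]
    have hy : (yon S).map (c₂ ≫ c₁) ≫ q ≫ y = (yon S).map y₂ ≫ m := by
      rw [sq₂.w, Functor.map_comp, Category.assoc]
    rw [hx, hy]
    have hp : (yon S).map x₂ ≫ pW = (yon S).map y₂ ≫ pW := by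
      rw [← hmb, ← Category.assoc, ← Category.assoc, ← hx, ← hy]
      simp only [Category.assoc] at hxb ⊢
      rw [hxb]
    have hγ : (yon S).map (x₂ ≫ γ) ≫ π = (yon S).map (y₂ ≫ γ) ≫ π := by
      rw [Functor.map_comp _ x₂ γ, Functor.map_comp _ y₂ γ, Category.assoc, Category.assoc, ← hc,
        ← Category.assoc, ← Category.assoc, ← hx, ← hy]
      simp only [Category.assoc] at hxc ⊢
      rw [hxc]
    obtain ⟨r, hr₁, hr₂⟩ := exists_pair_lift sqπ _ _ hγ
    let e : T₂ ⟶ Z := pullback.lift (r ≫ ι) y₂ (by rw [Category.assoc]; exact hr₂)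
    have he : e ≫ z = r ≫ ι := pullback.lift_fst _ _ _
    have he₂ : e ≫ z₂ = y₂ := pullback.lift_snd _ _ _
    have he₁ : e ≫ z₁ = x₂ := extW (by rw [Category.assoc, hz₁γ, reassoc_of% he]; exact hr₁)
      (by rw [hp, ← he₂, Functor.map_comp, Functor.map_comp, Category.assoc, Category.assoc, hz₁p])
    have := keyB e fun w => by rw [he]; exact hιmem _ w
    rwa [he₁, he₂] at this⟩
  have : IsIso θ := isIso_of_mono_of_epi θ
  exact ⟨_, hQ, a, c, hae, IsPullback.of_iso_pullback ⟨hbc⟩ (asIso θ) (pullback.lift_fst _ _ _)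
    (pullback.lift_snd _ _ _)⟩

end Groth.Agent.AlgSpLib.UHDesc
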