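import Groth.Agent.AlgSpLib.UHEssSurj
import Groth.Agent.EtFound.TopInvGlue
import Groth.Agent.AlgSpDec.LqfScheme

/-!
# Topological invariance of the small étale site of a scheme
-/

set_option autoImplicit false
set_option backward.isDefEq.respectTransparency false
set_option backward.isDefEq.respectTransparency.types false

universe u

open CategoryTheory CategoryTheory.Limits AlgebraicGeometry Opposite AlgSp
open Groth.Agent.AlgSpPts Groth.Agent.AlgSpDec

namespace Groth.Agent.AlgSpLib.UHDesc

variable {S : Scheme.{u}} {X Y V V' : Sp S}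

/-- An etale space which is separated after a universal homeomorphism is separated. -/
theorem isSeparatedMor_of_isPullback_uh (hY : IsAlgSpace Y) (hV' : IsAlgSpace V') {f : X ⟶ Y} (hf : IsUH f)
    {b : V ⟶ X} {a : V' ⟶ Y} {c : V ⟶ V'} (ha : IsEtaleMor a) (sq : IsPullback b c f a)
    (hb : IsSeparatedMor b) : IsSeparatedMor a := by
  have hd := repWith_openImmersion_diagonal hV' hY ha
  refine repWith_of_squares fun T z => ⟨hd.rep.pullback z, hd.rep.fst z, hd.rep.snd z, hd.rep.isPullback z, ?_⟩
  let i : hd.rep.pullback z ⟶ T := hd.rep.snd z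
  have : IsOpenImmersion i.left := hd.property_snd z
  let k := z ≫ pullback.fst a a ≫ a
  let TX := hf.rep.pullback k
  let cT : TX ⟶ T := hf.rep.snd k
  let xT := hf.rep.fst k
  have sqT : IsPullback xT ((yon S).map cT) f k := hf.rep.isPullback k
  have : IsIntegralHom cT.left := hf.integral.property _ _ _ sqT
  have : Surjective cT.left := hf.surj.property _ _ _ sqT
  have hk₂ : k = z ≫ pullback.snd a a ≫ a := by simp only [k, pullback.condition]
  let v₁ : (yon S).obj TX ⟶ V := sq.lift xT ((yon S).map cT ≫ z ≫ pullback.fst a a)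
    (by simp only [Category.assoc]; exact sqT.w)
  let v₂ : (yon S).obj TX ⟶ V := sq.lift xT ((yon S).map cT ≫ z ≫ pullback.snd a a)
    (by simp only [Category.assoc]; exact sqT.w.trans (congrArg ((yon S).map cT ≫ ·) hk₂))
  let z' : (yon S).obj TX ⟶ pullback b b := pullback.lift v₁ v₂ (by simp [v₁, v₂])
  have hb' : RepWith @IsClosedImmersion (pullback.diagonal b) := hb
  let i' : hb'.rep.pullback z' ⟶ TX := hb'.rep.snd z'
  have : IsClosedImmersion i'.left := hb'.property_snd z'
  let W₂ := pullback cT i
  have w := hd.rep.w z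
  have e1 := w =≫ pullback.fst a a
  have e2 := w =≫ pullback.snd a a
  simp only [Category.assoc, pullback.diagonal_fst, pullback.diagonal_snd, Category.comp_id] at e1 e2
  have w' := hb'.rep.w z'
  have e1' := w' =≫ pullback.fst b b
  have e2' := w' =≫ pullback.snd b b
  simp only [z', Category.assoc, pullback.diagonal_fst, pullback.diagonal_snd, Category.comp_id,
    pullback.lift_fst, pullback.lift_snd] at e1' e2'
  have heq : cT.left ⁻¹' Set.range i.left = Set.range i'.left := by
    ext p
    constructor
    · rintro ⟨r, hr⟩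
      obtain ⟨q, hq, -⟩ := Scheme.exists_preimage_of_isPullback
        ((IsPullback.of_hasPullback cT i).map (Over.forget S)) p r hr.symm
      let p₁ : W₂ ⟶ TX := pullback.fst cT i
      have hp : p₁ ≫ cT = pullback.snd cT i ≫ i := pullback.condition
      have he : (yon S).map p₁ ≫ v₁ = (yon S).map p₁ ≫ v₂ := by
        refine sq.hom_ext (by simp [v₁, v₂]) ?_
        simp only [v₁, v₂, Category.assoc, IsPullback.lift_snd]
        rw [← Category.assoc, ← Category.assoc ((yon S).map p₁) _ (z ≫ pullback.snd a a),
          ← Functor.map_comp, hp, Functor.map_comp, Category.assoc, Category.assoc, ← e1, ← e2]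
      let l : W₂ ⟶ hb'.rep.pullback z' := hb'.rep.lift ((yon S).map p₁ ≫ v₁) p₁ (by
        apply pullback.hom_ext
        · simp [z']
        · simp only [z', Category.assoc, pullback.diagonal_snd, Category.comp_id, pullback.lift_snd]
          exact he)
      have hl : l ≫ i' = p₁ := hb'.rep.lift_snd _ _ _
      exact ⟨l.left q, ((Scheme.Hom.comp_apply _ _ q).symm.trans (congrArg (fun k => k.left q) hl)).trans hq⟩
    · rintro ⟨r, rfl⟩
      let l : hb'.rep.pullback z' ⟶ hd.rep.pullback z := hd.rep.lift (hb'.rep.fst z' ≫ c) (i' ≫ cT) (by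
        have f1 : (yon S).map i' ≫ v₁ ≫ c = hb'.rep.fst z' ≫ c := by rw [← Category.assoc, ← e1']
        have f2 : (yon S).map i' ≫ v₂ ≫ c = hb'.rep.fst z' ≫ c := by rw [← Category.assoc, ← e2']
        simp only [v₁, v₂, IsPullback.lift_snd] at f1 f2
        apply pullback.hom_ext
        · simp only [Category.assoc, pullback.diagonal_fst, Category.comp_id]
          rw [Functor.map_comp, Category.assoc]; exact f1.symm
        · simp only [Category.assoc, pullback.diagonal_snd, Category.comp_id]
          rw [Functor.map_comp, Category.assoc]; exact f2.symm)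
      have hl : l ≫ i = i' ≫ cT := hd.rep.lift_snd _ _ _
      exact ⟨l.left r, ((Scheme.Hom.comp_apply _ _ r).symm.trans (congrArg (fun k => k.left r) hl)).trans
        (Scheme.Hom.comp_apply _ _ r)⟩
  refine IsClosedImmersion.of_isPreimmersion i.left ?_
  rw [← Set.image_preimage_eq (Set.range i.left) cT.left.surjective, heq]
  exact cT.left.isClosedMap _ i'.left.isClosedEmbedding.isClosed_range

end Groth.Agent.AlgSpLib.UHDesc

namespace Groth.Agent.AlgSpLib.UHDesc

/-- Topological invariance of the small étale site. -/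
theorem bc_isEquivalence {X Y : Scheme.{u}} (f : X ⟶ Y) [IsIntegralHom f] [UniversallyInjective f]
    [Surjective f] : (EtCoh.bc f).IsEquivalence := by
  have := EtFound.bc_full f
  have := EtFound.bc_faithful f
  have : (EtCoh.bc f).EssSurj := ⟨fun U => EtFound.essImage_of_local f U fun x => by
    obtain ⟨O, hO, hx⟩ : ∃ O : U.left.Opens, IsAffineOpen O ∧ x ∈ O := by
      obtain ⟨_, ⟨O, hO, rfl⟩, hx, -⟩ :=
        U.left.isBasis_affineOpens.exists_subset_of_mem_open (Set.mem_univ x) isOpen_univ
      exact ⟨O, hO, hx⟩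
    have : IsAffine (O : Scheme.{u}) := hO
    have hU : Etale U.hom := U.prop
    let T : Over Y := Over.mk (𝟙 Y)
    let X' : Over Y := Over.mk f
    let U' : Over Y := Over.mk ((O.ι ≫ U.hom) ≫ f)
    let f' : X' ⟶ T := CategoryTheory.Over.homMk f (Category.comp_id f)
    let b : U' ⟶ X' := CategoryTheory.Over.homMk (O.ι ≫ U.hom) rfl
    have : Etale b.left := inferInstanceAs (Etale (O.ι ≫ U.hom))
    have hf : IsUH ((yon Y).map f') := ⟨(repWith_yon_map_iff _ _).2 ‹IsIntegralHom f›,
      (repWith_yon_map_iff _ _).2 ‹UniversallyInjective f›, (repWith_yon_map_iff _ _).2 ‹Surjective f›⟩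
    obtain ⟨V', hV', a, c, ha, sq⟩ := exists_descent (IsAlgSpace.yon_obj X') (IsAlgSpace.yon_obj T)
      (IsAlgSpace.yon_obj U') hf ((isEtaleMor_yon_map_iff b).2 ‹Etale b.left›)
    have hbs : IsSeparatedMor ((yon Y).map b) := (repWith_diagonal_yon_map_iff _ _).2 (by
      have : IsSeparated b.left := by
        have : IsAffine U'.left := hO
        have : IsSeparated (b.left ≫ terminal.from X) := by
          rw [Subsingleton.elim (b.left ≫ terminal.from X) (terminal.from U'.left)]
          infer_instance
        exact IsSeparated.of_comp b.left (terminal.from X)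
      exact inferInstanceAs (IsClosedImmersion (pullback.diagonal b.left)))
    have has := isSeparatedMor_of_isPullback_uh (IsAlgSpace.yon_obj T) hV' hf ha sq hbs
    have hqf : LocP (@LocallyQuasiFinite ⊓ @LocallyOfFiniteType) a := fun A B p q h hp hq w => by
      have : Etale h.left := (isEtaleMor_iff_locP hV' (IsAlgSpace.yon_obj T) a).1 ha p q h hp hq w
      exact ⟨locallyQuasiFinite_of_formallyUnramified h.left, inferInstance⟩
    obtain ⟨T', ⟨e⟩⟩ := AlgSpDec.exists_iso_of_lqf_separated hV' a hqf has
    obtain ⟨g, hg⟩ := (yon Y).map_surjective (e.hom ≫ a)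
    have hge : Etale g.left := (isEtaleMor_yon_map_iff g).1 (by
      rw [hg]
      exact isEtaleMor_comp (IsAlgSpace.yon_obj T') hV' (IsAlgSpace.yon_obj T)
        (isEtaleMor_of_repWith (repWith_of_isIso (@Etale) e.hom)) ha)
    obtain ⟨c', hc'⟩ := (yon Y).map_surjective (c ≫ e.inv)
    have sq' : IsPullback ((yon Y).map b) ((yon Y).map c') ((yon Y).map f') ((yon Y).map g) := by
      rw [hc', hg]
      exact sq.of_iso (Iso.refl _) (Iso.refl _) e.symm (Iso.refl _) (by simp) (by simp) (by simp) (by simp)
    have sqL : IsPullback c'.left b.left g.left f :=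
      ((IsPullback.of_map (yon Y) ((yon Y).map_injective (by
        rw [Functor.map_comp, Functor.map_comp]; exact sq'.w)) sq').map (Over.forget Y)).flip
    let W : Y.Etale := Scheme.Etale.mk g.left
    refine ⟨W, MorphismProperty.Over.homMk (sqL.isoPullback.inv ≫ O.ι) ?_, ?_, ?_⟩
    · show (sqL.isoPullback.inv ≫ O.ι) ≫ U.hom = pullback.snd g.left f
      rw [Category.assoc]
      exact (congrArg (sqL.isoPullback.inv ≫ ·) (show O.ι ≫ U.hom = b.left from rfl)).trans
        sqL.isoPullback_inv_snd
    · exact inferInstanceAs (IsOpenImmersion (sqL.isoPullback.inv ≫ O.ι))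
    · refine ⟨sqL.isoPullback.hom ⟨x, hx⟩, ?_⟩
      show (sqL.isoPullback.inv ≫ O.ι) _ = x
      rw [← Scheme.Hom.comp_apply, Iso.hom_inv_id_assoc]
      rfl⟩
  exact {}

end Groth.Agent.AlgSpLib.UHDesc
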